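import Mathlib

set_option autoImplicit false

namespace Cfsg.Agent.Helper37.PL3

open Matrix
open scoped LinearAlgebra.Projectivization MatrixGroups

variable {F : Type*} [Field F]

/-- the `2 × 2` determinant of two vectors -/
def cr (x y : Fin 2 → F) : F := x 0 * y 1 - x 1 * y 0

lemma ne_zero_cases {y : Fin 2 → F} (hy : y ≠ 0) : y 0 ≠ 0 ∨ y 1 ≠ 0 := by
  by_contra h
  push Not at h
  apply hy
  ext i
  fin_cases i
  · exact h.1
  · exact h.2

lemma mk_eq_mk_iff_cr {x y : Fin 2 → F} (hx : x ≠ 0) (hy : y ≠ 0) :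
    Projectivization.mk F x hx = Projectivization.mk F y hy ↔ cr x y = 0 := by
  rw [Projectivization.mk_eq_mk_iff']
  constructor
  · rintro ⟨a, rfl⟩
    simp only [cr, Pi.smul_apply, smul_eq_mul]
    ring
  · intro h
    unfold cr at h
    rcases ne_zero_cases hy with h0 | h1
    · refine ⟨x 0 / y 0, funext (Fin.forall_fin_two.2 ⟨?_, ?_⟩)⟩
      · simp only [Pi.smul_apply, smul_eq_mul]
        field_simp
      · simp only [Pi.smul_apply, smul_eq_mul]
        field_simp
        linear_combination h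
    · refine ⟨x 1 / y 1, funext (Fin.forall_fin_two.2 ⟨?_, ?_⟩)⟩
      · simp only [Pi.smul_apply, smul_eq_mul]
        field_simp
        linear_combination -h
      · simp only [Pi.smul_apply, smul_eq_mul]
        field_simp

/-- standard vectors -/
def e0 : Fin 2 → F := ![1, 0]
def e1 : Fin 2 → F := ![0, 1]
def e2 : Fin 2 → F := ![1, 1]

lemma e0_ne : (e0 : Fin 2 → F) ≠ 0 := fun h => one_ne_zero (congrFun h 0)
lemma e1_ne : (e1 : Fin 2 → F) ≠ 0 := fun h => one_ne_zero (congrFun h 1)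
lemma e2_ne : (e2 : Fin 2 → F) ≠ 0 := fun h => one_ne_zero (congrFun h 0)

/-- the three standard points of the projective line -/
def p0 : ℙ F (Fin 2 → F) := Projectivization.mk F e0 e0_ne
def p1 : ℙ F (Fin 2 → F) := Projectivization.mk F e1 e1_ne
def p2 : ℙ F (Fin 2 → F) := Projectivization.mk F e2 e2_ne

lemma smul_p_eq_iff (g : GL (Fin 2) F) {v w : Fin 2 → F} (hv : v ≠ 0) (hw : w ≠ 0) :
    g • Projectivization.mk F v hv = Projectivization.mk F w hw ↔ cr (g.1 *ᵥ v) w = 0 := by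
  rw [Projectivization.smul_mk]
  exact mk_eq_mk_iff_cr _ hw

/-- any three distinct points are the image of the standard triple under some `g ∈ GL₂`. -/
theorem exists_gl (a b c : ℙ F (Fin 2 → F)) (hab : a ≠ b) (hac : a ≠ c) (hbc : b ≠ c) :
    ∃ g : GL (Fin 2) F, g • p0 = a ∧ g • p1 = b ∧ g • p2 = c := by
  induction a using Projectivization.ind with | _ u hu =>
  induction b using Projectivization.ind with | _ v hv =>
  induction c using Projectivization.ind with | _ w hw =>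
  have huv : cr u v ≠ 0 := fun h => hab ((mk_eq_mk_iff_cr hu hv).2 h)
  have huw : cr u w ≠ 0 := fun h => hac ((mk_eq_mk_iff_cr hu hw).2 h)
  have hvw : cr v w ≠ 0 := fun h => hbc ((mk_eq_mk_iff_cr hv hw).2 h)
  have hwv : cr w v ≠ 0 := by
    intro h
    apply hvw
    unfold cr at h ⊢
    linear_combination -h
  have hdet : (!![cr w v * u 0, cr u w * v 0; cr w v * u 1, cr u w * v 1] :
      Matrix (Fin 2) (Fin 2) F).det ≠ 0 := by
    rw [Matrix.det_fin_two_of]
    have : cr w v * u 0 * (cr u w * v 1) - cr u w * v 0 * (cr w v * u 1) =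
        cr w v * cr u w * cr u v := by
      unfold cr; ring
    rw [this]
    exact mul_ne_zero (mul_ne_zero hwv huw) huv
  refine ⟨GeneralLinearGroup.mkOfDetNeZero _ hdet, ?_, ?_, ?_⟩
  · rw [p0, smul_p_eq_iff]
    simp [GeneralLinearGroup.mkOfDetNeZero, e0, cr, Matrix.mulVec, dotProduct, Fin.sum_univ_two]
    ring
  · rw [p1, smul_p_eq_iff]
    simp [GeneralLinearGroup.mkOfDetNeZero, e1, cr, Matrix.mulVec, dotProduct, Fin.sum_univ_two]
    ring
  · rw [p2, smul_p_eq_iff]
    simp [GeneralLinearGroup.mkOfDetNeZero, e2, cr, Matrix.mulVec, dotProduct, Fin.sum_univ_two]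
    ring


/-- an element of `GL₂` fixing the three standard points is scalar. -/
theorem scalar_of_fix (k : GL (Fin 2) F) (h0 : k • (p0 : ℙ F (Fin 2 → F)) = p0)
    (h1 : k • (p1 : ℙ F (Fin 2 → F)) = p1) (h2 : k • (p2 : ℙ F (Fin 2 → F)) = p2) :
    k.1 1 0 = 0 ∧ k.1 0 1 = 0 ∧ k.1 0 0 = k.1 1 1 := by
  rw [p0, smul_p_eq_iff] at h0
  rw [p1, smul_p_eq_iff] at h1
  rw [p2, smul_p_eq_iff] at h2
  simp [e0, cr, Matrix.mulVec, dotProduct, Fin.sum_univ_two] at h0
  simp [e1, cr, Matrix.mulVec, dotProduct, Fin.sum_univ_two] at h1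
  simp [e2, cr, Matrix.mulVec, dotProduct, Fin.sum_univ_two] at h2
  refine ⟨h0, h1, ?_⟩
  rw [h0, h1] at h2
  linear_combination h2

theorem mk_eq_one_of_fix (k : GL (Fin 2) F) (h0 : k • (p0 : ℙ F (Fin 2 → F)) = p0)
    (h1 : k • (p1 : ℙ F (Fin 2 → F)) = p1) (h2 : k • (p2 : ℙ F (Fin 2 → F)) = p2) :
    (ProjGenLinGroup.mk k : PGL(Fin 2, F)) = 1 := by
  obtain ⟨h10, h01, h00⟩ := scalar_of_fix k h0 h1 h2
  have hdet : k.1 0 0 ≠ 0 := by
    intro h
    have hk := (Matrix.isUnit_iff_isUnit_det k.1).1 k.isUnit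
    rw [Matrix.det_fin_two, h10, h01, ← h00, h] at hk
    simp at hk
  have : k = GeneralLinearGroup.scalar (Fin 2) (Units.mk0 _ hdet) := by
    apply Units.ext
    ext i j
    fin_cases i <;> fin_cases j <;> simp [h10, h01, ← h00]
  rw [this]
  exact ProjGenLinGroup.mk_scalar _

lemma mk_smul (g : GL (Fin 2) F) (x : ℙ F (Fin 2 → F)) :
    (ProjGenLinGroup.mk g : PGL(Fin 2, F)) • x = g • x := by
  induction x using Projectivization.ind with | _ v hv =>
  rw [Projectivization.PGL.mk_smul_mk, Projectivization.smul_mk]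

theorem pgl_three_transitive :
    MulAction.IsMultiplyPretransitive (Matrix.ProjGenLinGroup (Fin 2) F)
      (Projectivization F (Fin 2 → F)) 3 := by
  rw [MulAction.isMultiplyPretransitive_iff]
  intro x y
  obtain ⟨gx, hx0, hx1, hx2⟩ := exists_gl (x 0) (x 1) (x 2)
    (x.injective.ne (by decide)) (x.injective.ne (by decide)) (x.injective.ne (by decide))
  obtain ⟨gy, hy0, hy1, hy2⟩ := exists_gl (y 0) (y 1) (y 2)
    (y.injective.ne (by decide)) (y.injective.ne (by decide)) (y.injective.ne (by decide))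
  refine ⟨ProjGenLinGroup.mk (gy * gx⁻¹), ?_⟩
  ext i
  rw [Function.Embedding.smul_apply, mk_smul, mul_smul]
  fin_cases i
  · change gy • gx⁻¹ • x 0 = y 0
    rw [← hx0, inv_smul_smul, hy0]
  · change gy • gx⁻¹ • x 1 = y 1
    rw [← hx1, inv_smul_smul, hy1]
  · change gy • gx⁻¹ • x 2 = y 2
    rw [← hx2, inv_smul_smul, hy2]

theorem pgl_sharp (g : Matrix.ProjGenLinGroup (Fin 2) F) (a b c : Projectivization F (Fin 2 → F))
    (hab : a ≠ b) (hac : a ≠ c) (hbc : b ≠ c) (ha : g • a = a) (hb : g • b = b) (hc : g • c = c) :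
    g = 1 := by
  obtain ⟨g', rfl⟩ := ProjGenLinGroup.mk_surjective g
  obtain ⟨h, h0, h1, h2⟩ := exists_gl a b c hab hac hbc
  rw [mk_smul] at ha hb hc
  have key : (ProjGenLinGroup.mk (h⁻¹ * g' * h) : PGL(Fin 2, F)) = 1 := by
    apply mk_eq_one_of_fix
    · rw [mul_smul, mul_smul, h0, ha, ← h0, inv_smul_smul]
    · rw [mul_smul, mul_smul, h1, hb, ← h1, inv_smul_smul]
    · rw [mul_smul, mul_smul, h2, hc, ← h2, inv_smul_smul]
  rw [map_mul, map_mul, map_inv] at key
  have : (ProjGenLinGroup.mk g' : PGL(Fin 2, F)) =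
      ProjGenLinGroup.mk h * ((ProjGenLinGroup.mk h)⁻¹ * ProjGenLinGroup.mk g' *
        ProjGenLinGroup.mk h) * (ProjGenLinGroup.mk h)⁻¹ := by group
  rw [this, key]
  group

end Cfsg.Agent.Helper37.PL3
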