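import Mathlib
import Cfsg.Agent.Helper37.ProjLine3

set_option autoImplicit false

namespace Cfsg.Agent.Helper37.PL3

open Matrix
open scoped LinearAlgebra.Projectivization MatrixGroups

variable {F : Type*} [Field F]

theorem gl_three_transitive (x y : Fin 3 ↪ ℙ F (Fin 2 → F)) :
    ∃ g : GL (Fin 2) F, ∀ i, g • x i = y i := by
  obtain ⟨gx, hx0, hx1, hx2⟩ := exists_gl (x 0) (x 1) (x 2)
    (x.injective.ne (by decide)) (x.injective.ne (by decide)) (x.injective.ne (by decide))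
  obtain ⟨gy, hy0, hy1, hy2⟩ := exists_gl (y 0) (y 1) (y 2)
    (y.injective.ne (by decide)) (y.injective.ne (by decide)) (y.injective.ne (by decide))
  refine ⟨gy * gx⁻¹, ?_⟩
  intro i
  rw [mul_smul]
  fin_cases i
  · change gy • gx⁻¹ • x 0 = y 0
    rw [← hx0, inv_smul_smul, hy0]
  · change gy • gx⁻¹ • x 1 = y 1
    rw [← hx1, inv_smul_smul, hy1]
  · change gy • gx⁻¹ • x 2 = y 2
    rw [← hx2, inv_smul_smul, hy2]

lemma sl_smul_p_eq_iff (g : SpecialLinearGroup (Fin 2) F) {v w : Fin 2 → F} (hv : v ≠ 0)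
    (hw : w ≠ 0) :
    g • Projectivization.mk F v hv = Projectivization.mk F w hw ↔ cr (g.1 *ᵥ v) w = 0 := by
  rw [Projectivization.smul_mk]
  exact mk_eq_mk_iff_cr _ hw

/-- if the determinant of `g` is a square then some element of `SL₂` acts like `g`. -/
theorem exists_sl_of_isSquare (g : GL (Fin 2) F) (h : IsSquare (g.1.det)) :
    ∃ g' : SpecialLinearGroup (Fin 2) F, ∀ x : ℙ F (Fin 2 → F), g' • x = g • x := by
  obtain ⟨e, he⟩ := h
  have hdet : g.1.det ≠ 0 := ((Matrix.isUnit_iff_isUnit_det g.1).1 g.isUnit).ne_zero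
  have he0 : e ≠ 0 := by
    rintro rfl
    apply hdet
    rw [he, mul_zero]
  have hdet' : (e⁻¹ • g.1).det = 1 := by
    rw [Matrix.det_smul, Fintype.card_fin, he]
    field_simp
  let g' : SpecialLinearGroup (Fin 2) F := ⟨e⁻¹ • g.1, hdet'⟩
  refine ⟨g', ?_⟩
  intro x
  induction x using Projectivization.ind with | _ v hv =>
  rw [Projectivization.smul_mk, Projectivization.smul_mk, Projectivization.mk_eq_mk_iff']
  refine ⟨e⁻¹, ?_⟩
  change e⁻¹ • (g.1 *ᵥ v) = (e⁻¹ • g.1) *ᵥ v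
  rw [Matrix.smul_mulVec]

theorem sl_three_transitive_of_char_two [Finite F] (h2 : ringChar F = 2) :
    MulAction.IsMultiplyPretransitive (Matrix.SpecialLinearGroup (Fin 2) F)
      (Projectivization F (Fin 2 → F)) 3 := by
  rw [MulAction.isMultiplyPretransitive_iff]
  intro x y
  obtain ⟨g, hg⟩ := gl_three_transitive x y
  obtain ⟨g', hg'⟩ := exists_sl_of_isSquare g (FiniteField.isSquare_of_char_two h2 _)
  refine ⟨g', ?_⟩
  ext i
  rw [Function.Embedding.smul_apply, hg', hg]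

/-- the vector `(1, d)` -/
def ed (d : F) : Fin 2 → F := ![1, d]

lemma ed_ne (d : F) : ed d ≠ 0 := fun h => one_ne_zero (congrFun h 0)

theorem char_two_of_sl_three_transitive [Finite F]
    (h : MulAction.IsMultiplyPretransitive (Matrix.SpecialLinearGroup (Fin 2) F)
      (Projectivization F (Fin 2 → F)) 3) : ringChar F = 2 := by
  by_contra h2
  obtain ⟨d, hd⟩ := FiniteField.exists_nonsquare h2
  have hd0 : d ≠ 0 := by
    rintro rfl
    exact hd ⟨0, by simp⟩
  rw [MulAction.isMultiplyPretransitive_iff] at h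
  have h01 : (p0 : ℙ F (Fin 2 → F)) ≠ p1 := by
    rw [p0, p1, Ne, mk_eq_mk_iff_cr]
    simp [cr, e0, e1]
  have h02 : (p0 : ℙ F (Fin 2 → F)) ≠ p2 := by
    rw [p0, p2, Ne, mk_eq_mk_iff_cr]
    simp [cr, e0, e2]
  have h12 : (p1 : ℙ F (Fin 2 → F)) ≠ p2 := by
    rw [p1, p2, Ne, mk_eq_mk_iff_cr]
    simp [cr, e1, e2]
  have h0d : (p0 : ℙ F (Fin 2 → F)) ≠ Projectivization.mk F (ed d) (ed_ne d) := by
    rw [p0, Ne, mk_eq_mk_iff_cr]
    simp [cr, e0, ed, hd0]
  have h1d : (p1 : ℙ F (Fin 2 → F)) ≠ Projectivization.mk F (ed d) (ed_ne d) := by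
    rw [p1, Ne, mk_eq_mk_iff_cr]
    simp [cr, e1, ed]
  let x : Fin 3 ↪ ℙ F (Fin 2 → F) := ⟨![p0, p1, p2], by
    intro i j hij
    fin_cases i <;> fin_cases j <;> simp_all [Ne.symm]⟩
  let y : Fin 3 ↪ ℙ F (Fin 2 → F) := ⟨![p0, p1, Projectivization.mk F (ed d) (ed_ne d)], by
    intro i j hij
    fin_cases i <;> fin_cases j <;> simp_all [Ne.symm]⟩
  obtain ⟨g, hg⟩ := h x y
  have hg0 : g • (p0 : ℙ F (Fin 2 → F)) = p0 := by
    have := DFunLike.congr_fun hg 0
    rw [Function.Embedding.smul_apply] at this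
    exact this
  have hg1 : g • (p1 : ℙ F (Fin 2 → F)) = p1 := by
    have := DFunLike.congr_fun hg 1
    rw [Function.Embedding.smul_apply] at this
    exact this
  have hg2 : g • (p2 : ℙ F (Fin 2 → F)) = Projectivization.mk F (ed d) (ed_ne d) := by
    have := DFunLike.congr_fun hg 2
    rw [Function.Embedding.smul_apply] at this
    exact this
  rw [p0, sl_smul_p_eq_iff] at hg0
  rw [p1, sl_smul_p_eq_iff] at hg1
  rw [p2, sl_smul_p_eq_iff] at hg2
  simp [e0, cr, Matrix.mulVec, dotProduct, Fin.sum_univ_two] at hg0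
  simp [e1, cr, Matrix.mulVec, dotProduct, Fin.sum_univ_two] at hg1
  simp [e2, ed, cr, Matrix.mulVec, dotProduct, Fin.sum_univ_two] at hg2
  have hdet := g.2
  rw [Matrix.det_fin_two, hg0, hg1] at hdet
  rw [hg0, hg1] at hg2
  apply hd
  refine ⟨g.1 1 1, ?_⟩
  have h3 : g.1 0 0 * g.1 1 1 = 1 := by linear_combination hdet
  have h4 : g.1 0 0 * d = g.1 1 1 := by linear_combination hg2
  calc d = (g.1 0 0 * g.1 1 1) * d := by rw [h3, one_mul]
    _ = g.1 1 1 * (g.1 0 0 * d) := by ring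
    _ = g.1 1 1 * g.1 1 1 := by rw [h4]

end Cfsg.Agent.Helper37.PL3
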