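-- (M-I) DZ-b of helper16's defect-one engine (#4952/#5019): orthogonal central idempotents of the group algebra that
-- are traces give pairwise non-isomorphic irreducible trace-projective representations (helper37).
import Mathlib
import Cfsg.Agent.Helper16.ModDefs

set_option autoImplicit false
set_option backward.isDefEq.respectTransparency false

namespace Cfsg.Agent.Helper37.DefOneDZb

open Cfsg.Agent.Helper16

universe u

section general

variable {k : Type*} [Field k] {G : Type*} [Group G]
variable {V W : Type*} [AddCommGroup V] [Module k V] [AddCommGroup W] [Module k W]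

/-- an intertwining map commutes with the action of the group algebra -/
lemma intertwining_asAlgebraHom {ρ : Representation k G V} {σ : Representation k G W}
    (f : Representation.IntertwiningMap ρ σ) (r : MonoidAlgebra k G) (v : V) :
    f (ρ.asAlgebraHom r v) = σ.asAlgebraHom r (f v) := by
  induction r using MonoidAlgebra.induction_on with
  | of g =>
    rw [Representation.asAlgebraHom_of, Representation.asAlgebraHom_of]
    exact Representation.IntertwiningMap.isIntertwining _ _ f g v
  | add a b ha hb =>
    rw [map_add, map_add, LinearMap.add_apply, LinearMap.add_apply, map_add, ha, hb]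
  | smul c a ha =>
    rw [map_smul, map_smul, LinearMap.smul_apply, LinearMap.smul_apply, map_smul, ha]

end general

variable {k : Type} [Field k] {G : Type u} [Group G] [Fintype G]

/-- the representation on a left ideal of the group algebra -/
noncomputable abbrev idealRep (W : Submodule (MonoidAlgebra k G) (MonoidAlgebra k G)) :
    Representation k G (RestrictScalars k (MonoidAlgebra k G) W) :=
  Representation.ofModule (k := k) (G := G) W

lemma idealRep_act (W : Submodule (MonoidAlgebra k G) (MonoidAlgebra k G)) (r : MonoidAlgebra k G)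
    (m : RestrictScalars k (MonoidAlgebra k G) W) :
    ((RestrictScalars.addEquiv k (MonoidAlgebra k G) W ((idealRep W).asAlgebraHom r m) : W) :
      MonoidAlgebra k G) =
      r * ((RestrictScalars.addEquiv k (MonoidAlgebra k G) W m : W) : MonoidAlgebra k G) := by
  rw [Representation.ofModule_asAlgebraHom_apply_apply, AddEquiv.apply_symm_apply]
  rfl

lemma finiteDimensional_ideal (W : Submodule (MonoidAlgebra k G) (MonoidAlgebra k G)) :
    FiniteDimensional k (RestrictScalars k (MonoidAlgebra k G) W) := by
  let f : RestrictScalars k (MonoidAlgebra k G) W →ₗ[k] MonoidAlgebra k G :=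
    { toFun := fun m => ((RestrictScalars.addEquiv k (MonoidAlgebra k G) W m : W) : MonoidAlgebra k G)
      map_add' := fun a b => by rw [map_add]; rfl
      map_smul' := fun c m => by
        rw [RestrictScalars.addEquiv_map_smul, RingHom.id_apply, Algebra.smul_def]
        rfl }
  have hf : Function.Injective f := by
    intro a b h
    apply (RestrictScalars.addEquiv k (MonoidAlgebra k G) W).injective
    exact Subtype.ext h
  exact Module.Finite.of_injective f hf

theorem exists_simpleRepFamily_of_idempotents {ι : Type*}
    (e : ι → MonoidAlgebra k G) (hc : ∀ i, ∀ b : MonoidAlgebra k G, e i * b = b * e i)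
    (hi : ∀ i, e i * e i = e i) (ho : ∀ i j, i ≠ j → e i * e j = 0) (hne : ∀ i, e i ≠ 0)
    (htr : ∀ i, ∃ a : MonoidAlgebra k G,
      e i = ∑ g : G, MonoidAlgebra.of k G g * a * MonoidAlgebra.of k G g⁻¹) :
    ∃ F : Cfsg.Agent.Helper16.SimpleRepFamily k G ι,
      ∀ i, Cfsg.Agent.Helper16.IsTraceProj (F.ρ i) := by
  classical
  have hart : IsArtinianRing (MonoidAlgebra k G) := IsArtinianRing.of_finite k (MonoidAlgebra k G)
  have hatomic : IsAtomic (Submodule (MonoidAlgebra k G) (MonoidAlgebra k G)) :=
    isAtomic_of_orderBot_wellFounded_lt wellFounded_lt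
  -- a minimal left ideal inside `A e_i`
  have hex : ∀ i, ∃ W : Submodule (MonoidAlgebra k G) (MonoidAlgebra k G),
      IsAtom W ∧ W ≤ Submodule.span (MonoidAlgebra k G) {e i} := by
    intro i
    rcases eq_bot_or_exists_atom_le (Submodule.span (MonoidAlgebra k G) {e i}) with h | h
    · exfalso
      apply hne i
      have : e i ∈ Submodule.span (MonoidAlgebra k G) {e i} := Submodule.mem_span_singleton_self _
      rw [h] at this
      exact (Submodule.mem_bot _).1 this
    · exact h
  choose W hWatom hWle using hex
  -- elements of `W i` are fixed by `e i` and killed by `e j`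
  have hfix : ∀ i (w : MonoidAlgebra k G), w ∈ W i → e i * w = w := by
    intro i w hw
    obtain ⟨b, rfl⟩ := Submodule.mem_span_singleton.1 (hWle i hw)
    rw [smul_eq_mul, hc i, mul_assoc, hi]
  have hkill : ∀ i j (w : MonoidAlgebra k G), i ≠ j → w ∈ W i → e j * w = 0 := by
    intro i j w hij hw
    obtain ⟨b, rfl⟩ := Submodule.mem_span_singleton.1 (hWle i hw)
    rw [smul_eq_mul, hc j, mul_assoc, ho i j hij, mul_zero]
  have hsimple : ∀ i, IsSimpleModule (MonoidAlgebra k G) (W i) :=
    fun i => isSimpleModule_iff_isAtom.2 (hWatom i)
  have hact_fix : ∀ i (m : RestrictScalars k (MonoidAlgebra k G) (W i)),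
      (idealRep (W i)).asAlgebraHom (e i) m = m := by
    intro i m
    apply (RestrictScalars.addEquiv k (MonoidAlgebra k G) (W i)).injective
    apply Subtype.ext
    rw [idealRep_act]
    exact hfix i _ (RestrictScalars.addEquiv k (MonoidAlgebra k G) (W i) m).2
  have hact_kill : ∀ i j, i ≠ j → ∀ (m : RestrictScalars k (MonoidAlgebra k G) (W i)),
      (idealRep (W i)).asAlgebraHom (e j) m = 0 := by
    intro i j hij m
    apply (RestrictScalars.addEquiv k (MonoidAlgebra k G) (W i)).injective
    apply Subtype.ext
    rw [idealRep_act, map_zero]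
    exact hkill i j _ hij (RestrictScalars.addEquiv k (MonoidAlgebra k G) (W i) m).2
  have hnontriv : ∀ i, Nontrivial (RestrictScalars k (MonoidAlgebra k G) (W i)) := by
    intro i
    have : Nontrivial (W i) := IsSimpleModule.nontrivial (MonoidAlgebra k G) (W i)
    exact (RestrictScalars.addEquiv k (MonoidAlgebra k G) (W i)).toEquiv.nontrivial
  refine ⟨{ V := fun i => RestrictScalars k (MonoidAlgebra k G) (W i)
            fd := fun i => finiteDimensional_ideal (W i)
            ρ := fun i => idealRep (W i)
            irr := fun i => (Representation.isSimpleModule_iff_irreducible_ofModule (W i)).1 (hsimple i)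
            ne := ?_ }, ?_⟩
  · intro i j hij
    refine ⟨fun φ => ?_⟩
    obtain ⟨m, hm⟩ := exists_ne (0 : RestrictScalars k (MonoidAlgebra k G) (W i))
    apply hm
    have h1 : φ.toIntertwiningMap m = 0 := by
      have h2 := intertwining_asAlgebraHom φ.toIntertwiningMap (e i) m
      rw [hact_fix i m, hact_kill j i (Ne.symm hij)] at h2
      exact h2
    have h3 : φ.toLinearEquiv m = 0 := h1
    exact (LinearEquiv.map_eq_zero_iff φ.toLinearEquiv).1 h3
  · intro i
    obtain ⟨a, ha⟩ := htr i
    refine ⟨(idealRep (W i)).asAlgebraHom a, ?_⟩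
    ext m
    rw [repTr_apply, LinearMap.id_apply]
    have h1 : ∀ g : G, (idealRep (W i)) g ((idealRep (W i)).asAlgebraHom a ((idealRep (W i)) g⁻¹ m)) =
        (idealRep (W i)).asAlgebraHom (MonoidAlgebra.of k G g * a * MonoidAlgebra.of k G g⁻¹) m := by
      intro g
      rw [map_mul, map_mul, Representation.asAlgebraHom_of, Representation.asAlgebraHom_of]
      rfl
    simp only [h1]
    rw [← LinearMap.sum_apply, ← map_sum, ← ha, hact_fix]

end Cfsg.Agent.Helper37.DefOneDZb
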