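import Mathlib
import Cfsg.Agent.Helper16.DefOneSetup
import Cfsg.Agent.Helper79.CharComplete

/-!
# Piece (GT2-a) of WANTED #5442 (helper82, defect-one engine): a character of `p'`-degree has a
nonzero row over some canonical character.
-/

set_option autoImplicit false

namespace Cfsg.Agent.Helper37.DefOneGT2a

open Cfsg Cfsg.Agent.Helper16 Cfsg.Agent.Helper16.DefOne

universe u

variable {G : Type u} [Group G] [Fintype G] {p : ℕ} [Fact p.Prime] (P : Sylow p G)

theorem exists_canon_mem_Rset'
    (hreg : ∀ (φ : IrrCharacter (cen P)) (x : cen P), ¬ p ∣ orderOf x →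
      (φ : cen P → ℂ) x = (can P φ : cen P → ℂ) x)
    (hcanon : ∀ φ : IrrCharacter (cen P), IsCanon P (can P φ))
    (hfib : ∀ θ : IrrCharacter (cen P), IsCanon P θ →
      Nat.card {φ : IrrCharacter (cen P) // can P φ = θ} = p)
    (χ : IrrCharacter G) (hχ : ¬ p ∣ charDegree (χ : G → ℂ)) :
    ∃ θ : IrrCharacter (cen P), IsCanon P θ ∧ χ ∈ Rset P θ := by
  classical
  by_contra hcon
  push_neg at hcon
  have hp : p.Prime := Fact.out
  -- all rows vanish
  have h0 : ∀ φ : IrrCharacter (cen P), mult P χ φ = mult P χ (can P φ) := by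
    intro φ
    by_contra h
    exact hcon (can P φ) (hcanon φ) ⟨φ, rfl, fun h' => h (sub_eq_zero.mp h')⟩
  letI : Fintype (cen P) := Fintype.ofFinite _
  haveI : Finite (IrrCharacter (cen P)) := Helper79.irr_finite
  letI : Fintype (IrrCharacter (cen P)) := Fintype.ofFinite _
  -- the restriction of `χ` to `C`
  have hcf : IsClassFunction (cen P) (fun c : cen P => (χ : G → ℂ) (c : G)) := by
    intro g h
    exact Helper79.irr_isClassFunction χ (g : G) (h : G)
  have hexp := congrFun (Helper79.classFunction_expansion hcf) 1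
  simp only [Finset.sum_apply, Pi.smul_apply, smul_eq_mul] at hexp
  rw [Subgroup.coe_one, Helper79.irr_one χ] at hexp
  have hdeg : ∀ φ : IrrCharacter (cen P),
      charDegree (φ : cen P → ℂ) = charDegree (can P φ : cen P → ℂ) := by
    intro φ
    unfold charDegree
    rw [hreg φ 1 (by rw [orderOf_one]; exact hp.not_dvd_one)]
  -- in `ℤ`
  have hZ : (charDegree (χ : G → ℂ) : ℤ) =
      ∑ φ : IrrCharacter (cen P),
        mult P χ (can P φ) * (charDegree (can P φ : cen P → ℂ) : ℤ) := by
    have h1 : ((charDegree (χ : G → ℂ) : ℤ) : ℂ) =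
        ((∑ φ : IrrCharacter (cen P),
          mult P χ (can P φ) * (charDegree (can P φ : cen P → ℂ) : ℤ) : ℤ) : ℂ) := by
      rw [Int.cast_natCast, hexp, Int.cast_sum]
      refine Finset.sum_congr rfl fun φ _ => ?_
      rw [Int.cast_mul, Int.cast_natCast, ← h0 φ, ← hdeg φ, mult_cast P χ φ, Helper79.irr_one φ]
    exact Int.cast_injective h1
  have hZ2 : (charDegree (χ : G → ℂ) : ℤ) =
      (p : ℤ) * ∑ θ ∈ (Finset.univ : Finset (IrrCharacter (cen P))).image (can P),
        mult P χ θ * (charDegree (θ : cen P → ℂ) : ℤ) := by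
    rw [hZ, Finset.sum_comp (fun θ : IrrCharacter (cen P) =>
      mult P χ θ * (charDegree (θ : cen P → ℂ) : ℤ)) (can P), Finset.mul_sum]
    refine Finset.sum_congr rfl fun θ hθ => ?_
    obtain ⟨φ0, -, rfl⟩ := Finset.mem_image.mp hθ
    have h2 := hfib (can P φ0) (hcanon φ0)
    rw [Nat.subtype_card (Finset.univ.filter fun φ => can P φ = can P φ0)
      (fun x => by simp)] at h2
    rw [h2, nsmul_eq_mul]
  apply hχ
  have h3 : (p : ℤ) ∣ (charDegree (χ : G → ℂ) : ℤ) := ⟨_, hZ2⟩
  exact Int.natCast_dvd_natCast.mp h3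

end Cfsg.Agent.Helper37.DefOneGT2a
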