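import Mathlib
import Cfsg.Prelude.Def_Transfer
import Cfsg.Agent.Helper2.Basic
import Cfsg.Agent.Helper47.Frattini

set_option autoImplicit false

namespace Cfsg.Agent.Helper37

open scoped commutatorElement

/-- A non-abelian group of order `p ^ 3` and exponent `p` is extraspecial. -/
theorem isExtraspecial_of_card_cube {P : Type*} [Group P] {p : ℕ} [Fact p.Prime]
    (hcard : Nat.card P = p ^ 3) (hnc : ∃ x y : P, x * y ≠ y * x) (hpow : ∀ x : P, x ^ p = 1) :
    Cfsg.IsExtraspecial p P := by
  have hp : p.Prime := Fact.out
  have : Finite P := Nat.finite_of_card_ne_zero (by rw [hcard]; exact pow_ne_zero _ hp.ne_zero)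
  have hPG : IsPGroup p P := IsPGroup.of_card hcard
  obtain ⟨k, hk0, hk⟩ := IsPGroup.card_center_eq_prime_pow hcard (by norm_num)
  have hZdvd : Nat.card (Subgroup.center P) ∣ p ^ 3 := hcard ▸ Subgroup.card_subgroup_dvd_card _
  have hk3 : k ≤ 3 := by
    rw [hk] at hZdvd
    exact (Nat.pow_dvd_pow_iff_le_right hp.one_lt).1 hZdvd
  have hnab : ¬ ∀ a b : P, a * b = b * a := by
    intro h
    obtain ⟨x, y, hxy⟩ := hnc
    exact hxy (h x y)
  have hk1 : k = 1 := by
    have h3 : k ≠ 3 := by
      rintro rfl
      have htop : Subgroup.center P = ⊤ := by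
        rw [← Subgroup.card_eq_iff_eq_top, hk, hcard]
      apply hnab
      intro a b
      have : b ∈ Subgroup.center P := htop ▸ Subgroup.mem_top b
      exact (Subgroup.mem_center_iff.1 this) a
    have h2 : k ≠ 2 := by
      rintro rfl
      have hidx : (Subgroup.center P).index = p := by
        have h := Subgroup.card_mul_index (Subgroup.center P)
        rw [hk, hcard] at h
        have : p ^ 2 * (Subgroup.center P).index = p ^ 2 * p := by rw [h]; ring
        exact Nat.eq_of_mul_eq_mul_left (pow_pos hp.pos 2) this
      have hcardQ : Nat.card (P ⧸ Subgroup.center P) = p := hidx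
      have : IsCyclic (P ⧸ Subgroup.center P) := isCyclic_of_prime_card hcardQ
      apply hnab
      have hc := MonoidHom.isMulCommutative_of_isCyclic_of_ker_le_center
        (QuotientGroup.mk' (Subgroup.center P)) (by rw [QuotientGroup.ker_mk'])
      exact hc.is_comm.comm
    omega
  subst hk1
  rw [pow_one] at hk
  -- P / Z has order p^2, so commutative
  have hidx : (Subgroup.center P).index = p ^ 2 := by
    have h := Subgroup.card_mul_index (Subgroup.center P)
    rw [hk, hcard] at h
    have : p * (Subgroup.center P).index = p * p ^ 2 := by rw [h]; ring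
    exact Nat.eq_of_mul_eq_mul_left hp.pos this
  have hcardQ : Nat.card (P ⧸ Subgroup.center P) = p ^ 2 := hidx
  have hQc : IsMulCommutative (P ⧸ Subgroup.center P) :=
    IsPGroup.isMulCommutative_of_card_eq_prime_sq hcardQ
  have hcomle : commutator P ≤ Subgroup.center P :=
    Subgroup.Normal.quotient_commutative_iff_commutator_le.1 hQc
  have hcomne : commutator P ≠ ⊥ := by
    intro h
    apply hnab
    intro a b
    have : ⁅a, b⁆ ∈ commutator P := Subgroup.commutator_mem_commutator (Subgroup.mem_top a)
      (Subgroup.mem_top b)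
    rw [h, Subgroup.mem_bot, commutatorElement_eq_one_iff_mul_comm] at this
    exact this
  have hcomeq : commutator P = Subgroup.center P := by
    have hd : Nat.card (commutator P) ∣ p := hk ▸ Subgroup.card_dvd_of_le hcomle
    rcases (Nat.dvd_prime hp).1 hd with h1 | h1
    · exact absurd (Subgroup.card_eq_one.1 h1) hcomne
    · exact Subgroup.eq_of_le_of_card_ge hcomle (by rw [hk, h1])
  have : Group.IsNilpotent P := hPG.isNilpotent
  have hfr : frattini P = Subgroup.center P := by
    apply le_antisymm
    · apply Cfsg.Agent.Helper47.frattini_le_of_commutator_pow_mem (p := p)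
      · intro a b
        exact hcomle (Subgroup.commutator_mem_commutator (Subgroup.mem_top a) (Subgroup.mem_top b))
      · intro a
        rw [hpow a]
        exact Subgroup.one_mem _
    · rw [← hcomeq]
      exact Cfsg.Agent.Helper2.commutator_le_frattini
  exact ⟨⟨hPG, hfr, hcomeq⟩, hk⟩

end Cfsg.Agent.Helper37
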