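import Mathlib

set_option autoImplicit false

namespace Cfsg.Agent.Helper37

/-- In a finite field of odd order, `2 ≠ 0`. -/
theorem two_ne_zero_of_odd_card {F : Type*} [Field F] [Fintype F] (hF : Odd (Fintype.card F)) :
    (2 : F) ≠ 0 := by
  intro h
  have h1 : addOrderOf (1 : F) ∣ 2 := by
    apply addOrderOf_dvd_of_nsmul_eq_zero
    simpa using h
  have h2 : addOrderOf (1 : F) ∣ Fintype.card F := addOrderOf_dvd_card
  have h3 : addOrderOf (1 : F) ≠ 1 := by
    intro h'
    rw [AddMonoid.addOrderOf_eq_one_iff] at h'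
    exact one_ne_zero h'
  have h4 : addOrderOf (1 : F) = 2 := by
    rcases (Nat.dvd_prime Nat.prime_two).mp h1 with h | h
    · exact absurd h h3
    · exact h
  rw [h4] at h2
  exact (Nat.not_even_iff_odd.mpr hF) (even_iff_two_dvd.mpr h2)

end Cfsg.Agent.Helper37
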