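import Mathlib
import Cfsg.Agent.Helper41.SL2
import Cfsg.Agent.Helper73.PGroupCyclic
import Cfsg.Agent.Helper5.ProjLine
import Cfsg.Agent.Helper37.OddCard

set_option autoImplicit false

namespace Cfsg.Agent.Helper37.SL2Q

open Matrix

variable {F : Type*} [Field F]

/-- a central element of `SL₂` squares to one. -/
lemma sq_eq_one_of_mem_center (A : SpecialLinearGroup (Fin 2) F)
    (hA : A ∈ Subgroup.center (SpecialLinearGroup (Fin 2) F)) : A ^ 2 = 1 := by
  obtain ⟨r, hr, h⟩ := (Cfsg.Agent.Helper41.sl2_mem_center_iff A).1 hA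
  apply Subtype.ext
  rw [Matrix.SpecialLinearGroup.coe_pow, h, Matrix.SpecialLinearGroup.coe_one, ← map_pow, hr, map_one]

/-- in odd characteristic, `SL₂` has a unique involution. -/
lemma eq_of_orderOf_two (h2 : (2 : F) ≠ 0) (x y : SpecialLinearGroup (Fin 2) F)
    (hx : orderOf x = 2) (hy : orderOf y = 2) : x = y := by
  have key : ∀ z : SpecialLinearGroup (Fin 2) F, orderOf z = 2 →
      (z : Matrix (Fin 2) (Fin 2) F) = Matrix.scalar (Fin 2) (-1) := by
    intro z hz
    have hz2 : z ^ 2 = 1 := by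
      have := pow_orderOf_eq_one z
      rwa [hz] at this
    have hc := Cfsg.Agent.Helper41.sl2_mem_center_of_sq_eq_one h2 z hz2
    obtain ⟨r, hr, h⟩ := (Cfsg.Agent.Helper41.sl2_mem_center_iff z).1 hc
    have hr' : r = 1 ∨ r = -1 := by
      have : (r - 1) * (r + 1) = 0 := by linear_combination hr
      rcases mul_eq_zero.1 this with h' | h'
      · left; linear_combination h'
      · right; linear_combination h'
    rcases hr' with rfl | rfl
    · exfalso
      have : z = 1 := by
        apply Subtype.ext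
        rw [h, Matrix.SpecialLinearGroup.coe_one, map_one]
      rw [this, orderOf_one] at hz
      omega
    · exact h
  apply Subtype.ext
  rw [key x hx, key y hy]

lemma uniqueOrderP (h2 : (2 : F) ≠ 0) :
    Cfsg.Agent.Helper73.UniqueOrderP 2 (SpecialLinearGroup (Fin 2) F) := by
  intro x y hx hy
  rw [eq_of_orderOf_two h2 y x hy hx]
  exact Subgroup.mem_zpowers x

/-- the trichotomy for element orders in `SL₂(q)`. -/
lemma pow_trichotomy [Fintype F] (p : ℕ) [Fact p.Prime] [CharP F p]
    (A : SpecialLinearGroup (Fin 2) F) :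
    A ^ (p * 2) = 1 ∨ A ^ (Fintype.card F - 1) = 1 ∨ A ^ (Fintype.card F + 1) = 1 := by
  by_cases ht : (Matrix.trace (A : Matrix (Fin 2) (Fin 2) F)) ^ 2 = 4
  · left
    rw [pow_mul]
    exact sq_eq_one_of_mem_center _ (Cfsg.Agent.Helper41.sl2_pow_char_mem_center p A ht)
  · by_cases hroot : ∃ a : F, a ^ 2 - Matrix.trace (A : Matrix (Fin 2) (Fin 2) F) * a + 1 = 0
    · right; left
      obtain ⟨a, ha⟩ := hroot
      have h := Cfsg.Agent.Helper41.sl2_pow_card_eq_self A ht a ha
      have hq : 1 ≤ Fintype.card F := Fintype.card_pos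
      have h' : A ^ (Fintype.card F - 1) * A = 1 * A := by
        rw [← pow_succ, Nat.sub_add_cancel hq, h, one_mul]
      exact mul_right_cancel h'
    · right; right
      push Not at hroot
      exact Cfsg.Agent.Helper41.sl2_pow_card_add_one_eq_one p A hroot


theorem sylow_two_quaternion [Fintype F] (hF : Odd (Fintype.card F))
    (P : Sylow 2 (SpecialLinearGroup (Fin 2) F)) :
    ∃ k : ℕ, 1 ≤ k ∧ Nonempty ((P : Subgroup (SpecialLinearGroup (Fin 2) F)) ≃*
      QuaternionGroup (2 ^ k)) := by
  have h2 : (2 : F) ≠ 0 := Cfsg.Agent.Helper37.two_ne_zero_of_odd_card hF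
  have hcp : CharP F (ringChar F) := ringChar.charP F
  have hpp : Fact (ringChar F).Prime := ⟨CharP.char_is_prime F (ringChar F)⟩
  have hp2 : ringChar F ≠ 2 := by
    intro h
    apply h2
    have := CharP.cast_eq_zero F (ringChar F)
    rw [h] at this
    exact_mod_cast this
  have hU : Cfsg.Agent.Helper73.UniqueOrderP 2 (P : Subgroup (SpecialLinearGroup (Fin 2) F)) :=
    (uniqueOrderP h2).subgroup _
  rcases Cfsg.Agent.Helper73.cyclic_or_quaternion P.isPGroup' hU with hc | ⟨_, n, hn, e⟩
  · exfalso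
    obtain ⟨g, hg⟩ := IsCyclic.exists_ofOrder_eq_natCard
      (α := (P : Subgroup (SpecialLinearGroup (Fin 2) F)))
    have hg' : orderOf (g : SpecialLinearGroup (Fin 2) F) =
        Nat.card (P : Subgroup (SpecialLinearGroup (Fin 2) F)) := by
      rw [Subgroup.orderOf_coe]; exact hg
    have hN := P.card_eq_multiplicity
    set G := SpecialLinearGroup (Fin 2) F
    set k := (Nat.card G).factorization 2 with hk
    have hcard : Nat.card G = Fintype.card F * (Fintype.card F ^ 2 - 1) :=
      Cfsg.Agent.Helper5.card_SL2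
    obtain ⟨m, hm⟩ := hF
    have hsq : Fintype.card F ^ 2 - 1 = (Fintype.card F - 1) * (Fintype.card F + 1) := by
      rw [hm]
      have : (2 * m + 1) ^ 2 = (2 * m) * (2 * m + 1 + 1) + 1 := by ring
      rw [this]
      simp
    have hGne : Nat.card G ≠ 0 := Nat.card_pos.ne'
    have h4 : 4 ∣ Nat.card G := by
      rw [hcard, hsq, hm]
      have : (2 * m + 1 - 1) * (2 * m + 1 + 1) = 4 * (m * (m + 1)) := by
        simp only [Nat.add_sub_cancel]; ring
      rw [this]
      exact Dvd.dvd.mul_left (Dvd.intro _ rfl) _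
    have hk2 : 2 ≤ k := by
      have : 2 ^ 2 ∣ Nat.card G := h4
      exact (Nat.Prime.pow_dvd_iff_le_factorization Nat.prime_two hGne).1 this
    have hnot : ¬ 2 ^ (k + 1) ∣ Nat.card G :=
      Nat.pow_succ_factorization_not_dvd hGne Nat.prime_two
    have hqm1 : Fintype.card F - 1 = 2 * m := by omega
    have hqp1 : Fintype.card F + 1 = 2 * (m + 1) := by omega
    rcases pow_trichotomy (ringChar F) (g : G) with h | h | h
    · have hd := orderOf_dvd_of_pow_eq_one h
      rw [hg', hN] at hd
      have h4' : 4 ∣ ringChar F * 2 := by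
        refine Dvd.dvd.trans ?_ hd
        exact pow_dvd_pow 2 hk2
      have : 2 ∣ ringChar F := by omega
      exact hp2 ((Nat.prime_dvd_prime_iff_eq Nat.prime_two hpp.out).1 this).symm
    · have hd := orderOf_dvd_of_pow_eq_one h
      rw [hg', hN] at hd
      apply hnot
      rw [hcard, hsq, pow_succ]
      apply Dvd.dvd.mul_left
      exact Nat.mul_dvd_mul hd (by rw [hqp1]; exact Dvd.intro _ rfl)
    · have hd := orderOf_dvd_of_pow_eq_one h
      rw [hg', hN] at hd
      apply hnot
      rw [hcard, hsq, pow_succ, mul_comm (2 ^ k) 2]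
      apply Dvd.dvd.mul_left
      exact Nat.mul_dvd_mul (by rw [hqm1]; exact Dvd.intro _ rfl) hd
  · exact ⟨n, hn, e⟩

end Cfsg.Agent.Helper37.SL2Q
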