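import Mathlib
import Cfsg.Agent.Helper5.Card
import Cfsg.Agent.Helper5.ProjLine

set_option autoImplicit false

namespace Cfsg.Agent.Helper37.SL2

open Matrix

variable {F : Type*} [Field F]

/-- The upper unitriangular element `[1, t; 0, 1]` of `SL₂(F)`. -/
noncomputable abbrev uu (t : F) : SpecialLinearGroup (Fin 2) F :=
  SpecialLinearGroup.transvection (zero_ne_one : (0 : Fin 2) ≠ 1) t

/-- The lower unitriangular element `[1, 0; t, 1]` of `SL₂(F)`. -/
noncomputable abbrev ll (t : F) : SpecialLinearGroup (Fin 2) F :=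
  SpecialLinearGroup.transvection (one_ne_zero : (1 : Fin 2) ≠ 0) t

lemma uu_val (t : F) : (uu t).1 = !![1, t; 0, 1] := by
  ext i j
  fin_cases i <;> fin_cases j <;> simp [uu, SpecialLinearGroup.transvection_coe]

lemma ll_val (t : F) : (ll t).1 = !![1, 0; t, 1] := by
  ext i j
  fin_cases i <;> fin_cases j <;> simp [ll, SpecialLinearGroup.transvection_coe]

/-- `t ↦ [1, t; 0, 1]` as a monoid homomorphism. -/
noncomputable def uuHom : Multiplicative F →* SpecialLinearGroup (Fin 2) F where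
  toFun t := uu (Multiplicative.toAdd t)
  map_one' := SpecialLinearGroup.transvection_coeff_zero _
  map_mul' _ _ := SpecialLinearGroup.transvection_add _ _ _

/-- upper unitriangular matrices in SL2 -/
noncomputable def U0 : Subgroup (SpecialLinearGroup (Fin 2) F) := (uuHom (F := F)).range

lemma mem_U0 {g : SpecialLinearGroup (Fin 2) F} : g ∈ U0 ↔ ∃ t : F, uu t = g := by
  unfold U0
  rw [MonoidHom.mem_range]
  constructor
  · rintro ⟨t, ht⟩
    exact ⟨Multiplicative.toAdd t, ht⟩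
  · rintro ⟨t, ht⟩
    exact ⟨Multiplicative.ofAdd t, ht⟩

lemma uu_mem (t : F) : uu t ∈ U0 := mem_U0.2 ⟨t, rfl⟩

lemma uu_injective : Function.Injective (uu : F → SpecialLinearGroup (Fin 2) F) := by
  intro s t h
  have := congrArg (fun g : SpecialLinearGroup (Fin 2) F => g.1 0 1) h
  simpa [uu_val] using this

lemma card_U0 [Fintype F] : Nat.card (U0 (F := F)) = Fintype.card F := by
  unfold U0
  have hinj : Function.Injective (uuHom (F := F)) := by
    intro a b hab
    exact Multiplicative.toAdd.injective (uu_injective hab)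
  rw [← Nat.card_congr (MonoidHom.ofInjective hinj).toEquiv, Nat.card_eq_fintype_card,
    Fintype.card_multiplicative]

lemma det_eq_one' (k : SpecialLinearGroup (Fin 2) F) :
    k.1 0 0 * k.1 1 1 - k.1 0 1 * k.1 1 0 = 1 := by
  have h := k.2
  rwa [Matrix.det_fin_two] at h

/-- key conjugation formula for upper triangular `k`. -/
lemma conj_uu {k : SpecialLinearGroup (Fin 2) F} (hc : k.1 1 0 = 0) (s : F) :
    k * uu s * k⁻¹ = uu (k.1 0 0 * s / k.1 1 1) := by
  have hdet := det_eq_one' k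
  rw [hc, mul_zero, sub_zero] at hdet
  have hdet' : k.1 0 0 * k.1 1 1 ≠ 0 := by rw [hdet]; exact one_ne_zero
  have ha : k.1 0 0 ≠ 0 := left_ne_zero_of_mul hdet'
  have hd : k.1 1 1 ≠ 0 := right_ne_zero_of_mul hdet'
  rw [mul_inv_eq_iff_eq_mul]
  apply Subtype.ext
  ext i j
  fin_cases i <;> fin_cases j <;>
    simp [uu_val, Matrix.mul_apply, Fin.sum_univ_two, hc] <;> (try field_simp) <;> (try ring)

lemma mem_normalizer_U0 {k : SpecialLinearGroup (Fin 2) F} (hc : k.1 1 0 = 0) :
    k ∈ Subgroup.normalizer ((U0 : Subgroup (SpecialLinearGroup (Fin 2) F)) :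
      Set (SpecialLinearGroup (Fin 2) F)) := by
  rw [Subgroup.mem_normalizer_iff]
  have hdet := det_eq_one' k
  rw [hc, mul_zero, sub_zero] at hdet
  have hdet' : k.1 0 0 * k.1 1 1 ≠ 0 := by rw [hdet]; exact one_ne_zero
  have ha : k.1 0 0 ≠ 0 := left_ne_zero_of_mul hdet'
  have hd : k.1 1 1 ≠ 0 := right_ne_zero_of_mul hdet'
  intro x
  constructor
  · intro hx
    obtain ⟨s, rfl⟩ := mem_U0.1 hx
    rw [conj_uu hc]
    exact uu_mem _
  · intro hx
    obtain ⟨t, ht⟩ := mem_U0.1 hx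
    have h3 := conj_uu hc (t * k.1 1 1 / k.1 0 0)
    have h4 : k.1 0 0 * (t * k.1 1 1 / k.1 0 0) / k.1 1 1 = t := by field_simp
    rw [h4, ht] at h3
    have h5 : uu (t * k.1 1 1 / k.1 0 0) = x := mul_left_cancel (mul_right_cancel h3)
    rw [← h5]
    exact uu_mem _

/-- if `k` is not upper triangular then the lower unitriangular matrices are `U0`-conjugates of
elements of `k U0 k⁻¹`. -/
lemma ll_eq_conj {k : SpecialLinearGroup (Fin 2) F} (hc : k.1 1 0 ≠ 0) (s : F) :
    ll s = uu (-(k.1 0 0) / k.1 1 0) * (k * uu (-s / (k.1 1 0) ^ 2) * k⁻¹) *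
      (uu (-(k.1 0 0) / k.1 1 0))⁻¹ := by
  have hdet := det_eq_one' k
  rw [eq_mul_inv_iff_mul_eq, ← mul_assoc, eq_mul_inv_iff_mul_eq]
  apply Subtype.ext
  ext i j
  fin_cases i <;> fin_cases j <;>
    simp [uu_val, ll_val, Matrix.mul_apply, Fin.sum_univ_two] <;> field_simp <;>
    first | ring1 | linear_combination (-s) * hdet
  

section Sylow

variable [Fintype F] (p : ℕ) [Fact p.Prime] [CharP F p]

lemma not_dvd_cofactor : ¬ p ∣ (Fintype.card F ^ 2 - 1) := by
  have hp : p.Prime := Fact.out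
  have hq : p ∣ Fintype.card F := by
    obtain ⟨n, _, hn⟩ := FiniteField.card F p
    rw [hn]
    exact dvd_pow_self p n.ne_zero
  have hq1 : 1 ≤ Fintype.card F := Fintype.card_pos
  intro h
  have hq2 : p ∣ Fintype.card F ^ 2 := dvd_pow hq two_ne_zero
  have hq3 : 1 ≤ Fintype.card F ^ 2 := Nat.one_le_pow _ _ hq1
  have := Nat.dvd_sub hq2 h
  have h1 : Fintype.card F ^ 2 - (Fintype.card F ^ 2 - 1) = 1 := by omega
  rw [h1] at this
  exact hp.one_lt.ne' (Nat.dvd_one.1 this)

lemma isPGroup_U0 : IsPGroup p (U0 : Subgroup (SpecialLinearGroup (Fin 2) F)) := by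
  obtain ⟨n, _, hn⟩ := FiniteField.card F p
  exact IsPGroup.of_card (n := n) (card_U0.trans hn)

lemma index_U0 : (U0 : Subgroup (SpecialLinearGroup (Fin 2) F)).index =
    Fintype.card F ^ 2 - 1 := by
  have h := Subgroup.card_mul_index (U0 : Subgroup (SpecialLinearGroup (Fin 2) F))
  rw [card_U0, Cfsg.Agent.Helper5.card_SL2] at h
  exact Nat.eq_of_mul_eq_mul_left Fintype.card_pos h

/-- The upper unitriangular group as a Sylow `p`-subgroup of `SL₂(F)`. -/
noncomputable def P0 (F : Type*) [Field F] [Fintype F] (p : ℕ) [Fact p.Prime] [CharP F p] :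
    Sylow p (SpecialLinearGroup (Fin 2) F) :=
  (isPGroup_U0 p).toSylow (by rw [index_U0]; exact not_dvd_cofactor p)

lemma coe_P0 : (P0 F p).toSubgroup = U0 := rfl

lemma exists_smul_P0 (P : Sylow p (SpecialLinearGroup (Fin 2) F)) :
    ∃ g : SpecialLinearGroup (Fin 2) F, g • P0 F p = P :=
  MulAction.exists_smul_eq _ _ _

lemma mem_smul_P0 {g x : SpecialLinearGroup (Fin 2) F} :
    x ∈ g • P0 F p ↔ g⁻¹ * x * g ∈ U0 := by
  change x ∈ (g • P0 F p : Sylow p (SpecialLinearGroup (Fin 2) F)).toSubgroup ↔ _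
  rw [Sylow.coe_subgroup_smul, Subgroup.mem_pointwise_smul_iff_inv_smul_mem, coe_P0]
  simp [MulAut.smul_def]

lemma sup_eq_top (P Q : Sylow p (SpecialLinearGroup (Fin 2) F)) (h : P ≠ Q) :
    (P : Subgroup (SpecialLinearGroup (Fin 2) F)) ⊔ (Q : Subgroup (SpecialLinearGroup (Fin 2) F)) =
      ⊤ := by
  obtain ⟨g, rfl⟩ := exists_smul_P0 p P
  obtain ⟨h', rfl⟩ := exists_smul_P0 p Q
  set H := ((g • P0 F p : Sylow p (SpecialLinearGroup (Fin 2) F)) :
    Subgroup (SpecialLinearGroup (Fin 2) F)) ⊔ ((h' • P0 F p :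
      Sylow p (SpecialLinearGroup (Fin 2) F)) : Subgroup (SpecialLinearGroup (Fin 2) F)) with hH
  have hc : (g⁻¹ * h').1 1 0 ≠ 0 := by
    intro hc
    have h5 : (g⁻¹ * h') • P0 F p = P0 F p := by
      rw [Sylow.smul_eq_iff_mem_normalizer]
      exact mem_normalizer_U0 hc
    apply h
    have := congrArg (fun R => g • R) h5
    simpa [← mul_smul] using this.symm
  have hP : ∀ t : F, g * uu t * g⁻¹ ∈ H := by
    intro t
    apply Subgroup.mem_sup_left
    refine (mem_smul_P0 p).2 ?_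
    have : g⁻¹ * (g * uu t * g⁻¹) * g = uu t := by group
    rw [this]; exact uu_mem t
  have hQ : ∀ t : F, h' * uu t * h'⁻¹ ∈ H := by
    intro t
    apply Subgroup.mem_sup_right
    refine (mem_smul_P0 p).2 ?_
    have : h'⁻¹ * (h' * uu t * h'⁻¹) * h' = uu t := by group
    rw [this]; exact uu_mem t
  rw [eq_top_iff]
  intro x _
  have key : ∀ y : SpecialLinearGroup (Fin 2) F, g * y * g⁻¹ ∈ H := by
    intro y
    refine Matrix.SL2.transvection_induction (fun y => g * y * g⁻¹ ∈ H) ?_ ?_ y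
    · intro i j hij c
      fin_cases i
      · obtain rfl : j = 1 := by fin_cases j <;> tauto
        exact hP c
      · obtain rfl : j = 0 := by fin_cases j <;> tauto
        change g * ll c * g⁻¹ ∈ H
        rw [ll_eq_conj hc c]
        set r := -((g⁻¹ * h').1 0 0) / (g⁻¹ * h').1 1 0
        set t := -c / ((g⁻¹ * h').1 1 0) ^ 2
        have e : g * (uu r * (g⁻¹ * h' * uu t * (g⁻¹ * h')⁻¹) * (uu r)⁻¹) * g⁻¹ =
            (g * uu r * g⁻¹) * (h' * uu t * h'⁻¹) * (g * uu r * g⁻¹)⁻¹ := by group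
        rw [e]
        exact H.mul_mem (H.mul_mem (hP r) (hQ t)) (H.inv_mem (hP r))
    · intro A B hA hB
      have e : g * (A * B) * g⁻¹ = (g * A * g⁻¹) * (g * B * g⁻¹) := by group
      rw [e]
      exact H.mul_mem hA hB
  have e : x = g * (g⁻¹ * x * g) * g⁻¹ := by group
  rw [e]
  exact key _

end Sylow

end Cfsg.Agent.Helper37.SL2
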