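import Mathlib
import Cfsg.Prelude.Def_LocalEven

set_option autoImplicit false

namespace Cfsg.Agent.Helper37

/-- a group involved in a quotient of `G` is involved in `G`. -/
theorem involves_of_involves_quotient {G : Type*} [Group G] (Z : Subgroup G) [Z.Normal]
    {H : Type*} [Group H] (h : Cfsg.Involves H (G ⧸ Z)) : Cfsg.Involves H G := by
  obtain ⟨Kb, Rb, hn, ⟨e⟩⟩ := h
  let f : G →* G ⧸ Z := QuotientGroup.mk' Z
  have hf : Function.Surjective f := QuotientGroup.mk'_surjective Z
  let K : Subgroup G := Kb.comap f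
  let R : Subgroup G := Rb.comap f
  let φK : K →* Kb := f.subgroupComap Kb
  have hφK : Function.Surjective φK := f.subgroupComap_surjective_of_surjective Kb hf
  have hRK : R.subgroupOf K = (Rb.subgroupOf Kb).comap φK := by
    ext x
    simp only [Subgroup.mem_subgroupOf, Subgroup.mem_comap]
    rfl
  have hnorm : (R.subgroupOf K).Normal := by
    rw [hRK]
    exact hn.comap φK
  let ψ : K →* Kb ⧸ Rb.subgroupOf Kb := (QuotientGroup.mk' (Rb.subgroupOf Kb)).comp φK
  have hψ : Function.Surjective ψ := (QuotientGroup.mk'_surjective _).comp hφK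
  have hker : R.subgroupOf K = ψ.ker := by
    rw [hRK, ← MonoidHom.comap_ker, QuotientGroup.ker_mk']
  refine ⟨K, R, hnorm, ⟨?_⟩⟩
  exact ((QuotientGroup.quotientMulEquivOfEq hker).trans
    (QuotientGroup.quotientKerEquivOfSurjective ψ hψ)).trans e

end Cfsg.Agent.Helper37
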