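import Mathlib

set_option autoImplicit false

namespace Cfsg.Agent.Helper37

open Matrix

section herm

variable {K : Type*} [Field K] (φ : K →+* K)

/-- The sesquilinear form `u ⬝ φ(v)` on `K³` (or `Kⁿ`). -/
def hf {n : ℕ} (u v : Fin n → K) : K := u ⬝ᵥ (φ ∘ v)

theorem hf_add_left {n : ℕ} (u u' v : Fin n → K) : hf φ (u + u') v = hf φ u v + hf φ u' v := by
  unfold hf; rw [add_dotProduct]

theorem hf_sub_left {n : ℕ} (u u' v : Fin n → K) : hf φ (u - u') v = hf φ u v - hf φ u' v := by
  unfold hf; rw [sub_dotProduct]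

theorem hf_smul_left {n : ℕ} (a : K) (u v : Fin n → K) : hf φ (a • u) v = a * hf φ u v := by
  unfold hf; rw [smul_dotProduct, smul_eq_mul]

theorem hf_zero_left {n : ℕ} (v : Fin n → K) : hf φ 0 v = 0 := by
  unfold hf; rw [zero_dotProduct]

theorem hf_symm {n : ℕ} (hφ : ∀ x, φ (φ x) = x) (u v : Fin n → K) : hf φ v u = φ (hf φ u v) := by
  unfold hf
  rw [RingHom.map_dotProduct, dotProduct_comm]
  congr 1
  funext i
  simp [hφ]

/-- the semilinear cross product -/
def cx (u v : Fin 3 → K) : Fin 3 → K := φ ∘ (crossProduct u v)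

theorem comp_cross (u v : Fin 3 → K) : φ ∘ (crossProduct u v) = crossProduct (φ ∘ u) (φ ∘ v) := by
  funext i
  fin_cases i <;> simp [cross_apply]

theorem hf_cx_left (u v : Fin 3 → K) : hf φ (cx φ u v) u = 0 := by
  unfold hf cx
  rw [← RingHom.map_dotProduct, dotProduct_comm, dot_self_cross, map_zero]

theorem hf_cx_right (u v : Fin 3 → K) : hf φ (cx φ u v) v = 0 := by
  unfold hf cx
  rw [← RingHom.map_dotProduct, dotProduct_comm, dot_cross_self, map_zero]

theorem eq_smul_of_cross_eq_zero {x n : Fin 3 → K} (h : crossProduct x n = 0) (hn : n ≠ 0) :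
    ∃ a : K, x = a • n := by
  have h1 : ¬ LinearIndependent K ![x, n] := by
    rw [← crossProduct_ne_zero_iff_linearIndependent]
    simpa using h
  rw [LinearIndependent.pair_iff] at h1
  push Not at h1
  obtain ⟨s, t, hst, hne⟩ := h1
  have hs : s ≠ 0 := by
    intro hs
    rw [hs, zero_smul, zero_add] at hst
    rcases smul_eq_zero.mp hst with ht | ht
    · exact hne hs ht
    · exact hn ht
  refine ⟨-(t / s), ?_⟩
  have : s • x = -(t • n) := eq_neg_of_add_eq_zero_left hst
  have h2 : x = s⁻¹ • (s • x) := by rw [smul_smul, inv_mul_cancel₀ hs, one_smul]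
  rw [h2, this, smul_neg, smul_smul, neg_smul]
  congr 2
  field_simp

/-- a vector `h`-orthogonal to two independent vectors is a multiple of their semilinear cross product. -/
theorem eq_smul_cx_of_orth {u₁ u₂ x : Fin 3 → K} (hφ : ∀ x, φ (φ x) = x) (hu : crossProduct u₁ u₂ ≠ 0)
    (h1 : hf φ x u₁ = 0) (h2 : hf φ x u₂ = 0) : ∃ a : K, x = a • cx φ u₁ u₂ := by
  apply eq_smul_of_cross_eq_zero
  · unfold cx
    rw [comp_cross, cross_cross_eq_smul_sub_smul']
    unfold hf at h1 h2
    rw [h2, dotProduct_comm, h1, zero_smul, zero_smul, sub_zero]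
  · unfold cx
    intro h
    apply hu
    funext i
    have := congrFun h i
    simp only [Function.comp_apply, Pi.zero_apply] at this
    have h3 := congrArg φ this
    rw [hφ, map_zero] at h3
    exact h3

theorem cross_mulVec_identity (M : Matrix (Fin 3) (Fin 3) K) (u v : Fin 3 → K) :
    Mᵀ.mulVec (crossProduct (M.mulVec u) (M.mulVec v)) = M.det • crossProduct u v := by
  rw [Matrix.det_fin_three]
  funext i
  fin_cases i <;>
  · simp [cross_apply, Matrix.mulVec, dotProduct, Fin.sum_univ_three]
    ring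

end herm

end Cfsg.Agent.Helper37
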