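import Mathlib
import Cfsg.Agent.Helper37.Herm3

set_option autoImplicit false

namespace Cfsg.Agent.Helper37

open Matrix

section herm

variable {K : Type*} [Field K] (φ : K →+* K)

/-- `M` preserves the form `hf φ`. -/
def IsUnitary3 (M : Matrix (Fin 3) (Fin 3) K) : Prop :=
  ∀ u v : Fin 3 → K, hf φ (M.mulVec u) (M.mulVec v) = hf φ u v

theorem IsUnitary3.transpose_mul_map {M : Matrix (Fin 3) (Fin 3) K} (hM : IsUnitary3 φ M) :
    Mᵀ * M.map φ = 1 := by
  ext i j
  have h := hM (Pi.single i 1) (Pi.single j 1)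
  unfold hf at h
  rw [Matrix.mulVec_single_one, Matrix.mulVec_single_one] at h
  rw [Matrix.mul_apply, Matrix.one_apply]
  simp only [dotProduct, Function.comp_apply, Matrix.col_apply, Matrix.transpose_apply,
    Matrix.map_apply] at h ⊢
  rw [h]
  simp [Pi.single_apply, eq_comm]

theorem IsUnitary3.map_mul_transpose {M : Matrix (Fin 3) (Fin 3) K} (hM : IsUnitary3 φ M) :
    M.map φ * Mᵀ = 1 :=
  mul_eq_one_comm.mp (hM.transpose_mul_map φ)

theorem map_map_eq (hφ : ∀ x, φ (φ x) = x) (M : Matrix (Fin 3) (Fin 3) K) : (M.map φ).map φ = M := by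
  ext i j
  simp [hφ]

/-- equivariance of the semilinear cross product under special unitary matrices -/
theorem IsUnitary3.mulVec_cx (hφ : ∀ x, φ (φ x) = x) {M : Matrix (Fin 3) (Fin 3) K}
    (hM : IsUnitary3 φ M) (hdet : M.det = 1) (u v : Fin 3 → K) :
    M.mulVec (cx φ u v) = cx φ (M.mulVec u) (M.mulVec v) := by
  have h1 : crossProduct (M.mulVec u) (M.mulVec v) = (M.map φ).mulVec (crossProduct u v) := by
    have := cross_mulVec_identity M u v
    rw [hdet, one_smul] at this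
    rw [← this, Matrix.mulVec_mulVec, hM.map_mul_transpose φ, Matrix.one_mulVec]
  unfold cx
  rw [h1]
  funext i
  simp only [Function.comp_apply]
  rw [RingHom.map_mulVec, map_map_eq φ hφ]


theorem hf_mulVec_fix {M : Matrix (Fin 3) (Fin 3) K} (hM : IsUnitary3 φ M) {w : Fin 3 → K}
    (hw : M.mulVec w = w) (u : Fin 3 → K) : hf φ (M.mulVec u) w = hf φ u w := by
  have := hM u w
  rwa [hw] at this

/-- no totally isotropic plane -/
theorem hf_ne_zero_of_isotropic_pair (hφ : ∀ x, φ (φ x) = x) {w₁ w₂ : Fin 3 → K}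
    (hw : crossProduct w₁ w₂ ≠ 0) (h1 : hf φ w₁ w₁ = 0) (h2 : hf φ w₂ w₂ = 0) : hf φ w₁ w₂ ≠ 0 := by
  intro h12
  have h21 : hf φ w₂ w₁ = 0 := by rw [hf_symm φ hφ, h12, map_zero]
  obtain ⟨a, ha⟩ := eq_smul_cx_of_orth φ hφ hw h1 h12
  obtain ⟨b, hb⟩ := eq_smul_cx_of_orth φ hφ hw h21 h2
  apply hw
  have : crossProduct w₁ w₂ = crossProduct (a • cx φ w₁ w₂) (b • cx φ w₁ w₂) := by rw [← ha, ← hb]
  rw [this]
  simp only [map_smul, LinearMap.smul_apply, cross_self, smul_zero]

theorem eq_one_of_mulVec_eq (M : Matrix (Fin 3) (Fin 3) K) (h : ∀ u, M.mulVec u = u) : M = 1 := by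
  ext i j
  have := congrFun (h (Pi.single j 1)) i
  rw [Matrix.mulVec_single_one] at this
  simpa [Matrix.one_apply, Pi.single_apply, eq_comm] using this

/-- a special unitary matrix fixing two independent vectors spanning a nondegenerate plane is `1`. -/
theorem IsUnitary3.eq_one_of_fix_two (hφ : ∀ x, φ (φ x) = x) {M : Matrix (Fin 3) (Fin 3) K}
    (hM : IsUnitary3 φ M) (hdet : M.det = 1) {u₁ u₂ : Fin 3 → K} (hu : crossProduct u₁ u₂ ≠ 0)
    (h1 : M.mulVec u₁ = u₁) (h2 : M.mulVec u₂ = u₂)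
    (hD : hf φ u₁ u₁ * hf φ u₂ u₂ - hf φ u₁ u₂ * hf φ u₂ u₁ ≠ 0) : M = 1 := by
  apply eq_one_of_mulVec_eq
  intro u
  set g11 := hf φ u₁ u₁
  set g12 := hf φ u₁ u₂
  set g21 := hf φ u₂ u₁
  set g22 := hf φ u₂ u₂
  set D := g11 * g22 - g12 * g21 with hDdef
  set α := (hf φ u u₁ * g22 - hf φ u u₂ * g21) / D with hα
  set β := (g11 * hf φ u u₂ - g12 * hf φ u u₁) / D with hβ
  have hy : M.mulVec (cx φ u₁ u₂) = cx φ u₁ u₂ := by rw [hM.mulVec_cx φ hφ hdet, h1, h2]
  have ho1 : hf φ (u - α • u₁ - β • u₂) u₁ = 0 := by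
    rw [hf_sub_left, hf_sub_left, hf_smul_left, hf_smul_left, hα, hβ]
    field_simp
    ring
  have ho2 : hf φ (u - α • u₁ - β • u₂) u₂ = 0 := by
    rw [hf_sub_left, hf_sub_left, hf_smul_left, hf_smul_left, hα, hβ]
    field_simp
    ring
  obtain ⟨γ, hγ⟩ := eq_smul_cx_of_orth φ hφ hu ho1 ho2
  have hu' : u = α • u₁ + β • u₂ + γ • cx φ u₁ u₂ := by
    rw [← hγ]; abel
  rw [hu', Matrix.mulVec_add, Matrix.mulVec_add, Matrix.mulVec_smul, Matrix.mulVec_smul,
    Matrix.mulVec_smul, h1, h2, hy]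


/-- a special unitary matrix fixing a nonzero isotropic vector is unipotent: `(M - 1)³ = 0`. -/
theorem IsUnitary3.sub_one_cube (hφ : ∀ x, φ (φ x) = x) {M : Matrix (Fin 3) (Fin 3) K}
    (hM : IsUnitary3 φ M) (hdet : M.det = 1) {w : Fin 3 → K} (hw0 : w ≠ 0) (hw : hf φ w w = 0)
    (hMw : M.mulVec w = w) : (M - 1) * (M - 1) * (M - 1) = 0 := by
  have hN : ∀ u, (M - 1).mulVec u = M.mulVec u - u := by
    intro u; rw [Matrix.sub_mulVec, Matrix.one_mulVec]
  -- (i)
  have hi : (M - 1).mulVec w = 0 := by rw [hN, hMw, sub_self]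
  -- (ii)
  have hii : ∀ u, hf φ ((M - 1).mulVec u) w = 0 := by
    intro u
    rw [hN, hf_sub_left, hf_mulVec_fix φ hM hMw, sub_self]
  -- (iii)
  have hiii : ∀ v, hf φ v w = 0 → ∃ a : K, (M - 1).mulVec v = a • w := by
    intro v hv
    by_cases hwv : crossProduct w v = 0
    · have hvw : crossProduct v w = 0 := by rw [← cross_anticomm, hwv, neg_zero]
      obtain ⟨a, ha⟩ := eq_smul_of_cross_eq_zero hvw hw0
      refine ⟨0, ?_⟩
      rw [ha, Matrix.mulVec_smul, hi, smul_zero, zero_smul]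
    · have hwv' : hf φ w v = 0 := by rw [hf_symm φ hφ, hv, map_zero]
      obtain ⟨a, ha⟩ := eq_smul_cx_of_orth φ hφ hwv hw hwv'
      have ha0 : a ≠ 0 := by
        intro h0
        rw [h0, zero_smul] at ha
        exact hw0 ha
      have h1 : w = a • cx φ w (M.mulVec v) := by
        have : M.mulVec w = M.mulVec (a • cx φ w v) := by rw [← ha]
        rw [hMw, Matrix.mulVec_smul, hM.mulVec_cx φ hφ hdet, hMw] at this
        exact this
      have h2 : cx φ w v = cx φ w (M.mulVec v) := by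
        have : a • cx φ w v = a • cx φ w (M.mulVec v) := by rw [← ha, ← h1]
        exact smul_right_injective _ ha0 this
      have h3 : crossProduct w v = crossProduct w (M.mulVec v) := by
        funext i
        have := congrFun h2 i
        simp only [cx, Function.comp_apply] at this
        have h4 := congrArg φ this
        rwa [hφ, hφ] at h4
      have h5 : crossProduct (M.mulVec v - v) w = 0 := by
        rw [← cross_anticomm, map_sub, h3, sub_self, neg_zero]
      obtain ⟨b, hb⟩ := eq_smul_of_cross_eq_zero h5 hw0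
      exact ⟨b, by rw [hN, hb]⟩
  have h0 : ∀ u, ((M - 1) * (M - 1) * (M - 1)).mulVec u = 0 := by
    intro u
    rw [← Matrix.mulVec_mulVec, ← Matrix.mulVec_mulVec]
    obtain ⟨a, ha⟩ := hiii _ (hii u)
    rw [ha, Matrix.mulVec_smul, hi, smul_zero]
  ext i j
  have := congrFun (h0 (Pi.single j 1)) i
  rw [Matrix.mulVec_single_one] at this
  simpa using this

/-- hence it has `p`-th power one in odd characteristic `p`. -/
theorem IsUnitary3.pow_p_eq_one (hφ : ∀ x, φ (φ x) = x) {p : ℕ} [Fact p.Prime] [CharP K p] (hp : p ≠ 2)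
    {M : Matrix (Fin 3) (Fin 3) K}
    (hM : IsUnitary3 φ M) (hdet : M.det = 1) {w : Fin 3 → K} (hw0 : w ≠ 0) (hw : hf φ w w = 0)
    (hMw : M.mulVec w = w) : M ^ p = 1 := by
  have hcube := hM.sub_one_cube φ hφ hdet hw0 hw hMw
  have hM' : M = 1 + (M - 1) := by abel
  have hp3 : 3 ≤ p := by
    have := (Fact.out : p.Prime).two_le
    omega
  have hNp : (M - 1) ^ p = 0 := by
    have h3 : (M - 1) ^ 3 = 0 := by rw [pow_succ, pow_two, hcube]
    exact pow_eq_zero_of_le hp3 h3
  rw [hM', add_pow_char_of_commute _ (Commute.one_left _), one_pow, hNp, add_zero]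

end herm

end Cfsg.Agent.Helper37
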