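import Mathlib
import Cfsg.Agent.Helper37.Herm3Unitary

set_option autoImplicit false

namespace Cfsg.Agent.Helper37

open Matrix

/-- two `p`-subgroups with nontrivial intersection generate a `p`-group (Sylow `p`-subgroups are TI). -/
def PJoin (p : ℕ) (G : Type*) [Group G] : Prop :=
  ∀ P Q : Subgroup G, IsPGroup p P → IsPGroup p Q → P ⊓ Q ≠ ⊥ → IsPGroup p ↥(P ⊔ Q)

section rep

variable {K : Type*} [Field K] [Fintype K] (φ : K →+* K) (hφ : ∀ x, φ (φ x) = x)
variable {p : ℕ} [Fact p.Prime] [CharP K p]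
variable {Γ : Type*} [Group Γ] (ρ : Γ →* Matrix (Fin 3) (Fin 3) K)

include hφ in
/-- a nontrivial `p`-subgroup of a group of special unitary `3 × 3` matrices fixes a nonzero isotropic vector -/
theorem exists_isotropic_fixed (hinj : Function.Injective ρ) (hU : ∀ g, IsUnitary3 φ (ρ g))
    (hdet : ∀ g, (ρ g).det = 1) (P : Subgroup Γ) (hP : IsPGroup p P) (hP1 : P ≠ ⊥) :
    ∃ w : Fin 3 → K, w ≠ 0 ∧ hf φ w w = 0 ∧ ∀ g ∈ P, (ρ g).mulVec w = w := by
  classical
  obtain ⟨n, -, hn⟩ := FiniteField.card K p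
  let act : MulAction P (Fin 3 → K) :=
    { smul := fun g v => (ρ g.1).mulVec v
      one_smul := fun v => by
        show (ρ ((1 : P) : Γ)).mulVec v = v
        simp
      mul_smul := fun g h v => by
        show (ρ ((g * h : P) : Γ)).mulVec v = (ρ g.1).mulVec ((ρ h.1).mulVec v)
        rw [Matrix.mulVec_mulVec, Subgroup.coe_mul, map_mul] }
  have hdvd : p ∣ Nat.card (Fin 3 → K) := by
    rw [Nat.card_eq_fintype_card, Fintype.card_fun, hn, Fintype.card_fin]
    exact dvd_pow (dvd_pow_self p n.ne_zero) (by norm_num)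
  have h0 : (0 : Fin 3 → K) ∈ MulAction.fixedPoints P (Fin 3 → K) := by
    intro g
    show (ρ g.1).mulVec 0 = 0
    simp
  obtain ⟨v, hv, hv0⟩ := hP.exists_fixed_point_of_prime_dvd_card_of_fixed_point (Fin 3 → K) hdvd h0
  have hv0' : v ≠ 0 := Ne.symm hv0
  have hvfix : ∀ g ∈ P, (ρ g).mulVec v = v := fun g hg => hv ⟨g, hg⟩
  by_cases hvv : hf φ v v = 0
  · exact ⟨v, hv0', hvv, hvfix⟩
  -- the orthogonal complement of v
  let W : Submodule K (Fin 3 → K) :=
    { carrier := {u | hf φ u v = 0}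
      add_mem' := fun {a b} ha hb => by
        show hf φ (a + b) v = 0
        rw [hf_add_left, ha, hb, add_zero]
      zero_mem' := hf_zero_left φ v
      smul_mem' := fun c a ha => by
        show hf φ (c • a) v = 0
        rw [hf_smul_left, ha, mul_zero] }
  let actW : MulAction P W :=
    { smul := fun g u => ⟨(ρ g.1).mulVec u.1, by
        show hf φ ((ρ g.1).mulVec u.1) v = 0
        rw [hf_mulVec_fix φ (hU g.1) (hvfix g.1 g.2)]
        exact u.2⟩
      one_smul := fun u => by
        apply Subtype.ext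
        show (ρ ((1 : P) : Γ)).mulVec u.1 = u.1
        simp
      mul_smul := fun g h u => by
        apply Subtype.ext
        show (ρ ((g * h : P) : Γ)).mulVec u.1 = (ρ g.1).mulVec ((ρ h.1).mulVec u.1)
        rw [Matrix.mulVec_mulVec, Subgroup.coe_mul, map_mul] }
  -- W is nontrivial
  have hWnt : ∃ u : Fin 3 → K, u ≠ 0 ∧ hf φ u v = 0 := by
    have hex : ∃ e : Fin 3 → K, crossProduct v e ≠ 0 := by
      by_contra hcon
      push Not at hcon
      have h1 := hcon ![1, 0, 0]
      have h2 := hcon ![0, 1, 0]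
      rw [cross_apply] at h1 h2
      apply hv0'
      funext i
      have a1 := congrFun h1 1
      have a2 := congrFun h1 2
      have a3 := congrFun h2 2
      simp at a1 a2 a3
      fin_cases i
      · simpa using a3
      · simpa using a2
      · simpa using a1
    obtain ⟨e, he⟩ := hex
    refine ⟨cx φ v e, ?_, hf_cx_left φ v e⟩
    intro h
    apply he
    funext i
    have := congrFun h i
    simp only [cx, Function.comp_apply, Pi.zero_apply] at this
    have h3 := congrArg φ this
    rwa [hφ, map_zero] at h3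
  have hWdvd : p ∣ Nat.card W := by
    have h1 : Nat.card W ∣ Nat.card (Fin 3 → K) := by
      have := AddSubgroup.card_addSubgroup_dvd_card W.toAddSubgroup
      exact this
    rw [Nat.card_eq_fintype_card (α := Fin 3 → K), Fintype.card_fun, hn, Fintype.card_fin, ← pow_mul] at h1
    obtain ⟨k, -, hk⟩ := (Nat.dvd_prime_pow (Fact.out : p.Prime)).mp h1
    have hk0 : k ≠ 0 := by
      intro hk0
      rw [hk0, pow_zero] at hk
      obtain ⟨u, hu0, hu⟩ := hWnt
      have : Subsingleton W := (Nat.card_eq_one_iff_unique.mp hk).1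
      have := Subsingleton.elim (⟨u, hu⟩ : W) 0
      exact hu0 (congrArg Subtype.val this)
    rw [hk]
    exact dvd_pow_self p hk0
  have hW0 : (0 : W) ∈ MulAction.fixedPoints P W := by
    intro g
    apply Subtype.ext
    show (ρ g.1).mulVec 0 = 0
    simp
  obtain ⟨w, hw, hw0⟩ := hP.exists_fixed_point_of_prime_dvd_card_of_fixed_point W hWdvd hW0
  have hw0' : w.1 ≠ 0 := fun h => hw0 (Subtype.ext h.symm)
  have hwfix : ∀ g ∈ P, (ρ g).mulVec w.1 = w.1 := fun g hg => congrArg Subtype.val (hw ⟨g, hg⟩)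
  by_cases hww : hf φ w.1 w.1 = 0
  · exact ⟨w.1, hw0', hww, hwfix⟩
  exfalso
  apply hP1
  rw [Subgroup.eq_bot_iff_forall]
  intro g hg
  apply hinj
  rw [map_one]
  have hwv : hf φ w.1 v = 0 := w.2
  apply (hU g).eq_one_of_fix_two φ hφ (hdet g) (u₁ := v) (u₂ := w.1) ?_ (hvfix g hg) (hwfix g hg)
  · rw [hwv, mul_zero, sub_zero]
    exact mul_ne_zero hvv hww
  · intro hc
    have hc' : crossProduct w.1 v = 0 := by rw [← cross_anticomm, hc, neg_zero]
    obtain ⟨a, ha⟩ := eq_smul_of_cross_eq_zero hc' hv0'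
    rw [ha, hf_smul_left] at hwv
    rcases mul_eq_zero.mp hwv with h | h
    · rw [h, zero_smul] at ha
      exact hw0' ha
    · exact hvv h


include hφ in
/-- Sylow `p`-subgroups of a group of special unitary `3 × 3` matrices in odd characteristic `p` are TI. -/
theorem PJoin_of_unitary_rep (hp : p ≠ 2) (hinj : Function.Injective ρ) (hU : ∀ g, IsUnitary3 φ (ρ g))
    (hdet : ∀ g, (ρ g).det = 1) : PJoin p Γ := by
  intro P Q hP hQ hPQ
  have hP1 : P ≠ ⊥ := fun h => hPQ (by rw [h, bot_inf_eq])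
  have hQ1 : Q ≠ ⊥ := fun h => hPQ (by rw [h, inf_bot_eq])
  obtain ⟨wP, hwP0, hwP, hfixP⟩ := exists_isotropic_fixed φ hφ ρ hinj hU hdet P hP hP1
  obtain ⟨wQ, hwQ0, hwQ, hfixQ⟩ := exists_isotropic_fixed φ hφ ρ hinj hU hdet Q hQ hQ1
  obtain ⟨u, hu1⟩ := (Subgroup.ne_bot_iff_exists_ne_one (H := P ⊓ Q)).mp hPQ
  have huP : (u : Γ) ∈ P := (Subgroup.mem_inf.mp u.2).1
  have huQ : (u : Γ) ∈ Q := (Subgroup.mem_inf.mp u.2).2
  -- the two fixed isotropic vectors are proportional
  have hdep : crossProduct wP wQ = 0 := by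
    by_contra hne
    have hd := hf_ne_zero_of_isotropic_pair φ hφ hne hwP hwQ
    have hd' : hf φ wQ wP ≠ 0 := by
      rw [hf_symm φ hφ]
      intro h
      apply hd
      have := congrArg φ h
      rwa [hφ, map_zero] at this
    have : ρ (u : Γ) = 1 := by
      apply (hU _).eq_one_of_fix_two φ hφ (hdet _) hne (hfixP _ huP) (hfixQ _ huQ)
      rw [hwP, hwQ, mul_zero, zero_sub, neg_ne_zero]
      exact mul_ne_zero hd hd'
    apply hu1
    apply Subtype.ext
    apply hinj
    rw [this, Subgroup.coe_one, map_one]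
  have hdep' : crossProduct wQ wP = 0 := by rw [← cross_anticomm, hdep, neg_zero]
  obtain ⟨a, ha⟩ := eq_smul_of_cross_eq_zero hdep' hwP0
  have ha0 : a ≠ 0 := by
    intro h
    rw [h, zero_smul] at ha
    exact hwQ0 ha
  have hfixQ' : ∀ g ∈ Q, (ρ g).mulVec wP = wP := by
    intro g hg
    have := hfixQ g hg
    rw [ha, Matrix.mulVec_smul] at this
    exact smul_right_injective _ ha0 this
  -- the stabilizer of wP
  let B : Subgroup Γ :=
    { carrier := {g | (ρ g).mulVec wP = wP}
      mul_mem' := fun {a b} ha hb => by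
        show (ρ (a * b)).mulVec wP = wP
        rw [map_mul, ← Matrix.mulVec_mulVec, hb, ha]
      one_mem' := by
        show (ρ 1).mulVec wP = wP
        rw [map_one, Matrix.one_mulVec]
      inv_mem' := fun {a} ha => by
        show (ρ a⁻¹).mulVec wP = wP
        have h1 : (ρ a⁻¹).mulVec ((ρ a).mulVec wP) = wP := by
          rw [Matrix.mulVec_mulVec, ← map_mul, inv_mul_cancel, map_one, Matrix.one_mulVec]
        rwa [ha] at h1 }
  have hB : IsPGroup p B := by
    intro g
    refine ⟨1, ?_⟩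
    apply Subtype.ext
    apply hinj
    rw [pow_one, Subgroup.coe_pow, map_pow, Subgroup.coe_one, map_one]
    exact (hU _).pow_p_eq_one φ hφ hp (hdet _) hwP0 hwP g.2
  have hle : P ⊔ Q ≤ B := sup_le (fun g hg => hfixP g hg) (fun g hg => hfixQ' g hg)
  exact hB.to_le hle

end rep

end Cfsg.Agent.Helper37
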