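import Mathlib
import Cfsg.Prelude.Def_LocalEven
import Cfsg.Agent.Helper37.PJoinUnitary

set_option autoImplicit false

namespace Cfsg.Agent.Helper37

/-- `H` has a normal Sylow `p`-subgroup (formulated as: a normal `p`-subgroup of index prime to `p`). -/
def PClosed (p : ℕ) (H : Type*) [Group H] : Prop :=
  ∃ T : Subgroup H, T.Normal ∧ IsPGroup p T ∧ ¬ p ∣ T.index

theorem PClosed.of_injective {p : ℕ} {L M : Type*} [Group L] [Group M] (h : PClosed p M)
    (f : L →* M) (hf : Function.Injective f) : PClosed p L := by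
  obtain ⟨T, hTn, hTp, hTi⟩ := h
  refine ⟨T.comap f, hTn.comap f, hTp.comap_of_injective f hf, ?_⟩
  rw [Subgroup.index_comap]
  intro hd
  exact hTi (hd.trans (Subgroup.relIndex_dvd_index_of_normal T f.range))

theorem PClosed.of_surjective {p : ℕ} {L M : Type*} [Group L] [Group M] (h : PClosed p L)
    (f : L →* M) (hf : Function.Surjective f) : PClosed p M := by
  obtain ⟨T, hTn, hTp, hTi⟩ := h
  refine ⟨T.map f, hTn.map f hf, hTp.map f, ?_⟩
  intro hd
  exact hTi (hd.trans (Subgroup.index_map_dvd T hf))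

theorem PClosed.normalizer_sylow {p : ℕ} [Fact p.Prime] {G : Type*} [Group G] [Finite G] (S : Sylow p G) :
    PClosed p ↥(Subgroup.normalizer ((S : Subgroup G) : Set G)) := by
  refine ⟨(S : Subgroup G).subgroupOf (Subgroup.normalizer ((S : Subgroup G) : Set G)),
    Subgroup.normal_in_normalizer, S.2.comap_subtype, ?_⟩
  intro hd
  have h1 : (S : Subgroup G).relIndex (Subgroup.normalizer ((S : Subgroup G) : Set G)) ∣ (S : Subgroup G).index :=
    Dvd.intro _ (Subgroup.relIndex_mul_index Subgroup.le_normalizer)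
  exact S.not_dvd_index (hd.trans h1)

/-- in a `p`-closed group the `p`-elements form a subgroup: two `p`-elements have a product of `p`-power order. -/
theorem PClosed.mem_of_pow_eq_one {p : ℕ} [Fact p.Prime] {H : Type*} [Group H] [Finite H]
    {T : Subgroup H} (hTn : T.Normal) (hTi : ¬ p ∣ T.index) {x : H} {k : ℕ} (hx : x ^ p ^ k = 1) : x ∈ T := by
  have := hTn
  rw [← QuotientGroup.eq_one_iff]
  have h1 : orderOf (x : H ⧸ T) ∣ p ^ k := by
    apply orderOf_dvd_of_pow_eq_one
    rw [← QuotientGroup.mk_pow, hx, QuotientGroup.mk_one]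
  have h2 : orderOf (x : H ⧸ T) ∣ T.index := by
    rw [Subgroup.index_eq_card]
    exact orderOf_dvd_natCard _
  have hcop : Nat.Coprime (p ^ k) T.index :=
    Nat.Coprime.pow_left k ((Nat.Prime.coprime_iff_not_dvd Fact.out).mpr hTi)
  have : orderOf (x : H ⧸ T) = 1 := Nat.eq_one_of_dvd_coprimes hcop h1 h2
  exact orderOf_eq_one_iff.mp this


/-- Main abstract theorem: if Sylow `p`-subgroups of `G` are TI (`PJoin`), then every section of `G`
having a nontrivial normal `p`-subgroup is `p`-closed. -/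
theorem PClosed.of_involves_of_PJoin {p : ℕ} [Fact p.Prime] {G : Type*} [Group G] [Finite G]
    (hG : PJoin p G) {H : Type*} [Group H] (hH : Cfsg.Involves H G) (V : Subgroup H)
    (hVn : V.Normal) (hVp : IsPGroup p V) (hV : V ≠ ⊥) : PClosed p H := by
  obtain ⟨K, R, hn, ⟨e⟩⟩ := hH
  let π : K →* H := e.toMonoidHom.comp (QuotientGroup.mk' (R.subgroupOf K))
  have hπ : Function.Surjective π := e.surjective.comp (QuotientGroup.mk'_surjective _)
  let A₀ : Subgroup K := V.comap π
  have hA₀n : A₀.Normal := hVn.comap π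
  let πA : A₀ →* V := π.subgroupComap V
  have hπA : Function.Surjective πA := π.subgroupComap_surjective_of_surjective V hπ
  obtain ⟨P₀⟩ : Nonempty (Sylow p A₀) := inferInstance
  -- the image of P₀ in V is everything
  have hPV : ∀ a : A₀, ∃ q ∈ (P₀ : Subgroup A₀), π (q : K) = π (a : K) := by
    intro a
    have hS : (⊤ : Subgroup V) = ((P₀.mapSurjective hπA : Sylow p V) : Subgroup V) :=
      (P₀.mapSurjective hπA).is_maximal' (hVp.to_subgroup ⊤) le_top
    have hmem : πA a ∈ ((P₀.mapSurjective hπA : Sylow p V) : Subgroup V) := by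
      rw [← hS]; trivial
    rw [Sylow.coe_mapSurjective] at hmem
    obtain ⟨q, hq, hqa⟩ := hmem
    exact ⟨q, hq, congrArg Subtype.val hqa⟩
  let Q : Subgroup K := (P₀ : Subgroup A₀).map A₀.subtype
  have hfr : Subgroup.normalizer (Q : Set K) ⊔ A₀ = ⊤ := Sylow.normalizer_sup_eq_top P₀
  have hN : ∀ h : H, ∃ n ∈ Subgroup.normalizer (Q : Set K), π n = h := by
    intro h
    obtain ⟨k, rfl⟩ := hπ h
    have hk : k ∈ ((Subgroup.normalizer (Q : Set K) ⊔ A₀ : Subgroup K) : Set K) := by rw [hfr]; trivial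
    rw [Subgroup.mul_normal] at hk
    obtain ⟨n, hn', a, ha, rfl⟩ := Set.mem_mul.mp hk
    obtain ⟨q, hq, hqa⟩ := hPV ⟨a, ha⟩
    refine ⟨n * q, mul_mem hn' (Subgroup.le_normalizer ⟨q, hq, rfl⟩), ?_⟩
    rw [map_mul, map_mul, hqa]
  have hQ1 : Q ≠ ⊥ := by
    intro hQ
    apply hV
    rw [Subgroup.eq_bot_iff_forall]
    intro v hv
    obtain ⟨a, ha⟩ := hπA ⟨v, hv⟩
    obtain ⟨q, hq, hqa⟩ := hPV a
    have hqQ : (q : K) ∈ Q := ⟨q, hq, rfl⟩
    rw [hQ, Subgroup.mem_bot] at hqQ
    have h1 : π (a : K) = v := congrArg Subtype.val ha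
    rw [← h1, ← hqa, hqQ, map_one]
  -- move to G
  let QG : Subgroup G := Q.map K.subtype
  have hQGp : IsPGroup p QG := (P₀.2.map A₀.subtype).map K.subtype
  have hQG1 : QG ≠ ⊥ := by
    intro h
    apply hQ1
    exact (Subgroup.map_eq_bot_iff_of_injective Q K.subtype_injective).mp h
  obtain ⟨S, hS⟩ := hQGp.exists_le_sylow
  have hNS : ∀ n : K, n ∈ Subgroup.normalizer (Q : Set K) → (n : G) ∈ Subgroup.normalizer ((S : Subgroup G) : Set G) := by
    intro n hn'
    apply (Sylow.smul_eq_iff_mem_normalizer (g := (n : G)) (P := S)).mp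
    have h1 : QG ≤ (((n : G) • S : Sylow p G) : Subgroup G) := by
      intro x hx
      rw [Sylow.coe_subgroup_smul, Subgroup.mem_pointwise_smul_iff_inv_smul_mem]
      apply hS
      obtain ⟨y, hy, rfl⟩ := hx
      have hn'' : n⁻¹ ∈ Subgroup.normalizer (Q : Set K) := inv_mem hn'
      have := (Subgroup.mem_normalizer_iff.mp hn'' y).mp hy
      refine ⟨n⁻¹ * y * n⁻¹⁻¹, this, ?_⟩
      simp [MulAut.smul_def]
    have h2 : (S : Subgroup G) ⊓ (((n : G) • S : Sylow p G) : Subgroup G) ≠ ⊥ := by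
      intro h
      apply hQG1
      exact le_bot_iff.mp (h ▸ le_inf hS h1)
    have h3 := hG S (((n : G) • S : Sylow p G) : Subgroup G) S.2 ((n : G) • S : Sylow p G).2 h2
    have h4 : (S : Subgroup G) ⊔ (((n : G) • S : Sylow p G) : Subgroup G) = S :=
      S.is_maximal' h3 le_sup_left
    have h5 : (((n : G) • S : Sylow p G) : Subgroup G) ≤ S := le_sup_right.trans h4.le
    exact Sylow.ext (((n : G) • S : Sylow p G).is_maximal' S.2 h5).symm
  let ι : Subgroup.normalizer (Q : Set K) →* Subgroup.normalizer ((S : Subgroup G) : Set G) :=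
    { toFun := fun n => ⟨((n : K) : G), hNS n n.2⟩
      map_one' := rfl
      map_mul' := fun _ _ => rfl }
  have hι : Function.Injective ι := by
    intro a b h
    have : ((a : K) : G) = ((b : K) : G) :=
      congrArg (fun x : Subgroup.normalizer ((S : Subgroup G) : Set G) => (x : G)) h
    exact Subtype.ext (Subtype.ext this)
  have hcl : PClosed p ↥(Subgroup.normalizer (Q : Set K)) := (PClosed.normalizer_sylow S).of_injective ι hι
  exact hcl.of_surjective (π.comp (Subgroup.normalizer (Q : Set K)).subtype) (fun h => by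
    obtain ⟨n, hn', rfl⟩ := hN h
    exact ⟨⟨n, hn'⟩, rfl⟩)

end Cfsg.Agent.Helper37
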