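import Mathlib
import Cfsg.Prelude.Def_LocalEven

set_option autoImplicit false

namespace Cfsg.Agent.Helper37

open Matrix

/-- every `p`-subgroup is commutative. -/
def PAb (p : ℕ) (G : Type*) [Group G] : Prop :=
  ∀ P : Subgroup G, IsPGroup p P → ∀ x ∈ P, ∀ y ∈ P, x * y = y * x

theorem PAb.subgroup {p : ℕ} {G : Type*} [Group G] (h : PAb p G) (H : Subgroup G) : PAb p H := by
  intro P hP x hx y hy
  have hP' : IsPGroup p (P.map H.subtype) := hP.map H.subtype
  have := h (P.map H.subtype) hP' x ⟨x, hx, rfl⟩ y ⟨y, hy, rfl⟩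
  exact Subtype.ext this

theorem PAb.of_surjective {p : ℕ} [Fact p.Prime] {G G' : Type*} [Group G] [Group G'] [Finite G]
    (h : PAb p G) (f : G →* G') (hf : Function.Surjective f) : PAb p G' := by
  intro Q hQ x hx y hy
  obtain ⟨P', hP'⟩ := hQ.exists_le_sylow
  obtain ⟨P, rfl⟩ := Sylow.mapSurjective_surjective hf p P'
  rw [Sylow.coe_mapSurjective] at hP'
  obtain ⟨a, ha, rfl⟩ := hP' hx
  obtain ⟨b, hb, rfl⟩ := hP' hy
  rw [← map_mul, ← map_mul, h P P.2 a ha b hb]

theorem PAb.of_involves {p : ℕ} [Fact p.Prime] {G : Type*} [Group G] [Finite G] {H : Type*} [Group H]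
    (h : PAb p G) (hH : Cfsg.Involves H G) : PAb p H := by
  obtain ⟨K, R, hn, ⟨e⟩⟩ := hH
  have h1 : PAb p K := h.subgroup K
  have h2 : PAb p (K ⧸ R.subgroupOf K) :=
    h1.of_surjective (QuotientGroup.mk' (R.subgroupOf K)) (QuotientGroup.mk'_surjective _)
  exact h2.of_surjective e.toMonoidHom e.surjective

/-- two determinant-one `2 × 2` matrices fixing a common nonzero vector commute. -/
theorem commute_of_fix_common_vector {K : Type*} [Field K] (A B : Matrix (Fin 2) (Fin 2) K)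
    (hA : A.det = 1) (hB : B.det = 1) (v : Fin 2 → K) (hv : v ≠ 0)
    (hAv : A.mulVec v = v) (hBv : B.mulVec v = v) : A * B = B * A := by
  rw [Matrix.det_fin_two] at hA hB
  have hA0 := congrFun hAv 0
  have hA1 := congrFun hAv 1
  have hB0 := congrFun hBv 0
  have hB1 := congrFun hBv 1
  simp only [Matrix.mulVec, dotProduct, Fin.sum_univ_two] at hA0 hA1 hB0 hB1
  rw [Matrix.eta_fin_two A, Matrix.eta_fin_two B]
  generalize A 0 0 = a at *
  generalize A 0 1 = b at *
  generalize A 1 0 = c at *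
  generalize A 1 1 = d at *
  generalize B 0 0 = a' at *
  generalize B 0 1 = b' at *
  generalize B 1 0 = c' at *
  generalize B 1 1 = d' at *
  by_cases h0 : v 0 = 0
  · have h1 : v 1 ≠ 0 := by
      intro h1
      apply hv
      funext i
      fin_cases i
      · exact h0
      · exact h1
    rw [h0] at hA0 hA1 hB0 hB1
    simp only [mul_zero, zero_add] at hA0 hA1 hB0 hB1
    have hb : b = 0 := by
      rcases mul_eq_zero.mp hA0 with h | h
      · exact h
      · exact absurd h h1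
    have hb' : b' = 0 := by
      rcases mul_eq_zero.mp hB0 with h | h
      · exact h
      · exact absurd h h1
    have hd : d = 1 := by
      have : (d - 1) * v 1 = 0 := by linear_combination hA1
      rcases mul_eq_zero.mp this with h | h
      · linear_combination h
      · exact absurd h h1
    have hd' : d' = 1 := by
      have : (d' - 1) * v 1 = 0 := by linear_combination hB1
      rcases mul_eq_zero.mp this with h | h
      · linear_combination h
      · exact absurd h h1
    subst hb hb' hd hd'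
    have ha : a = 1 := by linear_combination hA
    have ha' : a' = 1 := by linear_combination hB
    subst ha ha'
    ext i j
    fin_cases i <;> fin_cases j <;> simp [Matrix.mul_apply, Fin.sum_univ_two] <;> ring
  · set l := v 1 / v 0 with hl
    have hv1 : v 1 = l * v 0 := by rw [hl]; field_simp
    rw [hv1] at hA0 hA1 hB0 hB1
    have ha : a = 1 - b * l := by
      have : (a - (1 - b * l)) * v 0 = 0 := by linear_combination hA0
      rcases mul_eq_zero.mp this with h | h
      · linear_combination h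
      · exact absurd h h0
    have ha' : a' = 1 - b' * l := by
      have : (a' - (1 - b' * l)) * v 0 = 0 := by linear_combination hB0
      rcases mul_eq_zero.mp this with h | h
      · linear_combination h
      · exact absurd h h0
    have hc : c = (1 - d) * l := by
      have : (c - (1 - d) * l) * v 0 = 0 := by linear_combination hA1
      rcases mul_eq_zero.mp this with h | h
      · linear_combination h
      · exact absurd h h0
    have hc' : c' = (1 - d') * l := by
      have : (c' - (1 - d') * l) * v 0 = 0 := by linear_combination hB1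
      rcases mul_eq_zero.mp this with h | h
      · linear_combination h
      · exact absurd h h0
    subst ha ha' hc hc'
    have hd : d = 1 + b * l := by linear_combination hA
    have hd' : d' = 1 + b' * l := by linear_combination hB
    subst hd hd'
    ext i j
    fin_cases i <;> fin_cases j <;> simp [Matrix.mul_apply, Fin.sum_univ_two] <;> ring

theorem SL2_pgroup_comm {K : Type*} [Field K] [Fintype K] {p : ℕ} [Fact p.Prime] [CharP K p]
    (P : Subgroup (Matrix.SpecialLinearGroup (Fin 2) K)) (hP : IsPGroup p P) :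
    ∀ x ∈ P, ∀ y ∈ P, x * y = y * x := by
  classical
  let act : MulAction P (Fin 2 → K) :=
    { smul := fun g v => ((g : Matrix.SpecialLinearGroup (Fin 2) K) : Matrix (Fin 2) (Fin 2) K).mulVec v
      one_smul := fun v => by
        show ((1 : P) : Matrix.SpecialLinearGroup (Fin 2) K).1.mulVec v = v
        simp
      mul_smul := fun g h v => by
        show ((g * h : P) : Matrix.SpecialLinearGroup (Fin 2) K).1.mulVec v =
          (g : Matrix.SpecialLinearGroup (Fin 2) K).1.mulVec ((h : Matrix.SpecialLinearGroup (Fin 2) K).1.mulVec v)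
        rw [Matrix.mulVec_mulVec, Subgroup.coe_mul, Matrix.SpecialLinearGroup.coe_mul] }
  have hdvd : p ∣ Nat.card (Fin 2 → K) := by
    obtain ⟨n, -, hn⟩ := FiniteField.card K p
    rw [Nat.card_eq_fintype_card, Fintype.card_fun, hn, Fintype.card_fin]
    exact dvd_pow (dvd_pow_self p n.ne_zero) (by norm_num)
  have h0 : (0 : Fin 2 → K) ∈ MulAction.fixedPoints P (Fin 2 → K) := by
    intro g
    show (g : Matrix.SpecialLinearGroup (Fin 2) K).1.mulVec 0 = 0
    simp
  obtain ⟨v, hv, hv0⟩ := hP.exists_fixed_point_of_prime_dvd_card_of_fixed_point (Fin 2 → K) hdvd h0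
  intro x hx y hy
  have hxv : x.1.mulVec v = v := hv ⟨x, hx⟩
  have hyv : y.1.mulVec v = v := hv ⟨y, hy⟩
  apply Subtype.ext
  show x.1 * y.1 = y.1 * x.1
  exact commute_of_fix_common_vector x.1 y.1 x.2 y.2 v (Ne.symm hv0) hxv hyv

/-- the cube of a strictly upper triangular `3 × 3` matrix vanishes. -/
theorem cube_eq_zero_of_strictUpper {R : Type*} [CommRing R] (N : Matrix (Fin 3) (Fin 3) R)
    (h00 : N 0 0 = 0) (h10 : N 1 0 = 0) (h11 : N 1 1 = 0) (h20 : N 2 0 = 0) (h21 : N 2 1 = 0)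
    (h22 : N 2 2 = 0) : N * N * N = 0 := by
  ext i j
  fin_cases i <;> fin_cases j <;>
    simp [Matrix.mul_apply, Fin.sum_univ_three, h00, h10, h11, h20, h21, h22]

/-- upper unitriangular matrices in `SL₃(𝔽_p)` -/
def IsUni3 {p : ℕ} (M : Matrix.SpecialLinearGroup (Fin 3) (ZMod p)) : Prop :=
  M.1 0 0 = 1 ∧ M.1 1 0 = 0 ∧ M.1 1 1 = 1 ∧ M.1 2 0 = 0 ∧ M.1 2 1 = 0 ∧ M.1 2 2 = 1

theorem IsUni3.mul {p : ℕ} {M M' : Matrix.SpecialLinearGroup (Fin 3) (ZMod p)} (h : IsUni3 M) (h' : IsUni3 M') :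
    IsUni3 (M * M') := by
  obtain ⟨h00, h10, h11, h20, h21, h22⟩ := h
  obtain ⟨h00', h10', h11', h20', h21', h22'⟩ := h'
  unfold IsUni3
  rw [Matrix.SpecialLinearGroup.coe_mul]
  simp [Matrix.mul_apply, Fin.sum_univ_three, h00, h10, h11, h20, h21, h22, h00', h10', h11', h20', h21', h22']

theorem IsUni3.pow_p {p : ℕ} [Fact p.Prime] (hp : p ≠ 2) {M : Matrix.SpecialLinearGroup (Fin 3) (ZMod p)}
    (h : IsUni3 M) : M ^ p = 1 := by
  obtain ⟨h00, h10, h11, h20, h21, h22⟩ := h
  apply Subtype.ext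
  rw [Matrix.SpecialLinearGroup.coe_pow, Matrix.SpecialLinearGroup.coe_one]
  have hM : M.1 = 1 + (M.1 - 1) := by abel
  have hcube : (M.1 - 1) * (M.1 - 1) * (M.1 - 1) = 0 := by
    apply cube_eq_zero_of_strictUpper <;> simp [h00, h10, h11, h20, h21, h22]
  have hp3 : 3 ≤ p := by
    have := (Fact.out : p.Prime).two_le
    omega
  have hNp : (M.1 - 1) ^ p = 0 := by
    have h3 : (M.1 - 1) ^ 3 = 0 := by rw [pow_succ, pow_two, hcube]
    exact pow_eq_zero_of_le hp3 h3
  rw [hM, add_pow_char_of_commute _ (Commute.one_left _), one_pow, hNp, add_zero]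


theorem IsUni3.one {p : ℕ} : IsUni3 (1 : Matrix.SpecialLinearGroup (Fin 3) (ZMod p)) := by
  unfold IsUni3
  rw [Matrix.SpecialLinearGroup.coe_one]
  simp

theorem IsUni3.pow {p : ℕ} {M : Matrix.SpecialLinearGroup (Fin 3) (ZMod p)} (h : IsUni3 M) (k : ℕ) :
    IsUni3 (M ^ k) := by
  induction k with
  | zero => rw [pow_zero]; exact IsUni3.one
  | succ k ih => rw [pow_succ]; exact ih.mul h

/-- The group of upper unitriangular matrices in `SL₃(𝔽_p)`, `p` odd. -/
def uni3 (p : ℕ) [Fact p.Prime] (hp : p ≠ 2) : Subgroup (Matrix.SpecialLinearGroup (Fin 3) (ZMod p)) where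
  carrier := {M | IsUni3 M}
  mul_mem' := fun h h' => h.mul h'
  one_mem' := IsUni3.one
  inv_mem' := fun {M} h => by
    have h1 : M ^ p = 1 := h.pow_p hp
    have hp1 : 1 ≤ p := (Fact.out : p.Prime).one_le
    have : M⁻¹ = M ^ (p - 1) := by
      apply inv_eq_of_mul_eq_one_right
      rw [← pow_succ', Nat.sub_add_cancel hp1, h1]
    rw [this]
    exact h.pow _

theorem uni3_isPGroup (p : ℕ) [Fact p.Prime] (hp : p ≠ 2) : IsPGroup p (uni3 p hp) := by
  intro g
  refine ⟨1, ?_⟩
  apply Subtype.ext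
  rw [pow_one, Subgroup.coe_pow, Subgroup.coe_one]
  exact IsUni3.pow_p hp g.2

/-- `x = 1 + E₀₁` -/
def qdX (p : ℕ) : Matrix.SpecialLinearGroup (Fin 3) (ZMod p) :=
  ⟨!![1, 1, 0; 0, 1, 0; 0, 0, 1], by simp [Matrix.det_fin_three]⟩

/-- `y = 1 + E₁₂` -/
def qdY (p : ℕ) : Matrix.SpecialLinearGroup (Fin 3) (ZMod p) :=
  ⟨!![1, 0, 0; 0, 1, 1; 0, 0, 1], by simp [Matrix.det_fin_three]⟩

theorem qdX_coe (p : ℕ) : ((qdX p : Matrix.SpecialLinearGroup (Fin 3) (ZMod p)) :
    Matrix (Fin 3) (Fin 3) (ZMod p)) = !![1, 1, 0; 0, 1, 0; 0, 0, 1] := rfl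

theorem qdY_coe (p : ℕ) : ((qdY p : Matrix.SpecialLinearGroup (Fin 3) (ZMod p)) :
    Matrix (Fin 3) (Fin 3) (ZMod p)) = !![1, 0, 0; 0, 1, 1; 0, 0, 1] := rfl

theorem qdX_mem_qd (p : ℕ) : qdX p ∈ Cfsg.qd p := by
  apply Subgroup.subset_closure
  show (qdX p).1 2 0 = 0 ∧ (qdX p).1 2 1 = 0 ∧ (qdX p).1 2 2 = 1
  simp [qdX_coe]

theorem qdY_mem_qd (p : ℕ) : qdY p ∈ Cfsg.qd p := by
  apply Subgroup.subset_closure
  show (qdY p).1 2 0 = 0 ∧ (qdY p).1 2 1 = 0 ∧ (qdY p).1 2 2 = 1
  simp [qdY_coe]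

theorem qdX_isUni3 (p : ℕ) : IsUni3 (qdX p) := by
  unfold IsUni3
  simp [qdX_coe]

theorem qdY_isUni3 (p : ℕ) : IsUni3 (qdY p) := by
  unfold IsUni3
  simp [qdY_coe]

theorem qdX_qdY_ne (p : ℕ) [Fact p.Prime] : qdX p * qdY p ≠ qdY p * qdX p := by
  intro h
  have h1 := congrArg (fun M : Matrix.SpecialLinearGroup (Fin 3) (ZMod p) => M.1 0 2) h
  simp only [Matrix.SpecialLinearGroup.coe_mul, qdX_coe, qdY_coe] at h1
  simp [Matrix.mul_apply, Fin.sum_univ_three] at h1


theorem not_PAb_qd (p : ℕ) [Fact p.Prime] (hp : p ≠ 2) : ¬ PAb p (Cfsg.qd p) := by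
  intro h
  have hP : IsPGroup p ((uni3 p hp).subgroupOf (Cfsg.qd p)) := (uni3_isPGroup p hp).comap_subtype
  have hx : (⟨qdX p, qdX_mem_qd p⟩ : Cfsg.qd p) ∈ (uni3 p hp).subgroupOf (Cfsg.qd p) := by
    rw [Subgroup.mem_subgroupOf]
    exact qdX_isUni3 p
  have hy : (⟨qdY p, qdY_mem_qd p⟩ : Cfsg.qd p) ∈ (uni3 p hp).subgroupOf (Cfsg.qd p) := by
    rw [Subgroup.mem_subgroupOf]
    exact qdY_isUni3 p
  have := h _ hP _ hx _ hy
  exact qdX_qdY_ne p (congrArg Subtype.val this)

theorem PAb_SL2 {K : Type*} [Field K] [Fintype K] {p : ℕ} [Fact p.Prime] [CharP K p] :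
    PAb p (Matrix.SpecialLinearGroup (Fin 2) K) := fun P hP => SL2_pgroup_comm P hP

theorem PAb_PSL2 {K : Type*} [Field K] [Fintype K] {p : ℕ} [Fact p.Prime] [CharP K p] :
    PAb p (Matrix.ProjectiveSpecialLinearGroup (Fin 2) K) := by
  classical
  exact PAb_SL2.of_surjective (QuotientGroup.mk' _) (QuotientGroup.mk'_surjective _)

end Cfsg.Agent.Helper37
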