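import Mathlib
import Cfsg.Prelude.Def_LocalEven
import Cfsg.Agent.Helper37.QdFree
import Cfsg.Agent.Helper37.PClosed

set_option autoImplicit false

namespace Cfsg.Agent.Helper37

open Matrix

/-- matrices in `SL₃` with last row `(0,0,1)` -/
def qdL (p : ℕ) : Subgroup (Matrix.SpecialLinearGroup (Fin 3) (ZMod p)) where
  carrier := {M | M.1 2 0 = 0 ∧ M.1 2 1 = 0 ∧ M.1 2 2 = 1}
  mul_mem' := fun {a b} ha hb => by
    obtain ⟨a0, a1, a2⟩ := ha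
    obtain ⟨b0, b1, b2⟩ := hb
    show (a * b).1 2 0 = 0 ∧ (a * b).1 2 1 = 0 ∧ (a * b).1 2 2 = 1
    rw [Matrix.SpecialLinearGroup.coe_mul]
    simp [Matrix.mul_apply, Fin.sum_univ_three, a0, a1, a2, b0, b1, b2]
  one_mem' := by
    show (1 : Matrix.SpecialLinearGroup (Fin 3) (ZMod p)).1 2 0 = 0 ∧ _
    rw [Matrix.SpecialLinearGroup.coe_one]
    simp
  inv_mem' := fun {a} ha => by
    obtain ⟨a0, a1, a2⟩ := ha
    show (a⁻¹).1 2 0 = 0 ∧ (a⁻¹).1 2 1 = 0 ∧ (a⁻¹).1 2 2 = 1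
    have h : a.1 * (a⁻¹).1 = 1 := by
      rw [← Matrix.SpecialLinearGroup.coe_mul, mul_inv_cancel, Matrix.SpecialLinearGroup.coe_one]
    have h0 := congrFun (congrFun h 2) 0
    have h1 := congrFun (congrFun h 2) 1
    have h2 := congrFun (congrFun h 2) 2
    simp only [Matrix.mul_apply, Fin.sum_univ_three, a0, a1, a2, zero_mul, one_mul, zero_add] at h0 h1 h2
    refine ⟨?_, ?_, ?_⟩
    · simpa using h0
    · simpa using h1
    · simpa using h2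

theorem qd_le_qdL (p : ℕ) : Cfsg.qd p ≤ qdL p := by
  unfold Cfsg.qd
  rw [Subgroup.closure_le]
  intro M hM
  exact hM

/-- the upper-left block as a homomorphism on `qdL`. -/
def qdBlock (p : ℕ) : qdL p →* Matrix (Fin 2) (Fin 2) (ZMod p) where
  toFun g := !![g.1.1 0 0, g.1.1 0 1; g.1.1 1 0, g.1.1 1 1]
  map_one' := by
    show !![(1 : Matrix.SpecialLinearGroup (Fin 3) (ZMod p)).1 0 0, _; _, _] = 1
    rw [Matrix.SpecialLinearGroup.coe_one]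
    ext i j
    fin_cases i <;> fin_cases j <;> simp
  map_mul' := fun a b => by
    obtain ⟨b0, b1, b2⟩ := b.2
    show !![(a.1 * b.1).1 0 0, (a.1 * b.1).1 0 1; (a.1 * b.1).1 1 0, (a.1 * b.1).1 1 1] = _
    rw [Matrix.SpecialLinearGroup.coe_mul]
    ext i j
    fin_cases i <;> fin_cases j <;>
      simp [Matrix.mul_apply, Fin.sum_univ_three, Fin.sum_univ_two, b0, b1]


/-- the translation subgroup of `Qd(p)`. -/
def qdV (p : ℕ) : Subgroup (Cfsg.qd p) :=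
  ((qdBlock p).comp (Subgroup.inclusion (qd_le_qdL p))).ker

theorem qdV_normal (p : ℕ) : (qdV p).Normal := MonoidHom.normal_ker _

theorem mem_qdV_isUni3 {p : ℕ} {g : Cfsg.qd p} (hg : g ∈ qdV p) : IsUni3 g.1 := by
  have hL := qd_le_qdL p g.2
  obtain ⟨l0, l1, l2⟩ := hL
  have hb : !![g.1.1 0 0, g.1.1 0 1; g.1.1 1 0, g.1.1 1 1] = (1 : Matrix (Fin 2) (Fin 2) (ZMod p)) := hg
  have h00 := congrFun (congrFun hb 0) 0
  have h10 := congrFun (congrFun hb 1) 0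
  have h11 := congrFun (congrFun hb 1) 1
  simp at h00 h10 h11
  exact ⟨h00, h10, h11, l0, l1, l2⟩

theorem qdV_isPGroup (p : ℕ) [Fact p.Prime] (hp : p ≠ 2) : IsPGroup p (qdV p) := by
  intro g
  refine ⟨1, ?_⟩
  apply Subtype.ext
  apply Subtype.ext
  rw [pow_one]
  simp only [Subgroup.coe_pow, Subgroup.coe_one]
  exact (mem_qdV_isUni3 g.2).pow_p hp

/-- `z = 1 + E₀₂` -/
def qdZ (p : ℕ) : Matrix.SpecialLinearGroup (Fin 3) (ZMod p) :=
  ⟨!![1, 0, 1; 0, 1, 0; 0, 0, 1], by simp [Matrix.det_fin_three]⟩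

theorem qdZ_coe (p : ℕ) : ((qdZ p : Matrix.SpecialLinearGroup (Fin 3) (ZMod p)) :
    Matrix (Fin 3) (Fin 3) (ZMod p)) = !![1, 0, 1; 0, 1, 0; 0, 0, 1] := rfl

theorem qdZ_mem_qd (p : ℕ) : qdZ p ∈ Cfsg.qd p := by
  apply Subgroup.subset_closure
  show (qdZ p).1 2 0 = 0 ∧ (qdZ p).1 2 1 = 0 ∧ (qdZ p).1 2 2 = 1
  simp [qdZ_coe]

theorem qdV_ne_bot (p : ℕ) [Fact p.Prime] : qdV p ≠ ⊥ := by
  intro h
  have hz : (⟨qdZ p, qdZ_mem_qd p⟩ : Cfsg.qd p) ∈ qdV p := by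
    show !![(qdZ p).1 0 0, (qdZ p).1 0 1; (qdZ p).1 1 0, (qdZ p).1 1 1] = (1 : Matrix (Fin 2) (Fin 2) (ZMod p))
    rw [qdZ_coe]
    ext i j
    fin_cases i <;> fin_cases j <;> simp
  rw [h, Subgroup.mem_bot] at hz
  have h1 := congrArg (fun g : Cfsg.qd p => g.1.1 0 2) hz
  simp only [qdZ_coe] at h1
  rw [Subgroup.coe_one, Matrix.SpecialLinearGroup.coe_one] at h1
  simp at h1


/-- `y = 1 - E₁₀` -/
def qdYm (p : ℕ) : Matrix.SpecialLinearGroup (Fin 3) (ZMod p) :=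
  ⟨!![1, 0, 0; -1, 1, 0; 0, 0, 1], by simp [Matrix.det_fin_three]⟩

theorem qdYm_coe (p : ℕ) : ((qdYm p : Matrix.SpecialLinearGroup (Fin 3) (ZMod p)) :
    Matrix (Fin 3) (Fin 3) (ZMod p)) = !![1, 0, 0; -1, 1, 0; 0, 0, 1] := rfl

theorem qdYm_mem_qd (p : ℕ) : qdYm p ∈ Cfsg.qd p := by
  apply Subgroup.subset_closure
  show (qdYm p).1 2 0 = 0 ∧ (qdYm p).1 2 1 = 0 ∧ (qdYm p).1 2 2 = 1
  simp [qdYm_coe]

/-- `m = diag(-1,-1,1)` -/
def qdM (p : ℕ) : Matrix.SpecialLinearGroup (Fin 3) (ZMod p) :=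
  ⟨!![-1, 0, 0; 0, -1, 0; 0, 0, 1], by simp [Matrix.det_fin_three]⟩

theorem qdM_coe (p : ℕ) : ((qdM p : Matrix.SpecialLinearGroup (Fin 3) (ZMod p)) :
    Matrix (Fin 3) (Fin 3) (ZMod p)) = !![-1, 0, 0; 0, -1, 0; 0, 0, 1] := rfl

theorem qdX_mul_qdYm_cube (p : ℕ) : (qdX p * qdYm p) ^ 3 = qdM p := by
  apply Subtype.ext
  rw [Matrix.SpecialLinearGroup.coe_pow, Matrix.SpecialLinearGroup.coe_mul, qdX_coe, qdYm_coe, qdM_coe]
  ext i j
  fin_cases i <;> fin_cases j <;>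
    simp [pow_succ, Matrix.mul_apply, Fin.sum_univ_three]

theorem qdM_mul_self (p : ℕ) : qdM p * qdM p = 1 := by
  apply Subtype.ext
  rw [Matrix.SpecialLinearGroup.coe_mul, qdM_coe, Matrix.SpecialLinearGroup.coe_one]
  ext i j
  fin_cases i <;> fin_cases j <;>
    simp [Matrix.mul_apply, Fin.sum_univ_three]

theorem qdM_ne_one (p : ℕ) [Fact p.Prime] (hp : p ≠ 2) : qdM p ≠ 1 := by
  intro h
  have h1 := congrArg (fun g : Matrix.SpecialLinearGroup (Fin 3) (ZMod p) => g.1 0 0) h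
  simp only [qdM_coe] at h1
  rw [Matrix.SpecialLinearGroup.coe_one] at h1
  simp at h1
  -- h1 : -1 = 1 in ZMod p
  have h2 : (2 : ZMod p) = 0 := by linear_combination -h1
  have h3 : ((2 : ℕ) : ZMod p) = 0 := by exact_mod_cast h2
  rw [ZMod.natCast_eq_zero_iff] at h3
  have := (Nat.prime_dvd_prime_iff_eq (Fact.out : p.Prime) Nat.prime_two).mp h3
  exact hp this

theorem qdYm_pow_p (p : ℕ) [Fact p.Prime] : qdYm p ^ p = 1 := by
  apply Subtype.ext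
  rw [Matrix.SpecialLinearGroup.coe_pow, Matrix.SpecialLinearGroup.coe_one]
  have hM : (qdYm p).1 = 1 + ((qdYm p).1 - 1) := by abel
  have hsq : ((qdYm p).1 - 1) * ((qdYm p).1 - 1) = 0 := by
    rw [qdYm_coe]
    ext i j
    fin_cases i <;> fin_cases j <;>
      simp [Matrix.mul_apply, Fin.sum_univ_three]
  have hp2 : 2 ≤ p := (Fact.out : p.Prime).two_le
  have hNp : ((qdYm p).1 - 1) ^ p = 0 := by
    have h2 : ((qdYm p).1 - 1) ^ 2 = 0 := by rw [pow_two, hsq]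
    exact pow_eq_zero_of_le hp2 h2
  rw [hM, add_pow_char_of_commute _ (Commute.one_left _), one_pow, hNp, add_zero]

theorem not_PClosed_qd (p : ℕ) [Fact p.Prime] (hp : p ≠ 2) : ¬ PClosed p (Cfsg.qd p) := by
  rintro ⟨T, hTn, hTp, hTi⟩
  have hx : (⟨qdX p, qdX_mem_qd p⟩ : Cfsg.qd p) ∈ T := by
    apply PClosed.mem_of_pow_eq_one hTn hTi (k := 1)
    apply Subtype.ext
    rw [pow_one, Subgroup.coe_pow, Subgroup.coe_one]
    exact (qdX_isUni3 p).pow_p hp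
  have hy : (⟨qdYm p, qdYm_mem_qd p⟩ : Cfsg.qd p) ∈ T := by
    apply PClosed.mem_of_pow_eq_one hTn hTi (k := 1)
    apply Subtype.ext
    rw [pow_one, Subgroup.coe_pow, Subgroup.coe_one]
    exact qdYm_pow_p p
  have hm : ((⟨qdX p, qdX_mem_qd p⟩ : Cfsg.qd p) * ⟨qdYm p, qdYm_mem_qd p⟩) ^ 3 ∈ T :=
    pow_mem (mul_mem hx hy) 3
  obtain ⟨k, hk⟩ := hTp ⟨_, hm⟩
  have hk' : (qdM p) ^ (p ^ k) = 1 := by
    have := congrArg (fun t : T => ((t : Cfsg.qd p) : Matrix.SpecialLinearGroup (Fin 3) (ZMod p))) hk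
    simp only [Subgroup.coe_pow, Subgroup.coe_mul, Subgroup.coe_one] at this
    rw [qdX_mul_qdYm_cube] at this
    exact this
  have hodd : Odd (p ^ k) := Odd.pow ((Fact.out : p.Prime).odd_of_ne_two hp)
  obtain ⟨j, hj⟩ := hodd
  rw [hj, pow_succ, pow_mul, pow_two, qdM_mul_self, one_pow, one_mul] at hk'
  exact qdM_ne_one p hp hk'

end Cfsg.Agent.Helper37
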