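import Mathlib
import Cfsg.Prelude.Def_PLocal
import Cfsg.Prelude.Def_Transfer
import Cfsg.Agent.Helper5.ProjLine
import Cfsg.Agent.Helper37.QdStruct
import Cfsg.Agent.Helper37.ExtraP3

set_option autoImplicit false

namespace Cfsg.Agent.Helper37

open Matrix

theorem qd_eq_qdL (p : ℕ) : Cfsg.qd p = qdL p :=
  le_antisymm (qd_le_qdL p) (fun _ hM => Subgroup.subset_closure hM)

/-- `qdL p` is parametrised by `SL₂(p) × 𝔽_p × 𝔽_p`. -/
def qdLEquiv (p : ℕ) : qdL p ≃ SpecialLinearGroup (Fin 2) (ZMod p) × (ZMod p × ZMod p) where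
  toFun g := (⟨!![g.1.1 0 0, g.1.1 0 1; g.1.1 1 0, g.1.1 1 1], by
      obtain ⟨h0, h1, h2⟩ := g.2
      have hd := g.1.2
      rw [Matrix.det_fin_three, h0, h1, h2] at hd
      rw [Matrix.det_fin_two]
      simp only [Matrix.of_apply, Matrix.cons_val', Matrix.cons_val_zero, Matrix.cons_val_one]
      linear_combination hd⟩, (g.1.1 0 2, g.1.1 1 2))
  invFun x := ⟨⟨!![x.1.1 0 0, x.1.1 0 1, x.2.1; x.1.1 1 0, x.1.1 1 1, x.2.2; 0, 0, 1], by
      have hd := x.1.2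
      rw [Matrix.det_fin_two] at hd
      rw [Matrix.det_fin_three]
      simp
      linear_combination hd⟩, by
      show _ ∧ _ ∧ _
      simp⟩
  left_inv := by
    rintro ⟨⟨g, hg⟩, h0, h1, h2⟩
    change g 2 0 = 0 at h0
    change g 2 1 = 0 at h1
    change g 2 2 = 1 at h2
    apply Subtype.ext
    apply Subtype.ext
    ext i j
    fin_cases i <;> fin_cases j <;> simp [h0, h1, h2]
  right_inv := by
    rintro ⟨⟨A, hA⟩, a, b⟩
    refine Prod.ext (Subtype.ext ?_) (Prod.ext ?_ ?_)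
    · ext i j
      fin_cases i <;> fin_cases j <;> simp
    · simp
    · simp

theorem card_qd (p : ℕ) [Fact p.Prime] : Nat.card (Cfsg.qd p) = p ^ 3 * (p ^ 2 - 1) := by
  rw [qd_eq_qdL, Nat.card_congr (qdLEquiv p), Nat.card_prod, Nat.card_prod,
    Cfsg.Agent.Helper5.card_SL2, Nat.card_eq_fintype_card, ZMod.card]
  ring


/-- upper unitriangular `3 × 3` matrices are parametrised by `𝔽_p³`. -/
def uni3Equiv (p : ℕ) [Fact p.Prime] (hp : p ≠ 2) : uni3 p hp ≃ ZMod p × ZMod p × ZMod p where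
  toFun g := (g.1.1 0 1, g.1.1 0 2, g.1.1 1 2)
  invFun x := ⟨⟨!![1, x.1, x.2.1; 0, 1, x.2.2; 0, 0, 1], by simp [Matrix.det_fin_three]⟩, by
    show IsUni3 _
    unfold IsUni3
    simp⟩
  left_inv := by
    rintro ⟨⟨g, hg⟩, h00, h10, h11, h20, h21, h22⟩
    change g 0 0 = 1 at h00
    change g 1 0 = 0 at h10
    change g 1 1 = 1 at h11
    change g 2 0 = 0 at h20
    change g 2 1 = 0 at h21
    change g 2 2 = 1 at h22
    apply Subtype.ext
    apply Subtype.ext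
    ext i j
    fin_cases i <;> fin_cases j <;> simp [h00, h10, h11, h20, h21, h22]
  right_inv := by
    rintro ⟨a, b, c⟩
    simp

theorem card_uni3 (p : ℕ) [Fact p.Prime] (hp : p ≠ 2) : Nat.card (uni3 p hp) = p ^ 3 := by
  rw [Nat.card_congr (uni3Equiv p hp), Nat.card_prod, Nat.card_prod, Nat.card_eq_fintype_card,
    ZMod.card]
  ring

theorem uni3_le_qd (p : ℕ) [Fact p.Prime] (hp : p ≠ 2) : uni3 p hp ≤ Cfsg.qd p := by
  rw [qd_eq_qdL]
  rintro M ⟨_, _, _, h20, h21, h22⟩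
  exact ⟨h20, h21, h22⟩

/-- the unitriangular subgroup of `Qd(p)` -/
def qdU (p : ℕ) [Fact p.Prime] (hp : p ≠ 2) : Subgroup (Cfsg.qd p) := (uni3 p hp).subgroupOf (Cfsg.qd p)

theorem card_qdU (p : ℕ) [Fact p.Prime] (hp : p ≠ 2) : Nat.card (qdU p hp) = p ^ 3 := by
  rw [qdU, Nat.card_congr (Subgroup.subgroupOfEquivOfLe (uni3_le_qd p hp)).toEquiv, card_uni3]

theorem not_dvd_sq_sub_one (p : ℕ) [Fact p.Prime] : ¬ p ∣ p ^ 2 - 1 := by
  have hp : p.Prime := Fact.out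
  intro h
  have h2 : p ∣ p ^ 2 := dvd_pow_self p two_ne_zero
  have h3 : 1 ≤ p ^ 2 := Nat.one_le_pow _ _ hp.pos
  have := Nat.dvd_sub h2 h
  have h1 : p ^ 2 - (p ^ 2 - 1) = 1 := by omega
  rw [h1] at this
  exact hp.one_lt.ne' (Nat.dvd_one.1 this)

theorem index_qdU (p : ℕ) [Fact p.Prime] (hp : p ≠ 2) : (qdU p hp).index = p ^ 2 - 1 := by
  have h := Subgroup.card_mul_index (qdU p hp)
  rw [card_qdU, card_qd] at h
  exact Nat.eq_of_mul_eq_mul_left (pow_pos (Fact.out : p.Prime).pos 3) h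

/-- the unitriangular subgroup as a Sylow `p`-subgroup of `Qd(p)` -/
noncomputable def qdSyl (p : ℕ) [Fact p.Prime] (hp : p ≠ 2) : Sylow p (Cfsg.qd p) :=
  (IsPGroup.of_card (card_qdU p hp)).toSylow (by rw [index_qdU]; exact not_dvd_sq_sub_one p)

theorem coe_qdSyl (p : ℕ) [Fact p.Prime] (hp : p ≠ 2) : (qdSyl p hp).toSubgroup = qdU p hp := rfl

theorem qdU_pow (p : ℕ) [Fact p.Prime] (hp : p ≠ 2) (x : qdU p hp) : x ^ p = 1 := by
  apply Subtype.ext
  apply Subtype.ext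
  simp only [Subgroup.coe_pow, Subgroup.coe_one]
  exact IsUni3.pow_p hp (Subgroup.mem_subgroupOf.1 x.2)

theorem qdU_noncomm (p : ℕ) [Fact p.Prime] (hp : p ≠ 2) : ∃ x y : qdU p hp, x * y ≠ y * x := by
  refine ⟨⟨⟨qdX p, qdX_mem_qd p⟩, Subgroup.mem_subgroupOf.2 (qdX_isUni3 p)⟩,
    ⟨⟨qdY p, qdY_mem_qd p⟩, Subgroup.mem_subgroupOf.2 (qdY_isUni3 p)⟩, ?_⟩
  intro h
  apply qdX_qdY_ne p
  have := congrArg (fun g : qdU p hp => g.1.1) h
  simpa using this

theorem props_of_equiv (p : ℕ) [Fact p.Prime] (hp : p ≠ 2) {Q : Type*} [Group Q]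
    (e : qdU p hp ≃* Q) :
    Cfsg.IsExtraspecial p Q ∧ Nat.card Q = p ^ 3 ∧ Monoid.exponent Q = p := by
  have hpp : p.Prime := Fact.out
  have hcard : Nat.card Q = p ^ 3 := by
    rw [← Nat.card_congr e.toEquiv, card_qdU]
  have hpow : ∀ x : Q, x ^ p = 1 := by
    intro x
    have h1 := qdU_pow p hp (e.symm x)
    have h2 := congrArg e h1
    rwa [map_pow, map_one, MulEquiv.apply_symm_apply] at h2
  have hnc : ∃ x y : Q, x * y ≠ y * x := by
    obtain ⟨x, y, hxy⟩ := qdU_noncomm p hp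
    refine ⟨e x, e y, ?_⟩
    intro h
    apply hxy
    apply e.injective
    rw [map_mul, map_mul, h]
  refine ⟨isExtraspecial_of_card_cube hcard hnc hpow, hcard, ?_⟩
  have hd : Monoid.exponent Q ∣ p :=
    Monoid.exponent_dvd_of_forall_pow_eq_one hpow
  rcases (Nat.dvd_prime hpp).1 hd with h1 | h1
  · exfalso
    obtain ⟨x, y, hxy⟩ := hnc
    have hx : x = 1 := by
      have := Monoid.pow_exponent_eq_one x
      rwa [h1, pow_one] at this
    have hy : y = 1 := by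
      have := Monoid.pow_exponent_eq_one y
      rwa [h1, pow_one] at this
    apply hxy
    rw [hx, hy]
  · exact h1

theorem sylow_qd (p : ℕ) [Fact p.Prime] (hp : p ≠ 2) (P : Sylow p ↥(Cfsg.qd p)) :
    Cfsg.IsExtraspecial p ↥P ∧ Nat.card P = p ^ 3 ∧ Monoid.exponent ↥P = p := by
  obtain ⟨g, rfl⟩ := MulAction.exists_smul_eq (Cfsg.qd p) (qdSyl p hp) P
  exact props_of_equiv p hp ((qdSyl p hp).equivSMul g)

end Cfsg.Agent.Helper37
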