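import Mathlib

set_option autoImplicit false

/-!
# Nilpotent matrices with one Jordan block

* `pow_pred_ne_zero_of_rank`: a nilpotent `n × n` matrix of rank `n - 1` has `N ^ (n-1) ≠ 0`.
* `exists_coeffs_of_commute`: if `c ^ n = 0`, `c ^ (n-1) ≠ 0` (`n` the size), every matrix commuting
  with `c` is `∑ i < n, a i • c ^ i`; and these expressions are unique.
-/

namespace Cfsg.Agent.Helper37.RegUni

open Matrix Module

section Ker

variable {F : Type*} [Field F] {V : Type*} [AddCommGroup V] [Module F V] [FiniteDimensional F V]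

theorem finrank_ker_pow_succ_le (f : V →ₗ[F] V) (k : ℕ) :
    finrank F (LinearMap.ker (f ^ (k + 1))) ≤
      finrank F (LinearMap.ker (f ^ k)) + finrank F (LinearMap.ker f) := by
  set W := LinearMap.ker (f ^ (k + 1)) with hW
  let g : W →ₗ[F] V := (f ^ k).comp W.subtype
  have hrange : LinearMap.range g ≤ LinearMap.ker f := by
    rintro y ⟨x, rfl⟩
    rw [LinearMap.mem_ker]
    have hx : (f ^ (k + 1)) (x : V) = 0 := LinearMap.mem_ker.mp x.2
    rw [pow_succ'] at hx
    simpa [g] using hx
  have hker : finrank F (LinearMap.ker g) ≤ finrank F (LinearMap.ker (f ^ k)) := by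
    let h : LinearMap.ker g →ₗ[F] LinearMap.ker (f ^ k) :=
      { toFun := fun x => ⟨((x : W) : V), by
          have h0 : g (x : W) = 0 := LinearMap.mem_ker.mp x.2
          rw [LinearMap.mem_ker]
          exact h0⟩
        map_add' := fun x y => rfl
        map_smul' := fun a x => rfl }
    apply LinearMap.finrank_le_finrank_of_injective (f := h)
    intro x y hxy
    have : ((x : W) : V) = ((y : W) : V) := congrArg (fun z : LinearMap.ker (f ^ k) => (z : V)) hxy
    exact Subtype.ext (Subtype.ext this)
  have h1 := g.finrank_range_add_finrank_ker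
  have h2 := Submodule.finrank_mono hrange
  omega

theorem finrank_ker_pow_le (f : V →ₗ[F] V) (k : ℕ) :
    finrank F (LinearMap.ker (f ^ k)) ≤ k * finrank F (LinearMap.ker f) := by
  induction k with
  | zero =>
    simp [Module.End.one_eq_id]
  | succ k ih =>
    have := finrank_ker_pow_succ_le f k
    rw [Nat.succ_mul]
    omega

end Ker

section Mat

variable {F : Type*} [Field F] {ι : Type*} [Fintype ι] [DecidableEq ι]

theorem pow_pred_ne_zero_of_rank (N : Matrix ι ι F) (hcard : 1 ≤ Fintype.card ι)
    (hreg : N.rank = Fintype.card ι - 1) : N ^ (Fintype.card ι - 1) ≠ 0 := by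
  intro h0
  set f := Matrix.toLin' N with hf
  have hfin : finrank F (ι → F) = Fintype.card ι := Module.finrank_fintype_fun_eq_card F
  have hker1 : finrank F (LinearMap.ker f) = 1 := by
    have h1 := f.finrank_range_add_finrank_ker
    have h2 : finrank F (LinearMap.range f) = N.rank := by
      rw [Matrix.rank, hf, Matrix.toLin'_apply']
    omega
  have hle := finrank_ker_pow_le f (Fintype.card ι - 1)
  have htop : LinearMap.ker (f ^ (Fintype.card ι - 1)) = ⊤ := by
    rw [hf, ← Matrix.toLin'_pow, h0]
    simp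
  rw [htop, finrank_top, hfin, hker1] at hle
  omega

end Mat

section Cyc

variable {F : Type*} [Field F] {ι : Type*} [Fintype ι] [DecidableEq ι]

/-- The polynomial expression `∑ i < n, a i • c ^ i`. -/
def polyEval (n : ℕ) (c : Matrix ι ι F) (a : Fin n → F) : Matrix ι ι F :=
  ∑ i : Fin n, a i • c ^ (i : ℕ)

theorem exists_mulVec_ne_zero (A : Matrix ι ι F) (h : A ≠ 0) : ∃ v : ι → F, A *ᵥ v ≠ 0 := by
  by_contra hcon
  apply h
  rw [Matrix.ext_iff_mulVec]
  intro v
  rw [Matrix.zero_mulVec]
  by_contra hv
  exact hcon ⟨v, hv⟩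

/-- Linear independence of the Krylov vectors `c ^ i v`. -/
theorem linearIndependent_pow_mulVec {n : ℕ} (c : Matrix ι ι F) (hn : c ^ n = 0) (v : ι → F)
    (hv : (c ^ (n - 1)) *ᵥ v ≠ 0) :
    LinearIndependent F (fun i : Fin n => (c ^ (i : ℕ)) *ᵥ v) := by
  rw [Fintype.linearIndependent_iff]
  intro a ha
  -- strong induction on the index
  have key : ∀ j : ℕ, ∀ hj : j < n, (∀ i : Fin n, (i : ℕ) < j → a i = 0) → a ⟨j, hj⟩ = 0 := by
    intro j hj hlt
    have h1 : (c ^ (n - 1 - j)) *ᵥ (∑ i : Fin n, a i • (c ^ (i : ℕ)) *ᵥ v) = 0 := by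
      rw [ha, Matrix.mulVec_zero]
    rw [Matrix.mulVec_sum] at h1
    rw [Finset.sum_eq_single (⟨j, hj⟩ : Fin n)] at h1
    · rw [Matrix.mulVec_smul, Matrix.mulVec_mulVec, ← pow_add] at h1
      have hexp : n - 1 - j + j = n - 1 := by omega
      simp only [hexp] at h1
      rcases smul_eq_zero.mp h1 with h | h
      · exact h
      · exact absurd h hv
    · intro i _ hij
      rcases lt_or_gt_of_ne (fun h => hij (Fin.ext h) : (i : ℕ) ≠ j) with h | h
      · rw [hlt i h, zero_smul, Matrix.mulVec_zero]
      · rw [Matrix.mulVec_smul, Matrix.mulVec_mulVec, ← pow_add]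
        have hexp : n - 1 - j + (i : ℕ) = n + ((i : ℕ) - j - 1) := by omega
        rw [hexp, pow_add, hn, Matrix.zero_mul, Matrix.zero_mulVec, smul_zero]
    · intro h
      exact absurd (Finset.mem_univ _) h
  intro i
  induction' hi : (i : ℕ) using Nat.strong_induction_on with j ih generalizing i
  have := key j (hi ▸ i.2) (fun i' hi' => ih (i' : ℕ) hi' i' rfl)
  convert this using 2
  exact Fin.ext hi

/-- Linear independence of the powers of `c`. -/
theorem polyEval_injective {n : ℕ} (c : Matrix ι ι F) (hn : c ^ n = 0) (hn1 : c ^ (n - 1) ≠ 0) :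
    Function.Injective (polyEval n c) := by
  obtain ⟨v, hv⟩ := exists_mulVec_ne_zero _ hn1
  have hli := linearIndependent_pow_mulVec c hn v hv
  rw [Fintype.linearIndependent_iff] at hli
  intro a b hab
  have h0 : ∑ i : Fin n, (a i - b i) • (c ^ (i : ℕ)) *ᵥ v = 0 := by
    have h1 : (polyEval n c a) *ᵥ v = (polyEval n c b) *ᵥ v := by rw [hab]
    simp only [polyEval, Matrix.sum_mulVec, Matrix.smul_mulVec] at h1
    simp only [sub_smul, Finset.sum_sub_distrib, h1, sub_self]
  funext i
  exact sub_eq_zero.mp (hli _ h0 i)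

/-- Every matrix commuting with a regular nilpotent matrix `c` is a polynomial in `c`. -/
theorem exists_polyEval_of_commute {n : ℕ} (hcard : Fintype.card ι = n) (c : Matrix ι ι F)
    (hn : c ^ n = 0) (hn1 : c ^ (n - 1) ≠ 0) (g : Matrix ι ι F) (hg : g * c = c * g) :
    ∃ a : Fin n → F, g = polyEval n c a := by
  obtain ⟨v, hv⟩ := exists_mulVec_ne_zero _ hn1
  have hli := linearIndependent_pow_mulVec c hn v hv
  have hspan : Submodule.span F (Set.range (fun i : Fin n => (c ^ (i : ℕ)) *ᵥ v)) = ⊤ := by
    apply hli.span_eq_top_of_card_eq_finrank'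
    rw [Fintype.card_fin, Module.finrank_fintype_fun_eq_card, hcard]
  have hgv : g *ᵥ v ∈ Submodule.span F (Set.range (fun i : Fin n => (c ^ (i : ℕ)) *ᵥ v)) := by
    rw [hspan]; trivial
  rw [Submodule.mem_span_range_iff_exists_fun] at hgv
  obtain ⟨a, ha⟩ := hgv
  refine ⟨a, ?_⟩
  have hcomm : ∀ j : ℕ, g * c ^ j = c ^ j * g := by
    intro j
    induction j with
    | zero => simp
    | succ j ih => rw [pow_succ, ← Matrix.mul_assoc, ih, Matrix.mul_assoc, hg, ← Matrix.mul_assoc]
  apply Matrix.toLin'.injective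
  apply LinearMap.ext_on_range hspan
  intro j
  simp only [Matrix.toLin'_apply]
  rw [Matrix.mulVec_mulVec, hcomm, ← Matrix.mulVec_mulVec, ← ha, Matrix.mulVec_sum]
  rw [polyEval, Matrix.sum_mulVec]
  refine Finset.sum_congr rfl (fun i _ => ?_)
  rw [Matrix.mulVec_smul, Matrix.smul_mulVec, Matrix.mulVec_mulVec, Matrix.mulVec_mulVec,
    ← pow_add, ← pow_add, add_comm]

theorem polyEval_commute_of_commute {n : ℕ} (c U : Matrix ι ι F) (h : c * U = U * c)
    (a : Fin n → F) : polyEval n c a * U = U * polyEval n c a := by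
  have hc : Commute c U := h
  have : Commute (polyEval n c a) U := by
    unfold polyEval
    apply Commute.sum_left
    intro i _
    exact (hc.pow_left _).smul_left _
  exact this

theorem polyEval_comm {n : ℕ} (c : Matrix ι ι F) (a b : Fin n → F) :
    polyEval n c a * polyEval n c b = polyEval n c b * polyEval n c a := by
  have : Commute (polyEval n c a) (polyEval n c b) := by
    unfold polyEval
    apply Commute.sum_left
    intro i _
    apply Commute.sum_right
    intro j _
    exact ((Commute.pow_pow_self c _ _).smul_left _).smul_right _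
  exact this

end Cyc

end Cfsg.Agent.Helper37.RegUni
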