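import Mathlib

set_option autoImplicit false

namespace Cfsg.Agent.Helper37.OutPsl

/-- ring automorphisms of a field of characteristic `p` are `ZMod p`-algebra automorphisms -/
noncomputable def ringAutEquivAlgAut (F : Type*) [Field F] (p : ℕ) [Fact p.Prime] [CharP F p] :
    letI := ZMod.algebra F p
    (F ≃+* F) ≃* (F ≃ₐ[ZMod p] F) :=
  letI := ZMod.algebra F p
  { toFun := fun σ => AlgEquiv.ofRingEquiv (f := σ) (fun x => by
      have h : (σ : F →+* F).comp (algebraMap (ZMod p) F) = algebraMap (ZMod p) F :=
        Subsingleton.elim _ _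
      exact congrArg (fun g : ZMod p →+* F => g x) h)
    invFun := fun e => e.toRingEquiv
    left_inv := fun σ => by ext x; rfl
    right_inv := fun e => by ext x; rfl
    map_mul' := fun σ τ => by ext x; rfl }

theorem card_ringAut {F : Type*} [Field F] [Fintype F] {p f : ℕ} [Fact p.Prime]
    (hF : Fintype.card F = p ^ f) (hf : 1 ≤ f) : Nat.card (F ≃+* F) = f ∧ IsCyclic (F ≃+* F) := by
  haveI : CharP F p := charP_of_card_eq_prime_pow hF
  letI := ZMod.algebra F p
  have e := ringAutEquivAlgAut F p
  have hfin : Module.finrank (ZMod p) F = f := by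
    have h1 : Fintype.card F = Fintype.card (ZMod p) ^ Module.finrank (ZMod p) F :=
      Module.card_eq_pow_finrank
    rw [hF, ZMod.card] at h1
    exact (Nat.pow_right_injective (Fact.out : p.Prime).two_le h1).symm
  constructor
  · rw [Nat.card_congr e.toEquiv, IsGalois.card_aut_eq_finrank, hfin]
  · exact isCyclic_of_surjective e.symm e.symm.surjective

/-- the Galois group of a field of order `p ^ f` is cyclic of order `f` -/
theorem nonempty_galIso {F : Type*} [Field F] [Fintype F] {p f : ℕ} [Fact p.Prime]
    (hF : Fintype.card F = p ^ f) (hf : 1 ≤ f) :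
    Nonempty ((F ≃+* F) ≃* Multiplicative (ZMod f)) := by
  obtain ⟨hc, hcyc⟩ := card_ringAut hF hf
  have e := (zmodCyclicMulEquiv hcyc).symm
  rw [hc] at e
  exact ⟨e⟩

end Cfsg.Agent.Helper37.OutPsl
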