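import Mathlib
import Cfsg.Agent.Helper12.GammaOJ
import Cfsg.Agent.Helper44.CartanDieudonne

/-!
Helper37: base change of isometries along a ring homomorphism `i : F₀ →+* F` of fields.

`Q₀` is a quadratic form on `F₀^ι`, `Q` one on `F^ι`, and `Q (i ∘ v) = i (Q₀ v)`.  We build
`isoIncl : O(Q₀) →* O(Q)` and `soIncl : SO(Q₀) →* SO(Q)` (entrywise `i`), prove injectivity and
descent of isometries whose entries lie in the range of `i`.
-/

set_option autoImplicit false
set_option linter.unusedSectionVars false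

namespace Cfsg.Agent.Helper37.OddF

open Matrix Cfsg.Agent.Helper44 Cfsg.Agent.Helper12.GammaO

variable {F₀ F : Type*} [Field F₀] [Field F] {ι : Type} [Fintype ι] [DecidableEq ι]

/-- coordinatewise image of a vector -/
def vmap (i : F₀ →+* F) (v : ι → F₀) : ι → F := fun k => i (v k)

theorem vmap_apply (i : F₀ →+* F) (v : ι → F₀) (k : ι) : vmap i v k = i (v k) := rfl

theorem vmap_add (i : F₀ →+* F) (v w : ι → F₀) : vmap i (v + w) = vmap i v + vmap i w := by
  funext k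
  simp [vmap]

theorem vmap_zero (i : F₀ →+* F) : vmap i (0 : ι → F₀) = 0 := by
  funext k
  simp [vmap]

theorem vmap_smul (i : F₀ →+* F) (c : F₀) (v : ι → F₀) : vmap i (c • v) = i c • vmap i v := by
  funext k
  simp [vmap]

theorem vmap_single (i : F₀ →+* F) (j : ι) :
    vmap i (Pi.single j (1 : F₀)) = Pi.single j (1 : F) := by
  funext k
  by_cases h : k = j
  · subst h
    simp [vmap]
  · simp [vmap, Pi.single_eq_of_ne h]

theorem vmap_mulVec (i : F₀ →+* F) (M : Matrix ι ι F₀) (v : ι → F₀) :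
    vmap i (M *ᵥ v) = (M.map i) *ᵥ vmap i v := by
  funext k
  simp only [vmap, Matrix.mulVec, dotProduct, map_sum, map_mul, Matrix.map_apply]

theorem vmap_injective (i : F₀ →+* F) : Function.Injective (vmap (ι := ι) i) := by
  intro v w h
  funext k
  exact i.injective (congrFun h k)

/-- a quadratic form vanishing on the `F₀`-points vanishes -/
theorem quad_zero_of_vmap (i : F₀ →+* F) (P : QuadraticForm F (ι → F))
    (h : ∀ v₀ : ι → F₀, P (vmap i v₀) = 0) (v : ι → F) : P v = 0 := by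
  have hb : ∀ j, P (Pi.single j 1) = 0 := by
    intro j
    rw [← vmap_single i j]
    exact h _
  have hp : ∀ j k, QuadraticMap.polar ⇑P (Pi.single j 1) (Pi.single k 1) = 0 := by
    intro j k
    unfold QuadraticMap.polar
    rw [← vmap_single i j, ← vmap_single i k, ← vmap_add, h, h, h]
    simp
  have hpb : QuadraticMap.polarBilin P = 0 := by
    apply LinearMap.ext_basis (Pi.basisFun F ι) (Pi.basisFun F ι)
    intro j k
    simp only [Pi.basisFun_apply, QuadraticMap.polarBilin_apply_apply, LinearMap.zero_apply]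
    exact hp j k
  have hpol : ∀ x y, QuadraticMap.polar ⇑P x y = 0 := by
    intro x y
    have := congrArg (fun B : LinearMap.BilinForm F (ι → F) => B x y) hpb
    simpa using this
  have hadd : ∀ x y, P (x + y) = P x + P y := by
    intro x y
    rw [QuadraticMap.map_add ⇑P, hpol, add_zero]
  let A : (ι → F) →+ F := AddMonoidHom.mk' (⇑P) hadd
  have hA : ∀ x, A x = P x := fun _ => rfl
  rw [← hA, ← Finset.univ_sum_single v, map_sum]
  apply Finset.sum_eq_zero
  intro j _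
  rw [hA]
  have : (Pi.single j (v j) : ι → F) = v j • Pi.single j (1 : F) := by
    funext k
    by_cases hk : k = j
    · subst hk
      simp
    · simp [Pi.single_eq_of_ne hk]
  rw [this, QuadraticMap.map_smul, hb, smul_zero]

section forms

variable (i : F₀ →+* F) (Q₀ : QuadraticForm F₀ (ι → F₀)) (Q : QuadraticForm F (ι → F))
  (hQ : ∀ v : ι → F₀, Q (vmap i v) = i (Q₀ v))

include hQ in
theorem polar_vmap (v w : ι → F₀) :
    QuadraticMap.polar ⇑Q (vmap i v) (vmap i w) = i (QuadraticMap.polar ⇑Q₀ v w) := by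
  unfold QuadraticMap.polar
  rw [← vmap_add, hQ, hQ, hQ, map_sub, map_sub]

include hQ in
/-- base change of an isometry is an isometry -/
theorem map_mem_isometryGroup {g₀ : GL ι F₀} (hg₀ : g₀ ∈ Cfsg.isometryGroup F₀ ⇑Q₀) :
    Matrix.GeneralLinearGroup.map i g₀ ∈ Cfsg.isometryGroup F ⇑Q := by
  rw [Helper13.mem_isometryGroup_iff] at hg₀ ⊢
  have hco : ((Matrix.GeneralLinearGroup.map i g₀ : GL ι F) : Matrix ι ι F)
      = (g₀ : Matrix ι ι F₀).map i := rfl
  rw [hco]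
  set M : Matrix ι ι F := (g₀ : Matrix ι ι F₀).map i with hM
  let P : QuadraticForm F (ι → F) := Q.comp (Matrix.toLin' M) - Q
  have hP : ∀ v, P v = Q (M *ᵥ v) - Q v := by
    intro v
    show (Q.comp (Matrix.toLin' M)) v - Q v = _
    rw [QuadraticMap.comp_apply, Matrix.toLin'_apply]
  intro u
  have h0 := quad_zero_of_vmap i P (fun v₀ => by
    rw [hP, hM, ← vmap_mulVec, hQ, hQ, hg₀, sub_self]) u
  rw [hP] at h0
  exact sub_eq_zero.1 h0

/-- `O(Q₀) → O(Q)` -/
noncomputable def isoIncl : ↥(Cfsg.isometryGroup F₀ ⇑Q₀) →* ↥(Cfsg.isometryGroup F ⇑Q) :=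
  ((Matrix.GeneralLinearGroup.map i).comp (Cfsg.isometryGroup F₀ ⇑Q₀).subtype).codRestrict
    (Cfsg.isometryGroup F ⇑Q) (fun g₀ => map_mem_isometryGroup i Q₀ Q hQ g₀.2)

theorem isoIncl_coe (g₀ : ↥(Cfsg.isometryGroup F₀ ⇑Q₀)) :
    (((isoIncl i Q₀ Q hQ g₀ : ↥(Cfsg.isometryGroup F ⇑Q)) : GL ι F) : Matrix ι ι F)
      = (g₀.1 : Matrix ι ι F₀).map i := rfl

theorem isoIncl_injective : Function.Injective (isoIncl i Q₀ Q hQ) := by
  intro g h hgh
  apply Subtype.ext
  apply Units.ext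
  have h1 := congrArg (fun k : ↥(Cfsg.isometryGroup F ⇑Q) => ((k : GL ι F) : Matrix ι ι F)) hgh
  simp only [isoIncl_coe] at h1
  ext a b
  have h2 := congrFun (congrFun h1 a) b
  simp only [Matrix.map_apply] at h2
  exact i.injective h2

theorem detHom_isoIncl (g₀ : ↥(Cfsg.isometryGroup F₀ ⇑Q₀)) :
    detHom ⇑Q (isoIncl i Q₀ Q hQ g₀) = Units.map (i : F₀ →* F) (detHom ⇑Q₀ g₀) := by
  apply Units.ext
  show (((isoIncl i Q₀ Q hQ g₀ : ↥(Cfsg.isometryGroup F ⇑Q)) : GL ι F) : Matrix ι ι F).det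
    = i ((g₀.1 : Matrix ι ι F₀).det)
  rw [isoIncl_coe, ← RingHom.mapMatrix_apply, ← RingHom.map_det]

/-- `SO(Q₀) → SO(Q)` -/
noncomputable def soIncl : ↥(detHom ⇑Q₀).ker →* ↥(detHom ⇑Q).ker :=
  ((isoIncl i Q₀ Q hQ).comp (detHom ⇑Q₀).ker.subtype).codRestrict (detHom ⇑Q).ker (fun g₀ => by
    rw [MonoidHom.mem_ker, MonoidHom.comp_apply, detHom_isoIncl, Subgroup.coe_subtype,
      MonoidHom.mem_ker.1 g₀.2, map_one])

theorem soIncl_coe (g₀ : ↥(detHom ⇑Q₀).ker) :
    ((soIncl i Q₀ Q hQ g₀ : ↥(detHom ⇑Q).ker) : ↥(Cfsg.isometryGroup F ⇑Q))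
      = isoIncl i Q₀ Q hQ g₀.1 := rfl

theorem soIncl_injective : Function.Injective (soIncl i Q₀ Q hQ) := by
  intro g h hgh
  apply Subtype.ext
  apply isoIncl_injective i Q₀ Q hQ
  rw [← soIncl_coe, ← soIncl_coe, hgh]

include hQ in
/-- descent: an isometry of `Q` with entries in the range of `i` comes from `Q₀` -/
theorem exists_isoIncl_eq (g : ↥(Cfsg.isometryGroup F ⇑Q))
    (hg : ∀ a b, ((g : GL ι F) : Matrix ι ι F) a b ∈ i.range) :
    ∃ g₀ : ↥(Cfsg.isometryGroup F₀ ⇑Q₀), isoIncl i Q₀ Q hQ g₀ = g := by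
  classical
  choose M₀ hM₀ using hg
  have hmap : (Matrix.of M₀).map i = ((g : GL ι F) : Matrix ι ι F) := by
    ext a b
    rw [Matrix.map_apply, Matrix.of_apply, hM₀]
  have hdet : (Matrix.of M₀).det ≠ 0 := by
    intro h0
    have h1 : (((g : GL ι F) : Matrix ι ι F)).det = 0 := by
      rw [← hmap, ← RingHom.mapMatrix_apply, ← RingHom.map_det, h0, map_zero]
    exact ((Matrix.isUnit_iff_isUnit_det _).mp (Units.isUnit (g : GL ι F))).ne_zero h1
  obtain ⟨G₀, hG₀⟩ : ∃ G₀ : GL ι F₀, (G₀ : Matrix ι ι F₀) = Matrix.of M₀ :=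
    ⟨Matrix.GeneralLinearGroup.mkOfDetNeZero _ hdet, rfl⟩
  have hmem : G₀ ∈ Cfsg.isometryGroup F₀ ⇑Q₀ := by
    rw [Helper13.mem_isometryGroup_iff]
    intro u
    apply i.injective
    rw [← hQ, ← hQ, vmap_mulVec, hG₀, hmap]
    exact (Helper13.mem_isometryGroup_iff _ _).1 g.2 _
  refine ⟨⟨G₀, hmem⟩, ?_⟩
  apply Subtype.ext
  apply Units.ext
  rw [isoIncl_coe]
  show (G₀ : Matrix ι ι F₀).map i = _
  rw [hG₀, hmap]

include hQ in
theorem exists_soIncl_eq (g : ↥(detHom ⇑Q).ker)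
    (hg : ∀ a b, (((g : ↥(Cfsg.isometryGroup F ⇑Q)) : GL ι F) : Matrix ι ι F) a b ∈ i.range) :
    ∃ g₀ : ↥(detHom ⇑Q₀).ker, soIncl i Q₀ Q hQ g₀ = g := by
  obtain ⟨g₀, hg₀⟩ := exists_isoIncl_eq i Q₀ Q hQ g.1 hg
  have hdet : detHom ⇑Q₀ g₀ = 1 := by
    have h1 := detHom_isoIncl i Q₀ Q hQ g₀
    rw [hg₀, MonoidHom.mem_ker.1 g.2] at h1
    have hinj : Function.Injective (Units.map (i : F₀ →* F)) :=
      Units.map_injective i.injective
    apply hinj
    rw [← h1, map_one]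
  refine ⟨⟨g₀, MonoidHom.mem_ker.2 hdet⟩, ?_⟩
  apply Subtype.ext
  rw [soIncl_coe]
  exact hg₀

end forms

end Cfsg.Agent.Helper37.OddF
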