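import Mathlib
import Cfsg.Agent.Helper37.OddFA

/-!
Helper37: the standard field automorphism `phi σ` of `PΩ(Q)` (for a form `Q` with
`Q (σ ∘ v) = σ (Q v)`) against the action `thetaSO` of `SO(Q)`:
`phi σ * thetaSO x = thetaSO (σ x) * phi σ`; in odd dimension (where `thetaSO` is injective) the
centraliser of `phi σ` in `pgoAut = thetaSO(SO(Q))` is the image of `SO(Q₀)`, `Q₀` the form over
the fixed field.  Also: `Inn(PΩ)` is the image of `Ω`, of index two in `SO`.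
-/

set_option autoImplicit false
set_option linter.unusedSectionVars false

namespace Cfsg.Agent.Helper37.OddF

open Matrix Cfsg.Agent.Helper44 Cfsg.Agent.Helper12.GammaO

variable {F₀ F : Type*} [Field F₀] [Field F] {ι : Type} [Fintype ι] [DecidableEq ι]

section sigma

variable (Q : QuadraticForm F (ι → F))
  (hσQ : ∀ (σ : F ≃+* F) (v : ι → F), Q (vmap (σ : F →+* F) v) = σ (Q v))

include hσQ in
theorem hstd_of (σ : F ≃+* F) : Cfsg.IsSemisimilarityPair ⇑Q (1 : GL ι F) σ := by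
  refine ⟨1, fun v => ?_⟩
  rw [Units.val_one, Units.val_one, Matrix.one_mulVec, one_mul]
  exact hσQ σ v

/-- the standard field automorphism of `PΩ(Q)` -/
noncomputable def phi (σ : F ≃+* F) : MulAut (Cfsg.POmega F ⇑Q) :=
  psi ⇑Q (stdField Q (hstd_of Q hσQ) σ)

/-- the standard field automorphisms, as a homomorphism -/
noncomputable def phiHom : (F ≃+* F) →* MulAut (Cfsg.POmega F ⇑Q) :=
  (psi ⇑Q).comp (stdField Q (hstd_of Q hσQ))

theorem phiHom_apply (σ : F ≃+* F) : phiHom Q hσQ σ = phi Q hσQ σ := rfl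

/-- `σ` applied entrywise to an isometry -/
noncomputable def isoSig (σ : F ≃+* F) :
    ↥(Cfsg.isometryGroup F ⇑Q) →* ↥(Cfsg.isometryGroup F ⇑Q) :=
  isoIncl (σ : F →+* F) Q Q (hσQ σ)

/-- `σ` applied entrywise to a special isometry -/
noncomputable def soSig (σ : F ≃+* F) : ↥(detHom ⇑Q).ker →* ↥(detHom ⇑Q).ker :=
  soIncl (σ : F →+* F) Q Q (hσQ σ)

theorem soSig_coe (σ : F ≃+* F) (x : ↥(detHom ⇑Q).ker) :
    ((((soSig Q hσQ σ x : ↥(detHom ⇑Q).ker) : ↥(Cfsg.isometryGroup F ⇑Q)) : GL ι F) :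
      Matrix ι ι F) = (((x : ↥(Cfsg.isometryGroup F ⇑Q)) : GL ι F) : Matrix ι ι F).map σ := rfl

theorem soSig_eq_iff (σ : F ≃+* F) (x : ↥(detHom ⇑Q).ker) :
    soSig Q hσQ σ x = x ↔
      ∀ a b, σ ((((x : ↥(Cfsg.isometryGroup F ⇑Q)) : GL ι F) : Matrix ι ι F) a b)
        = (((x : ↥(Cfsg.isometryGroup F ⇑Q)) : GL ι F) : Matrix ι ι F) a b := by
  constructor
  · intro h a b
    have h1 := congrArg (fun y : ↥(detHom ⇑Q).ker =>
      (((y : ↥(Cfsg.isometryGroup F ⇑Q)) : GL ι F) : Matrix ι ι F) a b) h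
    simp only [soSig_coe, Matrix.map_apply] at h1
    exact h1
  · intro h
    apply Subtype.ext
    apply Subtype.ext
    apply Units.ext
    rw [soSig_coe]
    ext a b
    rw [Matrix.map_apply]
    exact h a b

theorem stdField_mul_ofSim (σ : F ≃+* F) (x : ↥(Cfsg.isometryGroup F ⇑Q)) :
    stdField Q (hstd_of Q hσQ) σ * ofSim Q (toGO Q x)
      = ofSim Q (toGO Q (isoSig Q hσQ σ x)) * stdField Q (hstd_of Q hσQ) σ := by
  apply Subtype.ext
  apply SemidirectProduct.ext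
  · show (1 : GL ι F) * fieldAct σ x.1 = (isoSig Q hσQ σ x).1 * fieldAct (1 : F ≃+* F) 1
    rw [map_one, one_mul, mul_one, fieldAct_apply]
    apply Units.ext
    rfl
  · show σ * 1 = 1 * σ
    rw [mul_one, one_mul]

theorem thetaSO_eq (x : ↥(detHom ⇑Q).ker) :
    thetaSO Q x = psi ⇑Q (ofSim Q (toGO Q x.1)) := by
  rw [psi_ofSim]
  rfl

/-- `phi σ * θ(x) = θ(σ x) * phi σ` -/
theorem phi_mul_thetaSO (σ : F ≃+* F) (x : ↥(detHom ⇑Q).ker) :
    phi Q hσQ σ * thetaSO Q x = thetaSO Q (soSig Q hσQ σ x) * phi Q hσQ σ := by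
  rw [thetaSO_eq, thetaSO_eq]
  unfold phi
  rw [← map_mul, ← map_mul, stdField_mul_ofSim Q hσQ]
  rfl

theorem comm_iff (hinj : Function.Injective (thetaSO Q)) (σ : F ≃+* F) (x : ↥(detHom ⇑Q).ker) :
    phi Q hσQ σ * thetaSO Q x = thetaSO Q x * phi Q hσQ σ ↔ soSig Q hσQ σ x = x := by
  rw [phi_mul_thetaSO]
  constructor
  · intro h
    exact hinj (mul_right_cancel h)
  · intro h
    rw [h]

end sigma

section descent

variable (i : F₀ →+* F) (Q₀ : QuadraticForm F₀ (ι → F₀)) (Q : QuadraticForm F (ι → F))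
  (hQ : ∀ v : ι → F₀, Q (vmap i v) = i (Q₀ v))
  (hσQ : ∀ (σ : F ≃+* F) (v : ι → F), Q (vmap (σ : F →+* F) v) = σ (Q v))
  (σ : F ≃+* F) (hi : ∀ a : F, σ a = a ↔ a ∈ i.range)

include hi in
theorem mem_range_soIncl_iff (x : ↥(detHom ⇑Q).ker) :
    x ∈ (soIncl i Q₀ Q hQ).range ↔ soSig Q hσQ σ x = x := by
  rw [soSig_eq_iff]
  constructor
  · rintro ⟨x₀, rfl⟩ a b
    rw [hi]
    exact ⟨_, rfl⟩
  · intro h
    exact exists_soIncl_eq i Q₀ Q hQ x (fun a b => (hi _).1 (h a b))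

include hi in
/-- the centraliser of `phi σ` in the image of `SO(Q)` is the image of `SO(Q₀)` -/
theorem map_range_soIncl (hinj : Function.Injective (thetaSO Q)) :
    ((soIncl i Q₀ Q hQ).range).map (thetaSO Q)
      = (thetaSO Q).range ⊓ Subgroup.centralizer {phi Q hσQ σ} := by
  ext β
  rw [Subgroup.mem_inf, Subgroup.mem_centralizer_iff]
  constructor
  · rintro ⟨x, hx, rfl⟩
    refine ⟨⟨x, rfl⟩, ?_⟩
    intro y hy
    rw [Set.mem_singleton_iff] at hy
    rw [hy, comm_iff Q hσQ hinj]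
    exact (mem_range_soIncl_iff i Q₀ Q hQ hσQ σ hi x).1 hx
  · rintro ⟨⟨x, rfl⟩, hc⟩
    have h1 := hc _ (Set.mem_singleton _)
    rw [comm_iff Q hσQ hinj] at h1
    exact ⟨x, (mem_range_soIncl_iff i Q₀ Q hQ hσQ σ hi x).2 h1, rfl⟩

include hi hQ in
/-- the centraliser of `phi σ` in the image of `SO(Q)` is isomorphic to `SO(Q₀)` -/
theorem nonempty_centralizer_equiv (hinj : Function.Injective (thetaSO Q)) :
    Nonempty (↥((thetaSO Q).range ⊓ Subgroup.centralizer {phi Q hσQ σ}) ≃* ↥(detHom ⇑Q₀).ker) := by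
  have e1 := MonoidHom.ofInjective (soIncl_injective i Q₀ Q hQ)
  have e2 := ((soIncl i Q₀ Q hQ).range).equivMapOfInjective (thetaSO Q) hinj
  have e3 := MulEquiv.subgroupCongr (map_range_soIncl i Q₀ Q hQ hσQ σ hi hinj)
  exact ⟨((e1.trans e2).trans e3).symm⟩

end descent

section inn

variable (Q : QuadraticForm F (ι → F))

/-- `Ω(Q)` as a subgroup of `SO(Q)` -/
noncomputable def omSO : Subgroup ↥(detHom ⇑Q).ker := (Cfsg.Omega F ⇑Q).subgroupOf (detHom ⇑Q).ker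

instance omSO_normal : (omSO Q).Normal := by
  unfold omSO
  infer_instance

theorem mem_omSO (x : ↥(detHom ⇑Q).ker) : x ∈ omSO Q ↔ x.1 ∈ Cfsg.Omega F ⇑Q := Iff.rfl

theorem Omega_le_ker_detHom : Cfsg.Omega F ⇑Q ≤ (detHom ⇑Q).ker := by
  intro s hs
  exact MonoidHom.mem_ker.2 (hom_eq_one_of_mem_Omega (detHom ⇑Q) hs)

/-- the image of `Ω` is `Inn(PΩ)` -/
theorem map_omSO : (omSO Q).map (thetaSO Q) = Cfsg.Inn (Cfsg.POmega F ⇑Q) := by
  ext β
  constructor
  · rintro ⟨x, hx', rfl⟩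
    have hx : x.1 ∈ Cfsg.Omega F ⇑Q := hx'
    refine ⟨QuotientGroup.mk ⟨x.1, hx⟩, ?_⟩
    have h1 := conjAut_of_mem_Omega ⇑Q ⟨x.1, hx⟩ (isometryGroup_le_quadSimilarityGroup ⇑Q x.1.2)
    rw [← h1]
    rfl
  · rintro ⟨y, rfl⟩
    induction y using QuotientGroup.induction_on with
    | H s =>
      refine ⟨⟨s.1, Omega_le_ker_detHom Q s.2⟩, s.2, ?_⟩
      have h1 := conjAut_of_mem_Omega ⇑Q s (isometryGroup_le_quadSimilarityGroup ⇑Q s.1.2)
      rw [← h1]
      rfl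

theorem index_omSO [Fintype F] (h2 : (2 : F) ≠ 0)
    (hQ : (QuadraticMap.polarBilin Q).Nondegenerate) (hn : 2 ≤ Module.finrank F (ι → F)) :
    (omSO Q).index = 2 := by
  have h1 := card_ker_detHom Q h2 hQ hn
  have h3 : Nat.card ↥(omSO Q) = Nat.card ↥(Cfsg.Omega F ⇑Q) :=
    Nat.card_congr (Subgroup.subgroupOfEquivOfLe (Omega_le_ker_detHom Q)).toEquiv
  have h4 := Subgroup.card_mul_index (omSO Q)
  rw [h3, h1] at h4
  have hpos : 0 < Nat.card ↥(Cfsg.Omega F ⇑Q) := Nat.card_pos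
  have h5 : Nat.card ↥(Cfsg.Omega F ⇑Q) * (omSO Q).index = Nat.card ↥(Cfsg.Omega F ⇑Q) * 2 := by
    rw [h4]
    ring
  exact Nat.eq_of_mul_eq_mul_left hpos h5

/-- `[SO : Ω · C]` is `2` or `1` according as `C ≤ Ω` or not -/
theorem index_sup_of_le [Fintype F] (h2 : (2 : F) ≠ 0)
    (hQ : (QuadraticMap.polarBilin Q).Nondegenerate) (hn : 2 ≤ Module.finrank F (ι → F))
    (C : Subgroup ↥(detHom ⇑Q).ker) (hC : C ≤ omSO Q) : (omSO Q ⊔ C).index = 2 := by
  rw [sup_eq_left.2 hC]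
  exact index_omSO Q h2 hQ hn

theorem index_sup_of_not_le [Fintype F] (h2 : (2 : F) ≠ 0)
    (hQ : (QuadraticMap.polarBilin Q).Nondegenerate) (hn : 2 ≤ Module.finrank F (ι → F))
    (C : Subgroup ↥(detHom ⇑Q).ker) (hC : ¬ C ≤ omSO Q) : (omSO Q ⊔ C).index = 1 := by
  rw [Subgroup.index_eq_one, eq_top_iff]
  obtain ⟨c, hcC, hcN⟩ := SetLike.not_le_iff_exists.1 hC
  intro b _
  by_cases hb : b ∈ omSO Q
  · exact Subgroup.mem_sup_left hb
  · have h3 : b * c⁻¹ ∈ omSO Q := by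
      rw [Subgroup.mul_mem_iff_of_index_two (index_omSO Q h2 hQ hn)]
      constructor
      · intro h
        exact absurd h hb
      · intro h
        exact absurd ((Subgroup.inv_mem_iff _).1 h) hcN
    have h4 : b = b * c⁻¹ * c := by group
    rw [h4]
    exact Subgroup.mul_mem _ (Subgroup.mem_sup_left h3) (Subgroup.mem_sup_right hcC)

end inn

end Cfsg.Agent.Helper37.OddF
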