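import Mathlib
import Cfsg.Agent.Helper37.OddFB

/-!
Helper37: reflections under base change, and whether the image of `SO(Q₀)` lies in `Ω(Q)`:
it does when every element of `F₀` becomes a square in `F` (degree two), and does not when
non-squares stay non-squares (odd degree).
-/

set_option autoImplicit false
set_option linter.unusedSectionVars false

namespace Cfsg.Agent.Helper37.OddF

open Matrix Cfsg.Agent.Helper44 Cfsg.Agent.Helper12.GammaO

variable {F₀ F : Type*} [Field F₀] [Field F] {ι : Type} [Fintype ι] [DecidableEq ι]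

section single

variable (Q : QuadraticForm F (ι → F))

theorem coe_prod_reflT (vs : List (ι → F)) (hvs : ∀ v ∈ vs, Q v ≠ 0) :
    ((((vs.map (reflT Q)).prod : ↥(Cfsg.isometryGroup F ⇑Q)) : GL ι F) : Matrix ι ι F)
      = (vs.map (fun v => Cfsg.reflectionMatrix ⇑Q v)).prod := by
  have h1 := map_list_prod ((Units.coeHom (Matrix ι ι F)).comp
    (Cfsg.isometryGroup F ⇑Q).subtype) (vs.map (reflT Q))
  simp only [MonoidHom.coe_comp, Function.comp_apply, Subgroup.coe_subtype,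
    Units.coeHom_apply] at h1
  rw [h1, List.map_map]
  apply congrArg
  apply List.map_congr_left
  intro v hv
  exact reflT_coe Q v (hvs v hv)

theorem prod_reflT_mem_Omega_iff [Finite F] (h2 : (2 : F) ≠ 0) (vs : List (ι → F))
    (hvs : ∀ v ∈ vs, Q v ≠ 0) :
    (vs.map (reflT Q)).prod ∈ Cfsg.Omega F ⇑Q
      ↔ (Even vs.length ∧ IsSquare (vs.map (fun v => Q v)).prod) :=
  mem_Omega_iff_of_prod_reflections Q h2 _ vs hvs (coe_prod_reflT Q vs hvs)

end single

section basechange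

variable (i : F₀ →+* F) (Q₀ : QuadraticForm F₀ (ι → F₀)) (Q : QuadraticForm F (ι → F))
  (hQ : ∀ v : ι → F₀, Q (vmap i v) = i (Q₀ v))

include hQ in
theorem reflectionMatrix_map (v : ι → F₀) :
    (Cfsg.reflectionMatrix ⇑Q₀ v).map i = Cfsg.reflectionMatrix ⇑Q (vmap i v) := by
  ext a b
  have hp : QuadraticMap.polar ⇑Q (vmap i v) (Pi.single b 1)
      = i (QuadraticMap.polar ⇑Q₀ v (Pi.single b 1)) := by
    rw [← vmap_single i b, polar_vmap i Q₀ Q hQ]
  have h1 : i ((1 : Matrix ι ι F₀) a b) = (1 : Matrix ι ι F) a b := by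
    rw [Matrix.one_apply, Matrix.one_apply]
    split_ifs <;> simp
  simp only [Cfsg.reflectionMatrix, Cfsg.polarVec, Matrix.map_apply, Matrix.sub_apply,
    Matrix.smul_apply, Matrix.vecMulVec_apply, smul_eq_mul, map_sub, map_mul, map_inv₀, hQ, hp,
    vmap_apply, h1]

include hQ in
theorem Q_vmap_ne_zero {v : ι → F₀} (hv : Q₀ v ≠ 0) : Q (vmap i v) ≠ 0 := by
  rw [hQ]
  intro h
  apply hv
  apply i.injective
  rw [h, map_zero]

theorem isoIncl_reflT (v : ι → F₀) (hv : Q₀ v ≠ 0) :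
    isoIncl i Q₀ Q hQ (reflT Q₀ v) = reflT Q (vmap i v) := by
  apply Subtype.ext
  apply Units.ext
  rw [isoIncl_coe, reflT_coe Q₀ v hv, reflT_coe Q (vmap i v) (Q_vmap_ne_zero i Q₀ Q hQ hv),
    reflectionMatrix_map i Q₀ Q hQ]

theorem isoIncl_prod_reflT (vs : List (ι → F₀)) (hvs : ∀ v ∈ vs, Q₀ v ≠ 0) :
    isoIncl i Q₀ Q hQ (vs.map (reflT Q₀)).prod = ((vs.map (vmap i)).map (reflT Q)).prod := by
  rw [map_list_prod, List.map_map, List.map_map]
  apply congrArg
  apply List.map_congr_left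
  intro v hv
  exact isoIncl_reflT i Q₀ Q hQ v (hvs v hv)

/-- spinor criterion for the base change of a product of reflections -/
theorem isoIncl_prod_mem_Omega_iff [Finite F] (h2 : (2 : F) ≠ 0) (vs : List (ι → F₀))
    (hvs : ∀ v ∈ vs, Q₀ v ≠ 0) :
    isoIncl i Q₀ Q hQ (vs.map (reflT Q₀)).prod ∈ Cfsg.Omega F ⇑Q
      ↔ (Even vs.length ∧ IsSquare (i (vs.map (fun v => Q₀ v)).prod)) := by
  rw [isoIncl_prod_reflT i Q₀ Q hQ vs hvs, prod_reflT_mem_Omega_iff Q h2]
  · rw [List.length_map, List.map_map, map_list_prod, List.map_map]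
    have : (vs.map ((fun v => Q v) ∘ vmap i)) = vs.map (⇑i ∘ fun v => Q₀ v) := by
      apply List.map_congr_left
      intro v _
      exact hQ v
    rw [this]
  · intro w hw
    obtain ⟨v, hv, rfl⟩ := List.mem_map.1 hw
    exact Q_vmap_ne_zero i Q₀ Q hQ (hvs v hv)

include hQ in
theorem two_ne_zero_of_map (h2 : (2 : F) ≠ 0) : (2 : F₀) ≠ 0 := by
  intro h
  apply h2
  have := congrArg i h
  rwa [map_ofNat, map_zero] at this

/-- if every element of `F₀` is a square in `F` the image of `SO(Q₀)` lies in `Ω(Q)` -/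
theorem range_soIncl_le_omSO [Finite F] (h2 : (2 : F) ≠ 0)
    (hnd₀ : (QuadraticMap.polarBilin Q₀).Nondegenerate)
    (hsq : ∀ a : F₀, IsSquare (i a)) : (soIncl i Q₀ Q hQ).range ≤ omSO Q := by
  have h2₀ : (2 : F₀) ≠ 0 := two_ne_zero_of_map i Q₀ Q hQ h2
  rintro _ ⟨x₀, rfl⟩
  rw [mem_omSO, soIncl_coe]
  obtain ⟨vs, hvs, hx₀⟩ := cartan_dieudonne Q₀ h2₀ hnd₀ x₀.1
  rw [hx₀, isoIncl_prod_mem_Omega_iff i Q₀ Q hQ h2 vs hvs]
  refine ⟨?_, hsq _⟩
  have hdet : detHom ⇑Q₀ x₀.1 = 1 := MonoidHom.mem_ker.1 x₀.2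
  rw [hx₀, detHom_prod_reflT Q₀ vs hvs] at hdet
  exact (neg_one_pow_eq_one_iff_even (neg_one_units_ne_one (F := F₀) h2₀)).1 hdet

/-- if non-squares of `F₀` stay non-squares in `F` the image of `SO(Q₀)` does not lie in `Ω(Q)` -/
theorem not_range_soIncl_le_omSO [Finite F] [Fintype F₀] (h2 : (2 : F) ≠ 0)
    (hnd₀ : (QuadraticMap.polarBilin Q₀).Nondegenerate)
    (hn₀ : 2 ≤ Module.finrank F₀ (ι → F₀))
    (hns : ∀ c : F₀, ¬ IsSquare c → ¬ IsSquare (i c)) : ¬ (soIncl i Q₀ Q hQ).range ≤ omSO Q := by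
  have h2₀ : (2 : F₀) ≠ 0 := two_ne_zero_of_map i Q₀ Q hQ h2
  obtain ⟨c, hc⟩ := FiniteField.exists_nonsquare (ringChar_ne_two_of_two_ne_zero h2₀)
  have hc0 : c ≠ 0 := by
    rintro rfl
    exact hc ⟨0, by simp⟩
  obtain ⟨u, hu⟩ := exists_Q_eq Q₀ h2₀ hnd₀ hn₀ 1
  obtain ⟨v, hv⟩ := exists_Q_eq Q₀ h2₀ hnd₀ hn₀ c
  have hvs : ∀ w ∈ [u, v], Q₀ w ≠ 0 := by
    intro w hw
    rcases List.mem_pair.1 hw with rfl | rfl
    · rw [hu]
      exact one_ne_zero
    · rw [hv]
      exact hc0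
  have hdet : ([u, v].map (reflT Q₀)).prod ∈ (detHom ⇑Q₀).ker := by
    rw [MonoidHom.mem_ker, detHom_prod_reflT Q₀ _ hvs]
    simp
  intro hle
  have h1 := hle ⟨⟨_, hdet⟩, rfl⟩
  rw [mem_omSO, soIncl_coe, isoIncl_prod_mem_Omega_iff i Q₀ Q hQ h2 _ hvs] at h1
  apply hns c hc
  have h3 := h1.2
  simpa [hu, hv] using h3

end basechange

section arith

variable [Fintype F₀] [Fintype F] (i : F₀ →+* F)

/-- in a quadratic extension of finite fields of odd order every element of the small field is a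
square -/
theorem isSquare_map_of_card_sq (h2 : (2 : F) ≠ 0)
    (hc : Fintype.card F = Fintype.card F₀ ^ 2) (a : F₀) : IsSquare (i a) := by
  by_cases ha : a = 0
  · subst ha
    exact ⟨0, by simp⟩
  have hia : i a ≠ 0 := by
    intro h
    apply ha
    apply i.injective
    rw [h, map_zero]
  have hch : ringChar F ≠ 2 := ringChar_ne_two_of_two_ne_zero h2
  have h2₀ : (2 : F₀) ≠ 0 := by
    intro h
    apply h2
    have := congrArg i h
    rwa [map_ofNat, map_zero] at this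
  have hodd : Fintype.card F₀ % 2 = 1 :=
    FiniteField.odd_card_of_char_ne_two (ringChar_ne_two_of_two_ne_zero h2₀)
  rw [FiniteField.isSquare_iff hch hia, hc]
  obtain ⟨k, hk⟩ : ∃ k, Fintype.card F₀ = 2 * k + 1 := ⟨Fintype.card F₀ / 2, by omega⟩
  have h3 : Fintype.card F₀ ^ 2 / 2 = (Fintype.card F₀ - 1) * (k + 1) := by
    rw [hk]
    have : (2 * k + 1) ^ 2 = 2 * ((2 * k + 1 - 1) * (k + 1)) + 1 := by
      rw [Nat.add_sub_cancel]
      ring
    rw [this]
    omega
  rw [h3, pow_mul, ← map_pow, FiniteField.pow_card_sub_one_eq_one a ha, map_one, one_pow]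

/-- in an extension of odd degree of finite fields of odd order non-squares stay non-squares -/
theorem not_isSquare_map_of_odd (h2 : (2 : F) ≠ 0) {r : ℕ} (hr : Odd r)
    (hc : Fintype.card F = Fintype.card F₀ ^ r) {c : F₀} (hcs : ¬ IsSquare c) :
    ¬ IsSquare (i c) := by
  have h2₀ : (2 : F₀) ≠ 0 := by
    intro h
    apply h2
    have := congrArg i h
    rwa [map_ofNat, map_zero] at this
  have hch₀ : ringChar F₀ ≠ 2 := ringChar_ne_two_of_two_ne_zero h2₀
  have hodd : Fintype.card F₀ % 2 = 1 := FiniteField.odd_card_of_char_ne_two hch₀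
  have hc0 : c ≠ 0 := by
    rintro rfl
    exact hcs ⟨0, by simp⟩
  have hpow : c ^ (Fintype.card F₀ / 2) = -1 := by
    rcases FiniteField.pow_dichotomy hch₀ hc0 with h | h
    · exact absurd ((FiniteField.isSquare_iff hch₀ hc0).2 h) hcs
    · exact h
  rintro ⟨y, hy⟩
  obtain ⟨k, hk⟩ : ∃ k, Fintype.card F₀ = 2 * k + 1 := ⟨Fintype.card F₀ / 2, by omega⟩
  have hk2 : Fintype.card F₀ / 2 = k := by omega
  rw [hk2] at hpow
  have hyq : y ^ Fintype.card F₀ = -y := by
    have h1 : (i c) ^ k = -1 := by rw [← map_pow, hpow, map_neg, map_one]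
    rw [hy] at h1
    rw [hk, pow_succ, pow_mul, pow_two, h1]
    ring
  have hq1 : (-1 : F) ^ Fintype.card F₀ = -1 := by
    apply Odd.neg_one_pow
    exact Nat.odd_iff.2 hodd
  have hind : ∀ j : ℕ, y ^ (Fintype.card F₀ ^ j) = (-1) ^ j * y := by
    intro j
    induction j with
    | zero => simp
    | succ j ih =>
      rw [pow_succ, pow_mul, ih, mul_pow, ← pow_mul, mul_comm j, pow_mul, hq1, hyq]
      ring
  have h5 := hind r
  rw [← hc, FiniteField.pow_card, hr.neg_one_pow] at h5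
  have h6 : (2 : F) * y = 0 := by linear_combination h5
  have hy0 : y = 0 := (mul_eq_zero.1 h6).resolve_left h2
  rw [hy0, mul_zero] at hy
  apply hc0
  apply i.injective
  rw [hy, map_zero]

end arith

end Cfsg.Agent.Helper37.OddF
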