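import Mathlib
import Cfsg.Agent.Helper37.OddFC
import Cfsg.Agent.Helper44.InndiagGen2
import Cfsg.Agent.Helper14.AutDescent

/-!
Helper37: base change of similarities along `i : F₀ →+* F` (`Q (i ∘ v) = i (Q₀ v)`), any
characteristic: `goIncl : GO(Q₀) →* GO(Q)`, compatibility with multiplier, determinant and
`dHom`, injectivity, scalars, and descent of similarities with entries in the range of `i`.
-/

set_option autoImplicit false
set_option linter.unusedSectionVars false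

namespace Cfsg.Agent.Helper37.OddF

open Matrix Cfsg.Agent.Helper44 Cfsg.Agent.Helper12.GammaO

variable {F₀ F : Type*} [Field F₀] [Field F] {ι : Type} [Fintype ι] [DecidableEq ι]

section forms

variable (i : F₀ →+* F) (Q₀ : QuadraticForm F₀ (ι → F₀)) (Q : QuadraticForm F (ι → F))
  (hQ : ∀ v : ι → F₀, Q (vmap i v) = i (Q₀ v))

include hQ in
/-- base change of a similarity is a similarity, with the mapped multiplier -/
theorem map_similarity {M₀ : Matrix ι ι F₀} {c : F₀}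
    (hc : ∀ v, Q₀ (M₀ *ᵥ v) = c * Q₀ v) (u : ι → F) :
    Q ((M₀.map i) *ᵥ u) = i c * Q u := by
  set M : Matrix ι ι F := M₀.map i with hM
  let P : QuadraticForm F (ι → F) := Q.comp (Matrix.toLin' M) - (i c) • Q
  have hP : ∀ v, P v = Q (M *ᵥ v) - i c * Q v := by
    intro v
    show (Q.comp (Matrix.toLin' M)) v - ((i c) • Q) v = _
    rw [QuadraticMap.comp_apply, Matrix.toLin'_apply, QuadraticMap.smul_apply, smul_eq_mul]
  have h0 := quad_zero_of_vmap i P (fun v₀ => by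
    rw [hP, hM, ← vmap_mulVec, hQ, hQ, hc, map_mul, sub_self]) u
  rw [hP] at h0
  exact sub_eq_zero.1 h0

include hQ in
theorem map_mem_quadSimilarityGroup {g₀ : GL ι F₀}
    (hg₀ : g₀ ∈ Cfsg.Geo.quadSimilarityGroup (F := F₀) ⇑Q₀) :
    Matrix.GeneralLinearGroup.map i g₀ ∈ Cfsg.Geo.quadSimilarityGroup (F := F) ⇑Q := by
  obtain ⟨c, hc⟩ := hg₀
  refine ⟨Units.map (i : F₀ →* F) c, fun v => ?_⟩
  exact map_similarity i Q₀ Q hQ hc v

/-- `GO(Q₀) → GO(Q)` -/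
noncomputable def goIncl : ↥(Cfsg.Geo.quadSimilarityGroup (F := F₀) ⇑Q₀) →*
    ↥(Cfsg.Geo.quadSimilarityGroup (F := F) ⇑Q) :=
  ((Matrix.GeneralLinearGroup.map i).comp
    (Cfsg.Geo.quadSimilarityGroup (F := F₀) ⇑Q₀).subtype).codRestrict
    (Cfsg.Geo.quadSimilarityGroup (F := F) ⇑Q)
    (fun g₀ => map_mem_quadSimilarityGroup i Q₀ Q hQ g₀.2)

theorem goIncl_coe (g₀ : ↥(Cfsg.Geo.quadSimilarityGroup (F := F₀) ⇑Q₀)) :
    (((goIncl i Q₀ Q hQ g₀ : ↥(Cfsg.Geo.quadSimilarityGroup (F := F) ⇑Q)) : GL ι F) :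
      Matrix ι ι F) = (g₀.1 : Matrix ι ι F₀).map i := rfl

theorem goIncl_injective : Function.Injective (goIncl i Q₀ Q hQ) := by
  intro g h hgh
  apply Subtype.ext
  apply Units.ext
  have h1 := congrArg (fun k : ↥(Cfsg.Geo.quadSimilarityGroup (F := F) ⇑Q) =>
    ((k : GL ι F) : Matrix ι ι F)) hgh
  simp only [goIncl_coe] at h1
  ext a b
  have h2 := congrFun (congrFun h1 a) b
  simp only [Matrix.map_apply] at h2
  exact i.injective h2

theorem goIncl_toGO (x₀ : ↥(Cfsg.isometryGroup F₀ ⇑Q₀)) :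
    goIncl i Q₀ Q hQ (toGO Q₀ x₀) = toGO Q (isoIncl i Q₀ Q hQ x₀) := by
  apply Subtype.ext
  apply Units.ext
  rfl

theorem det_goIncl (g₀ : ↥(Cfsg.Geo.quadSimilarityGroup (F := F₀) ⇑Q₀)) :
    Matrix.GeneralLinearGroup.det (goIncl i Q₀ Q hQ g₀).1
      = Units.map (i : F₀ →* F) (Matrix.GeneralLinearGroup.det g₀.1) := by
  apply Units.ext
  show (((goIncl i Q₀ Q hQ g₀ : ↥(Cfsg.Geo.quadSimilarityGroup (F := F) ⇑Q)) : GL ι F) :
      Matrix ι ι F).det = i ((g₀.1 : Matrix ι ι F₀).det)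
  rw [goIncl_coe, ← RingHom.mapMatrix_apply, ← RingHom.map_det]

variable {t₀ : ι → F₀} (ht₀ : Q₀ t₀ ≠ 0)

theorem multHom_goIncl (g₀ : ↥(Cfsg.Geo.quadSimilarityGroup (F := F₀) ⇑Q₀)) :
    multHom ⇑Q (Q_vmap_ne_zero i Q₀ Q hQ ht₀) (goIncl i Q₀ Q hQ g₀)
      = Units.map (i : F₀ →* F) (multHom ⇑Q₀ ht₀ g₀) := by
  apply multHom_eq
  intro v
  rw [goIncl_coe]
  exact map_similarity i Q₀ Q hQ (multFun_spec ⇑Q₀ g₀) v

theorem dHom_goIncl (k : ℕ) (g₀ : ↥(Cfsg.Geo.quadSimilarityGroup (F := F₀) ⇑Q₀)) :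
    dHom Q (Q_vmap_ne_zero i Q₀ Q hQ ht₀) k (goIncl i Q₀ Q hQ g₀)
      = Units.map (i : F₀ →* F) (dHom Q₀ ht₀ k g₀) := by
  rw [dHom_apply, dHom_apply, det_goIncl, multHom_goIncl i Q₀ Q hQ ht₀, map_mul, map_pow, map_inv]

/-- `ker dHom₀ → ker dHom` -/
noncomputable def gIncl (k : ℕ) : ↥(dHom Q₀ ht₀ k).ker →*
    ↥(dHom Q (Q_vmap_ne_zero i Q₀ Q hQ ht₀) k).ker :=
  ((goIncl i Q₀ Q hQ).comp (dHom Q₀ ht₀ k).ker.subtype).codRestrict _ (fun g₀ => by
    rw [MonoidHom.mem_ker, MonoidHom.comp_apply, dHom_goIncl i Q₀ Q hQ ht₀, Subgroup.coe_subtype,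
      MonoidHom.mem_ker.1 g₀.2, map_one])

theorem gIncl_coe (k : ℕ) (g₀ : ↥(dHom Q₀ ht₀ k).ker) :
    ((gIncl i Q₀ Q hQ ht₀ k g₀ : ↥(dHom Q (Q_vmap_ne_zero i Q₀ Q hQ ht₀) k).ker) :
      ↥(Cfsg.Geo.quadSimilarityGroup (F := F) ⇑Q)) = goIncl i Q₀ Q hQ g₀.1 := rfl

theorem gIncl_injective (k : ℕ) : Function.Injective (gIncl i Q₀ Q hQ ht₀ k) := by
  intro g h hgh
  apply Subtype.ext
  apply goIncl_injective i Q₀ Q hQ
  rw [← gIncl_coe, ← gIncl_coe, hgh]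

/-- a similarity over `F₀` is scalar iff its base change is -/
theorem goIncl_mem_scalars_iff (hne : Nonempty ι)
    (g₀ : ↥(Cfsg.Geo.quadSimilarityGroup (F := F₀) ⇑Q₀)) :
    ((goIncl i Q₀ Q hQ g₀ : ↥(Cfsg.Geo.quadSimilarityGroup (F := F) ⇑Q)) : GL ι F)
        ∈ Cfsg.Geo.scalars ι F ↔ (g₀ : GL ι F₀) ∈ Cfsg.Geo.scalars ι F₀ := by
  rw [Cfsg.Geo.mem_scalars_iff, Cfsg.Geo.mem_scalars_iff]
  constructor
  · rintro ⟨a, ha⟩
    have h1 : (g₀.1 : Matrix ι ι F₀).map i = (a : F) • (1 : Matrix ι ι F) := by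
      rw [← goIncl_coe i Q₀ Q hQ, ha]
    have hent : ∀ x y, i ((g₀.1 : Matrix ι ι F₀) x y) = if x = y then (a : F) else 0 := by
      intro x y
      have := congrFun (congrFun h1 x) y
      rw [Matrix.map_apply, Matrix.smul_apply, Matrix.one_apply, smul_eq_mul, mul_ite, mul_one,
        mul_zero] at this
      exact this
    obtain ⟨j⟩ := hne
    obtain ⟨c₀, hc₀⟩ : ∃ c₀, c₀ = (g₀.1 : Matrix ι ι F₀) j j := ⟨_, rfl⟩
    have hic₀ : i c₀ = (a : F) := by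
      rw [hc₀, hent, if_pos rfl]
    have hc₀0 : c₀ ≠ 0 := by
      rintro rfl
      rw [map_zero] at hic₀
      exact a.ne_zero hic₀.symm
    refine ⟨Units.mk0 c₀ hc₀0, ?_⟩
    ext x y
    apply i.injective
    rw [hent, Units.val_mk0, Matrix.smul_apply, Matrix.one_apply, smul_eq_mul, mul_ite, mul_one,
      mul_zero]
    split_ifs
    · exact hic₀.symm
    · exact (map_zero i).symm
  · rintro ⟨c, hc⟩
    refine ⟨Units.map (i : F₀ →* F) c, ?_⟩
    rw [goIncl_coe, hc]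
    ext x y
    rw [Matrix.map_apply, Matrix.smul_apply, Matrix.smul_apply, Matrix.one_apply, Matrix.one_apply,
      smul_eq_mul, smul_eq_mul, map_mul]
    split_ifs
    · rw [map_one]; rfl
    · rw [map_zero]; rfl

include hQ ht₀ in
/-- descent: a similarity of `Q` with entries in the range of `i` comes from `Q₀` -/
theorem exists_goIncl_eq (g : ↥(Cfsg.Geo.quadSimilarityGroup (F := F) ⇑Q))
    (hg : ∀ a b, ((g : GL ι F) : Matrix ι ι F) a b ∈ i.range) :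
    ∃ g₀ : ↥(Cfsg.Geo.quadSimilarityGroup (F := F₀) ⇑Q₀), goIncl i Q₀ Q hQ g₀ = g := by
  classical
  choose M₀ hM₀ using hg
  have hmap : (Matrix.of M₀).map i = ((g : GL ι F) : Matrix ι ι F) := by
    ext a b
    rw [Matrix.map_apply, Matrix.of_apply, hM₀]
  have hdet : (Matrix.of M₀).det ≠ 0 := by
    intro h0
    have h1 : (((g : GL ι F) : Matrix ι ι F)).det = 0 := by
      rw [← hmap, ← RingHom.mapMatrix_apply, ← RingHom.map_det, h0, map_zero]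
    exact ((Matrix.isUnit_iff_isUnit_det _).mp (Units.isUnit (g : GL ι F))).ne_zero h1
  obtain ⟨G₀, hG₀⟩ : ∃ G₀ : GL ι F₀, (G₀ : Matrix ι ι F₀) = Matrix.of M₀ :=
    ⟨Matrix.GeneralLinearGroup.mkOfDetNeZero _ hdet, rfl⟩
  obtain ⟨c, hc⟩ := g.2
  -- the multiplier lies in the range of `i`
  set c₀ : F₀ := Q₀ (Matrix.of M₀ *ᵥ t₀) / Q₀ t₀ with hc₀
  have hcc₀ : (c : F) = i c₀ := by
    have h1 := hc (vmap i t₀)
    rw [← hmap, ← vmap_mulVec, hQ, hQ] at h1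
    rw [hc₀, map_div₀, h1]
    have : i (Q₀ t₀) ≠ 0 := by
      intro h
      apply ht₀
      apply i.injective
      rw [h, map_zero]
    field_simp
  have hc₀0 : c₀ ≠ 0 := by
    intro h
    rw [h, map_zero] at hcc₀
    exact c.ne_zero hcc₀
  have hmem : G₀ ∈ Cfsg.Geo.quadSimilarityGroup (F := F₀) ⇑Q₀ := by
    refine ⟨Units.mk0 c₀ hc₀0, fun u => ?_⟩
    apply i.injective
    rw [Units.val_mk0, map_mul, ← hQ, ← hQ, vmap_mulVec, hG₀, hmap, ← hcc₀]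
    exact hc _
  refine ⟨⟨G₀, hmem⟩, ?_⟩
  apply Subtype.ext
  apply Units.ext
  rw [goIncl_coe]
  show (G₀ : Matrix ι ι F₀).map i = _
  rw [hG₀, hmap]

end forms

end Cfsg.Agent.Helper37.OddF
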