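import Mathlib
import Cfsg.Agent.Helper37.EvFA

/-!
Helper37: the standard field automorphism `phi1 σ` of `PΩ(Q)` attached to a single automorphism `σ`
with `Q (σ ∘ v) = σ (Q v)`; its order; `phi1 σ * conjAut g = conjAut (σ g) * phi1 σ`; and, for a
subgroup `G` of the similarity group containing the scalars and a subgroup `G₀` of the similarity
group over the fixed field with `g₀ ∈ G₀ ↔ i g₀ ∈ G`: the centraliser of `phi1 σ` in the image of
`G` is the image of `G₀` (Hilbert 90), and it is isomorphic to the image of `G₀` in `Aut(PΩ(Q₀))`.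
-/

set_option autoImplicit false
set_option linter.unusedSectionVars false

namespace Cfsg.Agent.Helper37.OddF

open Matrix Cfsg.Agent.Helper44 Cfsg.Agent.Helper12.GammaO Cfsg.Agent.Helper14.AutPSL

variable {F₀ F : Type*} [Field F₀] [Field F] {ι : Type} [Fintype ι] [DecidableEq ι]

section sigma

variable (Q : QuadraticForm F (ι → F)) (σ : F ≃+* F)
  (hσ : ∀ v : ι → F, Q (vmap (σ : F →+* F) v) = σ (Q v))

/-- the pair `(1, σ)` -/
def fld : ↥(GamO ⇑Q) :=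
  ⟨⟨1, σ⟩, ⟨1, fun v => by
    rw [Units.val_one, Units.val_one, Matrix.one_mulVec, one_mul]
    exact hσ v⟩⟩

/-- the standard field automorphism of `PΩ(Q)` attached to `σ` -/
noncomputable def phi1 : MulAut (Cfsg.POmega F ⇑Q) := psi ⇑Q (fld Q σ hσ)

/-- a field automorphism in the sense of the Prelude is `phi1 σ` -/
theorem eq_phi1_of_isFieldAut (φ : MulAut (Cfsg.POmega F ⇑Q))
    (hφ : Cfsg.IsFieldAutPOmegaOf ⇑Q σ φ) : φ = phi1 Q σ hσ := by
  unfold phi1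
  rw [← Cfsg.Agent.Helper12.GammaO.isInduced_iff]
  intro s s' hs
  apply hφ s s'
  rw [hs]
  show (1 : Matrix _ _ F) * _ * ((1 : GL _ F)⁻¹ : GL _ F).1 = _
  rw [inv_one, Units.val_one, Matrix.one_mul, Matrix.mul_one]
  rfl

theorem fld_pow_right (n : ℕ) : ((fld Q σ hσ) ^ n).1.right = σ ^ n := by
  have h := map_pow (piHom Q) (fld Q σ hσ) n
  rw [piHom_apply, piHom_apply] at h
  exact h

theorem fld_pow_left (n : ℕ) : ((fld Q σ hσ) ^ n).1.left = 1 := by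
  induction n with
  | zero => rfl
  | succ n ih =>
    rw [pow_succ]
    show ((fld Q σ hσ) ^ n).1.left * fieldAct ((fld Q σ hσ) ^ n).1.right (1 : GL ι F) = 1
    rw [ih, map_one, mul_one]

theorem phi1_pow_eq_one_iff [Fintype F] (hQ : (QuadraticMap.polarBilin Q).Nondegenerate)
    (hn : 7 ≤ Fintype.card ι) (n : ℕ) : (phi1 Q σ hσ) ^ n = 1 ↔ σ ^ n = 1 := by
  unfold phi1
  rw [← map_pow]
  constructor
  · intro h
    have hk : (fld Q σ hσ) ^ n ∈ (psi ⇑Q).ker := MonoidHom.mem_ker.2 h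
    have h1 := (mem_ker_psi Q hQ hn _ hk).1
    rw [fld_pow_right] at h1
    exact h1
  · intro h
    have h1 : (fld Q σ hσ) ^ n = 1 := by
      apply Subtype.ext
      apply SemidirectProduct.ext
      · exact fld_pow_left Q σ hσ n
      · rw [fld_pow_right, h]
        rfl
    rw [h1, map_one]

theorem orderOf_phi1 [Fintype F] (hQ : (QuadraticMap.polarBilin Q).Nondegenerate)
    (hn : 7 ≤ Fintype.card ι) : orderOf (phi1 Q σ hσ) = orderOf σ := by
  rw [orderOf_eq_orderOf_iff]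
  intro n
  exact phi1_pow_eq_one_iff Q σ hσ hQ hn n

/-- `σ` applied entrywise to a similarity -/
noncomputable def goSig : ↥(Cfsg.Geo.quadSimilarityGroup (F := F) ⇑Q) →*
    ↥(Cfsg.Geo.quadSimilarityGroup (F := F) ⇑Q) :=
  goIncl (σ : F →+* F) Q Q hσ

theorem goSig_coe (g : ↥(Cfsg.Geo.quadSimilarityGroup (F := F) ⇑Q)) :
    (((goSig Q σ hσ g : ↥(Cfsg.Geo.quadSimilarityGroup (F := F) ⇑Q)) : GL ι F) : Matrix ι ι F)
      = (g.1 : Matrix ι ι F).map σ := rfl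

theorem fld_mul_ofSim (g : ↥(Cfsg.Geo.quadSimilarityGroup (F := F) ⇑Q)) :
    fld Q σ hσ * ofSim Q g = ofSim Q (goSig Q σ hσ g) * fld Q σ hσ := by
  apply Subtype.ext
  apply SemidirectProduct.ext
  · show (1 : GL ι F) * fieldAct σ g.1 = (goSig Q σ hσ g).1 * fieldAct (1 : F ≃+* F) 1
    rw [map_one, one_mul, mul_one, fieldAct_apply]
    apply Units.ext
    rfl
  · show σ * 1 = 1 * σ
    rw [mul_one, one_mul]

/-- `phi1 σ * conjAut g = conjAut (σ g) * phi1 σ` -/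
theorem phi1_mul_conjAut (g : ↥(Cfsg.Geo.quadSimilarityGroup (F := F) ⇑Q)) :
    phi1 Q σ hσ * conjAut ⇑Q g = conjAut ⇑Q (goSig Q σ hσ g) * phi1 Q σ hσ := by
  rw [← psi_ofSim, ← psi_ofSim]
  unfold phi1
  rw [← map_mul, ← map_mul, fld_mul_ofSim Q σ hσ]

/-- `conjAut g` commutes with `phi1 σ` iff `σ g` and `g` differ by a scalar -/
theorem comm_conjAut_iff [Fintype F] (hQ : (QuadraticMap.polarBilin Q).Nondegenerate)
    (hn : 7 ≤ Fintype.card ι) (g : ↥(Cfsg.Geo.quadSimilarityGroup (F := F) ⇑Q)) :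
    phi1 Q σ hσ * conjAut ⇑Q g = conjAut ⇑Q g * phi1 Q σ hσ ↔
      ∃ c : Fˣ, goSig Q σ hσ g = scalarGO Q c * g := by
  rw [phi1_mul_conjAut]
  constructor
  · intro h
    have h1 : conjAut ⇑Q (goSig Q σ hσ g) = conjAut ⇑Q g := mul_right_cancel h
    have h2 : goSig Q σ hσ g * g⁻¹ ∈ (conjAut ⇑Q).ker := by
      rw [MonoidHom.mem_ker, map_mul, map_inv, h1, mul_inv_cancel]
    rw [ker_conjAut Q hQ hn, Subgroup.mem_subgroupOf, mem_scalars_iff_eq_scalarGO] at h2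
    obtain ⟨c, hc⟩ := h2
    exact ⟨c, by rw [← hc, inv_mul_cancel_right]⟩
  · rintro ⟨c, hc⟩
    rw [hc, map_mul,
      MonoidHom.mem_ker.1 (mem_ker_of_mem_scalars ⇑Q _ (scalarGO_mem_scalars Q c)), one_mul]

end sigma

section descent

variable (i : F₀ →+* F) (Q₀ : QuadraticForm F₀ (ι → F₀)) (Q : QuadraticForm F (ι → F))
  (hQ : ∀ v : ι → F₀, Q (vmap i v) = i (Q₀ v))
  (σ : F ≃+* F) (hσ : ∀ v : ι → F, Q (vmap (σ : F →+* F) v) = σ (Q v))
  (hi : ∀ a : F, σ a = a ↔ a ∈ i.range)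
  (G : Subgroup ↥(Cfsg.Geo.quadSimilarityGroup (F := F) ⇑Q))
  (G₀ : Subgroup ↥(Cfsg.Geo.quadSimilarityGroup (F := F₀) ⇑Q₀))
  (hsc : ∀ c : Fˣ, scalarGO Q c ∈ G)
  (hG₀ : ∀ g₀ : ↥(Cfsg.Geo.quadSimilarityGroup (F := F₀) ⇑Q₀), g₀ ∈ G₀ ↔ goIncl i Q₀ Q hQ g₀ ∈ G)

include hi in
theorem goSig_goIncl (g₀ : ↥(Cfsg.Geo.quadSimilarityGroup (F := F₀) ⇑Q₀)) :
    goSig Q σ hσ (goIncl i Q₀ Q hQ g₀) = goIncl i Q₀ Q hQ g₀ := by
  apply Subtype.ext
  apply Units.ext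
  rw [goSig_coe, goIncl_coe]
  ext a b
  rw [Matrix.map_apply, Matrix.map_apply]
  exact (hi _).2 ⟨_, rfl⟩

/-- `G₀ → G` -/
noncomputable def gI : ↥G₀ →* ↥G :=
  ((goIncl i Q₀ Q hQ).comp G₀.subtype).codRestrict G (fun g₀ => (hG₀ g₀.1).1 g₀.2)

theorem gI_coe (g₀ : ↥G₀) : ((gI i Q₀ Q hQ G G₀ hG₀ g₀ : ↥G) :
    ↥(Cfsg.Geo.quadSimilarityGroup (F := F) ⇑Q)) = goIncl i Q₀ Q hQ g₀.1 := rfl

/-- the action of `G` on `PΩ(Q)` -/
noncomputable def thetaG : ↥G →* MulAut (Cfsg.POmega F ⇑Q) := (conjAut ⇑Q).comp G.subtype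

theorem thetaG_apply (g : ↥G) : thetaG Q G g = conjAut ⇑Q g.1 := rfl

theorem range_thetaG : (thetaG Q G).range = G.map (conjAut ⇑Q) := by
  ext β
  constructor
  · rintro ⟨g, rfl⟩
    exact ⟨g.1, g.2, rfl⟩
  · rintro ⟨g, hg, rfl⟩
    exact ⟨⟨g, hg⟩, rfl⟩

include hi hsc in
/-- the centraliser of `phi1 σ` in the image of `G` is the image of `G₀` -/
theorem map_range_gI [Fintype F] {t₀ : ι → F₀} (ht₀ : Q₀ t₀ ≠ 0)
    (hnd : (QuadraticMap.polarBilin Q).Nondegenerate) (hn : 7 ≤ Fintype.card ι) :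
    ((gI i Q₀ Q hQ G G₀ hG₀).range).map (thetaG Q G)
      = (thetaG Q G).range ⊓ Subgroup.centralizer {phi1 Q σ hσ} := by
  ext β
  rw [Subgroup.mem_inf, Subgroup.mem_centralizer_iff]
  constructor
  · rintro ⟨_, ⟨g₀, rfl⟩, rfl⟩
    refine ⟨⟨_, rfl⟩, ?_⟩
    intro y hy
    rw [Set.mem_singleton_iff] at hy
    rw [hy, thetaG_apply, gI_coe, comm_conjAut_iff Q σ hσ hnd hn]
    refine ⟨1, ?_⟩
    rw [goSig_goIncl i Q₀ Q hQ σ hσ hi]
    have : scalarGO Q (1 : Fˣ) = 1 := by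
      apply Subtype.ext
      show Matrix.GeneralLinearGroup.scalar ι (1 : Fˣ) = 1
      exact map_one _
    rw [this, one_mul]
  · rintro ⟨⟨g, rfl⟩, hc⟩
    have h1 := hc _ (Set.mem_singleton _)
    rw [thetaG_apply, comm_conjAut_iff Q σ hσ hnd hn] at h1
    obtain ⟨c, hc1⟩ := h1
    have h4 : ((g.1.1 : GL ι F) : Matrix ι ι F).map σ
        = (c : F) • ((g.1.1 : GL ι F) : Matrix ι ι F) := by
      have h5 := congrArg (fun k : ↥(Cfsg.Geo.quadSimilarityGroup (F := F) ⇑Q) =>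
        ((k : GL ι F) : Matrix ι ι F)) hc1
      simp only [goSig_coe] at h5
      rw [h5]
      apply Matrix.mulVec_injective
      funext v
      show (((scalarGO Q c * g.1 : ↥(Cfsg.Geo.quadSimilarityGroup (F := F) ⇑Q)) : GL ι F) :
        Matrix ι ι F) *ᵥ v = _
      rw [Subgroup.coe_mul, Units.val_mul, ← Matrix.mulVec_mulVec, scalarGO_mulVec,
        Matrix.smul_mulVec]
    have hg0 : ((g.1.1 : GL ι F) : Matrix ι ι F) ≠ 0 := by
      intro h0
      have h5 : ((g.1.1 : GL ι F) : Matrix ι ι F) * ((g.1.1⁻¹ : GL ι F) : Matrix ι ι F) = 1 := by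
        rw [← Units.val_mul, mul_inv_cancel, Units.val_one]
      rw [h0, Matrix.zero_mul] at h5
      have h6 := congrArg (fun M : Matrix ι ι F => M *ᵥ vmap i t₀) h5
      simp only [Matrix.zero_mulVec, Matrix.one_mulVec] at h6
      have h7 : Q (vmap i t₀) = 0 := by rw [← h6, map_zero]
      exact Q_vmap_ne_zero i Q₀ Q hQ ht₀ h7
    obtain ⟨μ, hμ, hfix⟩ := exists_smul_fixed σ h4 hg0
    set g' : ↥(Cfsg.Geo.quadSimilarityGroup (F := F) ⇑Q) := scalarGO Q (Units.mk0 μ hμ) * g.1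
      with hg'
    have hg'c : ((g'.1 : GL ι F) : Matrix ι ι F) = μ • ((g.1.1 : GL ι F) : Matrix ι ι F) := by
      apply Matrix.mulVec_injective
      funext v
      rw [hg', Subgroup.coe_mul, Units.val_mul, ← Matrix.mulVec_mulVec, scalarGO_mulVec,
        Matrix.smul_mulVec, Units.val_mk0]
    have hg'G : g' ∈ G := Subgroup.mul_mem _ (hsc _) g.2
    obtain ⟨g₀, hg₀⟩ := exists_goIncl_eq i Q₀ Q hQ ht₀ g' (fun a b => by
      rw [← hi, hg'c]
      have := congrFun (congrFun hfix a) b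
      rwa [Matrix.map_apply] at this)
    have hg₀G : g₀ ∈ G₀ := by
      rw [hG₀, hg₀]
      exact hg'G
    refine ⟨gI i Q₀ Q hQ G G₀ hG₀ ⟨g₀, hg₀G⟩, ⟨_, rfl⟩, ?_⟩
    rw [thetaG_apply, thetaG_apply, gI_coe, hg₀, hg', map_mul,
      MonoidHom.mem_ker.1 (mem_ker_of_mem_scalars ⇑Q _ (scalarGO_mem_scalars Q _)), one_mul]

/-- the two actions of `G₀` (on `PΩ(Q)` through `G`, and on `PΩ(Q₀)`) have the same kernel -/
theorem ker_thetaG_comp_gI [Fintype F] [Fintype F₀]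
    (hnd : (QuadraticMap.polarBilin Q).Nondegenerate)
    (hnd₀ : (QuadraticMap.polarBilin Q₀).Nondegenerate) (hn : 7 ≤ Fintype.card ι) :
    ((thetaG Q G).comp (gI i Q₀ Q hQ G G₀ hG₀)).ker = (thetaG Q₀ G₀).ker := by
  have hne : Nonempty ι := by
    rw [← Fintype.card_pos_iff]
    omega
  ext g₀
  rw [MonoidHom.mem_ker, MonoidHom.mem_ker, MonoidHom.comp_apply, thetaG_apply, thetaG_apply,
    gI_coe, ← MonoidHom.mem_ker, ← MonoidHom.mem_ker, ker_conjAut Q hnd hn,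
    ker_conjAut Q₀ hnd₀ hn, Subgroup.mem_subgroupOf, Subgroup.mem_subgroupOf]
  exact goIncl_mem_scalars_iff i Q₀ Q hQ hne g₀.1

include hi hsc hQ hG₀ in
/-- the centraliser of `phi1 σ` in the image of `G` is isomorphic to the image of `G₀` in
`Aut(PΩ(Q₀))` -/
theorem nonempty_centralizer_equiv_G [Fintype F] [Fintype F₀] {t₀ : ι → F₀} (ht₀ : Q₀ t₀ ≠ 0)
    (hnd : (QuadraticMap.polarBilin Q).Nondegenerate)
    (hnd₀ : (QuadraticMap.polarBilin Q₀).Nondegenerate) (hn : 7 ≤ Fintype.card ι) :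
    Nonempty (↥(G.map (conjAut ⇑Q) ⊓ Subgroup.centralizer {phi1 Q σ hσ})
      ≃* ↥(G₀.map (conjAut ⇑Q₀))) := by
  have h1 : ((thetaG Q G).comp (gI i Q₀ Q hQ G G₀ hG₀)).range
      = G.map (conjAut ⇑Q) ⊓ Subgroup.centralizer {phi1 Q σ hσ} := by
    rw [← range_thetaG, ← map_range_gI i Q₀ Q hQ σ hσ hi G G₀ hsc hG₀ ht₀ hnd hn,
      MonoidHom.range_eq_map, MonoidHom.range_eq_map, ← Subgroup.map_map]
  have e1 := (MulEquiv.subgroupCongr h1).symm
  have e2 := (QuotientGroup.quotientKerEquivRange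
    ((thetaG Q G).comp (gI i Q₀ Q hQ G G₀ hG₀))).symm
  have e3 := QuotientGroup.quotientMulEquivOfEq
    (ker_thetaG_comp_gI i Q₀ Q hQ G G₀ hG₀ hnd hnd₀ hn)
  have e4 := QuotientGroup.quotientKerEquivRange (thetaG Q₀ G₀)
  have e5 := MulEquiv.subgroupCongr (range_thetaG Q₀ G₀)
  exact ⟨(((e1.trans e2).trans e3).trans e4).trans e5⟩

end descent

end Cfsg.Agent.Helper37.OddF
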