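import Mathlib
import Cfsg.Agent.Helper37.EvFB
import Cfsg.Agent.Helper14.SplitAbs

/-!
Helper37: the number of `Inn`-classes in the class of the standard field automorphism `phi1 σ`
under the image of a subgroup `G` of the similarity group: it is `[G : N · G₀]`, `N` the preimage
of `Inn`.  For `q` odd, `G = ker dHom` and an extension `F/F₀` in which non-squares stay
non-squares, this index is one.
-/

set_option autoImplicit false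
set_option linter.unusedSectionVars false

namespace Cfsg.Agent.Helper37.OddF

open Matrix Cfsg.Agent.Helper44 Cfsg.Agent.Helper12.GammaO Cfsg.Agent.Helper14.AutPSL
  Cfsg.Agent.Helper14.SplitAbs

variable {F₀ F : Type*} [Field F₀] [Field F] {ι : Type} [Fintype ι] [DecidableEq ι]

section count

variable (i : F₀ →+* F) (Q₀ : QuadraticForm F₀ (ι → F₀)) (Q : QuadraticForm F (ι → F))
  (hQ : ∀ v : ι → F₀, Q (vmap i v) = i (Q₀ v))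
  (σ : F ≃+* F) (hσ : ∀ v : ι → F, Q (vmap (σ : F →+* F) v) = σ (Q v))
  (hi : ∀ a : F, σ a = a ↔ a ∈ i.range)
  (G : Subgroup ↥(Cfsg.Geo.quadSimilarityGroup (F := F) ⇑Q))
  (G₀ : Subgroup ↥(Cfsg.Geo.quadSimilarityGroup (F := F₀) ⇑Q₀))
  (hsc : ∀ c : Fˣ, scalarGO Q c ∈ G)
  (hG₀ : ∀ g₀ : ↥(Cfsg.Geo.quadSimilarityGroup (F := F₀) ⇑Q₀), g₀ ∈ G₀ ↔ goIncl i Q₀ Q hQ g₀ ∈ G)

/-- the preimage of `Inn` in `G` -/
noncomputable def innG : Subgroup ↥G :=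
  (Cfsg.Inn (Cfsg.POmega F ⇑Q)).comap (thetaG Q G)

instance innG_normal : (innG Q G).Normal := by
  unfold innG
  haveI : (Cfsg.Inn (Cfsg.POmega F ⇑Q)).Normal := Cfsg.Agent.Helper12.GammaO.Inn_normal _
  infer_instance

theorem mem_innG (g : ↥G) : g ∈ innG Q G ↔ conjAut ⇑Q g.1 ∈ Cfsg.Inn (Cfsg.POmega F ⇑Q) :=
  Iff.rfl

include hi hsc in
/-- the class count is the index of `N · G₀` in `G` -/
theorem splitClassCount_eq_index [Fintype F] {t₀ : ι → F₀} (ht₀ : Q₀ t₀ ≠ 0)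
    (hnd : (QuadraticMap.polarBilin Q).Nondegenerate) (hn : 7 ≤ Fintype.card ι)
    (hInn : Cfsg.Inn (Cfsg.POmega F ⇑Q) ≤ G.map (conjAut ⇑Q)) :
    Cfsg.splitClassCount (G.map (conjAut ⇑Q)) (Cfsg.Inn (Cfsg.POmega F ⇑Q)) (phi1 Q σ hσ)
      = (innG Q G ⊔ (gI i Q₀ Q hQ G G₀ hG₀).range).index := by
  have h1 : (innG Q G).map (thetaG Q G) = Cfsg.Inn (Cfsg.POmega F ⇑Q) := by
    unfold innG
    rw [Subgroup.map_comap_eq, range_thetaG]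
    exact inf_eq_right.2 hInn
  rw [← range_thetaG, ← h1]
  exact splitClassCount_abs (thetaG Q G) (innG Q G) (gI i Q₀ Q hQ G G₀ hG₀).range
    (fun g hg => by
      unfold innG
      rw [Subgroup.mem_comap, MonoidHom.mem_ker.1 hg]
      exact Subgroup.one_mem _) _
    (map_range_gI i Q₀ Q hQ σ hσ hi G G₀ hsc hG₀ ht₀ hnd hn)

/-- if every element of `G` is congruent modulo `N` to an element coming from `G₀` the index is
one -/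
theorem index_eq_one_of_forall
    (h : ∀ g : ↥G, ∃ g₀ : ↥G₀, g * (gI i Q₀ Q hQ G G₀ hG₀ g₀)⁻¹ ∈ innG Q G) :
    (innG Q G ⊔ (gI i Q₀ Q hQ G G₀ hG₀).range).index = 1 := by
  rw [Subgroup.index_eq_one, eq_top_iff]
  intro g _
  obtain ⟨g₀, hg₀⟩ := h g
  have h4 : g = g * (gI i Q₀ Q hQ G G₀ hG₀ g₀)⁻¹ * gI i Q₀ Q hQ G G₀ hG₀ g₀ := by group
  rw [h4]
  exact Subgroup.mul_mem _ (Subgroup.mem_sup_left hg₀) (Subgroup.mem_sup_right ⟨g₀, rfl⟩)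

end count

section odd

variable (i : F₀ →+* F) (Q₀ : QuadraticForm F₀ (ι → F₀)) (Q : QuadraticForm F (ι → F))
  (hQ : ∀ v : ι → F₀, Q (vmap i v) = i (Q₀ v))

/-- `conjAut (c · ω)` is inner for `ω ∈ Ω` -/
theorem conjAut_scalar_mul_Omega_mem_Inn (c : Fˣ) (s : ↥(Cfsg.isometryGroup F ⇑Q))
    (hs : s ∈ Cfsg.Omega F ⇑Q) :
    conjAut ⇑Q (scalarGO Q c * toGO Q s) ∈ Cfsg.Inn (Cfsg.POmega F ⇑Q) := by
  rw [map_mul, MonoidHom.mem_ker.1 (mem_ker_of_mem_scalars ⇑Q _ (scalarGO_mem_scalars Q c)),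
    one_mul]
  refine ⟨QuotientGroup.mk ⟨s, hs⟩, ?_⟩
  have h1 := conjAut_of_mem_Omega ⇑Q ⟨s, hs⟩ (isometryGroup_le_quadSimilarityGroup ⇑Q s.2)
  rw [← h1]
  rfl

/-- a similarity with `dHom = 1` and square multiplier is a scalar times a special isometry -/
theorem exists_scalar_mul_SO [Fintype F] {t : ι → F} (ht : Q t ≠ 0) (k : ℕ) (hk : Fintype.card ι = 2 * k)
    (g : ↥(Cfsg.Geo.quadSimilarityGroup (F := F) ⇑Q)) (hd : dHom Q ht k g = 1)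
    (hsq : IsSquare ((multHom ⇑Q ht g : Fˣ) : F)) :
    ∃ (c : Fˣ) (s : ↥(Cfsg.isometryGroup F ⇑Q)), detHom ⇑Q s = 1 ∧ g = scalarGO Q c * toGO Q s := by
  obtain ⟨c₁, hc₁⟩ := hsq
  have hc₁0 : c₁ ≠ 0 := by
    rintro rfl
    rw [mul_zero] at hc₁
    exact (multHom ⇑Q ht g).ne_zero hc₁
  set c : Fˣ := Units.mk0 c₁ hc₁0 with hc
  have hmc : multHom ⇑Q ht g = c * c := by
    apply Units.ext
    rw [hc₁, Units.val_mul, hc, Units.val_mk0]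
  set h : ↥(Cfsg.Geo.quadSimilarityGroup (F := F) ⇑Q) := scalarGO Q c⁻¹ * g with hh
  have hmh : multHom ⇑Q ht h = 1 := by
    rw [hh, map_mul, multHom_scalarGO, hmc]
    group
  have hiso : h.1 ∈ Cfsg.isometryGroup F ⇑Q := mem_isometryGroup_of_multHom ⇑Q ht h hmh
  refine ⟨c, ⟨h.1, hiso⟩, ?_, ?_⟩
  · have h1 : dHom Q ht k (toGO Q ⟨h.1, hiso⟩) = detHom ⇑Q ⟨h.1, hiso⟩ := dHom_toGO_gen Q ht k _
    rw [← h1]
    have h2 : toGO Q ⟨h.1, hiso⟩ = h := Subtype.ext rfl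
    rw [h2, hh, map_mul, dHom_scalarGO Q ht k hk, hd, one_mul]
  · have h2 : toGO Q ⟨h.1, hiso⟩ = h := Subtype.ext rfl
    rw [h2, hh, ← mul_assoc, ← Cfsg.Agent.Helper12.GammaO.scalarGO_mul, mul_inv_cancel,
      Cfsg.Agent.Helper12.GammaO.scalarGO_one, one_mul]

variable [Fintype F] [Fintype F₀] (h2 : (2 : F) ≠ 0)
  (hnd : (QuadraticMap.polarBilin Q).Nondegenerate)
  (hnd₀ : (QuadraticMap.polarBilin Q₀).Nondegenerate)
  (hns : ∀ c : F₀, ¬ IsSquare c → ¬ IsSquare (i c))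

include h2 hnd hnd₀ hns in
/-- a special isometry of `Q` is congruent modulo `Ω(Q)` to the base change of one of `Q₀` -/
theorem exists_soIncl_mul_mem_Omega (hfr : 2 ≤ Module.finrank F (ι → F))
    (hfr₀ : 2 ≤ Module.finrank F₀ (ι → F₀)) (s : ↥(Cfsg.isometryGroup F ⇑Q))
    (hs : detHom ⇑Q s = 1) :
    ∃ x₀ : ↥(detHom ⇑Q₀).ker, s * (isoIncl i Q₀ Q hQ x₀.1)⁻¹ ∈ Cfsg.Omega F ⇑Q := by
  by_cases hsΩ : s ∈ Cfsg.Omega F ⇑Q
  · refine ⟨1, ?_⟩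
    simpa using hsΩ
  · have hnot := not_range_soIncl_le_omSO i Q₀ Q hQ h2 hnd₀ hfr₀ hns
    obtain ⟨y, ⟨x₀, rfl⟩, hy⟩ := SetLike.not_le_iff_exists.1 hnot
    refine ⟨x₀, ?_⟩
    set s' : ↥(detHom ⇑Q).ker := ⟨s, MonoidHom.mem_ker.2 hs⟩ with hs'
    have h3 : s' * (soIncl i Q₀ Q hQ x₀)⁻¹ ∈ omSO Q := by
      rw [Subgroup.mul_mem_iff_of_index_two (index_omSO Q h2 hnd hfr)]
      constructor
      · intro h
        exact absurd h hsΩ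
      · intro h
        exact absurd ((Subgroup.inv_mem_iff _).1 h) hy
    exact h3

variable {t₀ : ι → F₀} (ht₀ : Q₀ t₀ ≠ 0) (k : ℕ) (hk : Fintype.card ι = 2 * k)

include h2 hnd hnd₀ hns hk in
/-- every element of `ker dHom` is congruent modulo scalars and `Ω(Q)` to the base change of an
element of `ker dHom₀` -/
theorem exists_gIncl_mul_mem_Inn (hfr : 2 ≤ Module.finrank F (ι → F))
    (hfr₀ : 2 ≤ Module.finrank F₀ (ι → F₀))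
    (δ₀ : ↥(dHom Q₀ ht₀ k).ker)
    (hδ₀ : ¬ IsSquare ((multHom ⇑Q₀ ht₀ δ₀.1 : F₀ˣ) : F₀))
    (g : ↥(dHom Q (Q_vmap_ne_zero i Q₀ Q hQ ht₀) k).ker) :
    ∃ g₀ : ↥(dHom Q₀ ht₀ k).ker,
      conjAut ⇑Q (g.1 * (goIncl i Q₀ Q hQ g₀.1)⁻¹) ∈ Cfsg.Inn (Cfsg.POmega F ⇑Q) := by
  have ht : Q (vmap i t₀) ≠ 0 := Q_vmap_ne_zero i Q₀ Q hQ ht₀
  -- the case of a square multiplier
  have key : ∀ g : ↥(Cfsg.Geo.quadSimilarityGroup (F := F) ⇑Q), dHom Q ht k g = 1 →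
      IsSquare ((multHom ⇑Q ht g : Fˣ) : F) →
      ∃ g₀ : ↥(dHom Q₀ ht₀ k).ker,
        conjAut ⇑Q (g * (goIncl i Q₀ Q hQ g₀.1)⁻¹) ∈ Cfsg.Inn (Cfsg.POmega F ⇑Q) := by
    intro g hd hsq
    obtain ⟨c, s, hs, rfl⟩ := exists_scalar_mul_SO Q ht k hk g hd hsq
    obtain ⟨x₀, hx₀⟩ := exists_soIncl_mul_mem_Omega i Q₀ Q hQ h2 hnd hnd₀ hns hfr hfr₀ s hs
    have hmem : toGO Q₀ x₀.1 ∈ (dHom Q₀ ht₀ k).ker := by
      rw [MonoidHom.mem_ker, dHom_toGO_gen]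
      exact MonoidHom.mem_ker.1 x₀.2
    refine ⟨⟨toGO Q₀ x₀.1, hmem⟩, ?_⟩
    have h3 : scalarGO Q c * toGO Q s * (goIncl i Q₀ Q hQ (toGO Q₀ x₀.1))⁻¹
        = scalarGO Q c * toGO Q (s * (isoIncl i Q₀ Q hQ x₀.1)⁻¹) := by
      rw [goIncl_toGO, mul_assoc, ← map_inv, ← map_mul]
    rw [h3]
    exact conjAut_scalar_mul_Omega_mem_Inn Q c _ hx₀
  by_cases hsq : IsSquare ((multHom ⇑Q ht g.1 : Fˣ) : F)
  · exact key g.1 (MonoidHom.mem_ker.1 g.2) hsq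
  · -- divide by `δ₀`
    set g' : ↥(Cfsg.Geo.quadSimilarityGroup (F := F) ⇑Q) := g.1 * (goIncl i Q₀ Q hQ δ₀.1)⁻¹
      with hg'
    have hd' : dHom Q ht k g' = 1 := by
      have hd2 : dHom Q ht k (goIncl i Q₀ Q hQ δ₀.1)
          = Units.map (i : F₀ →* F) (dHom Q₀ ht₀ k δ₀.1) := dHom_goIncl i Q₀ Q hQ ht₀ k δ₀.1
      have hd1 : dHom Q ht k g.1 = 1 := MonoidHom.mem_ker.1 g.2
      rw [hg', map_mul, map_inv, hd1, hd2, MonoidHom.mem_ker.1 δ₀.2, map_one, inv_one, mul_one]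
    have hsq' : IsSquare ((multHom ⇑Q ht g' : Fˣ) : F) := by
      have hmu : ((Units.map (i : F₀ →* F) (multHom ⇑Q₀ ht₀ δ₀.1) : Fˣ) : F)
          = i ((multHom ⇑Q₀ ht₀ δ₀.1 : F₀ˣ) : F₀) := rfl
      rw [hg', map_mul, map_inv]
      have hm2 : multHom ⇑Q ht (goIncl i Q₀ Q hQ δ₀.1)
          = Units.map (i : F₀ →* F) (multHom ⇑Q₀ ht₀ δ₀.1) := multHom_goIncl i Q₀ Q hQ ht₀ δ₀.1
      rw [hm2, Units.val_mul, Units.val_inv_eq_inv_val, hmu]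
      have hx : ((multHom ⇑Q ht g.1 : Fˣ) : F) ≠ 0 := Units.ne_zero _
      have hy : (i ((multHom ⇑Q₀ ht₀ δ₀.1 : F₀ˣ) : F₀))⁻¹ ≠ 0 :=
        inv_ne_zero (fun h => (multHom ⇑Q₀ ht₀ δ₀.1).ne_zero (i.injective (by rw [h, map_zero])))
      rw [isSquare_mul_iff hx hy, isSquare_inv]
      constructor
      · intro h
        exact absurd h hsq
      · intro h
        exact absurd h (hns _ hδ₀)
    obtain ⟨g₁, hg₁⟩ := key g' hd' hsq'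
    refine ⟨g₁ * δ₀, ?_⟩
    have h3 : g.1 * (goIncl i Q₀ Q hQ (g₁ * δ₀ : ↥(dHom Q₀ ht₀ k).ker).1)⁻¹
        = g' * (goIncl i Q₀ Q hQ g₁.1)⁻¹ := by
      rw [hg', Subgroup.coe_mul, map_mul, _root_.mul_inv_rev, mul_assoc]
    rw [h3]
    exact hg₁

end odd

end Cfsg.Agent.Helper37.OddF
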