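import Mathlib
import Cfsg.Agent.Helper37.EvFC
import Cfsg.Agent.Helper12.GammaOP

/-!
Helper37: transport tools.

* `splitClassCount` and `H ⊓ centralizer {x}` under an isomorphism of the ambient groups;
* `pcCongr`: an isomorphism `N ≃* N'` induces `N'/Z(N') ≃* ...` on commutator subgroups modulo centres;
* for `T ∈ GL` with `Q (T w) = Q' w`: the induced isomorphism `PΩ(Q) ≃* PΩ(Q')`, which carries
  `conjAut Q g` to `conjAut Q' (T⁻¹ g T)`;
* the image of `ker dHom` in `Aut(PΩ(Q))` is normalised by the image of `ΓO(Q)`.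
-/

set_option autoImplicit false
set_option linter.unusedSectionVars false

namespace Cfsg.Agent.Helper37.OddF

open Matrix Cfsg.Agent.Helper44 Cfsg.Agent.Helper12.GammaO

section abstract

variable {X X' : Type*} [Group X] [Group X']

theorem isConjUnder_map_iff (e : X ≃* X') (H : Subgroup X) (x y : X) :
    Cfsg.IsConjUnder (H.map e.toMonoidHom) (e x) (e y) ↔ Cfsg.IsConjUnder H x y := by
  constructor
  · rintro ⟨_, ⟨h, hh, rfl⟩, he⟩
    refine ⟨h, hh, ?_⟩
    apply e.injective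
    rw [he, map_mul, map_mul, map_inv]
    rfl
  · rintro ⟨h, hh, rfl⟩
    refine ⟨e h, ⟨h, hh, rfl⟩, ?_⟩
    rw [map_mul, map_mul, map_inv]

theorem splitClassCount_map_equiv (e : X ≃* X') (H K : Subgroup X) (x : X) :
    Cfsg.splitClassCount (H.map e.toMonoidHom) (K.map e.toMonoidHom) (e x)
      = Cfsg.splitClassCount H K x := by
  unfold Cfsg.splitClassCount
  symm
  let ee : {y : X // Cfsg.IsConjUnder H x y} ≃
      {y : X' // Cfsg.IsConjUnder (H.map e.toMonoidHom) (e x) y} :=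
    { toFun := fun y => ⟨e y.1, (isConjUnder_map_iff e H x y.1).2 y.2⟩
      invFun := fun y => ⟨e.symm y.1, by
        apply (isConjUnder_map_iff e H x _).1
        rw [e.apply_symm_apply]
        exact y.2⟩
      left_inv := fun y => Subtype.ext (e.symm_apply_apply _)
      right_inv := fun y => Subtype.ext (e.apply_symm_apply _) }
  apply Nat.card_congr
  apply Quot.congr ee
  intro y z
  exact (isConjUnder_map_iff e K y.1 z.1).symm

theorem map_inf_centralizer (e : X ≃* X') (H : Subgroup X) (x : X) :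
    (H ⊓ Subgroup.centralizer {x}).map e.toMonoidHom
      = H.map e.toMonoidHom ⊓ Subgroup.centralizer {e x} := by
  ext y
  constructor
  · rintro ⟨g, hg', rfl⟩
    have hg := Subgroup.mem_inf.1 hg'
    rw [Subgroup.mem_inf]
    refine ⟨⟨g, hg.1, rfl⟩, ?_⟩
    rw [Subgroup.mem_centralizer_iff]
    intro w hw
    rw [Set.mem_singleton_iff] at hw
    have h1 := Subgroup.mem_centralizer_iff.1 hg.2 x (Set.mem_singleton _)
    rw [hw]
    show e x * e g = e g * e x
    rw [← map_mul, ← map_mul, h1]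
  · intro hy
    rw [Subgroup.mem_inf] at hy
    obtain ⟨⟨g, hg, rfl⟩, hc⟩ := hy
    refine ⟨g, Subgroup.mem_inf.2 ⟨hg, ?_⟩, rfl⟩
    rw [Subgroup.mem_centralizer_iff]
    intro w hw
    rw [Set.mem_singleton_iff] at hw
    have h1 := Subgroup.mem_centralizer_iff.1 hc (e x) (Set.mem_singleton _)
    rw [hw]
    apply e.injective
    rw [map_mul, map_mul]
    exact h1

/-- the centraliser transported along an isomorphism -/
noncomputable def centralizerMapEquiv (e : X ≃* X') (H : Subgroup X) (x : X) :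
    ↥(H ⊓ Subgroup.centralizer {x}) ≃*
      ↥(H.map e.toMonoidHom ⊓ Subgroup.centralizer {e x}) :=
  (e.subgroupMap (H ⊓ Subgroup.centralizer {x})).trans
    (MulEquiv.subgroupCongr (map_inf_centralizer e H x))

theorem map_Inn {A B : Type*} [Group A] [Group B] (ψ : A ≃* B) :
    (Cfsg.Inn A).map (MulAut.congr ψ).toMonoidHom = Cfsg.Inn B := by
  ext β
  constructor
  · rintro ⟨_, ⟨a, rfl⟩, rfl⟩
    refine ⟨ψ a, ?_⟩
    ext b
    show ψ a * b * (ψ a)⁻¹ = ψ (a * ψ.symm b * a⁻¹)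
    rw [map_mul, map_mul, map_inv, ψ.apply_symm_apply]
  · rintro ⟨b, rfl⟩
    refine ⟨MulAut.conj (ψ.symm b), ⟨_, rfl⟩, ?_⟩
    ext c
    show ψ (ψ.symm b * ψ.symm c * (ψ.symm b)⁻¹) = b * c * b⁻¹
    rw [map_mul, map_mul, map_inv, ψ.apply_symm_apply, ψ.apply_symm_apply]

/-! ### commutator subgroup modulo its centre -/

variable {N N' : Type*} [Group N] [Group N']

/-- an isomorphism restricts to the commutator subgroups -/
noncomputable def commCongr (e : N ≃* N') : ↥(commutator N) ≃* ↥(commutator N') :=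
  (e.subgroupMap (commutator N)).trans (MulEquiv.subgroupCongr (by
    rw [map_commutator_eq, commutator_def]
    have : (e : N →* N').range = ⊤ := MonoidHom.range_eq_top.2 e.surjective
    rw [this]))

theorem commCongr_coe (e : N ≃* N') (s : ↥(commutator N)) :
    ((commCongr e s : ↥(commutator N')) : N') = e s.1 := rfl

theorem map_center_equiv {A B : Type*} [Group A] [Group B] (e : A ≃* B) :
    (Subgroup.center A).map e.toMonoidHom = Subgroup.center B := by
  ext b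
  constructor
  · rintro ⟨a, ha', rfl⟩
    have ha := Subgroup.mem_center_iff.1 ha'
    rw [Subgroup.mem_center_iff]
    intro c
    obtain ⟨c', rfl⟩ := e.surjective c
    show e c' * e a = e a * e c'
    rw [← map_mul, ← map_mul, ha]
  · intro hb'
    have hb := Subgroup.mem_center_iff.1 hb'
    refine ⟨e.symm b, ?_, e.apply_symm_apply b⟩
    show e.symm b ∈ Subgroup.center A
    rw [Subgroup.mem_center_iff]
    intro c
    apply e.injective
    rw [map_mul, map_mul, e.apply_symm_apply]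
    exact hb (e c)

/-- an isomorphism `N ≃* N'` induces one between the commutator subgroups modulo their centres -/
noncomputable def pcCongr (e : N ≃* N') :
    (↥(commutator N) ⧸ Subgroup.center ↥(commutator N)) ≃*
      (↥(commutator N') ⧸ Subgroup.center ↥(commutator N')) :=
  QuotientGroup.congr _ _ (commCongr e) (map_center_equiv (commCongr e))

theorem pcCongr_mk (e : N ≃* N') (s : ↥(commutator N)) :
    pcCongr e (QuotientGroup.mk s) = QuotientGroup.mk (commCongr e s) := rfl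

theorem pcCongr_symm_mk (e : N ≃* N') (s : ↥(commutator N)) :
    (pcCongr e).symm (QuotientGroup.mk (commCongr e s)) = QuotientGroup.mk s := by
  rw [MulEquiv.symm_apply_eq, pcCongr_mk]

end abstract

variable {F : Type*} [Field F] {ι : Type} [Fintype ι] [DecidableEq ι]

section transportT

variable (Q Q' : QuadraticForm F (ι → F)) (T : GL ι F)
  (hT : ∀ w : ι → F, Q ((T : Matrix ι ι F) *ᵥ w) = Q' w)

include hT in
theorem hT_inv (w : ι → F) : Q' (((T⁻¹ : GL ι F) : Matrix ι ι F) *ᵥ w) = Q w := by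
  rw [← hT, Matrix.mulVec_mulVec, ← Units.val_mul, mul_inv_cancel, Units.val_one,
    Matrix.one_mulVec]

include hT in
theorem conj_mem_isometryGroup_T {g : GL ι F} (hg : g ∈ Cfsg.isometryGroup F ⇑Q) :
    T⁻¹ * g * T ∈ Cfsg.isometryGroup F ⇑Q' := by
  rw [Helper13.mem_isometryGroup_iff] at hg ⊢
  intro u
  rw [Units.val_mul, Units.val_mul, ← Matrix.mulVec_mulVec, ← Matrix.mulVec_mulVec,
    hT_inv Q Q' T hT, hg, hT]

include hT in
theorem conj_mem_similarity_T {g : GL ι F}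
    (hg : g ∈ Cfsg.Geo.quadSimilarityGroup (F := F) ⇑Q) :
    T⁻¹ * g * T ∈ Cfsg.Geo.quadSimilarityGroup (F := F) ⇑Q' := by
  obtain ⟨c, hc⟩ := hg
  refine ⟨c, fun u => ?_⟩
  rw [Units.val_mul, Units.val_mul, ← Matrix.mulVec_mulVec, ← Matrix.mulVec_mulVec,
    hT_inv Q Q' T hT, hc, hT]

/-- `O(Q) ≃* O(Q')`, `g ↦ T⁻¹ g T` -/
noncomputable def isoT : ↥(Cfsg.isometryGroup F ⇑Q) ≃* ↥(Cfsg.isometryGroup F ⇑Q') where
  toFun g := ⟨T⁻¹ * g.1 * T, conj_mem_isometryGroup_T Q Q' T hT g.2⟩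
  invFun g := ⟨T * g.1 * T⁻¹, by
    have h := conj_mem_isometryGroup_T Q' Q T⁻¹ (hT_inv Q Q' T hT) g.2
    rwa [inv_inv] at h⟩
  left_inv g := by
    apply Subtype.ext
    show T * (T⁻¹ * g.1 * T) * T⁻¹ = g.1
    group
  right_inv g := by
    apply Subtype.ext
    show T⁻¹ * (T * g.1 * T⁻¹) * T = g.1
    group
  map_mul' g h := by
    apply Subtype.ext
    show T⁻¹ * (g.1 * h.1) * T = (T⁻¹ * g.1 * T) * (T⁻¹ * h.1 * T)
    group

theorem isoT_coe (g : ↥(Cfsg.isometryGroup F ⇑Q)) :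
    ((isoT Q Q' T hT g : ↥(Cfsg.isometryGroup F ⇑Q')) : GL ι F) = T⁻¹ * g.1 * T := rfl

/-- `GO(Q) → GO(Q')`, `g ↦ T⁻¹ g T` -/
noncomputable def goT : ↥(Cfsg.Geo.quadSimilarityGroup (F := F) ⇑Q) →*
    ↥(Cfsg.Geo.quadSimilarityGroup (F := F) ⇑Q') where
  toFun g := ⟨T⁻¹ * g.1 * T, conj_mem_similarity_T Q Q' T hT g.2⟩
  map_one' := by
    apply Subtype.ext
    show T⁻¹ * 1 * T = 1
    group
  map_mul' g h := by
    apply Subtype.ext
    show T⁻¹ * (g.1 * h.1) * T = (T⁻¹ * g.1 * T) * (T⁻¹ * h.1 * T)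
    group

theorem goT_coe (g : ↥(Cfsg.Geo.quadSimilarityGroup (F := F) ⇑Q)) :
    ((goT Q Q' T hT g : ↥(Cfsg.Geo.quadSimilarityGroup (F := F) ⇑Q')) : GL ι F)
      = T⁻¹ * g.1 * T := rfl

theorem goT_goT_inv (g : ↥(Cfsg.Geo.quadSimilarityGroup (F := F) ⇑Q')) :
    goT Q Q' T hT (goT Q' Q T⁻¹ (hT_inv Q Q' T hT) g) = g := by
  apply Subtype.ext
  rw [goT_coe, goT_coe, inv_inv]
  group

/-- the isomorphism `PΩ(Q) ≃* PΩ(Q')` induced by `T` -/
noncomputable def psiT : Cfsg.POmega F ⇑Q ≃* Cfsg.POmega F ⇑Q' := pcCongr (isoT Q Q' T hT)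

/-- `psiT` carries `conjAut Q g` to `conjAut Q' (T⁻¹ g T)` -/
theorem congr_psiT_conjAut (g : ↥(Cfsg.Geo.quadSimilarityGroup (F := F) ⇑Q)) :
    MulAut.congr (psiT Q Q' T hT) (conjAut ⇑Q g) = conjAut ⇑Q' (goT Q Q' T hT g) := by
  ext y
  obtain ⟨z, rfl⟩ := (psiT Q Q' T hT).surjective y
  induction z using QuotientGroup.induction_on with
  | H s =>
    show psiT Q Q' T hT (conjAut ⇑Q g ((psiT Q Q' T hT).symm (psiT Q Q' T hT (QuotientGroup.mk s))))
      = _
    rw [MulEquiv.symm_apply_apply, conjAut_mk]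
    unfold psiT
    rw [pcCongr_mk, pcCongr_mk, conjAut_mk]
    congr 1
    apply Subtype.ext
    apply Subtype.ext
    rw [commCongr_coe, isoT_coe, coe_conj_Omega, coe_conj_Omega, commCongr_coe, isoT_coe,
      goT_coe]
    group

variable {t : ι → F} (ht : Q' t ≠ 0)

include hT ht in
theorem Q_T_ne_zero : Q ((T : Matrix ι ι F) *ᵥ t) ≠ 0 := by
  rw [hT]
  exact ht

theorem multHom_goT (g : ↥(Cfsg.Geo.quadSimilarityGroup (F := F) ⇑Q)) :
    multHom ⇑Q' ht (goT Q Q' T hT g) = multHom ⇑Q (Q_T_ne_zero Q Q' T hT ht) g := by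
  apply multHom_eq
  intro u
  rw [goT_coe, Units.val_mul, Units.val_mul, ← Matrix.mulVec_mulVec, ← Matrix.mulVec_mulVec,
    hT_inv Q Q' T hT, multFun_spec ⇑Q g, hT]
  rfl

theorem dHom_goT (k : ℕ) (g : ↥(Cfsg.Geo.quadSimilarityGroup (F := F) ⇑Q)) :
    dHom Q' ht k (goT Q Q' T hT g) = dHom Q (Q_T_ne_zero Q Q' T hT ht) k g := by
  rw [dHom_apply, dHom_apply, multHom_goT Q Q' T hT ht, goT_coe, map_mul, map_mul, map_inv]
  congr 1
  rw [mul_comm, ← mul_assoc, mul_inv_cancel, one_mul]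

/-- `psiT` carries the image of `ker dHom` for `Q` onto that for `Q'` -/
theorem map_congr_psiT_ker_dHom (k : ℕ) {t' : ι → F} (ht' : Q t' ≠ 0) :
    (((dHom Q ht' k).ker).map (conjAut ⇑Q)).map (MulAut.congr (psiT Q Q' T hT)).toMonoidHom
      = ((dHom Q' ht k).ker).map (conjAut ⇑Q') := by
  have hirr : dHom Q ht' k = dHom Q (Q_T_ne_zero Q Q' T hT ht) k := rfl
  ext β
  constructor
  · rintro ⟨_, ⟨g, hg, rfl⟩, rfl⟩
    refine ⟨goT Q Q' T hT g, ?_, ?_⟩
    · rw [SetLike.mem_coe, MonoidHom.mem_ker, dHom_goT Q Q' T hT ht, ← hirr]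
      exact MonoidHom.mem_ker.1 hg
    · exact (congr_psiT_conjAut Q Q' T hT g).symm
  · rintro ⟨g', hg', rfl⟩
    set g := goT Q' Q T⁻¹ (hT_inv Q Q' T hT) g' with hg
    have hgg : goT Q Q' T hT g = g' := goT_goT_inv Q Q' T hT g'
    refine ⟨conjAut ⇑Q g, ⟨g, ?_, rfl⟩, ?_⟩
    · rw [SetLike.mem_coe, MonoidHom.mem_ker, hirr, ← dHom_goT Q Q' T hT ht, hgg]
      exact MonoidHom.mem_ker.1 hg'
    · show MulAut.congr (psiT Q Q' T hT) (conjAut ⇑Q g) = _
      rw [congr_psiT_conjAut, hgg]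

end transportT

section normal

variable (Q : QuadraticForm F (ι → F))

/-- the image of `ker dHom` is normal in `Aut(PΩ(Q))` when the latter is the image of `ΓO(Q)` -/
theorem normal_map_ker_dHom {t : ι → F} (ht : Q t ≠ 0) (k : ℕ)
    (htop : Cfsg.gammaPOmega F ⇑Q = ⊤) :
    (((dHom Q ht k).ker).map (conjAut ⇑Q)).Normal := by
  constructor
  rintro _ ⟨g, hg, rfl⟩ β
  obtain ⟨x, rfl⟩ := psi_surjective Q htop β
  rw [psi_conj]
  refine ⟨conjSim Q x g, ?_, rfl⟩
  rw [SetLike.mem_coe, MonoidHom.mem_ker, dHom_conjSim, MonoidHom.mem_ker.1 hg, map_one]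

end normal

end Cfsg.Agent.Helper37.OddF
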