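import Mathlib
import Cfsg.Agent.Helper14.AutFix

/-!
Helper37: a monic quadratic polynomial over a finite field `k` has a root in every extension of
degree two; consequently an automorphism `σ` of order two of a finite field `F` cannot fix the two
coefficients of a binary form `z₁² + a z₁ z₂ + b z₂²` which is anisotropic over `F`.
-/

set_option autoImplicit false

namespace Cfsg.Agent.Helper37.OddF

open Polynomial Cfsg.Agent.Helper14.AutPSL

theorem exists_root_quadratic_of_finrank_two {k l : Type*} [Field k] [Finite k] [Field l]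
    [Algebra k l] (h : Module.finrank k l = 2) (a b : k) :
    ∃ z : l, z ^ 2 + algebraMap k l a * z + algebraMap k l b = 0 := by
  classical
  obtain ⟨p, hp⟩ := CharP.exists k
  haveI : Fact p.Prime := ⟨CharP.char_is_prime k p⟩
  obtain ⟨g, hg⟩ : ∃ g : k[X], g = X ^ 2 + C a * X + C b := ⟨_, rfl⟩
  have hmonic : g.Monic := by
    rw [hg]
    monicity!
  have hdeg : g.natDegree = 2 := by
    rw [hg]
    compute_degree!
  have haev : ∀ z : l, aeval z g = z ^ 2 + algebraMap k l a * z + algebraMap k l b := by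
    intro z
    rw [hg]
    simp [aeval_def]
  by_cases hroot : ∃ z₀ : k, g.IsRoot z₀
  · obtain ⟨z₀, hz₀⟩ := hroot
    refine ⟨algebraMap k l z₀, ?_⟩
    have h1 : z₀ ^ 2 + a * z₀ + b = 0 := by
      have := hz₀
      rw [hg] at this
      simpa using this
    rw [← map_pow, ← map_mul, ← map_add, ← map_add, h1, map_zero]
  · have hirr : Irreducible g := by
      rw [hmonic.irreducible_iff_roots_eq_zero_of_degree_le_three (by omega) (by omega),
        Multiset.eq_zero_iff_forall_notMem]
      intro z hz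
      exact hroot ⟨z, (mem_roots hmonic.ne_zero).1 hz⟩
    haveI : Fact (Irreducible g) := ⟨hirr⟩
    have hfr : Module.finrank k (AdjoinRoot g) = 2 := by
      rw [← hdeg]
      exact finrank_quotient_span_eq_natDegree
    let e₁ := FiniteField.algEquivExtension k p 2 (AdjoinRoot g) hfr
    let e₂ := FiniteField.algEquivExtension k p 2 l h
    refine ⟨e₂.symm (e₁ (AdjoinRoot.root g)), ?_⟩
    have h0 : aeval (AdjoinRoot.root g) g = 0 := by
      rw [AdjoinRoot.aeval_eq, AdjoinRoot.mk_self]
    have h1 : aeval (e₂.symm (e₁ (AdjoinRoot.root g))) g = 0 := by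
      have h2 : e₂.symm (e₁ (AdjoinRoot.root g))
          = ((e₂.symm : FiniteField.Extension k p 2 →ₐ[k] l).comp
              (e₁ : AdjoinRoot g →ₐ[k] FiniteField.Extension k p 2)) (AdjoinRoot.root g) := rfl
      rw [h2, aeval_algHom_apply, h0, map_zero]
    rw [← haev]
    exact h1

/-- a field automorphism of order two of a finite field does not fix the coefficients of an
anisotropic binary form -/
theorem orderOf_ne_two_of_aniso {F : Type*} [Field F] [Finite F] (σ : F ≃+* F) (a b : F)
    (hab : ∀ z₁ z₂ : F, z₁ ^ 2 + a * z₁ * z₂ + b * z₂ ^ 2 = 0 → z₁ = 0 ∧ z₂ = 0)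
    (ha : σ a = a) (hb : σ b = b) : orderOf σ ≠ 2 := by
  intro h2
  haveI : Finite (F ≃+* F) := DFunLike.finite _
  haveI : Fintype ↥(Subgroup.zpowers σ) := Fintype.ofFinite _
  have hfr : Module.finrank ↥(fixF σ) F = 2 := by
    have h1 := FixedPoints.finrank_eq_card (Subgroup.zpowers σ) F
    rw [h1, ← Nat.card_eq_fintype_card, Nat.card_zpowers, h2]
  obtain ⟨z, hz⟩ := exists_root_quadratic_of_finrank_two hfr
    (⟨a, (mem_fixF σ).2 ha⟩ : ↥(fixF σ)) ⟨b, (mem_fixF σ).2 hb⟩
  have h3 := hab z 1 (by
    have h4 : algebraMap ↥(fixF σ) F ⟨a, (mem_fixF σ).2 ha⟩ = a := rfl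
    have h5 : algebraMap ↥(fixF σ) F ⟨b, (mem_fixF σ).2 hb⟩ = b := rfl
    rw [h4, h5] at hz
    linear_combination hz)
  exact one_ne_zero h3.2

end Cfsg.Agent.Helper37.OddF
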