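import Mathlib
import Cfsg.Agent.Helper37.EvFD
import Cfsg.Agent.Helper37.EvFE
import Cfsg.Agent.Helper44.MinusInndiag
import Cfsg.Agent.Helper12.GammaOG
import Cfsg.Agent.Helper14.AutTransport
import Cfsg.Agent.S2696

/-!
Helper37: field automorphisms of prime order of `PΩ⁻_{2m+2}(q)`: the general reduction to the
standard field automorphism of a form with `σ`-fixed coefficients, and the case `q` odd.
-/

set_option autoImplicit false
set_option linter.unusedSectionVars false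

namespace Cfsg.Agent.Helper37.OddF

open Matrix Cfsg.Agent.Helper44 Cfsg.Agent.Helper12.GammaO Cfsg.Agent.Helper14.AutPSL

variable {F₀ F : Type*} [Field F₀] [Field F]

theorem minusForm_vmap (i : F₀ →+* F) (m : ℕ) (a₀ b₀ : F₀)
    (v : (Fin m ⊕ Fin m) ⊕ Fin 2 → F₀) :
    minusForm m F (i a₀) (i b₀) (vmap i v) = i (minusForm m F₀ a₀ b₀ v) := by
  show Cfsg.quadFormMinus m F (i a₀) (i b₀) (vmap i v) = i (Cfsg.quadFormMinus m F₀ a₀ b₀ v)
  unfold Cfsg.quadFormMinus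
  simp only [vmap_apply, map_add, map_pow, map_sum, map_mul]

theorem minusForm_single (m : ℕ) (a b : F) :
    minusForm m F a b (Pi.single (Sum.inr 0) 1) = 1 := by
  show Cfsg.quadFormMinus m F a b (Pi.single (Sum.inr 0) 1) = 1
  unfold Cfsg.quadFormMinus
  simp

theorem card_idx_minus (m : ℕ) : Fintype.card ((Fin m ⊕ Fin m) ⊕ Fin 2) = 2 * (m + 1) := by
  rw [Fintype.card_sum, Fintype.card_sum, Fintype.card_fin, Fintype.card_fin]
  omega

theorem aniso_of_map (i : F₀ →+* F) (a₀ b₀ : F₀)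
    (hab : ∀ z₁ z₂ : F, z₁ ^ 2 + i a₀ * z₁ * z₂ + i b₀ * z₂ ^ 2 = 0 → z₁ = 0 ∧ z₂ = 0) :
    ∀ z₁ z₂ : F₀, z₁ ^ 2 + a₀ * z₁ * z₂ + b₀ * z₂ ^ 2 = 0 → z₁ = 0 ∧ z₂ = 0 := by
  intro z₁ z₂ h
  have h1 := congrArg i h
  simp only [map_add, map_pow, map_mul, map_zero] at h1
  obtain ⟨h3, h4⟩ := hab _ _ h1
  exact ⟨i.injective (by rw [h3, map_zero]), i.injective (by rw [h4, map_zero])⟩

/-- the data of a field automorphism of the minus-type group, after unpacking the Prelude's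
definition: the standard field automorphism of a form with `σ`-fixed coefficients, transported
along an arbitrary isomorphism `ψ` -/
structure MinusData (m : ℕ) (a b : F)
    (x : MulAut (Cfsg.POmega F (Cfsg.quadFormMinus m F a b))) where
  a' : F
  b' : F
  ψ : Cfsg.POmega F (Cfsg.quadFormMinus m F a b) ≃* Cfsg.POmega F ⇑(minusForm m F a' b')
  σ : F ≃+* F
  hab' : ∀ z₁ z₂ : F, z₁ ^ 2 + a' * z₁ * z₂ + b' * z₂ ^ 2 = 0 → z₁ = 0 ∧ z₂ = 0
  hσa : σ a' = a'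
  hσb : σ b' = b'
  hstd : Cfsg.IsFieldAutPOmegaOf ⇑(minusForm m F a' b') σ ((ψ.symm.trans x).trans ψ)

namespace MinusData

variable {m : ℕ} {a b : F} {x : MulAut (Cfsg.POmega F (Cfsg.quadFormMinus m F a b))}
  (D : MinusData m a b x)

theorem hσQ (v : (Fin m ⊕ Fin m) ⊕ Fin 2 → F) :
    minusForm m F D.a' D.b' (vmap (D.σ : F →+* F) v) = D.σ (minusForm m F D.a' D.b' v) := by
  have h := minusForm_vmap (D.σ : F →+* F) m D.a' D.b' v
  have ha : (D.σ : F →+* F) D.a' = D.a' := D.hσa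
  have hb : (D.σ : F →+* F) D.b' = D.b' := D.hσb
  rw [ha, hb] at h
  exact h

/-- the transported automorphism is the standard field automorphism -/
theorem congr_eq_phi1 :
    MulAut.congr D.ψ x = phi1 (minusForm m F D.a' D.b') D.σ D.hσQ := by
  rw [← eq_phi1_of_isFieldAut (minusForm m F D.a' D.b') D.σ D.hσQ _ D.hstd]
  rfl

section fin

variable [Fintype F]

theorem orderOf_sigma (hm : 3 ≤ m) : orderOf D.σ = orderOf x := by
  have hnd := Cfsg.Agent.Helper5.nondegenerate_minusForm_of_aniso m D.a' D.b' D.hab'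
  have hn : 7 ≤ Fintype.card ((Fin m ⊕ Fin m) ⊕ Fin 2) := by
    rw [card_idx_minus]
    omega
  rw [← orderOf_phi1 (minusForm m F D.a' D.b') D.σ D.hσQ hnd hn, ← D.congr_eq_phi1]
  exact MulEquiv.orderOf_eq (MulAut.congr D.ψ) x

include D in
theorem odd_order {r : ℕ} (hm : 3 ≤ m) (hr : r.Prime) (hxr : orderOf x = r) : Odd r := by
  apply hr.odd_of_ne_two
  rw [← hxr, ← D.orderOf_sigma hm]
  exact orderOf_ne_two_of_aniso D.σ D.a' D.b' D.hab' D.hσa D.hσb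

end fin

end MinusData

theorem minusData_of (m : ℕ) (a b : F) (x : MulAut (Cfsg.POmega F (Cfsg.quadFormMinus m F a b)))
    (hx : Cfsg.IsFieldAutClassPOmegaMinus m x) :
    Nonempty (MinusData (F := F) m a b x) := by
  obtain ⟨a', b', ψ, σ, hab', -, hσa, hσb, hstd⟩ := hx
  exact ⟨⟨a', b', ψ, σ, hab', hσa, hσb, hstd⟩⟩

/-! ### `q` odd -/

section oddq

variable [Fintype F] {m : ℕ}

/-- the inner-diagonal groups of two minus-type forms correspond under any isomorphism -/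
theorem map_congr_inndiagMinus_odd (h2 : (2 : F) ≠ 0) (hm : 3 ≤ m) (a b a' b' : F)
    (hab : ∀ z₁ z₂ : F, z₁ ^ 2 + a * z₁ * z₂ + b * z₂ ^ 2 = 0 → z₁ = 0 ∧ z₂ = 0)
    (hab' : ∀ z₁ z₂ : F, z₁ ^ 2 + a' * z₁ * z₂ + b' * z₂ ^ 2 = 0 → z₁ = 0 ∧ z₂ = 0)
    (ψ : Cfsg.POmega F ⇑(minusForm m F a b) ≃* Cfsg.POmega F ⇑(minusForm m F a' b')) :
    (Cfsg.inndiagPOmegaMinus m F a b).map (MulAut.congr ψ).toMonoidHom
      = Cfsg.inndiagPOmegaMinus m F a' b' := by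
  have ht : minusForm m F a b (Pi.single (Sum.inr 0) 1) ≠ 0 := by
    rw [minusForm_single]
    exact one_ne_zero
  have ht' : minusForm m F a' b' (Pi.single (Sum.inr 0) 1) ≠ 0 := by
    rw [minusForm_single]
    exact one_ne_zero
  obtain ⟨t, e, he, h1, h2'⟩ := exists_binary_subst a b a' b' hab hab'
  set T : GL ((Fin m ⊕ Fin m) ⊕ Fin 2) F :=
    Matrix.GeneralLinearGroup.mkOfDetNeZero (triMat m t e) (by rw [det_triMat]; exact he) with hTdef
  have hT : ∀ w, minusForm m F a b ((T : Matrix _ _ F) *ᵥ w) = minusForm m F a' b' w := by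
    intro w
    exact quadFormMinus_triMat m a b a' b' t e h1 h2' w
  have htop : Cfsg.gammaPOmega F ⇑(minusForm m F a b) = ⊤ := Cfsg.Agent.S2696.result hm a b hab
  have hnorm := normal_map_ker_dHom (minusForm m F a b) ht (m + 1) htop
  rw [inndiagMinus_eq_map h2 (by omega) a b hab ht, inndiagMinus_eq_map h2 (by omega) a' b' hab' ht',
    ← map_congr_psiT_ker_dHom (minusForm m F a b) (minusForm m F a' b') T hT ht' (m + 1) ht]
  set H := ((dHom (minusForm m F a b) ht (m + 1)).ker).map (conjAut ⇑(minusForm m F a b)) with hH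
  set ψ₀ := psiT (minusForm m F a b) (minusForm m F a' b') T hT with hψ₀
  -- `ψ = ψ₀ ∘ β`
  set β : MulAut (Cfsg.POmega F ⇑(minusForm m F a b)) := ψ.trans ψ₀.symm with hβ
  have hcong : ∀ y : MulAut (Cfsg.POmega F ⇑(minusForm m F a b)),
      MulAut.congr ψ y = MulAut.congr ψ₀ (β * y * β⁻¹) := by
    intro y
    ext z
    show ψ (y (ψ.symm z)) = ψ₀ (ψ₀.symm (ψ (y (ψ.symm (ψ₀ (ψ₀.symm z))))))
    rw [ψ₀.apply_symm_apply, ψ₀.apply_symm_apply]
  ext y'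
  constructor
  · rintro ⟨y, hy, rfl⟩
    refine ⟨β * y * β⁻¹, hnorm.conj_mem y hy β, ?_⟩
    exact (hcong y).symm
  · rintro ⟨y₁, hy₁, rfl⟩
    refine ⟨β⁻¹ * y₁ * β, ?_, ?_⟩
    · have := hnorm.conj_mem y₁ hy₁ β⁻¹
      rwa [inv_inv] at this
    · show MulAut.congr ψ (β⁻¹ * y₁ * β) = MulAut.congr ψ₀ y₁
      rw [hcong]
      congr 1
      group

/-- field automorphisms of prime order of `PΩ⁻_{2m+2}(q)`, `q` odd -/
theorem main_minus_odd (h2 : (2 : F) ≠ 0) {p f : ℕ} [hp : Fact p.Prime]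
    (hF : Fintype.card F = p ^ f) (hm : 3 ≤ m) (a b : F)
    (hab : ∀ z₁ z₂ : F, z₁ ^ 2 + a * z₁ * z₂ + b * z₂ ^ 2 = 0 → z₁ = 0 ∧ z₂ = 0)
    (x : MulAut (Cfsg.POmega F (Cfsg.quadFormMinus m F a b))) (D : MinusData m a b x) {r : ℕ}
    (hr : r.Prime) (hxr : orderOf x = r) (F₀ : Type*) [Field F₀] [Fintype F₀]
    (hF₀ : Fintype.card F₀ = p ^ (f / r)) :
    r ∣ f ∧ (∃ a₀ b₀ : F₀,
      (∀ z₁ z₂ : F₀, z₁ ^ 2 + a₀ * z₁ * z₂ + b₀ * z₂ ^ 2 = 0 → z₁ = 0 ∧ z₂ = 0) ∧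
      Nonempty (↥(Cfsg.inndiagPOmegaMinus m F a b ⊓ Subgroup.centralizer {x})
        ≃* ↥(Cfsg.inndiagPOmegaMinus m F₀ a₀ b₀))) ∧
    Cfsg.splitClassCount (Cfsg.inndiagPOmegaMinus m F a b)
      (Cfsg.Inn (Cfsg.POmega F (Cfsg.quadFormMinus m F a b))) x = 1 := by
  classical
  have hrodd : Odd r := D.odd_order hm hr hxr
  have hord : orderOf D.σ = r := by rw [D.orderOf_sigma hm, hxr]
  have hft : Fintype (fixF D.σ) := Fintype.ofFinite _
  obtain ⟨hdvd, hcard⟩ := card_fixF D.σ hF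
  rw [hord] at hdvd hcard
  obtain ⟨e⟩ : Nonempty (F₀ ≃+* fixF D.σ) :=
    ⟨FiniteField.ringEquivOfCardEq (by rw [hcard, hF₀])⟩
  obtain ⟨i, hidef⟩ : ∃ i : F₀ →+* F, i = (fixF D.σ).subtype.comp (e : F₀ →+* fixF D.σ) :=
    ⟨_, rfl⟩
  have hi : ∀ c : F, D.σ c = c ↔ c ∈ i.range := by
    intro c
    rw [← mem_fixF, hidef]
    constructor
    · intro hc
      exact ⟨e.symm ⟨c, hc⟩, by simp⟩
    · rintro ⟨d, rfl⟩
      exact (e d).2
  have hcardF : Fintype.card F = Fintype.card F₀ ^ r := by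
    rw [hF, hF₀, ← pow_mul, Nat.div_mul_cancel hdvd]
  obtain ⟨a₀, ha₀⟩ := (hi D.a').1 D.hσa
  obtain ⟨b₀, hb₀⟩ := (hi D.b').1 D.hσb
  have hab₀ : ∀ z₁ z₂ : F₀, z₁ ^ 2 + a₀ * z₁ * z₂ + b₀ * z₂ ^ 2 = 0 → z₁ = 0 ∧ z₂ = 0 := by
    apply aniso_of_map i
    rw [ha₀, hb₀]
    exact D.hab'
  have h2₀ : (2 : F₀) ≠ 0 := by
    intro h
    apply h2
    have := congrArg i h
    rwa [map_ofNat, map_zero] at this
  -- the forms
  have hQi : ∀ v, minusForm m F D.a' D.b' (vmap i v) = i (minusForm m F₀ a₀ b₀ v) := by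
    intro v
    rw [← minusForm_vmap, ha₀, hb₀]
  have hnd := Cfsg.Agent.Helper5.nondegenerate_minusForm_of_aniso m D.a' D.b' D.hab'
  have hnd₀ := Cfsg.Agent.Helper5.nondegenerate_minusForm_of_aniso m a₀ b₀ hab₀
  have hk := card_idx_minus m
  have hn : 7 ≤ Fintype.card ((Fin m ⊕ Fin m) ⊕ Fin 2) := by
    rw [hk]
    omega
  have hfr : Module.finrank F ((Fin m ⊕ Fin m) ⊕ Fin 2 → F)
      = Fintype.card ((Fin m ⊕ Fin m) ⊕ Fin 2) := Module.finrank_fintype_fun_eq_card F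
  have hfr₀ : Module.finrank F₀ ((Fin m ⊕ Fin m) ⊕ Fin 2 → F₀)
      = Fintype.card ((Fin m ⊕ Fin m) ⊕ Fin 2) := Module.finrank_fintype_fun_eq_card F₀
  have ht₀ : minusForm m F₀ a₀ b₀ (Pi.single (Sum.inr 0) 1) ≠ 0 := by
    rw [minusForm_single]
    exact one_ne_zero
  have ht := Q_vmap_ne_zero i (minusForm m F₀ a₀ b₀) (minusForm m F D.a' D.b') hQi ht₀
  -- the groups
  have hH' : Cfsg.inndiagPOmegaMinus m F D.a' D.b'
      = ((dHom (minusForm m F D.a' D.b') ht (m + 1)).ker).map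
        (conjAut ⇑(minusForm m F D.a' D.b')) :=
    inndiagMinus_eq_map h2 (by omega) D.a' D.b' D.hab' ht
  have hH₀ : Cfsg.inndiagPOmegaMinus m F₀ a₀ b₀
      = ((dHom (minusForm m F₀ a₀ b₀) ht₀ (m + 1)).ker).map
        (conjAut ⇑(minusForm m F₀ a₀ b₀)) :=
    inndiagMinus_eq_map h2₀ (by omega) a₀ b₀ hab₀ ht₀
  have hsc : ∀ c : Fˣ, scalarGO (minusForm m F D.a' D.b') c
      ∈ (dHom (minusForm m F D.a' D.b') ht (m + 1)).ker := by
    intro c
    rw [MonoidHom.mem_ker]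
    exact dHom_scalarGO (minusForm m F D.a' D.b') ht (m + 1) hk c
  have hG₀ : ∀ g₀ : ↥(Cfsg.Geo.quadSimilarityGroup (F := F₀) ⇑(minusForm m F₀ a₀ b₀)),
      g₀ ∈ (dHom (minusForm m F₀ a₀ b₀) ht₀ (m + 1)).ker ↔
        goIncl i (minusForm m F₀ a₀ b₀) (minusForm m F D.a' D.b') hQi g₀
          ∈ (dHom (minusForm m F D.a' D.b') ht (m + 1)).ker := by
    intro g₀
    rw [MonoidHom.mem_ker, MonoidHom.mem_ker]
    have h3 : dHom (minusForm m F D.a' D.b') ht (m + 1)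
        (goIncl i (minusForm m F₀ a₀ b₀) (minusForm m F D.a' D.b') hQi g₀)
        = Units.map (i : F₀ →* F) (dHom (minusForm m F₀ a₀ b₀) ht₀ (m + 1) g₀) :=
      dHom_goIncl i (minusForm m F₀ a₀ b₀) (minusForm m F D.a' D.b') hQi ht₀ (m + 1) g₀
    rw [h3]
    constructor
    · intro h
      rw [h, map_one]
    · intro h
      apply Units.map_injective (f := (i : F₀ →* F)) i.injective
      rw [h, map_one]
  have hmapH : (Cfsg.inndiagPOmegaMinus m F a b).map (MulAut.congr D.ψ).toMonoidHom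
      = ((dHom (minusForm m F D.a' D.b') ht (m + 1)).ker).map
        (conjAut ⇑(minusForm m F D.a' D.b')) :=
    (map_congr_inndiagMinus_odd h2 hm a b D.a' D.b' hab D.hab' D.ψ).trans hH'
  have hx' := D.congr_eq_phi1
  refine ⟨hdvd, ⟨a₀, b₀, hab₀, ?_⟩, ?_⟩
  · have e1 := centralizerMapEquiv (MulAut.congr D.ψ) (Cfsg.inndiagPOmegaMinus m F a b) x
    rw [hmapH, hx'] at e1
    obtain ⟨e2⟩ := nonempty_centralizer_equiv_G i (minusForm m F₀ a₀ b₀)
      (minusForm m F D.a' D.b') hQi D.σ D.hσQ hi _ _ hsc hG₀ ht₀ hnd hnd₀ hn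
    exact ⟨(e1.trans e2).trans (MulEquiv.subgroupCongr hH₀.symm)⟩
  · have hInn : Cfsg.Inn (Cfsg.POmega F ⇑(minusForm m F D.a' D.b'))
        ≤ ((dHom (minusForm m F D.a' D.b') ht (m + 1)).ker).map
          (conjAut ⇑(minusForm m F D.a' D.b')) := by
      rw [Inn_eq_map]
      exact Subgroup.map_mono (OmegaGL_subgroupOf_le_ker_dHom (minusForm m F D.a' D.b') ht (m + 1))
    rw [← splitClassCount_map_equiv (MulAut.congr D.ψ), hmapH, map_Inn, hx',
      splitClassCount_eq_index i (minusForm m F₀ a₀ b₀) (minusForm m F D.a' D.b') hQi D.σ D.hσQ hi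
        _ _ hsc hG₀ ht₀ hnd hn hInn]
    apply index_eq_one_of_forall
    -- a similarity over `F₀` with `dHom = 1` and non-square multiplier
    have hD₀ : ¬ IsSquare (a₀ ^ 2 - 4 * b₀) := not_isSquare_disc_of_anisotropic h2₀ a₀ b₀ hab₀
    have hD₀0 : a₀ ^ 2 - 4 * b₀ ≠ 0 := by
      intro h0
      exact hD₀ ⟨0, by rw [h0, mul_zero]⟩
    obtain ⟨w₁, w₂, hw⟩ := exists_binary_nonsquare h2₀ a₀ b₀ hD₀0
    have hν : w₁ ^ 2 + a₀ * w₁ * w₂ + b₀ * w₂ ^ 2 ≠ 0 := by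
      intro h0
      exact hw ⟨0, by rw [h0, mul_zero]⟩
    have hmγ := multHom_gammaGO m a₀ b₀ w₁ w₂ hν ht₀
    have hγm : ¬ IsSquare ((multHom ⇑(minusForm m F₀ a₀ b₀) ht₀
        (gammaGO m a₀ b₀ w₁ w₂ hν) : F₀ˣ) : F₀) := by
      rw [hmγ, Units.val_mk0]
      exact hw
    obtain ⟨δ, hδm, hδd⟩ := exists_delta_of_gamma (minusForm m F₀ a₀ b₀) hnd₀ ht₀ (m + 1) hk _ hγm
    have hns : ∀ c : F₀, ¬ IsSquare c → ¬ IsSquare (i c) :=
      fun c hc => not_isSquare_map_of_odd i h2 hrodd hcardF hc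
    intro g
    obtain ⟨g₀, hg₀⟩ := exists_gIncl_mul_mem_Inn i (minusForm m F₀ a₀ b₀)
      (minusForm m F D.a' D.b') hQi h2 hnd hnd₀ hns ht₀ (m + 1) hk (by rw [hfr]; omega)
      (by rw [hfr₀]; omega) ⟨δ, MonoidHom.mem_ker.2 hδd⟩ hδm g
    exact ⟨g₀, hg₀⟩

end oddq

end Cfsg.Agent.Helper37.OddF
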