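import Mathlib

/-!
Helper37: Galois descent for a semilinear map of finite order (the Lang–Steinberg theorem for
`GL_n` with respect to a field automorphism, a.k.a. the non-abelian Hilbert 90).
-/

set_option autoImplicit false

namespace Cfsg.Agent.Helper37.Lang

variable {F : Type*} [Field F]

/-- Dedekind independence, in the form: some `F`-combination of the vectors `(σ^i c)_{i<r}` is the
first basis vector. -/
theorem exists_dual_family [Fintype F] (σ : F ≃+* F) {r : ℕ} (hr : orderOf σ = r) :
    ∃ b : F → F, ∀ i, i < r → ∑ c : F, b c * (σ ^ i) c = if i = 0 then 1 else 0 := by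
  classical
  let w : F → (Fin r → F) := fun c i => (σ ^ (i : ℕ)) c
  have htop : Submodule.span F (Set.range w) = ⊤ := by
    by_contra hne
    obtain ⟨f, hf0, hf⟩ := Submodule.exists_le_ker_of_lt_top _ (lt_top_iff_ne_top.mpr hne)
    have h1 : ∀ c : F, ∑ i : Fin r,
        f (fun j => if i = j then 1 else 0) * (σ ^ (i : ℕ)) c = 0 := by
      intro c
      have hc : w c ∈ LinearMap.ker f := hf (Submodule.subset_span ⟨c, rfl⟩)
      rw [LinearMap.mem_ker, LinearMap.pi_apply_eq_sum_univ f (w c)] at hc
      refine Eq.trans ?_ hc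
      apply Finset.sum_congr rfl
      intro i _
      rw [smul_eq_mul, mul_comm]
    have hli : LinearIndependent F (fun i : Fin r => ((σ ^ (i : ℕ) : F ≃+* F) : F → F)) := by
      have h0 := linearIndependent_monoidHom F F
      have hinj : Function.Injective
          (fun i : Fin r => (((σ ^ (i : ℕ) : F ≃+* F) : F →+* F) : F →* F)) := by
        intro i j hij
        have h3 : σ ^ (i : ℕ) = σ ^ (j : ℕ) := by
          ext x
          exact DFunLike.congr_fun hij x
        have hi : (i : ℕ) ∈ Set.Iio (orderOf σ) := by rw [hr]; exact i.2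
        have hj : (j : ℕ) ∈ Set.Iio (orderOf σ) := by rw [hr]; exact j.2
        exact Fin.ext (pow_injOn_Iio_orderOf hi hj h3)
      exact h0.comp _ hinj
    have h2 := Fintype.linearIndependent_iff.mp hli
      (fun i => f (fun j => if i = j then 1 else 0)) (by
        ext c
        simp only [Finset.sum_apply, Pi.smul_apply, smul_eq_mul, Pi.zero_apply]
        exact h1 c)
    apply hf0
    refine LinearMap.ext fun x => ?_
    rw [LinearMap.pi_apply_eq_sum_univ f x]
    simp [h2]
  have hmem : (fun i : Fin r => if (i : ℕ) = 0 then (1 : F) else 0) ∈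
      Submodule.span F (Set.range w) := by rw [htop]; trivial
  obtain ⟨b, hb⟩ := (Submodule.mem_span_range_iff_exists_fun F).mp hmem
  refine ⟨b, fun i hi => ?_⟩
  have := congrFun hb ⟨i, hi⟩
  simp only [Finset.sum_apply, Pi.smul_apply, smul_eq_mul] at this
  exact this

variable {V : Type*} [AddCommGroup V] [Module F V]

theorem iterate_smul (σ : F ≃+* F) (T : V →+ V) (hT : ∀ (c : F) (v : V), T (c • v) = σ c • T v)
    (i : ℕ) (c : F) (v : V) : (T^[i]) (c • v) = (σ ^ i) c • (T^[i]) v := by
  induction i with
  | zero => simp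
  | succ k ih =>
    rw [Function.iterate_succ_apply', ih, hT, Function.iterate_succ_apply', pow_succ']
    rfl

/-- Galois descent: the fixed vectors of a `σ`-semilinear map `T` with `T^r = 1`, `r` the order of
`σ`, span the space. -/
theorem span_fixed_eq_top [Fintype F] (σ : F ≃+* F) {r : ℕ} (hr : orderOf σ = r) (hr0 : 0 < r)
    (T : V →+ V) (hT : ∀ (c : F) (v : V), T (c • v) = σ c • T v) (hTr : ∀ v, (T^[r]) v = v) :
    Submodule.span F {v : V | T v = v} = ⊤ := by
  classical
  obtain ⟨b, hb⟩ := exists_dual_family σ hr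
  rw [eq_top_iff]
  intro v _
  -- trace vectors
  have hfix : ∀ c : F, (∑ i ∈ Finset.range r, (T^[i]) (c • v)) ∈ {v : V | T v = v} := by
    intro c
    show T (∑ i ∈ Finset.range r, (T^[i]) (c • v)) = _
    rw [map_sum]
    have h1 : ∀ i, T ((T^[i]) (c • v)) = (T^[i + 1]) (c • v) := fun i => by
      rw [Function.iterate_succ_apply']
    simp only [h1]
    have h2 := Finset.sum_range_succ' (fun i => (T^[i]) (c • v)) r
    have h3 := Finset.sum_range_succ (fun i => (T^[i]) (c • v)) r
    rw [h3, hTr] at h2
    simp only [Function.iterate_zero, id_eq] at h2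
    exact (add_right_cancel h2).symm
  have hv : v = ∑ c : F, b c • ∑ i ∈ Finset.range r, (T^[i]) (c • v) := by
    have h1 : ∀ c : F, b c • ∑ i ∈ Finset.range r, (T^[i]) (c • v) =
        ∑ i ∈ Finset.range r, (b c * (σ ^ i) c) • (T^[i]) v := by
      intro c
      rw [Finset.smul_sum]
      apply Finset.sum_congr rfl
      intro i _
      rw [iterate_smul σ T hT, smul_smul]
    simp only [h1]
    rw [Finset.sum_comm]
    have h2 : ∀ i ∈ Finset.range r, ∑ c : F, (b c * (σ ^ i) c) • (T^[i]) v =
        (if i = 0 then (1 : F) else 0) • (T^[i]) v := by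
      intro i hi
      rw [← Finset.sum_smul, hb i (Finset.mem_range.mp hi)]
    rw [Finset.sum_congr rfl h2]
    simp only [ite_smul, one_smul, zero_smul]
    rw [Finset.sum_ite_eq' (Finset.range r) 0]
    simp [hr0]
  rw [hv]
  apply Submodule.sum_mem
  intro c _
  exact Submodule.smul_mem _ _ (Submodule.subset_span (hfix c))

end Cfsg.Agent.Helper37.Lang
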