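import Mathlib
import Cfsg.Agent.Helper37.LangA

/-!
Helper37: norms for a cyclic group of field automorphisms: Hilbert 90 and surjectivity of the
norm for finite fields.
-/

set_option autoImplicit false

namespace Cfsg.Agent.Helper37.Lang

variable {F : Type*} [Field F]

/-- the partial norm `c σ(c) ⋯ σ^{k-1}(c)` -/
def nrm (σ : F ≃+* F) (k : ℕ) (c : F) : F := ∏ i ∈ Finset.range k, (σ ^ i) c

theorem nrm_zero (σ : F ≃+* F) (c : F) : nrm σ 0 c = 1 := by simp [nrm]

theorem nrm_succ (σ : F ≃+* F) (k : ℕ) (c : F) : nrm σ (k + 1) c = c * σ (nrm σ k c) := by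
  unfold nrm
  rw [Finset.prod_range_succ', map_prod, mul_comm]
  congr 1
  apply Finset.prod_congr rfl
  intro i _
  rw [pow_succ']
  rfl

theorem nrm_succ' (σ : F ≃+* F) (k : ℕ) (c : F) : nrm σ (k + 1) c = nrm σ k c * (σ ^ k) c := by
  unfold nrm
  rw [Finset.prod_range_succ]

theorem nrm_mul (σ : F ≃+* F) (k : ℕ) (c d : F) : nrm σ k (c * d) = nrm σ k c * nrm σ k d := by
  unfold nrm
  rw [← Finset.prod_mul_distrib]
  apply Finset.prod_congr rfl
  intro i _
  rw [map_mul]

theorem nrm_one (σ : F ≃+* F) (k : ℕ) : nrm σ k 1 = 1 := by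
  unfold nrm
  apply Finset.prod_eq_one
  intro i _
  rw [map_one]

theorem nrm_ne_zero (σ : F ≃+* F) (k : ℕ) {c : F} (hc : c ≠ 0) : nrm σ k c ≠ 0 := by
  unfold nrm
  rw [Finset.prod_ne_zero_iff]
  intro i _
  rw [Ne, map_eq_zero_iff _ (σ ^ i).injective]
  exact hc

theorem nrm_inv (σ : F ≃+* F) (k : ℕ) (c : F) : nrm σ k c⁻¹ = (nrm σ k c)⁻¹ := by
  unfold nrm
  rw [← Finset.prod_inv_distrib]
  apply Finset.prod_congr rfl
  intro i _
  rw [map_inv₀]

theorem nrm_map (σ : F ≃+* F) (k : ℕ) (c : F) : nrm σ k (σ c) = σ (nrm σ k c) := by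
  unfold nrm
  rw [map_prod]
  apply Finset.prod_congr rfl
  intro i _
  show (σ ^ i) (σ c) = σ ((σ ^ i) c)
  rw [← RingAut.mul_apply, ← RingAut.mul_apply, ← pow_succ, ← pow_succ']

/-- the full norm is fixed by `σ` -/
theorem map_nrm (σ : F ≃+* F) {r : ℕ} (hr : σ ^ r = 1) (c : F) : σ (nrm σ r c) = nrm σ r c := by
  by_cases hc : c = 0
  · subst hc
    cases r with
    | zero => simp [nrm_zero]
    | succ k => rw [nrm_succ, zero_mul, map_zero]
  · have h1 := nrm_succ σ r c
    have h2 := nrm_succ' σ r c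
    rw [hr, RingAut.one_apply] at h2
    rw [h2, mul_comm] at h1
    exact (mul_left_cancel₀ hc h1).symm

theorem iterate_mul_map (σ : F ≃+* F) (κ : F) (k : ℕ) (v : F) :
    ((fun v => κ * σ v)^[k]) v = nrm σ k κ * (σ ^ k) v := by
  induction k with
  | zero => simp [nrm_zero]
  | succ k ih =>
    rw [Function.iterate_succ_apply', ih, nrm_succ, map_mul, mul_assoc, pow_succ']
    rfl

/-- Hilbert 90 for a finite field -/
theorem hilbert90 [Fintype F] (σ : F ≃+* F) {r : ℕ} (hr : orderOf σ = r) (hr0 : 0 < r)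
    {κ : F} (hκ : nrm σ r κ = 1) : ∃ h : F, h ≠ 0 ∧ κ * σ h = h := by
  have hσr : σ ^ r = 1 := by rw [← hr]; exact pow_orderOf_eq_one σ
  let T : F →+ F := AddMonoidHom.mk' (fun v => κ * σ v) (by
    intro a b
    rw [map_add, mul_add])
  have hT : ∀ (c v : F), T (c • v) = σ c • T v := by
    intro c v
    show κ * σ (c * v) = σ c * (κ * σ v)
    rw [map_mul]; ring
  have hTr : ∀ v, (T^[r]) v = v := by
    intro v
    have : (T^[r]) v = ((fun v => κ * σ v)^[r]) v := rfl
    rw [this, iterate_mul_map, hκ, hσr, one_mul]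
    rfl
  have hsp := span_fixed_eq_top σ hr hr0 T hT hTr
  by_contra hno
  have h0 : {v : F | T v = v} ⊆ {0} := by
    intro v hv
    by_contra hv0
    exact hno ⟨v, hv0, hv⟩
  have h1 : Submodule.span F {v : F | T v = v} ≤ ⊥ := by
    rw [Submodule.span_le]
    intro v hv
    have := h0 hv
    simpa using this
  rw [hsp] at h1
  have : (1 : F) ∈ (⊥ : Submodule F F) := h1 trivial
  simp at this


/-- surjectivity of the norm of a finite field onto the fixed field -/
theorem exists_nrm_eq [Fintype F] (σ : F ≃+* F) {r : ℕ} (hr : orderOf σ = r) (hr0 : 0 < r)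
    {l : F} (hl : l ≠ 0) (hσl : σ l = l) : ∃ μ : F, μ ≠ 0 ∧ nrm σ r μ = l := by
  classical
  have hσr : σ ^ r = 1 := by rw [← hr]; exact pow_orderOf_eq_one σ
  let N : Fˣ →* Fˣ := MonoidHom.mk' (fun u => Units.mk0 (nrm σ r (u : F)) (nrm_ne_zero σ r u.ne_zero))
    (by
      intro a b
      apply Units.ext
      simp only [Units.val_mul, Units.val_mk0]
      exact nrm_mul σ r _ _)
  let H : Fˣ →* Fˣ := MonoidHom.mk' (fun u => Units.mk0 ((u : F) / σ (u : F))
      (div_ne_zero u.ne_zero ((map_ne_zero_iff _ σ.injective).mpr u.ne_zero)))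
    (by
      intro a b
      apply Units.ext
      simp only [Units.val_mul, Units.val_mk0, map_mul]
      rw [mul_div_mul_comm])
  have hN : ∀ u : Fˣ, ((N u : Fˣ) : F) = nrm σ r (u : F) := fun u => rfl
  have hH : ∀ u : Fˣ, ((H u : Fˣ) : F) = (u : F) / σ (u : F) := fun u => rfl
  have hkerH : ∀ u : Fˣ, u ∈ H.ker ↔ σ (u : F) = (u : F) := by
    intro u
    rw [MonoidHom.mem_ker]
    constructor
    · intro h
      have := congrArg Units.val h
      rw [hH, Units.val_one, div_eq_one_iff_eq ((map_ne_zero_iff _ σ.injective).mpr u.ne_zero)] at this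
      exact this.symm
    · intro h
      apply Units.ext
      rw [hH, h, Units.val_one, div_self u.ne_zero]
  have ha : N.range ≤ H.ker := by
    rintro _ ⟨u, rfl⟩
    rw [hkerH, hN]
    exact map_nrm σ hσr _
  have hb : N.ker ≤ H.range := by
    intro u hu
    rw [MonoidHom.mem_ker] at hu
    have h1 : nrm σ r (u : F) = 1 := by
      have := congrArg Units.val hu
      rwa [hN, Units.val_one] at this
    obtain ⟨h, hh0, hh⟩ := hilbert90 σ hr hr0 h1
    refine ⟨Units.mk0 h hh0, ?_⟩
    apply Units.ext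
    rw [hH, Units.val_mk0]
    have hσh : σ h ≠ 0 := (map_ne_zero_iff _ σ.injective).mpr hh0
    rw [div_eq_iff hσh, hh]
  have e1 : Nat.card N.ker * Nat.card N.range = Nat.card Fˣ := by
    rw [← Subgroup.index_ker, Subgroup.card_mul_index]
  have e2 : Nat.card H.ker * Nat.card H.range = Nat.card Fˣ := by
    rw [← Subgroup.index_ker, Subgroup.card_mul_index]
  have le1 : Nat.card N.ker ≤ Nat.card H.range := Subgroup.card_le_of_le hb
  have pos1 : 0 < Nat.card H.range := Nat.card_pos
  have le2 : Nat.card H.ker ≤ Nat.card N.range := by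
    by_contra hlt
    rw [not_le] at hlt
    have : Nat.card N.ker * Nat.card N.range < Nat.card H.range * Nat.card H.ker :=
      Nat.mul_lt_mul_of_le_of_lt le1 hlt pos1
    rw [e1, mul_comm, e2] at this
    exact lt_irrefl _ this
  have heq : N.range = H.ker := Subgroup.eq_of_le_of_card_ge ha le2
  have hl' : Units.mk0 l hl ∈ H.ker := by
    rw [hkerH]; exact hσl
  rw [← heq] at hl'
  obtain ⟨μ, hμ⟩ := hl'
  refine ⟨(μ : F), μ.ne_zero, ?_⟩
  have := congrArg Units.val hμ
  rwa [hN, Units.val_mk0] at this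

end Cfsg.Agent.Helper37.Lang
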