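import Mathlib
import Cfsg.Agent.Helper37.LangB

/-!
Helper37: nondegenerate hermitian forms over a finite field have orthonormal bases.
-/

set_option autoImplicit false

namespace Cfsg.Agent.Helper37.Lang

variable {F : Type*} [Field F]

theorem nrm_two (σ : F ≃+* F) (c : F) : nrm σ 2 c = c * σ c := by
  unfold nrm
  rw [Finset.prod_range_succ, Finset.prod_range_one, pow_zero, pow_one]
  rfl

theorem orderOf_eq_two {σ : F ≃+* F} (hσ2 : ∀ x, σ (σ x) = x) (hσ1 : σ ≠ 1) : orderOf σ = 2 := by
  apply orderOf_eq_prime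
  · ext x
    rw [pow_two]
    exact hσ2 x
  · exact hσ1

section form

variable {V : Type*} [AddCommGroup V] [Module F V]

/-- a hermitian form with respect to `σ` -/
structure IsHerm (σ : F ≃+* F) (B : V → V → F) : Prop where
  add_left : ∀ u u' v, B (u + u') v = B u v + B u' v
  add_right : ∀ u v v', B u (v + v') = B u v + B u v'
  smul_left : ∀ (c : F) u v, B (c • u) v = c * B u v
  smul_right : ∀ (c : F) u v, B u (c • v) = σ c * B u v
  herm : ∀ u v, σ (B u v) = B v u

theorem IsHerm.zero_left {σ : F ≃+* F} {B : V → V → F} (h : IsHerm σ B) (v : V) : B 0 v = 0 := by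
  have := h.smul_left 0 0 v
  rwa [zero_smul, zero_mul] at this

theorem IsHerm.sub_left {σ : F ≃+* F} {B : V → V → F} (h : IsHerm σ B) (u u' v : V) :
    B (u - u') v = B u v - B u' v := by
  have := h.add_left (u - u') u' v
  rw [sub_add_cancel] at this
  rw [this, add_sub_cancel_right]

theorem IsHerm.sub_right {σ : F ≃+* F} {B : V → V → F} (h : IsHerm σ B) (u v v' : V) :
    B u (v - v') = B u v - B u v' := by
  have := h.add_right u (v - v') v'
  rw [sub_add_cancel] at this
  rw [this, add_sub_cancel_right]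

/-- a nondegenerate hermitian form on a nonzero space has an anisotropic vector -/
theorem exists_anisotropic {σ : F ≃+* F} (hσ2 : ∀ x, σ (σ x) = x) (hσ1 : σ ≠ 1)
    {B : V → V → F} (hB : IsHerm σ B) (W : Submodule F V)
    (hnd : ∀ w ∈ W, w ≠ 0 → ∃ w' ∈ W, B w w' ≠ 0) {w : V} (hw : w ∈ W) (hw0 : w ≠ 0) :
    ∃ v ∈ W, B v v ≠ 0 := by
  by_contra hno
  have hiso : ∀ v ∈ W, B v v = 0 := by
    intro v hv
    by_contra h
    exact hno ⟨v, hv, h⟩
  obtain ⟨w', hw', hβ⟩ := hnd w hw hw0
  set β := B w w' with hβdef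
  have key : ∀ c : F, σ c * β + c * σ β = 0 := by
    intro c
    have h1 := hiso (w + c • w') (W.add_mem hw (W.smul_mem c hw'))
    rw [hB.add_left, hB.add_right, hB.add_right, hB.smul_left, hB.smul_right, hB.smul_right,
      hB.smul_left, hiso w hw, hiso w' hw', ← hB.herm w w'] at h1
    linear_combination h1
  have hσβ : σ β ≠ 0 := (map_ne_zero_iff _ σ.injective).mpr hβ
  have key2 : ∀ t : F, σ t + t = 0 := by
    intro t
    have := key (t * (σ β)⁻¹)
    rw [map_mul, map_inv₀, hσ2] at this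
    field_simp at this
    linear_combination this
  have h2 : (1 : F) + 1 = 0 := by
    have := key2 1
    rwa [map_one] at this
  apply hσ1
  ext t
  have h3 := key2 t
  have h4 : t + t = 0 := by linear_combination t * h2
  show σ t = t
  linear_combination h3 - h4

/-- orthonormal bases exist -/
theorem exists_orthonormal [Fintype F] [FiniteDimensional F V] {σ : F ≃+* F}
    (hσ2 : ∀ x, σ (σ x) = x) (hσ1 : σ ≠ 1) {B : V → V → F} (hB : IsHerm σ B) :
    ∀ (d : ℕ) (W : Submodule F V), Module.finrank F W = d →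
      (∀ w ∈ W, w ≠ 0 → ∃ w' ∈ W, B w w' ≠ 0) →
      ∃ u : Fin d → V, (∀ i, u i ∈ W) ∧ ∀ i j, B (u i) (u j) = if i = j then 1 else 0 := by
  intro d
  induction d with
  | zero =>
    intro W _ _
    exact ⟨fun i => i.elim0, fun i => i.elim0, fun i => i.elim0⟩
  | succ d ih =>
    intro W hW hnd
    have hWpos : 0 < Module.finrank F W := by omega
    obtain ⟨⟨w, hw⟩, hw0⟩ := Module.finrank_pos_iff_exists_ne_zero.mp hWpos
    have hw0' : w ≠ 0 := fun h => hw0 (Subtype.ext h)
    obtain ⟨v, hv, hvv⟩ := exists_anisotropic hσ2 hσ1 hB W hnd hw hw0'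
    have hfix : σ (B v v) = B v v := hB.herm v v
    obtain ⟨c, hc0, hc⟩ := exists_nrm_eq σ (orderOf_eq_two hσ2 hσ1) (by norm_num)
      (inv_ne_zero hvv) (by rw [map_inv₀, hfix])
    rw [nrm_two] at hc
    set v' := c • v with hv'
    have hv'W : v' ∈ W := W.smul_mem c hv
    have hv'1 : B v' v' = 1 := by
      rw [hv', hB.smul_left, hB.smul_right, ← mul_assoc, hc, inv_mul_cancel₀ hvv]
    let ℓ : V →ₗ[F] F :=
      { toFun := fun x => B x v'
        map_add' := fun x y => hB.add_left x y v'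
        map_smul' := fun a x => hB.smul_left a x v' }
    let ℓW : W →ₗ[F] F := ℓ.comp W.subtype
    let W' : Submodule F V := (LinearMap.ker ℓW).map W.subtype
    have hmemW' : ∀ x, x ∈ W' ↔ x ∈ W ∧ B x v' = 0 := by
      intro x
      constructor
      · rintro ⟨⟨y, hy⟩, hyk, rfl⟩
        exact ⟨hy, LinearMap.mem_ker.mp hyk⟩
      · rintro ⟨hx, hx0⟩
        exact ⟨⟨x, hx⟩, LinearMap.mem_ker.mpr hx0, rfl⟩
    have hsurj : Function.Surjective ℓW := by
      intro a
      refine ⟨⟨a • v', W.smul_mem a hv'W⟩, ?_⟩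
      show B (a • v') v' = a
      rw [hB.smul_left, hv'1, mul_one]
    have hdim : Module.finrank F W' = d := by
      rw [Submodule.finrank_map_subtype_eq]
      have h1 := LinearMap.finrank_range_add_finrank_ker ℓW
      rw [LinearMap.range_eq_top.mpr hsurj, finrank_top, Module.finrank_self, hW] at h1
      omega
    have hnd' : ∀ x ∈ W', x ≠ 0 → ∃ x' ∈ W', B x x' ≠ 0 := by
      intro x hx hx0
      obtain ⟨hxW, hxv⟩ := (hmemW' x).mp hx
      obtain ⟨y, hy, hxy⟩ := hnd x hxW hx0
      refine ⟨y - B y v' • v', (hmemW' _).mpr ⟨W.sub_mem hy (W.smul_mem _ hv'W), ?_⟩, ?_⟩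
      · rw [hB.sub_left, hB.smul_left, hv'1, mul_one, sub_self]
      · rw [hB.sub_right, hB.smul_right]
        have : B x v' = 0 := hxv
        rw [this, mul_zero, sub_zero]
        exact hxy
    obtain ⟨u', hu'W, hu'⟩ := ih W' hdim hnd'
    refine ⟨Fin.cons v' u', ?_, ?_⟩
    · intro i
      refine Fin.cases ?_ (fun j => ?_) i
      · exact hv'W
      · rw [Fin.cons_succ]; exact ((hmemW' _).mp (hu'W j)).1
    · intro i j
      refine Fin.cases ?_ (fun i' => ?_) i <;> refine Fin.cases ?_ (fun j' => ?_) j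
      · simp [hv'1]
      · rw [Fin.cons_zero, Fin.cons_succ, ← hB.herm, ((hmemW' _).mp (hu'W j')).2, map_zero]
        rw [if_neg (Fin.succ_ne_zero j').symm]
      · rw [Fin.cons_zero, Fin.cons_succ, ((hmemW' _).mp (hu'W i')).2]
        rw [if_neg (Fin.succ_ne_zero i')]
      · rw [Fin.cons_succ, Fin.cons_succ, hu' i' j']
        simp [Fin.succ_inj]

end form

end Cfsg.Agent.Helper37.Lang
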