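import Mathlib
import Cfsg.Agent.Helper37.EvFF
import Cfsg.Agent.Helper12.ClassPresF

/-!
Helper37: field automorphisms of prime order of `PΩ⁻_{2m+2}(q)`, `q` even.  Here
`Inndiag = Inn` (helper12), the class count is trivially one, and the centraliser is computed with
the descent framework of `EvFB` applied to the full preimage of `Inn` in the similarity group.
-/

set_option autoImplicit false
set_option linter.unusedSectionVars false

namespace Cfsg.Agent.Helper37.OddF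

open Matrix Cfsg.Agent.Helper44 Cfsg.Agent.Helper12.GammaO Cfsg.Agent.Helper14.AutPSL

/-- a class does not split under the group it is a class of -/
theorem splitClassCount_self {X : Type*} [Group X] (H : Subgroup X) (x : X) :
    Cfsg.splitClassCount H H x = 1 := by
  unfold Cfsg.splitClassCount
  rw [Nat.card_eq_one_iff_unique]
  refine ⟨⟨?_⟩, ⟨Quot.mk _ ⟨x, 1, H.one_mem, by group⟩⟩⟩
  intro u v
  induction u using Quot.inductionOn with
  | h u =>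
    induction v using Quot.inductionOn with
    | h v =>
      obtain ⟨y, h, hh, hy⟩ := u
      obtain ⟨z, k, hk, hz⟩ := v
      apply Quot.sound
      refine ⟨k * h⁻¹, H.mul_mem hk (H.inv_mem hh), ?_⟩
      show z = k * h⁻¹ * y * (k * h⁻¹)⁻¹
      rw [hy, hz]
      group

variable {F₀ F : Type*} [Field F₀] [Field F] {ι : Type} [Fintype ι] [DecidableEq ι]

section chartwo

variable [Fintype F] [CharP F 2] (Q : QuadraticForm F (ι → F))

/-- characteristic two: an isometry induces an inner automorphism of `PΩ` iff it lies in `Ω` -/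
theorem conjAut_toGO_mem_Inn_iff_two (hnd : (QuadraticMap.polarBilin Q).Nondegenerate)
    (hn : 7 ≤ Fintype.card ι) (x : ↥(Cfsg.isometryGroup F ⇑Q)) :
    conjAut ⇑Q (toGO Q x) ∈ Cfsg.Inn (Cfsg.POmega F ⇑Q) ↔ x ∈ Cfsg.Omega F ⇑Q := by
  rw [Inn_eq_map]
  constructor
  · rintro ⟨g, hg, hgx⟩
    obtain ⟨s, hsΩ, hsg⟩ := Subgroup.mem_subgroupOf.1 hg
    have hgs : g = toGO Q s := by
      apply Subtype.ext
      exact hsg.symm
    rw [hgs] at hgx
    have : s = x := thetaO_injective Q hnd hn hgx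
    rw [← this]
    exact hsΩ
  · intro hx
    exact ⟨toGO Q x, Subgroup.mem_subgroupOf.2 ⟨x, hx, rfl⟩, rfl⟩

end chartwo

section basechange

variable [Fintype F₀] [Fintype F] [CharP F 2] (i : F₀ →+* F)
  (Q₀ : QuadraticForm F₀ (ι → F₀)) (Q : QuadraticForm F (ι → F))
  (hQ : ∀ v : ι → F₀, Q (vmap i v) = i (Q₀ v))

/-- characteristic two: a similarity over `F₀` induces an inner automorphism of `PΩ(Q₀)` iff its
base change induces an inner automorphism of `PΩ(Q)` -/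
theorem conjAut_goIncl_mem_Inn_iff_two (hnd : (QuadraticMap.polarBilin Q).Nondegenerate)
    (hnd₀ : (QuadraticMap.polarBilin Q₀).Nondegenerate) (hn : 7 ≤ Fintype.card ι)
    (g₀ : ↥(Cfsg.Geo.quadSimilarityGroup (F := F₀) ⇑Q₀)) :
    conjAut ⇑Q (goIncl i Q₀ Q hQ g₀) ∈ Cfsg.Inn (Cfsg.POmega F ⇑Q)
      ↔ conjAut ⇑Q₀ g₀ ∈ Cfsg.Inn (Cfsg.POmega F₀ ⇑Q₀) := by
  haveI : CharP F₀ 2 := RingHom.charP i i.injective 2
  have hne : Nonempty ι := by
    rw [← Fintype.card_pos_iff]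
    omega
  have h4 : Fintype.card ι ≠ 4 := by omega
  obtain ⟨c₀, x₀, rfl⟩ := exists_scalar_mul_isometry_two Q₀ g₀
  obtain ⟨vs, hvs, rfl⟩ := exists_list_reflT Q₀ hnd₀ (Or.inr h4) x₀
  have hk₀ : scalarGO Q₀ c₀ ∈ (conjAut ⇑Q₀).ker :=
    mem_ker_of_mem_scalars ⇑Q₀ _ (scalarGO_mem_scalars Q₀ c₀)
  have hk : goIncl i Q₀ Q hQ (scalarGO Q₀ c₀) ∈ (conjAut ⇑Q).ker :=
    mem_ker_of_mem_scalars ⇑Q _
      ((goIncl_mem_scalars_iff i Q₀ Q hQ hne _).2 (scalarGO_mem_scalars Q₀ c₀))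
  rw [map_mul, map_mul, map_mul, MonoidHom.mem_ker.1 hk, MonoidHom.mem_ker.1 hk₀, one_mul, one_mul,
    goIncl_toGO, conjAut_toGO_mem_Inn_iff_two Q hnd hn, conjAut_toGO_mem_Inn_iff_two Q₀ hnd₀ hn,
    isoIncl_prod_reflT i Q₀ Q hQ vs hvs,
    prod_reflT_mem_Omega_iff_two Q hnd (Or.inr h4), prod_reflT_mem_Omega_iff_two Q₀ hnd₀ (Or.inr h4)
      vs hvs, List.length_map]
  intro w hw
  obtain ⟨v, hv, rfl⟩ := List.mem_map.1 hw
  exact Q_vmap_ne_zero i Q₀ Q hQ (hvs v hv)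

end basechange

/-! ### `q` even -/

section evenq

variable [Fintype F] [CharP F 2] {m : ℕ}

/-- field automorphisms of prime order of `PΩ⁻_{2m+2}(q)`, `q` even -/
theorem main_minus_two {p f : ℕ} [hp : Fact p.Prime]
    (hF : Fintype.card F = p ^ f) (hm : 3 ≤ m) (a b : F)
    (hab : ∀ z₁ z₂ : F, z₁ ^ 2 + a * z₁ * z₂ + b * z₂ ^ 2 = 0 → z₁ = 0 ∧ z₂ = 0)
    (x : MulAut (Cfsg.POmega F (Cfsg.quadFormMinus m F a b))) (D : MinusData m a b x) {r : ℕ}
    (hr : r.Prime) (hxr : orderOf x = r) (F₀ : Type*) [Field F₀] [Fintype F₀]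
    (hF₀ : Fintype.card F₀ = p ^ (f / r)) :
    r ∣ f ∧ (∃ a₀ b₀ : F₀,
      (∀ z₁ z₂ : F₀, z₁ ^ 2 + a₀ * z₁ * z₂ + b₀ * z₂ ^ 2 = 0 → z₁ = 0 ∧ z₂ = 0) ∧
      Nonempty (↥(Cfsg.inndiagPOmegaMinus m F a b ⊓ Subgroup.centralizer {x})
        ≃* ↥(Cfsg.inndiagPOmegaMinus m F₀ a₀ b₀))) ∧
    Cfsg.splitClassCount (Cfsg.inndiagPOmegaMinus m F a b)
      (Cfsg.Inn (Cfsg.POmega F (Cfsg.quadFormMinus m F a b))) x = 1 := by
  classical
  have hord : orderOf D.σ = r := by rw [D.orderOf_sigma hm, hxr]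
  have hft : Fintype (fixF D.σ) := Fintype.ofFinite _
  obtain ⟨hdvd, hcard⟩ := card_fixF D.σ hF
  rw [hord] at hdvd hcard
  obtain ⟨e⟩ : Nonempty (F₀ ≃+* fixF D.σ) :=
    ⟨FiniteField.ringEquivOfCardEq (by rw [hcard, hF₀])⟩
  obtain ⟨i, hidef⟩ : ∃ i : F₀ →+* F, i = (fixF D.σ).subtype.comp (e : F₀ →+* fixF D.σ) :=
    ⟨_, rfl⟩
  have hi : ∀ c : F, D.σ c = c ↔ c ∈ i.range := by
    intro c
    rw [← mem_fixF, hidef]
    constructor
    · intro hc
      exact ⟨e.symm ⟨c, hc⟩, by simp⟩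
    · rintro ⟨d, rfl⟩
      exact (e d).2
  haveI : CharP F₀ 2 := RingHom.charP i i.injective 2
  obtain ⟨a₀, ha₀⟩ := (hi D.a').1 D.hσa
  obtain ⟨b₀, hb₀⟩ := (hi D.b').1 D.hσb
  have hab₀ : ∀ z₁ z₂ : F₀, z₁ ^ 2 + a₀ * z₁ * z₂ + b₀ * z₂ ^ 2 = 0 → z₁ = 0 ∧ z₂ = 0 := by
    apply aniso_of_map i
    rw [ha₀, hb₀]
    exact D.hab'
  -- the forms
  have hQi : ∀ v, minusForm m F D.a' D.b' (vmap i v) = i (minusForm m F₀ a₀ b₀ v) := by
    intro v
    rw [← minusForm_vmap, ha₀, hb₀]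
  have hnd := Cfsg.Agent.Helper5.nondegenerate_minusForm_of_aniso m D.a' D.b' D.hab'
  have hnd₀ := Cfsg.Agent.Helper5.nondegenerate_minusForm_of_aniso m a₀ b₀ hab₀
  have hk := card_idx_minus m
  have hn : 7 ≤ Fintype.card ((Fin m ⊕ Fin m) ⊕ Fin 2) := by
    rw [hk]
    omega
  have ht₀ : minusForm m F₀ a₀ b₀ (Pi.single (Sum.inr 0) 1) ≠ 0 := by
    rw [minusForm_single]
    exact one_ne_zero
  -- the groups
  have hH : Cfsg.inndiagPOmegaMinus m F a b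
      = Cfsg.Inn (Cfsg.POmega F (Cfsg.quadFormMinus m F a b)) :=
    Cfsg.Agent.Helper12.ClassPres.inndiagPOmegaMinus_eq_Inn_two a b (by omega) hab
  have hH₀ : Cfsg.inndiagPOmegaMinus m F₀ a₀ b₀
      = Cfsg.Inn (Cfsg.POmega F₀ ⇑(minusForm m F₀ a₀ b₀)) :=
    Cfsg.Agent.Helper12.ClassPres.inndiagPOmegaMinus_eq_Inn_two a₀ b₀ (by omega) hab₀
  have hx' := D.congr_eq_phi1
  refine ⟨hdvd, ⟨a₀, b₀, hab₀, ?_⟩, ?_⟩
  · have e1 := centralizerMapEquiv (MulAut.congr D.ψ)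
      (Cfsg.Inn (Cfsg.POmega F (Cfsg.quadFormMinus m F a b))) x
    rw [map_Inn, hx'] at e1
    -- the preimages of the inner automorphism groups
    have hsc : ∀ c : Fˣ, scalarGO (minusForm m F D.a' D.b') c
        ∈ (Cfsg.Inn (Cfsg.POmega F ⇑(minusForm m F D.a' D.b'))).comap
          (conjAut ⇑(minusForm m F D.a' D.b')) := by
      intro c
      have hk : scalarGO (minusForm m F D.a' D.b') c ∈ (conjAut ⇑(minusForm m F D.a' D.b')).ker :=
        mem_ker_of_mem_scalars ⇑(minusForm m F D.a' D.b') _ (scalarGO_mem_scalars _ c)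
      rw [Subgroup.mem_comap, MonoidHom.mem_ker.1 hk]
      exact Subgroup.one_mem _
    have hG₀ : ∀ g₀ : ↥(Cfsg.Geo.quadSimilarityGroup (F := F₀) ⇑(minusForm m F₀ a₀ b₀)),
        g₀ ∈ (Cfsg.Inn (Cfsg.POmega F₀ ⇑(minusForm m F₀ a₀ b₀))).comap
            (conjAut ⇑(minusForm m F₀ a₀ b₀)) ↔
          goIncl i (minusForm m F₀ a₀ b₀) (minusForm m F D.a' D.b') hQi g₀
            ∈ (Cfsg.Inn (Cfsg.POmega F ⇑(minusForm m F D.a' D.b'))).comap
              (conjAut ⇑(minusForm m F D.a' D.b')) := by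
      intro g₀
      rw [Subgroup.mem_comap, Subgroup.mem_comap]
      exact (conjAut_goIncl_mem_Inn_iff_two i (minusForm m F₀ a₀ b₀) (minusForm m F D.a' D.b') hQi
        hnd hnd₀ hn g₀).symm
    obtain ⟨e2⟩ := nonempty_centralizer_equiv_G i (minusForm m F₀ a₀ b₀)
      (minusForm m F D.a' D.b') hQi D.σ D.hσQ hi _ _ hsc hG₀ ht₀ hnd hnd₀ hn
    have hmc : ((Cfsg.Inn (Cfsg.POmega F ⇑(minusForm m F D.a' D.b'))).comap
        (conjAut ⇑(minusForm m F D.a' D.b'))).map (conjAut ⇑(minusForm m F D.a' D.b'))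
        = Cfsg.Inn (Cfsg.POmega F ⇑(minusForm m F D.a' D.b')) := by
      rw [Subgroup.map_comap_eq, inf_eq_right, Inn_eq_map]
      exact Subgroup.map_le_range _ _
    have hmc₀ : ((Cfsg.Inn (Cfsg.POmega F₀ ⇑(minusForm m F₀ a₀ b₀))).comap
        (conjAut ⇑(minusForm m F₀ a₀ b₀))).map (conjAut ⇑(minusForm m F₀ a₀ b₀))
        = Cfsg.Inn (Cfsg.POmega F₀ ⇑(minusForm m F₀ a₀ b₀)) := by
      rw [Subgroup.map_comap_eq, inf_eq_right, Inn_eq_map]
      exact Subgroup.map_le_range _ _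
    rw [hmc, hmc₀] at e2
    exact ⟨((MulEquiv.subgroupCongr (congrArg (· ⊓ Subgroup.centralizer {x}) hH)).trans
      (e1.trans e2)).trans (MulEquiv.subgroupCongr hH₀.symm)⟩
  · rw [hH]
    exact splitClassCount_self _ _

end evenq

end Cfsg.Agent.Helper37.OddF
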