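import Mathlib

/-!
Helper37: the fixed field of an automorphism of order `r` of a field with `p ^ f` elements has
`p ^ (f / r)` elements.
-/

set_option autoImplicit false

namespace Cfsg.Agent.Helper37.Lang

variable {F : Type*} [Field F]

instance finite_ringAut [Finite F] : Finite (F ≃+* F) :=
  Finite.of_injective (fun e : F ≃+* F => (e : F → F)) DFunLike.coe_injective

/-- the fixed field of `σ` -/
noncomputable def fixedField (σ : F ≃+* F) : Subfield F :=
  FixedPoints.subfield (Subgroup.zpowers σ) F

theorem mem_fixedField {σ : F ≃+* F} {a : F} : a ∈ fixedField σ ↔ σ a = a := by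
  constructor
  · intro h
    exact h ⟨σ, Subgroup.mem_zpowers σ⟩
  · intro h
    rintro ⟨τ, hτ⟩
    show τ a = a
    obtain ⟨k, rfl⟩ := Subgroup.mem_zpowers_iff.mp hτ
    induction k using Int.induction_on with
    | zero => rfl
    | succ i ih =>
      rw [zpow_add, zpow_one, RingAut.mul_apply, h]
      exact ih (Subgroup.zpow_mem_zpowers σ _)
    | pred i ih =>
      rw [zpow_sub, zpow_one, RingAut.mul_apply]
      have h2 : σ⁻¹ a = a := by
        conv_lhs => rw [← h]
        exact σ.symm_apply_apply a
      rw [h2]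
      exact ih (Subgroup.zpow_mem_zpowers σ _)

theorem card_fixedField [Fintype F] {p f r : ℕ} [hp : Fact p.Prime] (hF : Fintype.card F = p ^ f)
    (σ : F ≃+* F) (hσ : orderOf σ = r) :
    r ∣ f ∧ Nat.card (fixedField σ) = p ^ (f / r) := by
  classical
  haveI : Fintype (Subgroup.zpowers σ) := Fintype.ofFinite _
  haveI : Fintype (fixedField σ) := Fintype.ofFinite _
  have h1 : Module.finrank (fixedField σ) F = r := by
    unfold fixedField
    rw [FixedPoints.finrank_eq_card, ← Nat.card_eq_fintype_card, Nat.card_zpowers, hσ]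
  have h2 : Fintype.card F = Fintype.card (fixedField σ) ^ Module.finrank (fixedField σ) F :=
    Module.card_eq_pow_finrank
  rw [h1, hF] at h2
  haveI : CharP F p := charP_of_card_eq_prime_pow hF
  haveI : CharP (fixedField σ) p := ⟨fun x => by
    rw [← CharP.cast_eq_zero_iff F p x]
    have h3 : (((x : ℕ) : fixedField σ) : F) = (x : F) := by push_cast; rfl
    rw [← h3]
    exact (ZeroMemClass.coe_eq_zero (x := ((x : ℕ) : fixedField σ))).symm⟩
  obtain ⟨e, -, he⟩ := FiniteField.card (fixedField σ) p
  rw [he, ← pow_mul] at h2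
  have h3 : f = (e : ℕ) * r := Nat.pow_right_injective hp.out.two_le h2
  have hr0 : 0 < r := by
    rw [← hσ]; exact orderOf_pos σ
  refine ⟨⟨e, by rw [h3, mul_comm]⟩, ?_⟩
  rw [Nat.card_eq_fintype_card, he, h3, Nat.mul_div_cancel _ hr0]

end Cfsg.Agent.Helper37.Lang
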