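import Mathlib
import Cfsg.Agent.Helper14.AutCount
import Cfsg.Agent.Helper37.LangB

/-!
Helper37: the Lang–Steinberg theorem for `GL_n(F)` with respect to a field automorphism.
-/

set_option autoImplicit false
set_option linter.unusedSectionVars false

namespace Cfsg.Agent.Helper37.Lang

open Matrix Cfsg.Agent.Helper14.AutPSL

variable {n : ℕ} {F : Type*} [Field F]

/-- the semilinear map `v ↦ g σ(v)` -/
def semi (g : Matrix (Fin n) (Fin n) F) (σ : F ≃+* F) : (Fin n → F) →+ (Fin n → F) :=
  AddMonoidHom.mk' (fun v => g *ᵥ (fun i => σ (v i))) (by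
    intro a b
    rw [← mulVec_add]
    congr 1
    ext i
    simp)

theorem semi_apply (g : Matrix (Fin n) (Fin n) F) (σ : F ≃+* F) (v : Fin n → F) :
    semi g σ v = g *ᵥ (fun i => σ (v i)) := rfl

theorem semi_smul (g : Matrix (Fin n) (Fin n) F) (σ : F ≃+* F) (c : F) (v : Fin n → F) :
    semi g σ (c • v) = σ c • semi g σ v := by
  rw [semi_apply, semi_apply, ← mulVec_smul]
  congr 1
  ext i
  simp

/-- the twisted power `g σ(g) ⋯ σ^{k-1}(g)` -/
def Nrm (σ : F ≃+* F) (g : GL (Fin n) F) : ℕ → GL (Fin n) F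
  | 0 => 1
  | k + 1 => g * glMap σ (Nrm σ g k)

theorem semi_iterate (σ : F ≃+* F) (g : GL (Fin n) F) (k : ℕ) (v : Fin n → F) :
    ((semi (g : Matrix (Fin n) (Fin n) F) σ)^[k]) v =
      ((Nrm σ g k : GL (Fin n) F) : Matrix (Fin n) (Fin n) F) *ᵥ (fun i => (σ ^ k) (v i)) := by
  induction k with
  | zero => simp [Nrm]
  | succ k ih =>
    rw [Function.iterate_succ_apply', ih, semi_apply]
    show _ = ((g * glMap σ (Nrm σ g k) : GL (Fin n) F) : Matrix (Fin n) (Fin n) F) *ᵥ _
    rw [Units.val_mul, ← mulVec_mulVec, glMap_coe]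
    congr 1
    ext i
    simp only [mulVec, dotProduct, map_sum, map_mul, Matrix.map_apply]
    apply Finset.sum_congr rfl
    intro j _
    rw [pow_succ']
    rfl

theorem pow_conj_field (σ : F ≃+* F) (g : GL (Fin n) F) (k : ℕ) :
    (slConj g * slField σ : MulAut (Matrix.SpecialLinearGroup (Fin n) F)) ^ k =
      slConj (Nrm σ g k) * slField (σ ^ k) := by
  induction k with
  | zero => simp [Nrm, slConj_one, slField_one]
  | succ k ih =>
    rw [pow_succ', ih]
    show _ = slConj (g * glMap σ (Nrm σ g k)) * slField (σ ^ (k + 1))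
    rw [slConj_mul, pow_succ', slField_mul]
    calc slConj g * slField σ * (slConj (Nrm σ g k) * slField (σ ^ k))
        = slConj g * (slField σ * slConj (Nrm σ g k)) * slField (σ ^ k) := by
          simp only [mul_assoc]
      _ = slConj g * (slConj (glMap σ (Nrm σ g k)) * slField σ) * slField (σ ^ k) := by
          rw [slField_slConj]
      _ = _ := by simp only [mul_assoc]

/-- **Lang–Steinberg for `GL_n`** (non-abelian Hilbert 90): if the semilinear map `g ∘ σ` has
order dividing the order of `σ`, then `g = h σ(h)⁻¹`. -/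
theorem lang_GL [Fintype F] (σ : F ≃+* F) {r : ℕ} (hr : orderOf σ = r) (hr0 : 0 < r)
    (g : GL (Fin n) F) (hg : ∀ v, ((semi (g : Matrix (Fin n) (Fin n) F) σ)^[r]) v = v) :
    ∃ h : GL (Fin n) F, g * glMap σ h = h := by
  classical
  have hsp := span_fixed_eq_top σ hr hr0 (semi (g : Matrix (Fin n) (Fin n) F) σ)
    (semi_smul _ σ) hg
  obtain ⟨b, hbs, hspan, hli⟩ := exists_linearIndependent F
    {v : Fin n → F | semi (g : Matrix (Fin n) (Fin n) F) σ v = v}
  rw [hsp] at hspan
  have hli' : LinearIndependent F (Subtype.val : b → (Fin n → F)) := hli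
  have htop : ⊤ ≤ Submodule.span F (Set.range (Subtype.val : b → (Fin n → F))) := by
    rw [Subtype.range_coe, hspan]
  let B := Module.Basis.mk hli' htop
  haveI : Fintype b := Fintype.ofFinite b
  have hcard : Fintype.card b = n := by
    have h1 := Module.finrank_eq_card_basis B
    rw [Module.finrank_fin_fun] at h1
    exact h1.symm
  let e : Fin n ≃ b := (Fintype.equivFinOfCardEq hcard).symm
  let h : Matrix (Fin n) (Fin n) F := Matrix.of (fun i j => (e j : Fin n → F) i)
  have hcol : ∀ j, h.col j = (e j : Fin n → F) := fun j => rfl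
  have hliC : LinearIndependent F h.col := by
    have := hli'.comp e e.injective
    exact this
  have hunit : IsUnit h := Matrix.linearIndependent_cols_iff_isUnit.mp hliC
  obtain ⟨hU, hhU⟩ := hunit
  refine ⟨hU, ?_⟩
  apply Units.ext
  rw [Units.val_mul, glMap_coe, hhU]
  ext i j
  have hfix : semi (g : Matrix (Fin n) (Fin n) F) σ (e j : Fin n → F) = (e j : Fin n → F) :=
    hbs (e j).2
  have := congrFun hfix i
  rw [semi_apply] at this
  rw [Matrix.mul_apply]
  exact this

end Cfsg.Agent.Helper37.Lang
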