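import Mathlib
import Cfsg.Agent.Helper14.AutPreds

/-!
Helper37: uniqueness of the normal form `slConj g * slField σ * slT ε` modulo the centre.
-/

set_option autoImplicit false
set_option linter.unusedSectionVars false

namespace Cfsg.Agent.Helper37.OutPsl

open Matrix Cfsg.Agent.Helper14.AutPSL

variable {n : ℕ} {F : Type*} [Field F]

theorem exists_dot_eq_zero (hn : 2 ≤ n) {a : Fin n → F} (ha : a ≠ 0) :
    ∃ φ : Fin n → F, φ ≠ 0 ∧ φ ⬝ᵥ a = 0 := by
  have h1 := finrank_ker_dotL ha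
  rw [Fintype.card_fin] at h1
  have h2 : 0 < Module.finrank F (LinearMap.ker (dotL a)) := by omega
  obtain ⟨⟨φ, hφ⟩, hne⟩ := Module.finrank_pos_iff_exists_ne_zero.mp h2
  exact ⟨φ, fun h => hne (Subtype.ext h), mem_ker_dotL.mp hφ⟩

theorem mulVec_map_eq_smul (hn : 2 ≤ n) {g : GL (Fin n) F} {σ : F ≃+* F}
    (h : pslOf (slConj g * slField σ) = 1) {a : Fin n → F} (ha : a ≠ 0) :
    ∃ c : F, (g : Matrix (Fin n) (Fin n) F) *ᵥ (fun i => σ (a i)) = c • a := by
  haveI : Nonempty (Fin n) := ⟨⟨0, by omega⟩⟩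
  obtain ⟨φ, hφ, hφa⟩ := exists_dot_eq_zero hn ha
  have h1 : pslOf (slConj g * slField σ) (prj (tv a φ hφa)) = prj (tv a φ hφa) := by rw [h]; rfl
  rw [pslOf_prj, MulAut.mul_apply, slField_tv, slConj_tv] at h1
  have h2 := IsTq.eq_of_mk_eq ⟨_, _, _, rfl⟩ ⟨_, _, _, rfl⟩ h1
  obtain ⟨c, -, hb, -⟩ := tv_eq_tv _ _ ha hφ h2.symm
  exact ⟨c, hb⟩


/-- if `g ∘ σ` induces the identity of `PSL` then `σ = 1` and `g` is scalar -/
theorem eq_of_pslOf_eq_one (hn : 2 ≤ n) {g : GL (Fin n) F} {σ : F ≃+* F}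
    (h : pslOf (slConj g * slField σ) = 1) :
    σ = 1 ∧ ∃ c : F, (g : Matrix (Fin n) (Fin n) F) = c • (1 : Matrix (Fin n) (Fin n) F) := by
  set G : Matrix (Fin n) (Fin n) F := (g : Matrix (Fin n) (Fin n) F) with hG
  have K := fun (a : Fin n → F) (ha : a ≠ 0) => mulVec_map_eq_smul hn h ha
  -- step 1: `G` is diagonal
  have h1 : ∀ i k : Fin n, k ≠ i → G k i = 0 := by
    intro i k hki
    have ha : (Pi.single i (1 : F) : Fin n → F) ≠ 0 := by
      intro h0
      have := congrFun h0 i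
      simp at this
    obtain ⟨c, hc⟩ := K _ ha
    have := congrFun hc k
    rw [Matrix.mulVec, dotProduct, Finset.sum_eq_single i] at this
    · simpa [Pi.single_apply, hki] using this
    · intro l _ hl
      simp [Pi.single_apply, hl]
    · intro hi; exact absurd (Finset.mem_univ i) hi
  have hmv : ∀ (v : Fin n → F) (k : Fin n), (G *ᵥ v) k = G k k * v k := by
    intro v k
    rw [Matrix.mulVec, dotProduct, Finset.sum_eq_single k]
    · intro l _ hl
      rw [h1 l k (Ne.symm hl), zero_mul]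
    · intro hk; exact absurd (Finset.mem_univ k) hk
  -- step 2
  have h2 : ∀ i j : Fin n, i ≠ j → ∀ x : F, G j j * σ x = G i i * x := by
    intro i j hij x
    have ha : (Pi.single i (1 : F) + Pi.single j x : Fin n → F) ≠ 0 := by
      intro h0
      have := congrFun h0 i
      simp [Pi.single_apply, hij] at this
    obtain ⟨c, hc⟩ := K _ ha
    have e1 := congrFun hc i
    have e2 := congrFun hc j
    rw [hmv] at e1 e2
    simp [Pi.single_apply, hij, hij.symm] at e1 e2
    rw [e2, ← e1]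
  have h01 : (⟨0, by omega⟩ : Fin n) ≠ ⟨1, by omega⟩ := by
    intro h; have := congrArg Fin.val h; simp at this
  set i0 : Fin n := ⟨0, by omega⟩ with hi0
  set i1 : Fin n := ⟨1, by omega⟩ with hi1
  have h3 : ∀ j : Fin n, G j j = G i0 i0 := by
    intro j
    by_cases hj : j = i0
    · rw [hj]
    · have := h2 i0 j (Ne.symm hj) 1
      rwa [map_one, mul_one, mul_one] at this
  have hGeq : G = G i0 i0 • (1 : Matrix (Fin n) (Fin n) F) := by
    ext k l
    rw [Matrix.smul_apply, Matrix.one_apply, smul_eq_mul]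
    by_cases hkl : k = l
    · subst hkl; rw [if_pos rfl, mul_one, h3]
    · rw [if_neg hkl, mul_zero, h1 l k hkl]
  have hne : G i0 i0 ≠ 0 := by
    intro h0
    have hdet : G.det ≠ 0 := by
      have := (Matrix.isUnit_iff_isUnit_det G).mp ⟨g, rfl⟩
      exact this.ne_zero
    rw [hGeq, h0, zero_smul] at hdet
    apply hdet
    haveI : Nonempty (Fin n) := ⟨i0⟩
    exact Matrix.det_zero
  refine ⟨?_, G i0 i0, hGeq⟩
  ext x
  have := h2 i0 i1 h01 x
  rw [h3 i1] at this
  exact mul_left_cancel₀ hne this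


theorem map_single_one (σ : F ≃+* F) (i : Fin n) :
    (fun k => σ ((Pi.single i (1 : F) : Fin n → F) k)) = Pi.single i (1 : F) := by
  ext k
  by_cases hk : k = i
  · subst hk; simp
  · simp [hk]

/-- in dimension at least 3 the inverse transpose is not induced by a semilinear map -/
theorem pslOf_invT_ne_one (hn : 3 ≤ n) (g : GL (Fin n) F) (σ : F ≃+* F) :
    pslOf (slConj g * slField σ * slInvT) ≠ 1 := by
  intro h
  haveI : Nonempty (Fin n) := ⟨⟨0, by omega⟩⟩
  set i0 : Fin n := ⟨0, by omega⟩ with hi0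
  set i1 : Fin n := ⟨1, by omega⟩ with hi1
  set i2 : Fin n := ⟨2, by omega⟩ with hi2
  have h01 : i0 ≠ i1 := by intro h; have := congrArg Fin.val h; simp [hi0, hi1] at this
  have h02 : i0 ≠ i2 := by intro h; have := congrArg Fin.val h; simp [hi0, hi2] at this
  have h12 : i1 ≠ i2 := by intro h; have := congrArg Fin.val h; simp [hi1, hi2] at this
  have key : ∀ j : Fin n, j ≠ i0 → ∃ c : F,
      (g : Matrix (Fin n) (Fin n) F) *ᵥ (Pi.single j (1 : F)) = c • Pi.single i0 (1 : F) := by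
    intro j hj
    have hd : (Pi.single j (1 : F) : Fin n → F) ⬝ᵥ Pi.single i0 (1 : F) = 0 := by
      rw [single_dotProduct, one_mul, Pi.single_apply, if_neg hj]
    have ha : (Pi.single i0 (1 : F) : Fin n → F) ≠ 0 := by
      intro h0; have := congrFun h0 i0; simp at this
    have hφ : (Pi.single j (1 : F) : Fin n → F) ≠ 0 := by
      intro h0; have := congrFun h0 j; simp at this
    have h1 : pslOf (slConj g * slField σ * slInvT) (prj (tv _ _ hd)) = prj (tv _ _ hd) := by
      rw [h]; rfl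
    rw [pslOf_prj, MulAut.mul_apply, MulAut.mul_apply, slInvT_tv, slField_tv, slConj_tv] at h1
    have h2 := IsTq.eq_of_mk_eq ⟨_, _, _, rfl⟩ ⟨_, _, _, rfl⟩ h1
    obtain ⟨c, -, hb, -⟩ := tv_eq_tv _ _ ha hφ h2.symm
    rw [map_single_one] at hb
    exact ⟨c, hb⟩
  obtain ⟨c1, hc1⟩ := key i1 h01.symm
  obtain ⟨c2, hc2⟩ := key i2 h02.symm
  have h3 : (g : Matrix (Fin n) (Fin n) F) *ᵥ (c2 • Pi.single i1 (1 : F) - c1 • Pi.single i2 (1 : F)) = 0 := by
    rw [Matrix.mulVec_sub, Matrix.mulVec_smul, Matrix.mulVec_smul, hc1, hc2, smul_smul, smul_smul,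
      mul_comm, sub_self]
  have h4 : (c2 • Pi.single i1 (1 : F) - c1 • Pi.single i2 (1 : F) : Fin n → F) = 0 := by
    have := congrArg (fun v => ((g⁻¹ : GL (Fin n) F) : Matrix (Fin n) (Fin n) F) *ᵥ v) h3
    simp only [Matrix.mulVec_mulVec, gl_inv_mul, Matrix.one_mulVec, Matrix.mulVec_zero] at this
    exact this
  have e1 := congrFun h4 i1
  have e2 := congrFun h4 i2
  simp [Pi.single_apply, h12, h12.symm] at e1 e2
  -- c1 = c2 = 0, so g kills a basis vector
  rw [e1, zero_smul] at hc2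
  have h5 : (Pi.single i2 (1 : F) : Fin n → F) = 0 := by
    have := congrArg (fun v => ((g⁻¹ : GL (Fin n) F) : Matrix (Fin n) (Fin n) F) *ᵥ v) hc2
    simp only [Matrix.mulVec_mulVec, gl_inv_mul, Matrix.one_mulVec, Matrix.mulVec_zero] at this
    exact this
  have := congrFun h5 i2
  simp at this

end Cfsg.Agent.Helper37.OutPsl
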