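import Mathlib
import Cfsg.Agent.Helper37.OutPslB

/-!
Helper37: normal forms `slConj g * slField σ * slT ε` of automorphisms of `PSL_n(F)`:
multiplication, inversion, uniqueness of `(σ, ε)`.
-/

set_option autoImplicit false
set_option linter.unusedSectionVars false

namespace Cfsg.Agent.Helper37.OutPsl

open Matrix Cfsg.Agent.Helper14.AutPSL

variable {n : ℕ} {F : Type*} [Field F]

/-- the automorphism `β` of `PSL_n(F)` is `conj g ∘ σ ∘ (inverse transpose)^ε` for some `g` -/
def NF (β : MulAut (Matrix.ProjectiveSpecialLinearGroup (Fin n) F)) (σ : F ≃+* F) (ε : Bool) : Prop :=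
  ∃ g : GL (Fin n) F, β = pslOf (slConj g * slField σ * slT ε)

theorem slT_false : (slT false : MulAut (Matrix.SpecialLinearGroup (Fin n) F)) = 1 := by
  unfold slT; simp

theorem slT_true : (slT true : MulAut (Matrix.SpecialLinearGroup (Fin n) F)) = slInvT := by
  unfold slT; simp

theorem slT_mul (ε ε' : Bool) :
    (slT ε * slT ε' : MulAut (Matrix.SpecialLinearGroup (Fin n) F)) = slT (xor ε ε') := by
  cases ε <;> cases ε'
  · simp [slT_false]
  · simp [slT_false]
  · simp [slT_false]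
  · simp only [slT_true, Bool.xor_self, slT_false]; exact slInvT_sq

theorem slT_inv (ε : Bool) :
    (slT ε : MulAut (Matrix.SpecialLinearGroup (Fin n) F))⁻¹ = slT ε := by
  cases ε
  · simp [slT_false]
  · rw [slT_true]; exact slInvT_inv

theorem NF.mul {β β' : MulAut (Matrix.ProjectiveSpecialLinearGroup (Fin n) F)} {σ σ' : F ≃+* F}
    {ε ε' : Bool} (h : NF β σ ε) (h' : NF β' σ' ε') : NF (β * β') (σ * σ') (xor ε ε') := by
  obtain ⟨g, rfl⟩ := h
  obtain ⟨g', rfl⟩ := h'
  obtain ⟨g'', hg''⟩ := slT_slConj ε g'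
  refine ⟨g * glMap σ g'', ?_⟩
  rw [← map_mul]
  congr 1
  calc slConj g * slField σ * slT ε * (slConj g' * slField σ' * slT ε')
      = slConj g * slField σ * (slT ε * slConj g') * slField σ' * slT ε' := by
        simp only [mul_assoc]
    _ = slConj g * slField σ * (slConj g'' * slT ε) * slField σ' * slT ε' := by rw [hg'']
    _ = slConj g * (slField σ * slConj g'') * (slT ε * slField σ') * slT ε' := by
        simp only [mul_assoc]
    _ = slConj g * (slConj (glMap σ g'') * slField σ) * (slField σ' * slT ε) * slT ε' := by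
        rw [slField_slConj, slT_slField]
    _ = slConj g * slConj (glMap σ g'') * (slField σ * slField σ') * (slT ε * slT ε') := by
        simp only [mul_assoc]
    _ = slConj (g * glMap σ g'') * slField (σ * σ') * slT (xor ε ε') := by
        rw [← slConj_mul, ← slField_mul, slT_mul]

theorem NF.inv {β : MulAut (Matrix.ProjectiveSpecialLinearGroup (Fin n) F)} {σ : F ≃+* F}
    {ε : Bool} (h : NF β σ ε) : NF β⁻¹ σ⁻¹ ε := by
  obtain ⟨g, rfl⟩ := h
  obtain ⟨h', hh'⟩ := slT_slConj ε (glMap σ⁻¹ g⁻¹)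
  refine ⟨h', ?_⟩
  rw [← map_inv]
  congr 1
  rw [_root_.mul_inv_rev, _root_.mul_inv_rev, slT_inv, ← slField_inv, ← slConj_inv]
  calc slT ε * (slField σ⁻¹ * slConj g⁻¹)
      = slT ε * (slConj (glMap σ⁻¹ g⁻¹) * slField σ⁻¹) := by rw [slField_slConj]
    _ = (slT ε * slConj (glMap σ⁻¹ g⁻¹)) * slField σ⁻¹ := by rw [mul_assoc]
    _ = slConj h' * slT ε * slField σ⁻¹ := by rw [hh']
    _ = slConj h' * slField σ⁻¹ * slT ε := by rw [mul_assoc, slT_slField, ← mul_assoc]

theorem NF.of_field (σ : F ≃+* F) (ε : Bool) :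
    NF (n := n) (pslOf (slField σ * slT ε)) σ ε :=
  ⟨1, by rw [slConj_one, one_mul]⟩

theorem NF.of_conj (g : GL (Fin n) F) : NF (pslOf (slConj g)) 1 false :=
  ⟨g, by rw [slField_one, slT_false, mul_one, mul_one]⟩

theorem NF.eq_conj {β : MulAut (Matrix.ProjectiveSpecialLinearGroup (Fin n) F)}
    (h : NF β 1 false) : ∃ g : GL (Fin n) F, β = pslOf (slConj g) := by
  obtain ⟨g, rfl⟩ := h
  exact ⟨g, by rw [slField_one, slT_false, mul_one, mul_one]⟩

theorem NF.one_false (hn : 2 ≤ n) {σ : F ≃+* F} (h : NF (n := n) 1 σ false) : σ = 1 := by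
  obtain ⟨g, hg⟩ := h
  rw [slT_false, mul_one] at hg
  exact (eq_of_pslOf_eq_one hn hg.symm).1

theorem NF.one_true (hn : 3 ≤ n) {σ : F ≃+* F} : ¬ NF (n := n) 1 σ true := by
  rintro ⟨g, hg⟩
  rw [slT_true] at hg
  exact pslOf_invT_ne_one hn g σ hg.symm

theorem NF.unique_false (hn : 2 ≤ n) {β : MulAut (Matrix.ProjectiveSpecialLinearGroup (Fin n) F)}
    {σ σ' : F ≃+* F} (h : NF β σ false) (h' : NF β σ' false) : σ = σ' := by
  have h1 := h.inv.mul h'
  rw [inv_mul_cancel, Bool.xor_self] at h1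
  have := NF.one_false hn h1
  exact (inv_mul_eq_one.mp this)

theorem NF.unique (hn : 3 ≤ n) {β : MulAut (Matrix.ProjectiveSpecialLinearGroup (Fin n) F)}
    {σ σ' : F ≃+* F} {ε ε' : Bool} (h : NF β σ ε) (h' : NF β σ' ε') : σ = σ' ∧ ε = ε' := by
  have h1 := h.inv.mul h'
  rw [inv_mul_cancel] at h1
  have hε : ε = ε' := by
    cases ε <;> cases ε'
    · rfl
    · exact absurd h1 (NF.one_true hn)
    · exact absurd h1 (NF.one_true hn)
    · rfl
  subst hε
  rw [Bool.xor_self] at h1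
  exact ⟨inv_mul_eq_one.mp (NF.one_false (by omega) h1), rfl⟩

end Cfsg.Agent.Helper37.OutPsl
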