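import Mathlib
import Cfsg.Prelude.Def_KGroupFacts
import Cfsg.Agent.Helper14.AutCount
import Cfsg.Agent.Helper37.OutPslA
import Cfsg.Agent.Helper37.OutPslC

/-!
Helper37: the structure of `Out(PSL_n(q))`.
-/

set_option autoImplicit false
set_option linter.unusedSectionVars false

namespace Cfsg.Agent.Helper37.OutPsl

open Matrix Cfsg.Agent.Helper14.AutPSL

/-! ### abstract lemmas -/

theorem exists_hom_of_rel {A S : Type*} [Group A] [Group S] (P : A → S → Prop)
    (hex : ∀ β, ∃ s, P β s) (hmul : ∀ β β' s s', P β s → P β' s' → P (β * β') (s * s'))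
    (huniq : ∀ β s s', P β s → P β s' → s = s') : ∃ h : A →* S, ∀ β, P β (h β) := by
  choose h hh using hex
  exact ⟨MonoidHom.mk' h (fun β β' => huniq _ _ _ (hh _) (hmul _ _ _ _ (hh β) (hh β'))), hh⟩

theorem abstract_out {A M C : Type*} [Group A] [Group M] [CommGroup C] [Finite C] [IsCyclic C]
    (I : Subgroup A) [I.Normal] (ψ : A →* M) (hsurj : Function.Surjective ψ) (hI : I ≤ ψ.ker)
    (η₀ : C →* A) (d : ℕ) (h1 : ∀ c, ψ (η₀ c) = 1)
    (h2 : ∀ β, ψ β = 1 → ∃ c, (η₀ c)⁻¹ * β ∈ I)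
    (h3 : ∀ c, η₀ c ∈ I ↔ c ∈ (powMonoidHom d : C →* C).range) :
    ∃ φ : A ⧸ I →* M, Function.Surjective φ ∧ IsCyclic φ.ker ∧
      Nat.card φ.ker = (Nat.card C).gcd d := by
  let φ : A ⧸ I →* M := QuotientGroup.lift I ψ hI
  let η : C →* A ⧸ I := (QuotientGroup.mk' I).comp η₀
  have hker : φ.ker = η.range := by
    ext x
    constructor
    · intro hx
      obtain ⟨β, rfl⟩ := QuotientGroup.mk_surjective x
      have hβ : ψ β = 1 := hx
      obtain ⟨c, hc⟩ := h2 β hβ
      exact ⟨c, QuotientGroup.eq.mpr hc⟩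
    · rintro ⟨c, rfl⟩
      exact h1 c
  have hkerη : η.ker = (powMonoidHom d : C →* C).range := by
    ext c
    rw [MonoidHom.mem_ker]
    show (QuotientGroup.mk (η₀ c) : A ⧸ I) = 1 ↔ _
    rw [QuotientGroup.eq_one_iff, h3]
  refine ⟨φ, ?_, ?_, ?_⟩
  · intro m
    obtain ⟨β, rfl⟩ := hsurj m
    exact ⟨QuotientGroup.mk β, rfl⟩
  · rw [hker]
    exact isCyclic_of_surjective η.rangeRestrict η.rangeRestrict_surjective
  · rw [hker, ← Subgroup.index_ker, hkerη, IsCyclic.index_powMonoidHom_range]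

/-! ### concrete ingredients -/

variable {n : ℕ} {F : Type*} [Field F]

theorem pslOf_slConj_toGL (s : Matrix.SpecialLinearGroup (Fin n) F) :
    pslOf (slConj (Matrix.SpecialLinearGroup.toGL s)) = MulAut.conj (prj s) := by
  ext x
  obtain ⟨t, rfl⟩ := prj_surjective x
  rw [pslOf_prj, MulAut.conj_apply, ← map_inv, ← map_mul, ← map_mul]
  congr 1

theorem exists_toGL_eq (g : GL (Fin n) F) (h : Matrix.GeneralLinearGroup.det g = 1) :
    ∃ s : Matrix.SpecialLinearGroup (Fin n) F, Matrix.SpecialLinearGroup.toGL s = g := by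
  refine ⟨⟨g.1, ?_⟩, Units.ext rfl⟩
  have := congrArg Units.val h
  simpa using this

theorem inndiagHom_mem_inn (g : GL (Fin n) F) (h : Matrix.GeneralLinearGroup.det g = 1) :
    inndiagHom n F g ∈ Cfsg.Inn (Matrix.ProjectiveSpecialLinearGroup (Fin n) F) := by
  obtain ⟨s, rfl⟩ := exists_toGL_eq g h
  exact ⟨prj s, (pslOf_slConj_toGL s).symm⟩

theorem mem_inn_iff {β : MulAut (Matrix.ProjectiveSpecialLinearGroup (Fin n) F)} :
    β ∈ Cfsg.Inn (Matrix.ProjectiveSpecialLinearGroup (Fin n) F) ↔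
      ∃ s : Matrix.SpecialLinearGroup (Fin n) F,
        β = inndiagHom n F (Matrix.SpecialLinearGroup.toGL s) := by
  constructor
  · rintro ⟨x, rfl⟩
    obtain ⟨s, rfl⟩ := prj_surjective x
    exact ⟨s, (pslOf_slConj_toGL s).symm⟩
  · rintro ⟨s, rfl⟩
    exact ⟨prj s, (pslOf_slConj_toGL s).symm⟩

/-- `diag(c, 1, …, 1)` -/
def dg (i0 : Fin n) : Fˣ →* GL (Fin n) F :=
  Units.map ((Matrix.diagonalRingHom (Fin n) F).toMonoidHom.comp
    (MonoidHom.mulSingle (fun _ : Fin n => F) i0))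

theorem det_dg (i0 : Fin n) (c : Fˣ) : Matrix.GeneralLinearGroup.det (dg i0 c) = c := by
  apply Units.ext
  show (Matrix.diagonal (Pi.mulSingle i0 (c : F))).det = c
  rw [Matrix.det_diagonal, Finset.prod_pi_mulSingle', if_pos (Finset.mem_univ _)]

theorem inndiagHom_scalar (hn : 2 ≤ n) (μ : Fˣ) :
    inndiagHom n F (Matrix.GeneralLinearGroup.scalar (Fin n) μ) = 1 := by
  have : Matrix.GeneralLinearGroup.scalar (Fin n) μ ∈ (inndiagHom n F).ker := by
    rw [ker_inndiagHom hn]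
    apply mem_center_of_scalar _ (μ : F)
    rw [Matrix.GeneralLinearGroup.coe_scalar, Matrix.scalar_apply, Matrix.smul_one_eq_diagonal]
  exact this

theorem inndiagHom_dg_mem_inn_iff (hn : 2 ≤ n) (i0 : Fin n) (c : Fˣ) :
    inndiagHom n F (dg i0 c) ∈ Cfsg.Inn (Matrix.ProjectiveSpecialLinearGroup (Fin n) F) ↔
      c ∈ (powMonoidHom n : Fˣ →* Fˣ).range := by
  constructor
  · intro h
    obtain ⟨s, hs⟩ := mem_inn_iff.mp h
    have h1 : inndiagHom n F ((Matrix.SpecialLinearGroup.toGL s)⁻¹ * dg i0 c) = 1 := by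
      rw [map_mul, map_inv, ← hs, inv_mul_cancel]
    have h2 : pslOf (slConj ((Matrix.SpecialLinearGroup.toGL s)⁻¹ * dg i0 c) *
        slField (1 : F ≃+* F)) = 1 := by
      rw [slField_one, mul_one]; exact h1
    obtain ⟨-, d, hd⟩ := eq_of_pslOf_eq_one hn h2
    have h3 : Matrix.GeneralLinearGroup.det ((Matrix.SpecialLinearGroup.toGL s)⁻¹ * dg i0 c) = c := by
      rw [map_mul, map_inv, Matrix.SpecialLinearGroup.coeToGL_det, inv_one, one_mul, det_dg]
    have h4 : (c : F) = d ^ n := by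
      have := congrArg Units.val h3
      rw [Matrix.GeneralLinearGroup.val_det_apply, hd, Matrix.det_smul, Matrix.det_one, mul_one,
        Fintype.card_fin] at this
      exact this.symm
    have hd0 : d ≠ 0 := by
      intro h0
      rw [h0, zero_pow (by omega)] at h4
      exact c.ne_zero h4
    refine ⟨Units.mk0 d hd0, ?_⟩
    apply Units.ext
    rw [powMonoidHom_apply, Units.val_pow_eq_pow_val, Units.val_mk0, h4]
  · rintro ⟨μ, rfl⟩
    rw [powMonoidHom_apply]
    have h1 : Matrix.GeneralLinearGroup.det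
        ((Matrix.GeneralLinearGroup.scalar (Fin n) μ)⁻¹ * dg i0 (μ ^ n)) = 1 := by
      rw [map_mul, map_inv, det_dg, Matrix.GeneralLinearGroup.det_scalar, Fintype.card_fin,
        inv_mul_cancel]
    have h2 := inndiagHom_mem_inn _ h1
    rwa [map_mul, map_inv, inndiagHom_scalar hn, inv_one, one_mul] at h2

end Cfsg.Agent.Helper37.OutPsl
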