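import Mathlib
import Cfsg.Prelude.Def_LieTypeDatum
import Cfsg.Agent.Helper14.AutCount
import Cfsg.Agent.Helper37.OutPslD
import Cfsg.Agent.Helper37.LangC

/-!
Helper37: the Prelude predicates on automorphisms of `PSL_n(F)` in terms of the standard
automorphisms; `Inndiag` is the (normal) image of `GL_n(F)`.
-/

set_option autoImplicit false
set_option linter.unusedSectionVars false

namespace Cfsg.Agent.Helper37.Lang

open Matrix Cfsg.Agent.Helper14.AutPSL Cfsg.Agent.Helper37.OutPsl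

variable {n : ℕ} {F : Type*} [Field F]

theorem eq_pslOf_of_isStdField {σ : F ≃+* F}
    {β : MulAut (Matrix.ProjectiveSpecialLinearGroup (Fin n) F)}
    (h : Cfsg.IsStdFieldAutPSL σ β) : β = pslOf (slField σ) := by
  ext x
  obtain ⟨s, rfl⟩ := prj_surjective x
  exact h s (slField σ s) rfl

theorem eq_pslOf_of_isInvT {β : MulAut (Matrix.ProjectiveSpecialLinearGroup (Fin n) F)}
    (h : Cfsg.IsInverseTransposeAutPSL β) : β = pslOf slInvT := by
  ext x
  obtain ⟨s, rfl⟩ := prj_surjective x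
  exact h s (slInvT s) rfl

theorem eq_pslOf_of_isInnerDiagonal {β : MulAut (Matrix.ProjectiveSpecialLinearGroup (Fin n) F)}
    (h : Cfsg.IsInnerDiagonalAutPSL β) : ∃ g : GL (Fin n) F, β = pslOf (slConj g) := by
  obtain ⟨g, hg⟩ := h
  refine ⟨g, ?_⟩
  ext x
  obtain ⟨s, rfl⟩ := prj_surjective x
  exact hg s (slConj g s) rfl

theorem inndiagPSL_eq_range : Cfsg.inndiagPSL n F = (inndiagHom n F).range := by
  unfold Cfsg.inndiagPSL Cfsg.autSubgroupOf
  apply le_antisymm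
  · rw [Subgroup.closure_le]
    intro β hβ
    obtain ⟨g, rfl⟩ := eq_pslOf_of_isInnerDiagonal hβ
    exact ⟨g, rfl⟩
  · rintro _ ⟨g, rfl⟩
    exact Subgroup.subset_closure (isInnerDiagonal_pslOf_slConj g)

theorem mem_inndiagPSL_iff {β : MulAut (Matrix.ProjectiveSpecialLinearGroup (Fin n) F)} :
    β ∈ Cfsg.inndiagPSL n F ↔ ∃ g : GL (Fin n) F, β = pslOf (slConj g) := by
  rw [inndiagPSL_eq_range]
  constructor
  · rintro ⟨g, rfl⟩; exact ⟨g, rfl⟩
  · rintro ⟨g, rfl⟩; exact ⟨g, rfl⟩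

theorem mem_inndiagPSL_iff_NF {β : MulAut (Matrix.ProjectiveSpecialLinearGroup (Fin n) F)} :
    β ∈ Cfsg.inndiagPSL n F ↔ NF β 1 false := by
  rw [mem_inndiagPSL_iff]
  constructor
  · rintro ⟨g, rfl⟩; exact NF.of_conj g
  · intro h; exact h.eq_conj

/-- `Inndiag` is normalised by every automorphism -/
theorem conj_mem_inndiagPSL [Fintype F] {p f : ℕ} [Fact p.Prime]
    (hF : Fintype.card F = p ^ f) (hf : 1 ≤ f) (hn : 2 ≤ n)
    (α : MulAut (Matrix.ProjectiveSpecialLinearGroup (Fin n) F))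
    {δ : MulAut (Matrix.ProjectiveSpecialLinearGroup (Fin n) F)} (hδ : δ ∈ Cfsg.inndiagPSL n F) :
    α * δ * α⁻¹ ∈ Cfsg.inndiagPSL n F := by
  rw [mem_inndiagPSL_iff_NF] at hδ ⊢
  obtain ⟨g, τ, ε, hα⟩ := exists_factorization hF hf hn α
  have hNF : NF α τ ε := ⟨g, by rw [hα, map_mul, map_mul]⟩
  have := (hNF.mul hδ).mul hNF.inv
  simpa using this

end Cfsg.Agent.Helper37.Lang
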