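import Mathlib
import Cfsg.Agent.Helper37.LangD

/-!
Helper37: an element of prime order `r` in the coset `Inndiag · φ_σ` (`σ` of order `r`) is
`Inndiag`-conjugate to `φ_σ`.
-/

set_option autoImplicit false
set_option linter.unusedSectionVars false

namespace Cfsg.Agent.Helper37.Lang

open Matrix Cfsg.Agent.Helper14.AutPSL Cfsg.Agent.Helper37.OutPsl

variable {n : ℕ} {F : Type*} [Field F]

theorem scalar_mul_coe (μ : Fˣ) (g : GL (Fin n) F) :
    ((Matrix.GeneralLinearGroup.scalar (Fin n) μ * g : GL (Fin n) F) : Matrix (Fin n) (Fin n) F) =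
      (μ : F) • (g : Matrix (Fin n) (Fin n) F) := by
  rw [Units.val_mul, Matrix.GeneralLinearGroup.coe_scalar, Matrix.scalar_apply,
    ← Matrix.smul_one_eq_diagonal, Matrix.smul_mul, Matrix.one_mul]

theorem semi_smul_left (c : F) (g : Matrix (Fin n) (Fin n) F) (σ : F ≃+* F) (v : Fin n → F) :
    semi (c • g) σ v = c • semi g σ v := by
  rw [semi_apply, semi_apply, Matrix.smul_mulVec]

theorem semi_smul_iterate (μ : F) (g : Matrix (Fin n) (Fin n) F) (σ : F ≃+* F) (k : ℕ)
    (v : Fin n → F) :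
    ((semi (μ • g) σ)^[k]) v = nrm σ k μ • ((semi g σ)^[k]) v := by
  induction k with
  | zero => simp [nrm_zero]
  | succ k ih =>
    rw [Function.iterate_succ_apply', ih, semi_smul_left, semi_smul, Function.iterate_succ_apply',
      smul_smul, nrm_succ]

theorem slConj_scalar_mul (μ : Fˣ) (g : GL (Fin n) F) :
    slConj (Matrix.GeneralLinearGroup.scalar (Fin n) μ * g) = slConj g := by
  rw [slConj_mul]
  have : slConj (Matrix.GeneralLinearGroup.scalar (Fin n) μ) =
      (1 : MulAut (Matrix.SpecialLinearGroup (Fin n) F)) := by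
    apply slConj_eq_one_of_mem_center
    apply mem_center_of_scalar _ (μ : F)
    rw [Matrix.GeneralLinearGroup.coe_scalar, Matrix.scalar_apply, Matrix.smul_one_eq_diagonal]
  rw [this, one_mul]

theorem glMap_inv (σ : F ≃+* F) (h : GL (Fin n) F) : glMap σ h⁻¹ = (glMap σ h)⁻¹ := by
  unfold glMap
  rw [map_inv]

/-- conjugating `φ_σ` by `c(h)` -/
theorem conj_field_eq (σ : F ≃+* F) (h : GL (Fin n) F) :
    (slConj h * slField σ * (slConj h)⁻¹ : MulAut (Matrix.SpecialLinearGroup (Fin n) F)) =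
      slConj (h * (glMap σ h)⁻¹) * slField σ := by
  rw [← slConj_inv, mul_assoc, slField_slConj, ← mul_assoc, ← slConj_mul, glMap_inv]

theorem field_case [Fintype F] (hn : 2 ≤ n) (σ : F ≃+* F) {r : ℕ} (hr0 : 0 < r)
    (hσ : orderOf σ = r) (g : GL (Fin n) F)
    (hord : (pslOf (slConj g * slField σ)) ^ r = 1) :
    ∃ h : GL (Fin n) F, pslOf (slConj g * slField σ) =
      pslOf (slConj h) * pslOf (slField σ) * (pslOf (slConj h))⁻¹ := by
  have hσr : σ ^ r = 1 := by rw [← hσ]; exact pow_orderOf_eq_one σ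
  -- the twisted power is scalar
  rw [← map_pow, pow_conj_field, hσr] at hord
  obtain ⟨-, l, hl⟩ := eq_of_pslOf_eq_one hn hord
  set i0 : Fin n := ⟨0, by omega⟩ with hi0
  haveI : Nonempty (Fin n) := ⟨i0⟩
  have hl0 : l ≠ 0 := by
    intro h0
    have hdet : ((Nrm σ g r : GL (Fin n) F) : Matrix (Fin n) (Fin n) F).det ≠ 0 :=
      Matrix.GeneralLinearGroup.det_ne_zero _
    rw [hl, h0, zero_smul, Matrix.det_zero] at hdet
    exact hdet rfl
  have hiter : ∀ v, ((semi (g : Matrix (Fin n) (Fin n) F) σ)^[r]) v = l • v := by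
    intro v
    rw [semi_iterate, hl, hσr, Matrix.smul_mulVec, Matrix.one_mulVec]
    rfl
  -- `l` is fixed by `σ`
  have hσl : σ l = l := by
    set T := semi (g : Matrix (Fin n) (Fin n) F) σ with hT
    set v₀ : Fin n → F := Pi.single i0 1 with hv₀
    have hv₀0 : v₀ ≠ 0 := by
      intro h0; have := congrFun h0 i0; simp [hv₀] at this
    have hTv : T v₀ ≠ 0 := by
      intro h0
      have h1 : (T^[r]) v₀ = 0 := by
        obtain ⟨k, rfl⟩ : ∃ k, r = k + 1 := ⟨r - 1, by omega⟩
        rw [Function.iterate_succ_apply, h0]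
        exact iterate_map_zero T k
      rw [hiter] at h1
      rcases smul_eq_zero.mp h1 with h | h
      · exact hl0 h
      · exact hv₀0 h
    have h1 : (T^[r]) (T v₀) = T ((T^[r]) v₀) := by
      rw [← Function.iterate_succ_apply, Function.iterate_succ_apply']
    rw [hiter, hiter, hT, semi_smul] at h1
    have h2 : (l - σ l) • semi (g : Matrix (Fin n) (Fin n) F) σ v₀ = 0 := by
      rw [sub_smul, h1, sub_self]
    rcases smul_eq_zero.mp h2 with h | h
    · exact (sub_eq_zero.mp h).symm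
    · exact absurd h hTv
  obtain ⟨μ, hμ0, hμ⟩ := exists_nrm_eq σ hσ hr0 (inv_ne_zero hl0)
    (by rw [map_inv₀, hσl])
  set g' : GL (Fin n) F := Matrix.GeneralLinearGroup.scalar (Fin n) (Units.mk0 μ hμ0) * g with hg'
  have hg'iter : ∀ v, ((semi (g' : Matrix (Fin n) (Fin n) F) σ)^[r]) v = v := by
    intro v
    rw [hg', scalar_mul_coe, Units.val_mk0, semi_smul_iterate, hiter, hμ, smul_smul,
      inv_mul_cancel₀ hl0, one_smul]
  obtain ⟨h, hh⟩ := lang_GL σ hσ hr0 g' hg'iter
  refine ⟨h, ?_⟩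
  rw [← map_mul, ← map_inv, ← map_mul, conj_field_eq]
  have h3 : h * (glMap σ h)⁻¹ = g' := by
    rw [mul_inv_eq_iff_eq_mul, hh]
  rw [h3, hg', slConj_scalar_mul]

end Cfsg.Agent.Helper37.Lang
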