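import Mathlib
import Cfsg.Agent.Helper37.LangF

/-!
Helper37: invertible hermitian matrices over a finite field are of the form `h h^*`.
-/

set_option autoImplicit false
set_option linter.unusedSectionVars false

namespace Cfsg.Agent.Helper37.Lang

open Matrix

variable {n : ℕ} {F : Type*} [Field F]

/-- conjugate transpose with respect to `σ` -/
def ct (σ : F ≃+* F) (A : Matrix (Fin n) (Fin n) F) : Matrix (Fin n) (Fin n) F := (A.map σ)ᵀ

theorem ct_apply (σ : F ≃+* F) (A : Matrix (Fin n) (Fin n) F) (i j : Fin n) :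
    ct σ A i j = σ (A j i) := rfl

theorem ct_mul (σ : F ≃+* F) (A B : Matrix (Fin n) (Fin n) F) :
    ct σ (A * B) = ct σ B * ct σ A := by
  unfold ct
  have := Matrix.map_mul (L := A) (M := B) (f := (σ : F →+* F))
  rw [show (A * B).map σ = (A * B).map (σ : F →+* F) from rfl, this, Matrix.transpose_mul]
  rfl

theorem ct_one (σ : F ≃+* F) : ct σ (1 : Matrix (Fin n) (Fin n) F) = 1 := by
  ext i j
  rw [ct_apply, Matrix.one_apply, Matrix.one_apply]
  by_cases h : i = j
  · subst h; simp
  · rw [if_neg h, if_neg (Ne.symm h), map_zero]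

theorem ct_ct {σ : F ≃+* F} (hσ2 : ∀ x, σ (σ x) = x) (A : Matrix (Fin n) (Fin n) F) :
    ct σ (ct σ A) = A := by
  ext i j
  rw [ct_apply, ct_apply, hσ2]

theorem ct_smul (σ : F ≃+* F) (c : F) (A : Matrix (Fin n) (Fin n) F) :
    ct σ (c • A) = σ c • ct σ A := by
  ext i j
  rw [ct_apply, Matrix.smul_apply, Matrix.smul_apply, ct_apply, smul_eq_mul, smul_eq_mul, map_mul]

/-- the form attached to a matrix -/
def matForm (σ : F ≃+* F) (G : Matrix (Fin n) (Fin n) F) (u v : Fin n → F) : F :=
  ∑ i, ∑ j, u i * G i j * σ (v j)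

theorem matForm_isHerm {σ : F ≃+* F} (hσ2 : ∀ x, σ (σ x) = x) (G : Matrix (Fin n) (Fin n) F)
    (hG : ct σ G = G) : IsHerm σ (matForm σ G) where
  add_left u u' v := by
    unfold matForm
    rw [← Finset.sum_add_distrib]
    apply Finset.sum_congr rfl; intro i _
    rw [← Finset.sum_add_distrib]
    apply Finset.sum_congr rfl; intro j _
    rw [Pi.add_apply]; ring
  add_right u v v' := by
    unfold matForm
    rw [← Finset.sum_add_distrib]
    apply Finset.sum_congr rfl; intro i _
    rw [← Finset.sum_add_distrib]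
    apply Finset.sum_congr rfl; intro j _
    rw [Pi.add_apply, map_add]; ring
  smul_left c u v := by
    unfold matForm
    rw [Finset.mul_sum]
    apply Finset.sum_congr rfl; intro i _
    rw [Finset.mul_sum]
    apply Finset.sum_congr rfl; intro j _
    rw [Pi.smul_apply, smul_eq_mul]; ring
  smul_right c u v := by
    unfold matForm
    rw [Finset.mul_sum]
    apply Finset.sum_congr rfl; intro i _
    rw [Finset.mul_sum]
    apply Finset.sum_congr rfl; intro j _
    rw [Pi.smul_apply, smul_eq_mul, map_mul]; ring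
  herm u v := by
    unfold matForm
    rw [map_sum, Finset.sum_comm]
    apply Finset.sum_congr rfl; intro j _
    rw [map_sum]
    apply Finset.sum_congr rfl; intro i _
    have h1 : σ (G j i) = G i j := by
      have := congrFun (congrFun hG i) j
      rwa [ct_apply] at this
    rw [map_mul, map_mul, h1, hσ2]
    ring


theorem matForm_eq_mul (σ : F ≃+* F) (G : Matrix (Fin n) (Fin n) F) (u : Fin n → Fin n → F)
    (i j : Fin n) :
    (Matrix.of u * G * ct σ (Matrix.of u)) i j = matForm σ G (u i) (u j) := by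
  unfold matForm
  rw [Matrix.mul_apply]
  simp only [Matrix.mul_apply, ct_apply, Matrix.of_apply, Finset.sum_mul]
  rw [Finset.sum_comm]

/-- an invertible hermitian matrix over a finite field is `h h^*` -/
theorem exists_eq_mul_ct [Fintype F] {σ : F ≃+* F} (hσ2 : ∀ x, σ (σ x) = x) (hσ1 : σ ≠ 1)
    (G : Matrix (Fin n) (Fin n) F) (hGu : IsUnit G) (hG : ct σ G = G) :
    ∃ h : Matrix (Fin n) (Fin n) F, IsUnit h ∧ G = h * ct σ h := by
  classical
  have hB := matForm_isHerm hσ2 G hG
  have hnd : ∀ w ∈ (⊤ : Submodule F (Fin n → F)), w ≠ 0 →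
      ∃ w' ∈ (⊤ : Submodule F (Fin n → F)), matForm σ G w w' ≠ 0 := by
    intro w _ hw0
    by_contra hno
    have hall : ∀ w', matForm σ G w w' = 0 := by
      intro w'
      by_contra h
      exact hno ⟨w', trivial, h⟩
    apply hw0
    have h1 : w ᵥ* G = 0 := by
      ext j
      have := hall (Pi.single j 1)
      unfold matForm at this
      rw [Matrix.vecMul, dotProduct, Pi.zero_apply, ← this]
      apply Finset.sum_congr rfl
      intro i _
      rw [Finset.sum_eq_single j]
      · simp
      · intro k _ hk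
        simp [hk]
      · intro hj; exact absurd (Finset.mem_univ j) hj
    obtain ⟨Gu, rfl⟩ := hGu
    have := congrArg (fun x => x ᵥ* ((Gu⁻¹ : (Matrix (Fin n) (Fin n) F)ˣ) : Matrix (Fin n) (Fin n) F)) h1
    simp only [Matrix.vecMul_vecMul, Matrix.zero_vecMul] at this
    rwa [← Units.val_mul, mul_inv_cancel, Units.val_one, Matrix.vecMul_one] at this
  have hfr : Module.finrank F (⊤ : Submodule F (Fin n → F)) = n := by
    rw [finrank_top, Module.finrank_fin_fun]
  obtain ⟨u, -, hu⟩ := exists_orthonormal hσ2 hσ1 hB n ⊤ hfr hnd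
  set P : Matrix (Fin n) (Fin n) F := Matrix.of u with hP
  have hPG : P * G * ct σ P = 1 := by
    ext i j
    rw [hP, matForm_eq_mul, hu i j, Matrix.one_apply]
  have hPu : IsUnit P := by
    rw [Matrix.mul_assoc] at hPG
    exact (Matrix.isUnit_iff_isUnit_det P).mpr (Matrix.isUnit_det_of_right_inverse hPG)
  obtain ⟨Pu, hPu'⟩ := hPu
  set Q : Matrix (Fin n) (Fin n) F := ((Pu⁻¹ : (Matrix (Fin n) (Fin n) F)ˣ) : Matrix (Fin n) (Fin n) F)
    with hQ
  have hQP : Q * P = 1 := by
    rw [hQ, ← hPu', ← Units.val_mul, inv_mul_cancel, Units.val_one]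
  refine ⟨Q, ⟨Pu⁻¹, rfl⟩, ?_⟩
  have h1 : ct σ P * ct σ Q = 1 := by rw [← ct_mul, hQP, ct_one]
  calc G = (Q * P) * G * (ct σ P * ct σ Q) := by rw [hQP, h1, Matrix.one_mul, Matrix.mul_one]
    _ = Q * (P * G * ct σ P) * ct σ Q := by simp only [Matrix.mul_assoc]
    _ = Q * ct σ Q := by rw [hPG, Matrix.mul_one]

end Cfsg.Agent.Helper37.Lang
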