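import Mathlib
import Cfsg.Agent.Helper37.LangE
import Cfsg.Agent.Helper37.LangG

/-!
Helper37: an involution in the coset `Inndiag · φ_σ ι` is `Inndiag`-conjugate to `φ_σ ι`.
-/

set_option autoImplicit false
set_option linter.unusedSectionVars false

namespace Cfsg.Agent.Helper37.Lang

open Matrix Cfsg.Agent.Helper14.AutPSL Cfsg.Agent.Helper37.OutPsl

variable {n : ℕ} {F : Type*} [Field F]

theorem glMap_glInvT_coe (σ : F ≃+* F) (h : GL (Fin n) F) :
    ((glMap σ (glInvT h⁻¹) : GL (Fin n) F) : Matrix (Fin n) (Fin n) F) =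
      ct σ (h : Matrix (Fin n) (Fin n) F) := by
  rw [glMap_coe]
  show ((glInvT h⁻¹ : GL (Fin n) F) : Matrix (Fin n) (Fin n) F).map σ = _
  rw [glInvT_coe, inv_inv]
  unfold ct
  rw [Matrix.transpose_map]

/-- squaring `c(g) φ_σ ι` -/
theorem sq_graph_field (σ : F ≃+* F) (hσ2 : σ * σ = 1) (g : GL (Fin n) F) :
    (slConj g * slField σ * slInvT : MulAut (Matrix.SpecialLinearGroup (Fin n) F)) ^ 2 =
      slConj (g * glMap σ (glInvT g)) := by
  rw [pow_two, slConj_mul]
  calc slConj g * slField σ * slInvT * (slConj g * slField σ * slInvT)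
      = slConj g * slField σ * (slInvT * slConj g) * slField σ * slInvT := by
        simp only [mul_assoc]
    _ = slConj g * slField σ * (slConj (glInvT g) * slInvT) * slField σ * slInvT := by
        rw [slInvT_slConj]
    _ = slConj g * (slField σ * slConj (glInvT g)) * (slInvT * slField σ) * slInvT := by
        simp only [mul_assoc]
    _ = slConj g * (slConj (glMap σ (glInvT g)) * slField σ) * (slField σ * slInvT) * slInvT := by
        rw [slField_slConj, slInvT_slField]
    _ = slConj g * slConj (glMap σ (glInvT g)) * (slField σ * slField σ) * (slInvT * slInvT) := by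
        simp only [mul_assoc]
    _ = slConj g * slConj (glMap σ (glInvT g)) := by
        rw [← slField_mul, hσ2, slField_one, slInvT_sq, mul_one, mul_one]

/-- conjugating `φ_σ ι` by `c(h)` -/
theorem conj_graph_field_eq (σ : F ≃+* F) (h : GL (Fin n) F) :
    (slConj h * (slField σ * slInvT) * (slConj h)⁻¹ :
      MulAut (Matrix.SpecialLinearGroup (Fin n) F)) =
      slConj (h * glMap σ (glInvT h⁻¹)) * (slField σ * slInvT) := by
  rw [← slConj_inv, slConj_mul]
  calc slConj h * (slField σ * slInvT) * slConj h⁻¹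
      = slConj h * slField σ * (slInvT * slConj h⁻¹) := by simp only [mul_assoc]
    _ = slConj h * slField σ * (slConj (glInvT h⁻¹) * slInvT) := by rw [slInvT_slConj]
    _ = slConj h * (slField σ * slConj (glInvT h⁻¹)) * slInvT := by simp only [mul_assoc]
    _ = slConj h * (slConj (glMap σ (glInvT h⁻¹)) * slField σ) * slInvT := by
        rw [slField_slConj]
    _ = _ := by simp only [mul_assoc]

theorem graph_field_case [Fintype F] (hn : 2 ≤ n) (σ : F ≃+* F) (hσ : orderOf σ = 2)
    (g : GL (Fin n) F)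
    (hord : (pslOf (slConj g * slField σ * slInvT)) ^ 2 = 1) :
    ∃ h : GL (Fin n) F, pslOf (slConj g * slField σ * slInvT) =
      pslOf (slConj h) * pslOf (slField σ * slInvT) * (pslOf (slConj h))⁻¹ := by
  have hσσ : σ * σ = 1 := by rw [← pow_two, ← hσ]; exact pow_orderOf_eq_one σ
  have hσ2 : ∀ x, σ (σ x) = x := fun x => by
    have := congrArg (fun τ : F ≃+* F => τ x) hσσ
    exact this
  have hσ1 : σ ≠ 1 := by
    intro h1
    rw [h1, orderOf_one] at hσ
    omega
  rw [← map_pow, sq_graph_field σ hσσ g] at hord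
  have hord' : pslOf (slConj (g * glMap σ (glInvT g)) * slField (1 : F ≃+* F)) = 1 := by
    rw [slField_one, mul_one]; exact hord
  obtain ⟨-, l, hl⟩ := eq_of_pslOf_eq_one hn hord'
  set A : Matrix (Fin n) (Fin n) F := (g : Matrix (Fin n) (Fin n) F) with hA
  -- `A = l • ct σ A`
  have h1 : A * ((glMap σ (glInvT g) : GL (Fin n) F) : Matrix (Fin n) (Fin n) F) = l • 1 := by
    rw [← hl, Units.val_mul]
  have h2 : ((glMap σ (glInvT g) : GL (Fin n) F) : Matrix (Fin n) (Fin n) F) * ct σ A = 1 := by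
    have e1 : ct σ A = ((glMap σ (glInvT g⁻¹) : GL (Fin n) F) : Matrix (Fin n) (Fin n) F) :=
      (glMap_glInvT_coe σ g).symm
    rw [e1, ← Units.val_mul]
    have : glMap σ (glInvT g) * glMap σ (glInvT g⁻¹) = 1 := by
      unfold glMap
      rw [← map_mul]
      have e2 : glInvT g * glInvT g⁻¹ = 1 := by
        apply Units.ext
        rw [Units.val_mul, glInvT_coe, glInvT_coe, inv_inv, ← Matrix.transpose_mul, gl_mul_inv,
          Matrix.transpose_one]
        rfl
      rw [e2, map_one]
    rw [this]; rfl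
  have h3 : A = l • ct σ A := by
    calc A = A * (((glMap σ (glInvT g) : GL (Fin n) F) : Matrix (Fin n) (Fin n) F) * ct σ A) := by
          rw [h2, Matrix.mul_one]
      _ = (l • 1) * ct σ A := by rw [← Matrix.mul_assoc, h1]
      _ = l • ct σ A := by rw [Matrix.smul_mul, Matrix.one_mul]
  have hA0 : A ≠ 0 := by
    intro h0
    have hdet : A.det ≠ 0 := Matrix.GeneralLinearGroup.det_ne_zero g
    haveI : Nonempty (Fin n) := ⟨⟨0, by omega⟩⟩
    rw [h0, Matrix.det_zero] at hdet
    exact hdet rfl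
  have h4 : l * σ l = 1 := by
    have e1 : ct σ A = σ l • A := by
      conv_lhs => rw [h3]
      rw [ct_smul, ct_ct hσ2]
    have e2 : A = (l * σ l) • A := by
      conv_lhs => rw [h3, e1]
      rw [smul_smul]
    obtain ⟨i, j, hij⟩ : ∃ i j, A i j ≠ 0 := by
      by_contra hno
      apply hA0
      ext i j
      by_contra h
      exact hno ⟨i, j, h⟩
    have := congrFun (congrFun e2 i) j
    rw [Matrix.smul_apply, smul_eq_mul] at this
    have h5 : (l * σ l - 1) * A i j = 0 := by linear_combination -this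
    rcases mul_eq_zero.mp h5 with h | h
    · exact sub_eq_zero.mp h
    · exact absurd h hij
  have hl0 : l ≠ 0 := left_ne_zero_of_mul_eq_one h4
  obtain ⟨ν, hν0, hν⟩ := hilbert90 σ hσ (by norm_num) (by rw [nrm_two]; exact h4)
  -- `μ = σ ν`
  have hμ0 : σ ν ≠ 0 := (map_ne_zero_iff _ σ.injective).mpr hν0
  set G' : Matrix (Fin n) (Fin n) F := σ ν • A with hG'
  have hG'herm : ct σ G' = G' := by
    rw [hG', ct_smul, hσ2]
    have e1 : ct σ A = l⁻¹ • A := by
      conv_rhs => rw [h3]
      rw [smul_smul, inv_mul_cancel₀ hl0, one_smul]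
    rw [e1, smul_smul]
    congr 1
    rw [mul_inv_eq_iff_eq_mul₀ hl0]
    linear_combination -hν
  have hG'u : IsUnit G' := by
    rw [hG', Matrix.isUnit_iff_isUnit_det, Matrix.det_smul]
    exact (IsUnit.mk0 _ (pow_ne_zero _ hμ0)).mul
      ((Matrix.isUnit_iff_isUnit_det A).mp ⟨g, rfl⟩)
  obtain ⟨h₀, hh₀u, hh₀⟩ := exists_eq_mul_ct hσ2 hσ1 G' hG'u hG'herm
  obtain ⟨h, hh⟩ := hh₀u
  refine ⟨h, ?_⟩
  rw [← map_mul, ← map_inv, ← map_mul, conj_graph_field_eq]
  have h6 : h * glMap σ (glInvT h⁻¹) =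
      Matrix.GeneralLinearGroup.scalar (Fin n) (Units.mk0 (σ ν) hμ0) * g := by
    apply Units.ext
    rw [Units.val_mul, glMap_glInvT_coe, scalar_mul_coe, Units.val_mk0, hh, ← hh₀]
  rw [h6, slConj_scalar_mul, mul_assoc]

end Cfsg.Agent.Helper37.Lang
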