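import Mathlib
import Cfsg.Agent.Helper37.LangH

/-!
Helper37: elements of prime order in the coset `Inndiag(T) x` of a field or graph-field
automorphism `x` of `T = PSL_n(q)`.
-/

set_option autoImplicit false
set_option linter.unusedSectionVars false

namespace Cfsg.Agent.Helper37.Lang

open Matrix Cfsg.Agent.Helper14.AutPSL Cfsg.Agent.Helper37.OutPsl

variable {n : ℕ} {F : Type*} [Field F]

theorem slField_pow (σ : F ≃+* F) (k : ℕ) :
    (slField σ : MulAut (Matrix.SpecialLinearGroup (Fin n) F)) ^ k = slField (σ ^ k) := by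
  induction k with
  | zero => rw [pow_zero, pow_zero, slField_one]
  | succ k ih => rw [pow_succ, pow_succ, ih, slField_mul]

theorem eq_one_of_pslOf_slField (hn : 2 ≤ n) {τ : F ≃+* F}
    (h : pslOf (slField τ : MulAut (Matrix.SpecialLinearGroup (Fin n) F)) = 1) : τ = 1 := by
  have h1 := NF.of_field (n := n) τ false
  rw [slT_false, mul_one, h] at h1
  exact NF.one_false hn h1

/-- transfer of the conclusion along conjugation by an arbitrary automorphism -/
theorem transfer_conj [Fintype F] {p f : ℕ} [Fact p.Prime]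
    (hF : Fintype.card F = p ^ f) (hf : 1 ≤ f) (hn : 2 ≤ n)
    (α x δ : MulAut (Matrix.ProjectiveSpecialLinearGroup (Fin n) F))
    (h : ∃ k ∈ Cfsg.inndiagPSL n F,
      (α * δ * α⁻¹) * (α * x * α⁻¹) = k * (α * x * α⁻¹) * k⁻¹) :
    Cfsg.IsConjUnder (Cfsg.inndiagPSL n F) x (δ * x) := by
  obtain ⟨k, hk, hkeq⟩ := h
  refine ⟨α⁻¹ * k * α, ?_, ?_⟩
  · have := conj_mem_inndiagPSL hF hf hn α⁻¹ hk
    rwa [inv_inv] at this
  · have h1 : δ * x = α⁻¹ * ((α * δ * α⁻¹) * (α * x * α⁻¹)) * α := by group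
    rw [h1, hkeq]
    group

theorem pow_conj_eq_one {G : Type*} [Group G] (α y : G) {r : ℕ} (h : orderOf y = r) :
    (α * y * α⁻¹) ^ r = 1 := by
  rw [conj_pow, ← h, pow_orderOf_eq_one, mul_one, mul_inv_cancel]

/-- S2697 -/
theorem coset_conj [Fintype F] {p f : ℕ} [Fact p.Prime]
    (hF : Fintype.card F = p ^ f) (hf : 1 ≤ f) (hn : 2 ≤ n)
    (x δ : MulAut (Matrix.ProjectiveSpecialLinearGroup (Fin n) F))
    (hx : Cfsg.IsFieldAutClassPSL x ∨ Cfsg.IsGraphFieldAutClassPSL x) {r : ℕ} (hr : r.Prime)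
    (hxr : orderOf x = r) (hδ : δ ∈ Cfsg.inndiagPSL n F) :
    orderOf (δ * x) = r ↔ Cfsg.IsConjUnder (Cfsg.inndiagPSL n F) x (δ * x) := by
  haveI := Fact.mk hr
  constructor
  · intro hord
    rcases hx with ⟨α, σ, hσ1, hstd⟩ | ⟨hn3, α, φ, γ, σ, hσ1, hφ, hγ, hconj⟩
    · -- field automorphism
      have hx' : α * x * α⁻¹ = pslOf (slField σ) := eq_pslOf_of_isStdField hstd
      have hσ1' : σ ≠ 1 := hσ1
      have hσr : σ ^ r = 1 := by
        apply eq_one_of_pslOf_slField hn
        rw [← slField_pow, map_pow, ← hx']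
        exact pow_conj_eq_one α x hxr
      have hσ : orderOf σ = r := orderOf_eq_prime hσr hσ1'
      obtain ⟨g, hg⟩ := mem_inndiagPSL_iff.mp (conj_mem_inndiagPSL hF hf hn α hδ)
      have hprod : (α * δ * α⁻¹) * (α * x * α⁻¹) = pslOf (slConj g * slField σ) := by
        rw [hg, hx', map_mul]
      have hpow : (pslOf (slConj g * slField σ)) ^ r = 1 := by
        rw [← hprod]
        have : (α * δ * α⁻¹) * (α * x * α⁻¹) = α * (δ * x) * α⁻¹ := by group
        rw [this]
        exact pow_conj_eq_one α (δ * x) hord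
      obtain ⟨h, hh⟩ := field_case hn σ hr.pos hσ g hpow
      apply transfer_conj hF hf hn α x δ
      refine ⟨pslOf (slConj h), mem_inndiagPSL_iff.mpr ⟨h, rfl⟩, ?_⟩
      rw [hprod, hh, hx']
    · -- graph-field automorphism
      have hx' : α * x * α⁻¹ = pslOf (slField σ * slInvT) := by
        rw [hconj, eq_pslOf_of_isStdField hφ, eq_pslOf_of_isInvT hγ, map_mul]
      have hσ1' : σ ≠ 1 := hσ1
      have hcomm : Commute (slField σ : MulAut (Matrix.SpecialLinearGroup (Fin n) F)) slInvT :=
        (slInvT_slField σ).symm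
      have hxpow : pslOf ((slField (σ ^ r) : MulAut (Matrix.SpecialLinearGroup (Fin n) F)) *
          slInvT ^ r) = 1 := by
        rw [← slField_pow, ← hcomm.mul_pow, map_pow, ← hx']
        exact pow_conj_eq_one α x hxr
      have hr2 : r = 2 := by
        rcases hr.eq_two_or_odd' with h2 | hodd
        · exact h2
        · exfalso
          obtain ⟨m, rfl⟩ := hodd
          have e1 : (slInvT : MulAut (Matrix.SpecialLinearGroup (Fin n) F)) ^ (2 * m + 1) =
              slInvT := by
            rw [pow_succ, pow_mul, pow_two, slInvT_sq, one_pow, one_mul]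
          rw [e1] at hxpow
          have h1 := NF.of_field (n := n) (σ ^ (2 * m + 1)) true
          rw [slT_true, hxpow] at h1
          exact NF.one_true hn3 h1
      subst hr2
      have hσ2 : σ ^ 2 = 1 := by
        apply eq_one_of_pslOf_slField hn
        have e1 : (slInvT : MulAut (Matrix.SpecialLinearGroup (Fin n) F)) ^ 2 = 1 := by
          rw [pow_two, slInvT_sq]
        rw [e1, mul_one] at hxpow
        exact hxpow
      have hσ : orderOf σ = 2 := orderOf_eq_prime hσ2 hσ1'
      obtain ⟨g, hg⟩ := mem_inndiagPSL_iff.mp (conj_mem_inndiagPSL hF hf hn α hδ)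
      have hprod : (α * δ * α⁻¹) * (α * x * α⁻¹) = pslOf (slConj g * slField σ * slInvT) := by
        rw [hg, hx', ← map_mul, mul_assoc]
      have hpow : (pslOf (slConj g * slField σ * slInvT)) ^ 2 = 1 := by
        rw [← hprod]
        have : (α * δ * α⁻¹) * (α * x * α⁻¹) = α * (δ * x) * α⁻¹ := by group
        rw [this]
        exact pow_conj_eq_one α (δ * x) hord
      obtain ⟨h, hh⟩ := graph_field_case hn σ hσ g hpow
      apply transfer_conj hF hf hn α x δ
      refine ⟨pslOf (slConj h), mem_inndiagPSL_iff.mpr ⟨h, rfl⟩, ?_⟩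
      rw [hprod, hh, hx']
  · rintro ⟨h, -, heq⟩
    rw [heq, ← hxr]
    exact (MulAut.conj h).orderOf_eq x

end Cfsg.Agent.Helper37.Lang
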