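import Mathlib
import Cfsg.Agent.Helper37.FixA
import Cfsg.Agent.Helper37.LangI

/-!
Helper37: the centralizer of a standard field automorphism `φ_σ` in `Inndiag(PSL_n(F))`.
-/

set_option autoImplicit false
set_option linter.unusedSectionVars false

namespace Cfsg.Agent.Helper37.Lang

open Matrix Cfsg.Agent.Helper14.AutPSL Cfsg.Agent.Helper37.OutPsl

variable {n : ℕ} {F : Type*} [Field F]

/-- conjugating `c(g)` by `φ_σ` -/
theorem field_conj_slConj (σ : F ≃+* F) (g : GL (Fin n) F) :
    (slField σ * slConj g * (slField σ)⁻¹ : MulAut (Matrix.SpecialLinearGroup (Fin n) F)) =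
      slConj (glMap σ g) := by
  rw [slField_slConj, mul_assoc, mul_inv_cancel, mul_one]

/-- `c(g)` commutes with `φ_σ` iff `σ(g)` is a scalar multiple of `g` -/
theorem commute_iff (hn : 2 ≤ n) (σ : F ≃+* F) (g : GL (Fin n) F) :
    pslOf (slConj g) * pslOf (slField σ) = pslOf (slField σ) * pslOf (slConj g) ↔
      ∃ l : Fˣ, glMap σ g = Matrix.GeneralLinearGroup.scalar (Fin n) l * g := by
  have key : pslOf (slConj g) * pslOf (slField σ) = pslOf (slField σ) * pslOf (slConj g) ↔
      inndiagHom n F (glMap σ g * g⁻¹) = 1 := by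
    rw [map_mul, map_inv, inndiagHom_apply, inndiagHom_apply, ← field_conj_slConj, map_mul,
      map_mul, map_inv]
    constructor
    · intro h
      rw [← h]
      group
    · intro h
      have h2 : pslOf (slField σ) * pslOf (slConj g) * (pslOf (slField σ))⁻¹ = pslOf (slConj g) :=
        mul_inv_eq_one.mp h
      exact (mul_inv_eq_iff_eq_mul.mp h2).symm
  rw [key, ← MonoidHom.mem_ker, ker_inndiagHom hn,
    Matrix.GeneralLinearGroup.center_eq_range_scalar]
  constructor
  · rintro ⟨l, hl⟩
    exact ⟨l, by rw [hl]; group⟩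
  · rintro ⟨l, hl⟩
    exact ⟨l, by rw [hl]; group⟩

theorem glMap_scalar_mul (σ : F ≃+* F) (u : Fˣ) (g : GL (Fin n) F) :
    glMap σ (Matrix.GeneralLinearGroup.scalar (Fin n) u * g) =
      Matrix.GeneralLinearGroup.scalar (Fin n) (Units.map (σ : F →* F) u) * glMap σ g := by
  unfold glMap
  rw [map_mul, Matrix.GeneralLinearGroup.map_scalar]
  rfl

theorem glMap_pow (σ : F ≃+* F) (k : ℕ) (g : GL (Fin n) F) :
    glMap (σ ^ k) g = (glMap σ)^[k] g := by
  induction k with
  | zero => apply Units.ext; ext i j; rfl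
  | succ k ih =>
    rw [Function.iterate_succ_apply', ← ih]
    apply Units.ext; ext i j
    rw [glMap_coe, glMap_coe, glMap_coe, pow_succ']
    rfl

/-- if `σ(g) = l g` then some scalar multiple of `g` is fixed by `σ` -/
theorem exists_fixed_multiple [Fintype F] (hn : 1 ≤ n) (σ : F ≃+* F) {r : ℕ}
    (hσ : orderOf σ = r) (hr0 : 0 < r) (g : GL (Fin n) F) (l : Fˣ)
    (hl : glMap σ g = Matrix.GeneralLinearGroup.scalar (Fin n) l * g) :
    ∃ μ : Fˣ, glMap σ (Matrix.GeneralLinearGroup.scalar (Fin n) μ * g) =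
      Matrix.GeneralLinearGroup.scalar (Fin n) μ * g := by
  have hσr : σ ^ r = 1 := by rw [← hσ]; exact pow_orderOf_eq_one σ
  -- iterate
  have hiter : ∀ k : ℕ, (glMap σ)^[k] g =
      Matrix.GeneralLinearGroup.scalar (Fin n) (Units.mk0 (nrm σ k (l : F))
        (nrm_ne_zero σ k l.ne_zero)) * g := by
    intro k
    induction k with
    | zero =>
      apply Units.ext
      rw [Function.iterate_zero, id_eq, scalar_mul_coe, Units.val_mk0, nrm_zero, one_smul]
    | succ k ih =>
      rw [Function.iterate_succ_apply', ih, glMap_scalar_mul, hl, ← mul_assoc, ← map_mul]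
      congr 2
      apply Units.ext
      rw [Units.val_mul, Units.val_mk0, nrm_succ, mul_comm]
      rfl
  have h1 := hiter r
  rw [← glMap_pow, hσr] at h1
  have h2 : nrm σ r (l : F) = 1 := by
    have h3 : glMap (1 : F ≃+* F) g = g := by
      apply Units.ext; ext i j; rfl
    rw [h3] at h1
    have h4 := congrArg (fun x : GL (Fin n) F => (x : Matrix (Fin n) (Fin n) F)) h1
    simp only [scalar_mul_coe, Units.val_mk0] at h4
    -- pick a nonzero entry
    have hA0 : (g : Matrix (Fin n) (Fin n) F) ≠ 0 := by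
      intro h0
      have hdet := Matrix.GeneralLinearGroup.det_ne_zero g
      haveI : Nonempty (Fin n) := ⟨⟨0, by omega⟩⟩
      rw [h0, Matrix.det_zero] at hdet
      exact hdet rfl
    obtain ⟨i, j, hij⟩ : ∃ i j, (g : Matrix (Fin n) (Fin n) F) i j ≠ 0 := by
      by_contra hno
      apply hA0
      ext i j
      by_contra h
      exact hno ⟨i, j, h⟩
    have := congrFun (congrFun h4 i) j
    rw [Matrix.smul_apply, smul_eq_mul] at this
    have h5 : (nrm σ r (l : F) - 1) * (g : Matrix (Fin n) (Fin n) F) i j = 0 := by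
      linear_combination -this
    rcases mul_eq_zero.mp h5 with h | h
    · exact sub_eq_zero.mp h
    · exact absurd h hij
  obtain ⟨h, hh0, hh⟩ := hilbert90 σ hσ hr0 h2
  refine ⟨Units.mk0 h hh0, ?_⟩
  rw [glMap_scalar_mul, hl, ← mul_assoc, ← map_mul]
  congr 2
  apply Units.ext
  rw [Units.val_mul, Units.val_mk0, mul_comm]
  exact hh

end Cfsg.Agent.Helper37.Lang
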