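import Mathlib
import Cfsg.Agent.Helper37.FixB

/-!
Helper37: `C_{Inndiag}(φ_σ) ≅ PGL_n(F₀)`, `F₀` the fixed field.
-/

set_option autoImplicit false
set_option linter.unusedSectionVars false

namespace Cfsg.Agent.Helper37.Lang

open Matrix Cfsg.Agent.Helper14.AutPSL Cfsg.Agent.Helper37.OutPsl

variable {n : ℕ} {F : Type*} [Field F]

theorem exists_embedding [Fintype F] {p f r : ℕ} [Fact p.Prime] (hF : Fintype.card F = p ^ f)
    (σ : F ≃+* F) (hσ : orderOf σ = r) {F₀ : Type*} [Field F₀] [Fintype F₀]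
    (hF₀ : Fintype.card F₀ = p ^ (f / r)) :
    ∃ ι : F₀ →+* F, ∀ a : F, σ a = a ↔ ∃ a₀, ι a₀ = a := by
  classical
  haveI : Fintype (fixedField σ) := Fintype.ofFinite _
  have hc : Fintype.card F₀ = Fintype.card (fixedField σ) := by
    rw [hF₀, ← Nat.card_eq_fintype_card, (card_fixedField hF σ hσ).2]
  let e : F₀ ≃+* fixedField σ := FiniteField.ringEquivOfCardEq hc
  refine ⟨(fixedField σ).subtype.comp e.toRingHom, fun a => ?_⟩
  rw [← mem_fixedField]
  constructor
  · intro ha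
    exact ⟨e.symm ⟨a, ha⟩, by simp⟩
  · rintro ⟨a₀, rfl⟩
    exact (e a₀).2

theorem glMap_map_eq (σ : F ≃+* F) {F₀ : Type*} [Field F₀] (ι : F₀ →+* F)
    (hι : ∀ a₀, σ (ι a₀) = ι a₀) (g₀ : GL (Fin n) F₀) :
    glMap σ (Matrix.GeneralLinearGroup.map ι g₀) = Matrix.GeneralLinearGroup.map ι g₀ := by
  apply Units.ext
  ext i j
  rw [glMap_coe]
  exact hι _

theorem centralizer_iso [Fintype F] (hn : 2 ≤ n) (σ : F ≃+* F) {r : ℕ} (hσ : orderOf σ = r)
    (hr0 : 0 < r) {F₀ : Type*} [Field F₀] (ι : F₀ →+* F)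
    (hι : ∀ a : F, σ a = a ↔ ∃ a₀, ι a₀ = a) :
    Nonempty (↥(Cfsg.inndiagPSL n F ⊓ Subgroup.centralizer {pslOf (slField σ)}) ≃*
      Matrix.ProjGenLinGroup (Fin n) F₀) := by
  classical
  have hι' : ∀ a₀, σ (ι a₀) = ι a₀ := fun a₀ => (hι _).mpr ⟨a₀, rfl⟩
  let Φ₀ : GL (Fin n) F₀ →* MulAut (Matrix.ProjectiveSpecialLinearGroup (Fin n) F) :=
    (inndiagHom n F).comp (Matrix.GeneralLinearGroup.map ι)
  have hmem : ∀ g₀, Φ₀ g₀ ∈
      Cfsg.inndiagPSL n F ⊓ Subgroup.centralizer {pslOf (slField σ)} := by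
    intro g₀
    refine ⟨mem_inndiagPSL_iff.mpr ⟨_, rfl⟩, ?_⟩
    show Φ₀ g₀ ∈ Subgroup.centralizer {pslOf (slField σ)}
    rw [Subgroup.mem_centralizer_iff]
    intro h hh
    rw [Set.mem_singleton_iff] at hh
    subst hh
    refine ((commute_iff hn σ _).mpr ⟨1, ?_⟩).symm
    rw [glMap_map_eq σ ι hι', map_one, one_mul]
  let Φ : GL (Fin n) F₀ →* ↥(Cfsg.inndiagPSL n F ⊓ Subgroup.centralizer {pslOf (slField σ)}) :=
    Φ₀.codRestrict _ hmem
  have hinj : Function.Injective (Matrix.GeneralLinearGroup.map (n := Fin n) ι) := by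
    intro a b hab
    apply Units.ext
    ext i j
    have := congrArg (fun x : GL (Fin n) F => (x : Matrix (Fin n) (Fin n) F) i j) hab
    exact ι.injective this
  have hker : Φ.ker = Subgroup.center (GL (Fin n) F₀) := by
    ext g₀
    rw [MonoidHom.mem_ker]
    have h1 : Φ g₀ = 1 ↔ Matrix.GeneralLinearGroup.map ι g₀ ∈ Subgroup.center (GL (Fin n) F) := by
      rw [← ker_inndiagHom hn, MonoidHom.mem_ker]
      constructor
      · intro h; exact congrArg Subtype.val h
      · intro h; exact Subtype.ext h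
    rw [h1]
    constructor
    · intro h
      rw [Subgroup.mem_center_iff]
      intro k₀
      apply hinj
      rw [map_mul, map_mul]
      exact Subgroup.mem_center_iff.mp h _
    · intro h
      exact Matrix.GeneralLinearGroup.map_center_le ι h
  have hsurj : Function.Surjective Φ := by
    rintro ⟨y, hyG, hyC⟩
    obtain ⟨g, rfl⟩ := mem_inndiagPSL_iff.mp hyG
    have hcomm : pslOf (slConj g) * pslOf (slField σ) = pslOf (slField σ) * pslOf (slConj g) :=
      (Subgroup.mem_centralizer_iff.mp hyC _ rfl).symm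
    obtain ⟨l, hl⟩ := (commute_iff hn σ g).mp hcomm
    obtain ⟨μ, hμ⟩ := exists_fixed_multiple (by omega) σ hσ hr0 g l hl
    set g' : GL (Fin n) F := Matrix.GeneralLinearGroup.scalar (Fin n) μ * g with hg'
    have hentry : ∀ i j, ∃ a₀, ι a₀ = (g' : Matrix (Fin n) (Fin n) F) i j := by
      intro i j
      apply (hι _).mp
      have := congrArg (fun x : GL (Fin n) F => (x : Matrix (Fin n) (Fin n) F) i j) hμ
      exact this
    choose G₀ hG₀ using hentry
    have hmap : (Matrix.of G₀).map ι = (g' : Matrix (Fin n) (Fin n) F) := by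
      ext i j
      exact hG₀ i j
    have hdet : (Matrix.of G₀).det ≠ 0 := by
      intro h0
      have h2 : ((Matrix.of G₀).map ι).det = 0 := by
        have := (RingHom.map_det ι (Matrix.of G₀)).symm
        rw [RingHom.mapMatrix_apply] at this
        rw [this, h0, map_zero]
      rw [hmap] at h2
      exact Matrix.GeneralLinearGroup.det_ne_zero g' h2
    refine ⟨Matrix.GeneralLinearGroup.mkOfDetNeZero (Matrix.of G₀) hdet, ?_⟩
    apply Subtype.ext
    show inndiagHom n F (Matrix.GeneralLinearGroup.map ι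
      (Matrix.GeneralLinearGroup.mkOfDetNeZero (Matrix.of G₀) hdet)) = pslOf (slConj g)
    have h3 : Matrix.GeneralLinearGroup.map ι
        (Matrix.GeneralLinearGroup.mkOfDetNeZero (Matrix.of G₀) hdet) = g' := by
      apply Units.ext
      exact hmap
    rw [h3, inndiagHom_apply, hg', slConj_scalar_mul]
  let e1 := QuotientGroup.quotientKerEquivOfSurjective Φ hsurj
  let e2 := QuotientGroup.quotientMulEquivOfEq hker
  exact ⟨(e2.symm.trans e1).symm⟩

end Cfsg.Agent.Helper37.Lang
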