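import Mathlib
import Cfsg.Agent.Helper37.FixA

/-!
Helper37: index computations in a finite cyclic group; the units fixed by a field automorphism.
-/

set_option autoImplicit false

namespace Cfsg.Agent.Helper37.Lang

section cyclic

variable {C : Type*} [CommGroup C]

theorem range_pow_sup_range_pow (a b : ℕ) :
    (powMonoidHom a : C →* C).range ⊔ (powMonoidHom b : C →* C).range =
      (powMonoidHom (Nat.gcd a b) : C →* C).range := by
  apply le_antisymm
  · rw [sup_le_iff]
    constructor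
    · rintro _ ⟨u, rfl⟩
      obtain ⟨a', ha'⟩ := Nat.gcd_dvd_left a b
      refine ⟨u ^ a', ?_⟩
      rw [powMonoidHom_apply, powMonoidHom_apply, ← pow_mul, mul_comm, ← ha']
    · rintro _ ⟨u, rfl⟩
      obtain ⟨b', hb'⟩ := Nat.gcd_dvd_right a b
      refine ⟨u ^ b', ?_⟩
      rw [powMonoidHom_apply, powMonoidHom_apply, ← pow_mul, mul_comm, ← hb']
  · rintro _ ⟨u, rfl⟩
    rw [powMonoidHom_apply]
    have hbez := Nat.gcd_eq_gcd_ab a b
    have h1 : u ^ (Nat.gcd a b) = (u ^ (Nat.gcdA a b)) ^ a * (u ^ (Nat.gcdB a b)) ^ b := by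
      rw [← zpow_natCast u (Nat.gcd a b), hbez, zpow_add, zpow_mul', zpow_mul', zpow_natCast,
        zpow_natCast]
    rw [h1]
    exact Subgroup.mul_mem _ (Subgroup.mem_sup_left ⟨_, rfl⟩) (Subgroup.mem_sup_right ⟨_, rfl⟩)

theorem eq_range_pow_of_card [Finite C] [IsCyclic C] (K : Subgroup C) :
    K = (powMonoidHom (Nat.card C / Nat.card K) : C →* C).range := by
  have hdvd : Nat.card K ∣ Nat.card C := Subgroup.card_subgroup_dvd_card K
  have hk0 : 0 < Nat.card K := Nat.card_pos
  have hN0 : 0 < Nat.card C := Nat.card_pos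
  set k := Nat.card K with hk
  set N := Nat.card C with hN
  set m := N / k with hm
  have hmk : m * k = N := Nat.div_mul_cancel hdvd
  have hm0 : 0 < m := Nat.div_pos (Nat.le_of_dvd hN0 hdvd) hk0
  have hker : Nat.card (powMonoidHom k : C →* C).ker = k := by
    rw [IsCyclic.card_powMonoidHom_ker, ← hN, Nat.gcd_eq_right hdvd]
  have h1 : K ≤ (powMonoidHom k : C →* C).ker := by
    intro u hu
    rw [MonoidHom.mem_ker, powMonoidHom_apply]
    have h0 : (⟨u, hu⟩ : K) ^ Nat.card K = 1 := pow_card_eq_one'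
    have h2 : ((⟨u, hu⟩ : K) ^ Nat.card K : K).1 = (1 : K).1 := congrArg Subtype.val h0
    rw [Subgroup.coe_pow, Subgroup.coe_one] at h2
    exact h2
  have hK : K = (powMonoidHom k : C →* C).ker :=
    Subgroup.eq_of_le_of_card_ge h1 (by rw [hker])
  have h2 : (powMonoidHom m : C →* C).range ≤ (powMonoidHom k : C →* C).ker := by
    rintro _ ⟨v, rfl⟩
    rw [MonoidHom.mem_ker, powMonoidHom_apply, powMonoidHom_apply, ← pow_mul, hmk, hN]
    exact pow_card_eq_one'
  have hrange : Nat.card (powMonoidHom m : C →* C).range = k := by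
    rw [IsCyclic.card_powMonoidHom_range, ← hN, Nat.gcd_eq_right ⟨k, by rw [hmk]⟩]
    exact Nat.div_eq_of_eq_mul_right hm0 hmk.symm
  have hR : (powMonoidHom m : C →* C).range = (powMonoidHom k : C →* C).ker :=
    Subgroup.eq_of_le_of_card_ge h2 (by rw [hker, hrange])
  rw [hR, ← hK]

/-- the index of `C^n K` in a finite cyclic group `C` -/
theorem index_range_pow_sup [Finite C] [IsCyclic C] (n : ℕ) (K : Subgroup C) :
    ((powMonoidHom n : C →* C).range ⊔ K).index = Nat.gcd n (Nat.card C / Nat.card K) := by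
  have hdvd : Nat.card K ∣ Nat.card C := Subgroup.card_subgroup_dvd_card K
  conv_lhs => rw [eq_range_pow_of_card K]
  rw [range_pow_sup_range_pow, IsCyclic.index_powMonoidHom_range]
  apply Nat.gcd_eq_right
  exact (Nat.gcd_dvd_right _ _).trans (Nat.div_dvd_of_dvd hdvd)

end cyclic

variable {F : Type*} [Field F]

/-- the units fixed by `σ` -/
def fixedUnits (σ : F ≃+* F) : Subgroup Fˣ where
  carrier := {u | σ (u : F) = u}
  mul_mem' := by
    intro a b ha hb
    show σ ((a * b : Fˣ) : F) = _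
    rw [Units.val_mul, map_mul, ha, hb]
  one_mem' := by
    show σ ((1 : Fˣ) : F) = _
    rw [Units.val_one, map_one]
  inv_mem' := by
    intro a ha
    show σ ((a⁻¹ : Fˣ) : F) = _
    rw [Units.val_inv_eq_inv_val, map_inv₀, ha]

theorem mem_fixedUnits {σ : F ≃+* F} {u : Fˣ} : u ∈ fixedUnits σ ↔ σ (u : F) = u := Iff.rfl

theorem card_fixedUnits [Fintype F] {p f r : ℕ} [Fact p.Prime] (hF : Fintype.card F = p ^ f)
    (σ : F ≃+* F) (hσ : orderOf σ = r) : Nat.card (fixedUnits σ) = p ^ (f / r) - 1 := by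
  rw [← (card_fixedField hF σ hσ).2, ← Nat.card_units]
  apply Nat.card_congr
  refine Equiv.ofBijective
    (fun u : fixedUnits σ => (⟨⟨(u : Fˣ), mem_fixedField.mpr u.2⟩,
      ⟨((u : Fˣ)⁻¹ : Fˣ), mem_fixedField.mpr ((fixedUnits σ).inv_mem u.2)⟩,
      Subtype.ext (by simp), Subtype.ext (by simp)⟩ : (fixedField σ)ˣ)) ⟨?_, ?_⟩
  · intro u v huv
    have := congrArg (fun w : (fixedField σ)ˣ => ((w : fixedField σ) : F)) huv
    exact Subtype.ext (Units.ext this)
  · intro w
    have hw : σ ((w : fixedField σ) : F) = ((w : fixedField σ) : F) :=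
      mem_fixedField.mp (w : fixedField σ).2
    have hw0 : ((w : fixedField σ) : F) ≠ 0 := by
      intro h0
      exact w.ne_zero (Subtype.ext h0)
    refine ⟨⟨Units.mk0 _ hw0, hw⟩, ?_⟩
    apply Units.ext
    apply Subtype.ext
    rfl

end Cfsg.Agent.Helper37.Lang
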