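import Mathlib
import Cfsg.Agent.Helper37.FixC
import Cfsg.Agent.Helper37.FixD

/-!
Helper37: the `Inndiag`-class of a standard field automorphism of `PSL_n(F)` splits into
`|F^× : (F^×)^n K^×|` classes under the inner automorphism group.
-/

set_option autoImplicit false
set_option linter.unusedSectionVars false

namespace Cfsg.Agent.Helper37.Lang

open Matrix Cfsg.Agent.Helper14.AutPSL Cfsg.Agent.Helper37.OutPsl

variable {n : ℕ} {F : Type*} [Field F]

/-- the conjugate of `φ_σ` by `c(g)` -/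
def cls (σ : F ≃+* F) (g : GL (Fin n) F) : MulAut (Matrix.ProjectiveSpecialLinearGroup (Fin n) F) :=
  inndiagHom n F g * pslOf (slField σ) * (inndiagHom n F g)⁻¹

theorem cls_mul (σ : F ≃+* F) (g h : GL (Fin n) F) :
    cls σ (g * h) = inndiagHom n F g * cls σ h * (inndiagHom n F g)⁻¹ := by
  unfold cls
  rw [map_mul]
  group

theorem cls_eq_of_commute (hn : 2 ≤ n) (σ : F ≃+* F) (g k : GL (Fin n) F)
    (hk : glMap σ k = k) : cls σ (g * k) = cls σ g := by
  rw [cls_mul]
  have h1 : cls σ k = pslOf (slField σ) := by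
    unfold cls
    have := (commute_iff hn σ k).mpr ⟨1, by rw [hk, map_one, one_mul]⟩
    rw [inndiagHom_apply, this, mul_inv_cancel_right]
  rw [h1]
  rfl

theorem glMap_dg (σ : F ≃+* F) (i0 : Fin n) (κ : Fˣ) (hκ : σ (κ : F) = κ) :
    glMap σ (dg i0 κ) = dg i0 κ := by
  apply Units.ext
  ext i j
  rw [glMap_coe]
  show σ ((Matrix.diagonal (Pi.mulSingle i0 (κ : F))) i j) = (Matrix.diagonal (Pi.mulSingle i0 (κ : F))) i j
  by_cases hij : i = j
  · subst hij
    rw [Matrix.diagonal_apply_eq]
    by_cases hi : i = i0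
    · subst hi; rw [Pi.mulSingle_eq_same]; exact hκ
    · rw [Pi.mulSingle_eq_of_ne hi]; exact map_one σ
  · rw [Matrix.diagonal_apply_ne _ hij, map_zero]

theorem det_mem_fixedUnits (σ : F ≃+* F) (k : GL (Fin n) F) (hk : glMap σ k = k) :
    Matrix.GeneralLinearGroup.det k ∈ fixedUnits σ := by
  rw [mem_fixedUnits, Matrix.GeneralLinearGroup.val_det_apply]
  have h1 : ((k : Matrix (Fin n) (Fin n) F).map σ).det = σ (k : Matrix (Fin n) (Fin n) F).det := by
    have := RingHom.map_det (σ : F →+* F) (k : Matrix (Fin n) (Fin n) F)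
    rw [RingHom.mapMatrix_apply] at this
    exact this.symm
  rw [← h1]
  have h2 := congrArg (fun x : GL (Fin n) F => (x : Matrix (Fin n) (Fin n) F)) hk
  simp only [glMap_coe] at h2
  rw [h2]

/-- the class invariant: `det g` modulo `(F^×)^n K^×` -/
theorem isConjUnder_inn_cls_iff [Fintype F] (hn : 2 ≤ n) (σ : F ≃+* F) {r : ℕ}
    (hσ : orderOf σ = r) (hr0 : 0 < r) (g g' : GL (Fin n) F) :
    Cfsg.IsConjUnder (Cfsg.Inn (Matrix.ProjectiveSpecialLinearGroup (Fin n) F)) (cls σ g) (cls σ g') ↔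
      (Matrix.GeneralLinearGroup.det g)⁻¹ * Matrix.GeneralLinearGroup.det g' ∈
        (powMonoidHom n : Fˣ →* Fˣ).range ⊔ fixedUnits σ := by
  set i0 : Fin n := ⟨0, by omega⟩ with hi0
  constructor
  · rintro ⟨t, ht, heq⟩
    obtain ⟨s, rfl⟩ := mem_inn_iff.mp ht
    rw [← cls_mul] at heq
    set g'' := Matrix.SpecialLinearGroup.toGL s * g with hg''
    set w := g''⁻¹ * g' with hw
    -- `c(w)` commutes with `φ_σ`
    have hcomm : pslOf (slConj w) * pslOf (slField σ) = pslOf (slField σ) * pslOf (slConj w) := by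
      have h1 : cls σ (g'' * w) = cls σ g'' := by
        rw [hw, mul_inv_cancel_left, heq]
      rw [cls_mul] at h1
      have h2 : cls σ w = pslOf (slField σ) := by
        have := congrArg (fun y => (inndiagHom n F g'')⁻¹ * y * inndiagHom n F g'') h1
        have e1 : (inndiagHom n F g'')⁻¹ * (inndiagHom n F g'' * cls σ w * (inndiagHom n F g'')⁻¹) *
            inndiagHom n F g'' = cls σ w := by group
        have e2 : (inndiagHom n F g'')⁻¹ * cls σ g'' * inndiagHom n F g'' = pslOf (slField σ) := by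
          unfold cls; group
        exact e1.symm.trans (this.trans e2)
      unfold cls at h2
      rw [inndiagHom_apply] at h2
      exact mul_inv_eq_iff_eq_mul.mp h2
    obtain ⟨l, hl⟩ := (commute_iff hn σ w).mp hcomm
    obtain ⟨μ, hμ⟩ := exists_fixed_multiple (by omega) σ hσ hr0 w l hl
    have hdetk := det_mem_fixedUnits σ _ hμ
    rw [map_mul, Matrix.GeneralLinearGroup.det_scalar, Fintype.card_fin] at hdetk
    have hdetw : Matrix.GeneralLinearGroup.det w =
        (Matrix.GeneralLinearGroup.det g)⁻¹ * Matrix.GeneralLinearGroup.det g' := by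
      rw [hw, hg'', map_mul, map_inv, map_mul, Matrix.SpecialLinearGroup.coeToGL_det, one_mul]
    rw [← hdetw]
    have h3 : Matrix.GeneralLinearGroup.det w =
        (μ⁻¹) ^ n * (μ ^ n * Matrix.GeneralLinearGroup.det w) := by
      rw [← mul_assoc, ← mul_pow, inv_mul_cancel, one_pow, one_mul]
    rw [h3]
    exact Subgroup.mul_mem _ (Subgroup.mem_sup_left ⟨μ⁻¹, rfl⟩) (Subgroup.mem_sup_right hdetk)
  · intro hmem
    obtain ⟨a, ⟨u, rfl⟩, κ, hκ, hprod⟩ := Subgroup.mem_sup.mp hmem
    rw [powMonoidHom_apply] at hprod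
    set g'' := g * (Matrix.GeneralLinearGroup.scalar (Fin n) u * dg i0 κ) with hg''
    have hdet : Matrix.GeneralLinearGroup.det g'' = Matrix.GeneralLinearGroup.det g' := by
      rw [hg'', map_mul, map_mul, Matrix.GeneralLinearGroup.det_scalar, Fintype.card_fin, det_dg,
        hprod, mul_inv_cancel_left]
    have hcls : cls σ g'' = cls σ g := by
      rw [hg'', ← mul_assoc]
      rw [cls_eq_of_commute hn σ _ _ (glMap_dg σ i0 κ (mem_fixedUnits.mp hκ))]
      have h1 : inndiagHom n F (g * Matrix.GeneralLinearGroup.scalar (Fin n) u) =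
          inndiagHom n F g := by
        rw [map_mul, inndiagHom_scalar hn, mul_one]
      unfold cls
      rw [h1]
    have hs : Matrix.GeneralLinearGroup.det (g' * g''⁻¹) = 1 := by
      rw [map_mul, map_inv, hdet, mul_inv_cancel]
    refine ⟨inndiagHom n F (g' * g''⁻¹), inndiagHom_mem_inn _ hs, ?_⟩
    rw [← hcls, ← cls_mul, inv_mul_cancel_right]

end Cfsg.Agent.Helper37.Lang
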