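import Mathlib
import Cfsg.Agent.Helper37.OutPslD

/-!
Helper37: the structure of `Out(PSL_n(q))`: main theorems.
-/

set_option autoImplicit false
set_option linter.unusedSectionVars false

namespace Cfsg.Agent.Helper37.OutPsl

open Matrix Cfsg.Agent.Helper14.AutPSL

/-- the boolean attached to an element of `Z/2` -/
def bit (x : Multiplicative (ZMod 2)) : Bool := decide (Multiplicative.toAdd x = 1)

theorem bit_mul (x y : Multiplicative (ZMod 2)) : bit (x * y) = xor (bit x) (bit y) := by
  revert x y; decide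

theorem bit_injective : Function.Injective bit := by
  intro x y; revert x y; decide

theorem bit_one : bit 1 = false := by decide

theorem bit_ofAdd_one : bit (Multiplicative.ofAdd 1) = true := by decide

theorem card_units_eq {F : Type*} [Field F] [Fintype F] {p f : ℕ} (hF : Fintype.card F = p ^ f) :
    Nat.card Fˣ = p ^ f - 1 := by
  classical
  rw [Nat.card_eq_fintype_card, Fintype.card_units, hF]

/-- Structure of `Out(PSL_n(q))`, `n ≥ 3`. -/
theorem out_psl_three_le {F : Type*} [Field F] [Fintype F] {p f n : ℕ} [Fact p.Prime]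
    (hf : 1 ≤ f) (hF : Fintype.card F = p ^ f) (hn : 3 ≤ n) :
    ∃ φ : Cfsg.Out (Matrix.ProjectiveSpecialLinearGroup (Fin n) F) →*
        Multiplicative (ZMod f × ZMod 2),
      Function.Surjective φ ∧ IsCyclic φ.ker ∧ Nat.card φ.ker = Nat.gcd n (p ^ f - 1) := by
  have hn2 : 2 ≤ n := by omega
  obtain ⟨e⟩ := nonempty_galIso hF hf
  let P : MulAut (Matrix.ProjectiveSpecialLinearGroup (Fin n) F) →
      (F ≃+* F) × Multiplicative (ZMod 2) → Prop := fun β s => NF β s.1 (bit s.2)
  have hex : ∀ β, ∃ s, P β s := by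
    intro β
    obtain ⟨g, σ, ε, hβ⟩ := exists_factorization hF hf hn2 β
    refine ⟨(σ, if ε then Multiplicative.ofAdd 1 else 1), g, ?_⟩
    rw [hβ, ← map_mul, ← map_mul]
    congr 2
    cases ε
    · simp [bit_one]
    · simp [bit_ofAdd_one]
  have hmul : ∀ β β' s s', P β s → P β' s' → P (β * β') (s * s') := by
    intro β β' s s' h h'
    show NF (β * β') (s.1 * s'.1) (bit (s.2 * s'.2))
    rw [bit_mul]
    exact h.mul h'
  have huniq : ∀ β s s', P β s → P β s' → s = s' := by
    intro β s s' h h'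
    obtain ⟨h1, h2⟩ := NF.unique hn h h'
    exact Prod.ext h1 (bit_injective h2)
  obtain ⟨h, hh⟩ := exists_hom_of_rel P hex hmul huniq
  have hone : ∀ β, NF β 1 false → h β = 1 := by
    intro β hβ
    apply huniq β _ _ (hh β)
    show NF β 1 (bit 1)
    rw [bit_one]; exact hβ
  have hone' : ∀ β, h β = 1 → NF β 1 false := by
    intro β hβ
    have := hh β
    rw [hβ] at this
    have h2 : NF β 1 (bit 1) := this
    rwa [bit_one] at h2
  let E : (F ≃+* F) × Multiplicative (ZMod 2) ≃* Multiplicative (ZMod f × ZMod 2) :=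
    (MulEquiv.prodCongr e (MulEquiv.refl _)).trans (MulEquiv.prodMultiplicative (ZMod f) (ZMod 2)).symm
  let ψ : MulAut (Matrix.ProjectiveSpecialLinearGroup (Fin n) F) →*
      Multiplicative (ZMod f × ZMod 2) := E.toMonoidHom.comp h
  have hψ : ∀ β, ψ β = 1 ↔ h β = 1 := by
    intro β
    show E (h β) = 1 ↔ _
    exact EmbeddingLike.map_eq_one_iff
  have hsurj : Function.Surjective ψ := by
    apply E.surjective.comp
    intro s
    refine ⟨pslOf (slField s.1 * slT (bit s.2)), ?_⟩
    exact huniq _ _ _ (hh _) (NF.of_field s.1 (bit s.2))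
  let i0 : Fin n := ⟨0, by omega⟩
  have key := abstract_out (Cfsg.Inn (Matrix.ProjectiveSpecialLinearGroup (Fin n) F)) ψ hsurj
    (by
      intro β hβ
      rw [MonoidHom.mem_ker, hψ]
      obtain ⟨s, rfl⟩ := mem_inn_iff.mp hβ
      exact hone _ (NF.of_conj _))
    ((inndiagHom n F).comp (dg i0)) n
    (by
      intro c
      rw [hψ]
      exact hone _ (NF.of_conj _))
    (by
      intro β hβ
      rw [hψ] at hβ
      obtain ⟨g, rfl⟩ := (hone' β hβ).eq_conj
      refine ⟨Matrix.GeneralLinearGroup.det g, ?_⟩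
      have : ((inndiagHom n F).comp (dg i0)) (Matrix.GeneralLinearGroup.det g) =
          inndiagHom n F (dg i0 (Matrix.GeneralLinearGroup.det g)) := rfl
      rw [this, ← inndiagHom_apply, ← map_inv, ← map_mul]
      apply inndiagHom_mem_inn
      rw [map_mul, map_inv, det_dg, inv_mul_cancel])
    (by
      intro c
      exact inndiagHom_dg_mem_inn_iff hn2 i0 c)
  obtain ⟨φ, h1, h2, h3⟩ := key
  refine ⟨φ, h1, h2, ?_⟩
  rw [h3, card_units_eq hF, Nat.gcd_comm]

/-- Structure of `Out(PSL_2(q))`. -/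
theorem out_psl_two {F : Type*} [Field F] [Fintype F] {p f : ℕ} [Fact p.Prime]
    (hf : 1 ≤ f) (hF : Fintype.card F = p ^ f) :
    ∃ φ : Cfsg.Out (Matrix.ProjectiveSpecialLinearGroup (Fin 2) F) →* Multiplicative (ZMod f),
      Function.Surjective φ ∧ IsCyclic φ.ker ∧ Nat.card φ.ker = Nat.gcd 2 (p ^ f - 1) := by
  have hn2 : 2 ≤ 2 := le_refl _
  obtain ⟨e⟩ := nonempty_galIso hF hf
  let P : MulAut (Matrix.ProjectiveSpecialLinearGroup (Fin 2) F) → (F ≃+* F) → Prop :=
    fun β s => NF β s false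
  have hex : ∀ β, ∃ s, P β s := by
    intro β
    obtain ⟨g, σ, ε, hβ⟩ := exists_factorization hF hf hn2 β
    rw [← map_mul, ← map_mul] at hβ
    cases ε
    · exact ⟨σ, g, hβ⟩
    · obtain ⟨J, hJ⟩ := exists_slInvT_eq_slConj (n := 2) (F := F) rfl
      refine ⟨σ, g * glMap σ J, ?_⟩
      rw [hβ, slT_true, slT_false, mul_one, hJ, mul_assoc, slField_slConj, ← mul_assoc,
        ← slConj_mul]
  have hmul : ∀ β β' s s', P β s → P β' s' → P (β * β') (s * s') := by
    intro β β' s s' h h'
    have := NF.mul h h'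
    rwa [Bool.xor_self] at this
  have huniq : ∀ β s s', P β s → P β s' → s = s' := by
    intro β s s' h h'
    exact NF.unique_false hn2 h h'
  obtain ⟨h, hh⟩ := exists_hom_of_rel P hex hmul huniq
  have hone : ∀ β, NF β 1 false → h β = 1 := by
    intro β hβ
    exact huniq β _ _ (hh β) hβ
  have hone' : ∀ β, h β = 1 → NF β 1 false := by
    intro β hβ
    have := hh β
    rw [hβ] at this
    exact this
  let ψ : MulAut (Matrix.ProjectiveSpecialLinearGroup (Fin 2) F) →*
      Multiplicative (ZMod f) := e.toMonoidHom.comp h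
  have hψ : ∀ β, ψ β = 1 ↔ h β = 1 := by
    intro β
    show e (h β) = 1 ↔ _
    exact EmbeddingLike.map_eq_one_iff
  have hsurj : Function.Surjective ψ := by
    apply e.surjective.comp
    intro s
    refine ⟨pslOf (slField s * slT false), ?_⟩
    exact huniq _ _ _ (hh _) (NF.of_field s false)
  let i0 : Fin 2 := 0
  have key := abstract_out (Cfsg.Inn (Matrix.ProjectiveSpecialLinearGroup (Fin 2) F)) ψ hsurj
    (by
      intro β hβ
      rw [MonoidHom.mem_ker, hψ]
      obtain ⟨s, rfl⟩ := mem_inn_iff.mp hβ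
      exact hone _ (NF.of_conj _))
    ((inndiagHom 2 F).comp (dg i0)) 2
    (by
      intro c
      rw [hψ]
      exact hone _ (NF.of_conj _))
    (by
      intro β hβ
      rw [hψ] at hβ
      obtain ⟨g, rfl⟩ := (hone' β hβ).eq_conj
      refine ⟨Matrix.GeneralLinearGroup.det g, ?_⟩
      have : ((inndiagHom 2 F).comp (dg i0)) (Matrix.GeneralLinearGroup.det g) =
          inndiagHom 2 F (dg i0 (Matrix.GeneralLinearGroup.det g)) := rfl
      rw [this, ← inndiagHom_apply, ← map_inv, ← map_mul]
      apply inndiagHom_mem_inn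
      rw [map_mul, map_inv, det_dg, inv_mul_cancel])
    (by
      intro c
      exact inndiagHom_dg_mem_inn_iff hn2 i0 c)
  obtain ⟨φ, h1, h2, h3⟩ := key
  refine ⟨φ, h1, h2, ?_⟩
  rw [h3, card_units_eq hF, Nat.gcd_comm]

end Cfsg.Agent.Helper37.OutPsl
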