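import Mathlib
import Cfsg.Agent.Helper37.FixE
import Cfsg.Agent.Helper37.OutPslE

/-!
Helper37: centralizer and class splitting of a field automorphism of prime order of `PSL_n(q)`.
-/

set_option autoImplicit false
set_option linter.unusedSectionVars false

namespace Cfsg.Agent.Helper37.Lang

open Matrix Cfsg.Agent.Helper14.AutPSL Cfsg.Agent.Helper37.OutPsl

section general

variable {X : Type*} [Group X]

theorem isConjUnder_conj_iff (K : Subgroup X) (α : X) (hα : ∀ k ∈ K, α * k * α⁻¹ ∈ K)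
    (hα' : ∀ k ∈ K, α⁻¹ * k * α ∈ K) (a b : X) :
    Cfsg.IsConjUnder K (α * a * α⁻¹) (α * b * α⁻¹) ↔ Cfsg.IsConjUnder K a b := by
  constructor
  · rintro ⟨h, hh, heq⟩
    refine ⟨α⁻¹ * h * α, hα' h hh, ?_⟩
    have : b = α⁻¹ * (α * b * α⁻¹) * α := by group
    rw [this, heq]
    group
  · rintro ⟨h, hh, rfl⟩
    refine ⟨α * h * α⁻¹, hα h hh, ?_⟩
    group

theorem splitClassCount_conj (H K : Subgroup X) (α : X) (hH : ∀ k ∈ H, α * k * α⁻¹ ∈ H)
    (hH' : ∀ k ∈ H, α⁻¹ * k * α ∈ H) (hK : ∀ k ∈ K, α * k * α⁻¹ ∈ K)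
    (hK' : ∀ k ∈ K, α⁻¹ * k * α ∈ K) (x : X) :
    Cfsg.splitClassCount H K (α * x * α⁻¹) = Cfsg.splitClassCount H K x := by
  unfold Cfsg.splitClassCount
  symm
  apply Nat.card_congr
  let e : {y : X // Cfsg.IsConjUnder H x y} ≃ {y : X // Cfsg.IsConjUnder H (α * x * α⁻¹) y} :=
    Equiv.subtypeEquiv (MulAut.conj α).toEquiv (fun y => by
      show _ ↔ Cfsg.IsConjUnder H (α * x * α⁻¹) (α * y * α⁻¹)
      exact (isConjUnder_conj_iff H α hH hH' x y).symm)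
  refine Quot.congr e (fun y z => ?_)
  show Cfsg.IsConjUnder K y.1 z.1 ↔ Cfsg.IsConjUnder K (α * y.1 * α⁻¹) (α * z.1 * α⁻¹)
  exact (isConjUnder_conj_iff K α hK hK' y.1 z.1).symm

theorem centralizer_conj_equiv (H : Subgroup X) (α : X) (hH : ∀ k ∈ H, α * k * α⁻¹ ∈ H)
    (hH' : ∀ k ∈ H, α⁻¹ * k * α ∈ H) (x : X) :
    Nonempty (↥(H ⊓ Subgroup.centralizer {x}) ≃*
      ↥(H ⊓ Subgroup.centralizer {α * x * α⁻¹})) := by
  refine ⟨{
    toFun := fun y => ⟨α * y.1 * α⁻¹, hH _ y.2.1, ?_⟩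
    invFun := fun z => ⟨α⁻¹ * z.1 * α, hH' _ z.2.1, ?_⟩
    left_inv := fun y => by apply Subtype.ext; show α⁻¹ * (α * y.1 * α⁻¹) * α = y.1; group
    right_inv := fun z => by apply Subtype.ext; show α * (α⁻¹ * z.1 * α) * α⁻¹ = z.1; group
    map_mul' := fun y z => by
      apply Subtype.ext
      show α * (y.1 * z.1) * α⁻¹ = (α * y.1 * α⁻¹) * (α * z.1 * α⁻¹)
      group }⟩
  · show α * y.1 * α⁻¹ ∈ Subgroup.centralizer {α * x * α⁻¹}
    rw [Subgroup.mem_centralizer_iff]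
    intro h hh
    rw [Set.mem_singleton_iff] at hh
    subst hh
    have hy : x * y.1 = y.1 * x := (Subgroup.mem_centralizer_iff.mp y.2.2) x rfl
    calc α * x * α⁻¹ * (α * y.1 * α⁻¹) = α * (x * y.1) * α⁻¹ := by group
      _ = α * (y.1 * x) * α⁻¹ := by rw [hy]
      _ = _ := by group
  · show α⁻¹ * z.1 * α ∈ Subgroup.centralizer {x}
    rw [Subgroup.mem_centralizer_iff]
    intro h hh
    rw [Set.mem_singleton_iff] at hh
    subst hh
    have hz : (α * h * α⁻¹) * z.1 = z.1 * (α * h * α⁻¹) :=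
      (Subgroup.mem_centralizer_iff.mp z.2.2) _ rfl
    calc h * (α⁻¹ * z.1 * α) = α⁻¹ * ((α * h * α⁻¹) * z.1) * α := by group
      _ = α⁻¹ * (z.1 * (α * h * α⁻¹)) * α := by rw [hz]
      _ = _ := by group

end general

variable {n : ℕ} {F : Type*} [Field F]

theorem splitClassCount_std [Fintype F] (hn : 2 ≤ n) (σ : F ≃+* F) {r : ℕ}
    (hσ : orderOf σ = r) (hr0 : 0 < r) :
    Cfsg.splitClassCount (Cfsg.inndiagPSL n F)
      (Cfsg.Inn (Matrix.ProjectiveSpecialLinearGroup (Fin n) F)) (pslOf (slField σ)) =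
      ((powMonoidHom n : Fˣ →* Fˣ).range ⊔ fixedUnits σ).index := by
  classical
  unfold Cfsg.splitClassCount
  set M : Subgroup Fˣ := (powMonoidHom n : Fˣ →* Fˣ).range ⊔ fixedUnits σ with hM
  set i0 : Fin n := ⟨0, by omega⟩ with hi0
  have hex : ∀ y : {y // Cfsg.IsConjUnder (Cfsg.inndiagPSL n F) (pslOf (slField σ)) y},
      ∃ g : GL (Fin n) F, y.1 = cls σ g := by
    rintro ⟨y, h, hh, rfl⟩
    obtain ⟨g, rfl⟩ := mem_inndiagPSL_iff.mp hh
    exact ⟨g, rfl⟩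
  choose rep hrep using hex
  let fn : {y // Cfsg.IsConjUnder (Cfsg.inndiagPSL n F) (pslOf (slField σ)) y} → Fˣ ⧸ M :=
    fun y => QuotientGroup.mk (Matrix.GeneralLinearGroup.det (rep y))
  have hf : ∀ y z, Cfsg.IsConjUnder (Cfsg.Inn (Matrix.ProjectiveSpecialLinearGroup (Fin n) F))
      y.1 z.1 ↔ fn y = fn z := by
    intro y z
    rw [hrep y, hrep z, isConjUnder_inn_cls_iff hn σ hσ hr0]
    exact QuotientGroup.eq.symm
  show Nat.card (Quot _) = Nat.card (Fˣ ⧸ M)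
  apply Nat.card_eq_of_bijective (Quot.lift fn (fun y z h => (hf y z).mp h))
  constructor
  · intro a b
    induction a using Quot.ind with | _ y => ?_
    induction b using Quot.ind with | _ z => ?_
    intro h
    exact Quot.sound ((hf y z).mpr h)
  · intro a
    obtain ⟨u, rfl⟩ := QuotientGroup.mk_surjective a
    let y : {y // Cfsg.IsConjUnder (Cfsg.inndiagPSL n F) (pslOf (slField σ)) y} :=
      ⟨cls σ (dg i0 u), inndiagHom n F (dg i0 u), mem_inndiagPSL_iff.mpr ⟨_, rfl⟩, rfl⟩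
    refine ⟨Quot.mk _ y, ?_⟩
    show fn y = _
    have h1 : Cfsg.IsConjUnder (Cfsg.Inn (Matrix.ProjectiveSpecialLinearGroup (Fin n) F))
        (cls σ (rep y)) (cls σ (dg i0 u)) := by
      refine ⟨1, Subgroup.one_mem _, ?_⟩
      rw [← hrep y, one_mul, inv_one, mul_one]
    have h2 := (isConjUnder_inn_cls_iff hn σ hσ hr0 _ _).mp h1
    rw [det_dg] at h2
    exact QuotientGroup.eq.mpr h2

/-- S2698 -/
theorem field_aut_centralizer [Fintype F] {p f : ℕ} [Fact p.Prime]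
    (hF : Fintype.card F = p ^ f) (hf : 1 ≤ f) (hn : 2 ≤ n)
    (x : MulAut (Matrix.ProjectiveSpecialLinearGroup (Fin n) F)) (hx : Cfsg.IsFieldAutClassPSL x)
    {r : ℕ} (hr : r.Prime) (hxr : orderOf x = r) (F₀ : Type*) [Field F₀] [Fintype F₀]
    (hF₀ : Fintype.card F₀ = p ^ (f / r)) :
    r ∣ f ∧ Nonempty (↥(Cfsg.inndiagPSL n F ⊓ Subgroup.centralizer {x}) ≃*
        Matrix.ProjGenLinGroup (Fin n) F₀) ∧
      Cfsg.splitClassCount (Cfsg.inndiagPSL n F)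
        (Cfsg.Inn (Matrix.ProjectiveSpecialLinearGroup (Fin n) F)) x =
        Nat.gcd n ((p ^ f - 1) / (p ^ (f / r) - 1)) := by
  haveI := Fact.mk hr
  obtain ⟨α, σ, hσ1, hstd⟩ := hx
  have hx' : α * x * α⁻¹ = pslOf (slField σ) := eq_pslOf_of_isStdField hstd
  have hσ1' : σ ≠ 1 := hσ1
  have hσr : σ ^ r = 1 := by
    apply eq_one_of_pslOf_slField hn
    rw [← slField_pow, map_pow, ← hx']
    exact pow_conj_eq_one α x hxr
  have hσ : orderOf σ = r := orderOf_eq_prime hσr hσ1'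
  have hG : ∀ k ∈ Cfsg.inndiagPSL n F, α * k * α⁻¹ ∈ Cfsg.inndiagPSL n F :=
    fun k hk => conj_mem_inndiagPSL hF hf hn α hk
  have hG' : ∀ k ∈ Cfsg.inndiagPSL n F, α⁻¹ * k * α ∈ Cfsg.inndiagPSL n F := fun k hk => by
    have := conj_mem_inndiagPSL hF hf hn α⁻¹ hk
    rwa [inv_inv] at this
  have hI : ∀ k ∈ Cfsg.Inn (Matrix.ProjectiveSpecialLinearGroup (Fin n) F),
      α * k * α⁻¹ ∈ Cfsg.Inn (Matrix.ProjectiveSpecialLinearGroup (Fin n) F) :=
    fun k hk => (Cfsg.innNormal _).conj_mem k hk α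
  have hI' : ∀ k ∈ Cfsg.Inn (Matrix.ProjectiveSpecialLinearGroup (Fin n) F),
      α⁻¹ * k * α ∈ Cfsg.Inn (Matrix.ProjectiveSpecialLinearGroup (Fin n) F) := fun k hk => by
    have := (Cfsg.innNormal _).conj_mem k hk α⁻¹
    rwa [inv_inv] at this
  refine ⟨(card_fixedField hF σ hσ).1, ?_, ?_⟩
  · obtain ⟨ι, hι⟩ := exists_embedding hF σ hσ hF₀
    obtain ⟨e1⟩ := centralizer_conj_equiv (Cfsg.inndiagPSL n F) α hG hG' x
    rw [hx'] at e1
    obtain ⟨e2⟩ := centralizer_iso hn σ hσ hr.pos ι hι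
    exact ⟨e1.trans e2⟩
  · rw [← splitClassCount_conj _ _ α hG hG' hI hI' x, hx', splitClassCount_std hn σ hσ hr.pos,
      index_range_pow_sup, card_units_eq hF, card_fixedUnits hF σ hσ]

end Cfsg.Agent.Helper37.Lang
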