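import Mathlib
import Cfsg.Agent.Helper13.UIwa4
import Cfsg.Agent.Helper13.UPair1

/-!
Helper37: automorphisms of `PSU_n(q)`.  Part A: basic calculus of elements of `SU_n(q)` acting on
vectors, transvections and Eichler transformations as predicates, the centre, and uniqueness of
`p`-element lifts from `PSU` to `SU`.
-/

set_option autoImplicit false
set_option linter.unusedSectionVars false
set_option linter.unusedVariables false
set_option linter.style.haveILetI false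

namespace Cfsg.Agent.Helper37.AutU

open Matrix Cfsg.Agent.Helper13

/-- standing hypotheses -/
structure Hyp (F : Type*) [Field F] [Fintype F] (p f q n : ℕ) : Prop where
  hp : p.Prime
  hq : q = p ^ f
  hf : 1 ≤ f
  hF : Fintype.card F = q ^ 2
  hn : 3 ≤ n
  h32 : ¬ (n = 3 ∧ q = 2)

variable {F : Type*} [Field F] [Fintype F] {p f q n : ℕ}

local notation "⟪" x ", " y "⟫" => Cfsg.hermForm n F q x y
local notation:73 A:74 " ▹ " x:73 => (suMat A) *ᵥ x

/-- the projection `SU → PSU` -/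
abbrev pr : Cfsg.SU n F q →* Cfsg.PSU n F q := QuotientGroup.mk' _

theorem pr_surjective : Function.Surjective (pr : Cfsg.SU n F q →* Cfsg.PSU n F q) :=
  QuotientGroup.mk'_surjective _

/-! ### the action on vectors -/

theorem smv_mul (A B : Cfsg.SU n F q) (x : Fin n → F) : (A * B) ▹ x = A ▹ (B ▹ x) := by
  rw [suMat_mul, Matrix.mulVec_mulVec]

theorem smv_one (x : Fin n → F) : (1 : Cfsg.SU n F q) ▹ x = x := by
  rw [suMat_one, Matrix.one_mulVec]

theorem smv_inv_smv (A : Cfsg.SU n F q) (x : Fin n → F) : A⁻¹ ▹ (A ▹ x) = x :=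
  suMat_inv_mulVec A x

theorem smv_smv_inv (A : Cfsg.SU n F q) (x : Fin n → F) : A ▹ (A⁻¹ ▹ x) = x := by
  have := suMat_inv_mulVec A⁻¹ x
  rwa [inv_inv] at this

theorem smv_add (A : Cfsg.SU n F q) (x y : Fin n → F) : A ▹ (x + y) = (A ▹ x) + (A ▹ y) :=
  Matrix.mulVec_add _ _ _

theorem smv_sub (A : Cfsg.SU n F q) (x y : Fin n → F) : A ▹ (x - y) = (A ▹ x) - (A ▹ y) :=
  Matrix.mulVec_sub _ _ _

theorem smv_neg (A : Cfsg.SU n F q) (x : Fin n → F) : A ▹ (-x) = -(A ▹ x) :=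
  Matrix.mulVec_neg _ _

theorem smv_smul (A : Cfsg.SU n F q) (c : F) (x : Fin n → F) : A ▹ (c • x) = c • (A ▹ x) :=
  Matrix.mulVec_smul _ _ _

theorem smv_zero (A : Cfsg.SU n F q) : A ▹ (0 : Fin n → F) = 0 :=
  Matrix.mulVec_zero _

theorem herm_smv (A : Cfsg.SU n F q) (x y : Fin n → F) : ⟪A ▹ x, A ▹ y⟫ = ⟪x, y⟫ :=
  isU_suMat A x y

theorem herm_smv_left (A : Cfsg.SU n F q) (x y : Fin n → F) : ⟪A ▹ x, y⟫ = ⟪x, A⁻¹ ▹ y⟫ := by
  conv_lhs => rw [← smv_smv_inv A y]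
  exact herm_smv A x _

theorem herm_smv_right (A : Cfsg.SU n F q) (x y : Fin n → F) : ⟪x, A ▹ y⟫ = ⟪A⁻¹ ▹ x, y⟫ := by
  conv_lhs => rw [← smv_smv_inv A x]
  exact herm_smv A _ y

theorem su_ext {A B : Cfsg.SU n F q} (h : ∀ x, (A ▹ x) = (B ▹ x)) : A = B :=
  suMat_injective (mat_ext_mulVec h)

theorem suMat_mul_inv (A : Cfsg.SU n F q) : suMat A * suMat A⁻¹ = 1 := by
  rw [← suMat_mul, mul_inv_cancel, suMat_one]

theorem suMat_inv_mul (A : Cfsg.SU n F q) : suMat A⁻¹ * suMat A = 1 := by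
  rw [← suMat_mul, inv_mul_cancel, suMat_one]

theorem smv_injective (A : Cfsg.SU n F q) {x y : Fin n → F} (h : (A ▹ x) = (A ▹ y)) : x = y := by
  have := congrArg (fun z => A⁻¹ ▹ z) h
  simp only [smv_inv_smv] at this
  exact this

theorem smv_pow_smul (A : Cfsg.SU n F q) (ζ : F) (h : ∀ x, (A ▹ x) = ζ • x) (k : ℕ)
    (x : Fin n → F) : ((A ^ k) ▹ x) = ζ ^ k • x := by
  induction k with
  | zero => rw [pow_zero, pow_zero, one_smul, smv_one]
  | succ k ih => rw [pow_succ, smv_mul, h, smv_smul, ih, smul_smul, pow_succ, mul_comm]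

/-! ### transvections and Eichler transformations as predicates -/

/-- `A` is the transvection `x ↦ x + c h(x,v) v` -/
def IsTv (A : Cfsg.SU n F q) (v : Fin n → F) (c : F) : Prop :=
  suMat A = Cfsg.unitaryTransvection n q v c

/-- `A` is the Eichler transformation `x ↦ x + h(x,u) y - h(x,y) u + c h(x,u) u` -/
def IsEi (A : Cfsg.SU n F q) (u y : Fin n → F) (c : F) : Prop :=
  suMat A = eichler q u y c

theorem IsTv.smv {A : Cfsg.SU n F q} {v : Fin n → F} {c : F} (h : IsTv A v c) (x : Fin n → F) :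
    (A ▹ x) = x + (c * ⟪x, v⟫) • v := by
  rw [h, unitaryTransvection_mulVec]

theorem IsEi.smv {A : Cfsg.SU n F q} {u y : Fin n → F} {c : F} (h : IsEi A u y c)
    (x : Fin n → F) : (A ▹ x) = x + ⟪x, u⟫ • y - ⟪x, y⟫ • u + (c * ⟪x, u⟫) • u := by
  rw [h, eichler_mulVec]

theorem isTv_of_smv {A : Cfsg.SU n F q} {v : Fin n → F} {c : F}
    (h : ∀ x, (A ▹ x) = x + (c * ⟪x, v⟫) • v) : IsTv A v c := by
  apply mat_ext_mulVec
  intro x
  rw [h, unitaryTransvection_mulVec]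

theorem isEi_of_smv {A : Cfsg.SU n F q} {u y : Fin n → F} {c : F}
    (h : ∀ x, (A ▹ x) = x + ⟪x, u⟫ • y - ⟪x, y⟫ • u + (c * ⟪x, u⟫) • u) : IsEi A u y c := by
  apply mat_ext_mulVec
  intro x
  rw [h, eichler_mulVec]

theorem IsTv.eq {A B : Cfsg.SU n F q} {v : Fin n → F} {c : F} (hA : IsTv A v c)
    (hB : IsTv B v c) : A = B :=
  suMat_injective (hA.trans hB.symm)

theorem IsEi.eq {A B : Cfsg.SU n F q} {u y : Fin n → F} {c : F} (hA : IsEi A u y c)
    (hB : IsEi B u y c) : A = B :=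
  suMat_injective (hA.trans hB.symm)

theorem IsTv.conj {B : Cfsg.SU n F q} {v : Fin n → F} {c : F} (hB : IsTv B v c)
    (A : Cfsg.SU n F q) : IsTv (A * B * A⁻¹) (A ▹ v) c := by
  show suMat A * suMat B * suMat A⁻¹ = _
  rw [hB, conj_unitaryTransvection (isU_suMat A) (suMat_mul_inv A)]

theorem IsEi.conj {B : Cfsg.SU n F q} {u y : Fin n → F} {c : F} (hB : IsEi B u y c)
    (A : Cfsg.SU n F q) : IsEi (A * B * A⁻¹) (A ▹ u) (A ▹ y) c := by
  show suMat A * suMat B * suMat A⁻¹ = _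
  rw [hB, conj_eichler (isU_suMat A) (suMat_mul_inv A)]

theorem IsTv.mul {A B : Cfsg.SU n F q} {v : Fin n → F} {c c' : F} (hA : IsTv A v c)
    (hB : IsTv B v c') (hv : ⟪v, v⟫ = 0) : IsTv (A * B) v (c + c') := by
  show suMat A * suMat B = _
  rw [hA, hB, unitaryTransvection_mul v c c' hv]

theorem isTv_one (v : Fin n → F) : IsTv (1 : Cfsg.SU n F q) v 0 := by
  show suMat 1 = _
  rw [suMat_one, unitaryTransvection_zero]

theorem IsEi.mul (hF : Fintype.card F = q ^ 2) {A B : Cfsg.SU n F q} {u y y' : Fin n → F}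
    {c c' : F} (hA : IsEi A u y c) (hB : IsEi B u y' c') (huu : ⟪u, u⟫ = 0) (hyu : ⟪y, u⟫ = 0)
    (hy'u : ⟪y', u⟫ = 0) : IsEi (A * B) u (y + y') (c + c' - ⟪y', y⟫) := by
  show suMat A * suMat B = _
  rw [hA, hB, eichler_mul hF c c' huu hyu hy'u]

theorem isEi_zero_iff (hF : Fintype.card F = q ^ 2) {A : Cfsg.SU n F q} {u : Fin n → F} {c : F} :
    IsEi A u 0 c ↔ IsTv A u c := by
  unfold IsEi IsTv
  rw [eichler_zero_eq_tv hF]

theorem IsTv.smul_iff {A : Cfsg.SU n F q} {v : Fin n → F} {a c : F} :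
    IsTv A (a • v) c ↔ IsTv A v (c * a * a ^ q) := by
  unfold IsTv
  rw [unitaryTransvection_smul]

/-- existence of transvections -/
theorem exists_isTv (hF : Fintype.card F = q ^ 2) {v : Fin n → F} (hv : ⟪v, v⟫ = 0) {c : F}
    (hc : c + c ^ q = 0) : ∃ A : Cfsg.SU n F q, IsTv A v c :=
  ⟨tvElt hF v c hv hc, rfl⟩

/-- existence of Eichler transformations -/
theorem exists_isEi (hF : Fintype.card F = q ^ 2) {u y : Fin n → F} {c : F} (huu : ⟪u, u⟫ = 0)
    (hyu : ⟪y, u⟫ = 0) (hc : c + c ^ q + ⟪y, y⟫ = 0) : ∃ A : Cfsg.SU n F q, IsEi A u y c :=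
  ⟨eichlerElt hF u y c huu hyu hc, rfl⟩

theorem IsTv.mem_rootOf (hF : Fintype.card F = q ^ 2) {A : Cfsg.SU n F q} {v : Fin n → F} {c : F}
    (h : IsTv A v c) (hv : ⟪v, v⟫ = 0) (hc : c + c ^ q = 0) : A ∈ rootOf hF v hv :=
  ⟨c, hc, h⟩

theorem IsTv.pow {A : Cfsg.SU n F q} {v : Fin n → F} {c : F} (hA : IsTv A v c)
    (hv : ⟪v, v⟫ = 0) (k : ℕ) : IsTv (A ^ k) v (k * c) := by
  induction k with
  | zero =>
    rw [pow_zero, Nat.cast_zero, zero_mul]
    exact isTv_one v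
  | succ k ih =>
    rw [pow_succ]
    have := ih.mul hA hv
    convert this using 1
    push_cast
    ring

theorem IsEi.pow (hF : Fintype.card F = q ^ 2) {A : Cfsg.SU n F q} {u y : Fin n → F} {c : F}
    (hA : IsEi A u y c) (huu : ⟪u, u⟫ = 0) (hyu : ⟪y, u⟫ = 0) (k : ℕ) :
    ∃ c' : F, IsEi (A ^ k) u ((k : F) • y) c' := by
  induction k with
  | zero =>
    refine ⟨0, ?_⟩
    rw [pow_zero, Nat.cast_zero, zero_smul]
    show suMat 1 = _
    rw [suMat_one, eichler_zero_zero hF]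
  | succ k ih =>
    obtain ⟨c', hc'⟩ := ih
    rw [pow_succ]
    have hku : ⟪(k : F) • y, u⟫ = 0 := by rw [hermForm_smul_left, hyu, mul_zero]
    have := hc'.mul hF hA huu hku hyu
    refine ⟨c' + c - ⟪y, (k : F) • y⟫, ?_⟩
    convert this using 2
    push_cast
    rw [add_smul, one_smul]

section CharP

variable (H : Hyp F p f q n)
include H

theorem Hyp.charP : CharP F p := by
  haveI := Fact.mk H.hp
  have : Fintype.card F = p ^ (f * 2) := by rw [H.hF, H.hq, pow_mul]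
  exact charP_of_card_eq_prime_pow this

theorem Hyp.one_le_n : 1 ≤ n := le_trans (by norm_num) H.hn

theorem Hyp.two_le_q : 2 ≤ q := two_le_of_card_eq_sq H.hF

theorem Hyp.eq_one_of_pow {a : F} {k : ℕ} (h : a ^ (p ^ k) = 1) : a = 1 := by
  haveI := Fact.mk H.hp
  haveI := H.charP
  have h1 : (a - 1) ^ (p ^ k) = 0 := by rw [sub_pow_char_pow, h, one_pow, sub_self]
  have h2 := pow_eq_zero_iff (pow_ne_zero k H.hp.ne_zero) |>.mp h1
  exact sub_eq_zero.mp h2

theorem IsTv.pow_p {A : Cfsg.SU n F q} {v : Fin n → F} {c : F} (hA : IsTv A v c)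
    (hv : ⟪v, v⟫ = 0) : A ^ p = 1 := by
  haveI := H.charP
  have h := hA.pow hv p
  rw [CharP.cast_eq_zero, zero_mul] at h
  exact h.eq (isTv_one v)

theorem IsEi.pow_pp {A : Cfsg.SU n F q} {u y : Fin n → F} {c : F}
    (hA : IsEi A u y c) (huu : ⟪u, u⟫ = 0) (hyu : ⟪y, u⟫ = 0) : A ^ (p ^ 2) = 1 := by
  haveI := H.charP
  obtain ⟨c', hc'⟩ := hA.pow H.hF huu hyu p
  rw [CharP.cast_eq_zero, zero_smul, isEi_zero_iff H.hF] at hc'
  rw [pow_two, pow_mul]
  exact hc'.pow_p H huu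

end CharP

/-! ### the centre and lifts of `p`-elements -/

theorem center_smv (hF : Fintype.card F = q ^ 2) (hn : 1 ≤ n) {z : Cfsg.SU n F q}
    (hz : z ∈ Subgroup.center (Cfsg.SU n F q)) :
    ∃ ζ : F, ζ ^ (q + 1) = 1 ∧ ζ ^ n = 1 ∧ ∀ x, (z ▹ x) = ζ • x := by
  let i₀ : Fin n := ⟨0, hn⟩
  have h := Cfsg.Agent.Helper5.center_eq_scalar hF z hz i₀
  set ζ := z.1.1 i₀ i₀ with hζ
  have hsm : ∀ x, (z ▹ x) = ζ • x := by
    intro x
    show z.1.1 *ᵥ x = ζ • x
    rw [h]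
    ext i
    simp [Matrix.mulVec_diagonal]
  refine ⟨ζ, ?_, ?_, hsm⟩
  · have h1 := herm_smv z (Pi.single i₀ 1) (Pi.single i₀ 1)
    rw [hsm, hermForm_smul_left, hermForm_smul_right, hermForm_single_right hF] at h1
    simp only [Pi.single_eq_same, mul_one] at h1
    rw [pow_succ, mul_comm]
    exact h1
  · have h2 := det_suMat z
    have h3 : suMat z = Matrix.scalar (Fin n) ζ := h
    rw [h3, Cfsg.Agent.Helper5.det_scalar_fin] at h2
    exact h2

theorem mem_center_of_smv {z : Cfsg.SU n F q} {ζ : F} (h : ∀ x, (z ▹ x) = ζ • x) :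
    z ∈ Subgroup.center (Cfsg.SU n F q) := by
  rw [Subgroup.mem_center_iff]
  intro g
  apply su_ext
  intro x
  rw [smv_mul, smv_mul, h, h, smv_smul]

theorem pr_eq_iff {A B : Cfsg.SU n F q} :
    (pr A : Cfsg.PSU n F q) = pr B ↔ A⁻¹ * B ∈ Subgroup.center (Cfsg.SU n F q) :=
  QuotientGroup.eq

theorem pr_eq_one_iff {A : Cfsg.SU n F q} :
    (pr A : Cfsg.PSU n F q) = 1 ↔ A ∈ Subgroup.center (Cfsg.SU n F q) :=
  QuotientGroup.eq_one_iff A

/-- two `p`-elements of `SU` with the same image in `PSU` are equal -/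
theorem eq_of_pr_eq_of_pow (H : Hyp F p f q n) {A B : Cfsg.SU n F q} (k : ℕ)
    (hA : A ^ (p ^ k) = 1) (hB : B ^ (p ^ k) = 1)
    (h : (pr A : Cfsg.PSU n F q) = pr B) : A = B := by
  rw [pr_eq_iff] at h
  obtain ⟨ζ, -, -, hζ⟩ := center_smv H.hF H.one_le_n h
  have hcomm : Commute A (A⁻¹ * B) := by
    have := Subgroup.mem_center_iff.mp h A
    exact this
  have hB' : B = A * (A⁻¹ * B) := by group
  have h1 : (A⁻¹ * B) ^ (p ^ k) = 1 := by
    have := hcomm.mul_pow (p ^ k)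
    rw [← hB', hB, hA, one_mul] at this
    exact this.symm
  have h2 : ζ ^ (p ^ k) = 1 := by
    have h3 := smv_pow_smul (A⁻¹ * B) ζ hζ (p ^ k) (Pi.single (⟨0, H.one_le_n⟩ : Fin n) 1)
    rw [h1, smv_one] at h3
    have h4 := congrFun h3 ⟨0, H.one_le_n⟩
    simp only [Pi.single_eq_same, Pi.smul_apply, smul_eq_mul, mul_one] at h4
    exact h4.symm
  have h5 : ζ = 1 := H.eq_one_of_pow h2
  have h6 : A⁻¹ * B = 1 := by
    apply su_ext
    intro x
    rw [hζ, h5, one_smul, smv_one]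
  rw [hB', h6, mul_one]

end Cfsg.Agent.Helper37.AutU
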