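import Mathlib
import Cfsg.Agent.Helper37.AutUA

/-!
Helper37: automorphisms of `PSU_n(q)`.  Part B: hyperbolic pairs, the complement `W`, the
unipotent radical `Q(e)` of the stabiliser of an isotropic point and its parametrisation by
Eichler transformations.
-/

set_option autoImplicit false
set_option linter.unusedSectionVars false
set_option linter.unusedVariables false
set_option linter.style.haveILetI false

namespace Cfsg.Agent.Helper37.AutU

open Matrix Cfsg.Agent.Helper13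

variable {F : Type*} [Field F] [Fintype F] {p r q n : ℕ}

local notation "⟪" x ", " y "⟫" => Cfsg.hermForm n F q x y
local notation:73 A:74 " ▹ " x:73 => (suMat A) *ᵥ x

/-- a hyperbolic pair -/
structure HypPair (q : ℕ) (e f : Fin n → F) : Prop where
  hee : Cfsg.hermForm n F q e e = 0
  hff : Cfsg.hermForm n F q f f = 0
  hef : Cfsg.hermForm n F q e f = 1

/-- orthogonal to the hyperbolic pair -/
def InW (q : ℕ) (e f y : Fin n → F) : Prop :=
  Cfsg.hermForm n F q y e = 0 ∧ Cfsg.hermForm n F q y f = 0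

section Pair

variable {e f : Fin n → F}

theorem HypPair.hfe (hF : Fintype.card F = q ^ 2) (P : HypPair q e f) : ⟪f, e⟫ = 1 := by
  rw [← hermForm_conj hF e f, P.hef, one_pow]

theorem HypPair.e_ne (P : HypPair q e f) : e ≠ 0 := by
  intro h
  have := P.hef
  rw [h, hermForm_zero_left] at this
  exact zero_ne_one this

theorem HypPair.f_ne (hF : Fintype.card F = q ^ 2) (P : HypPair q e f) : f ≠ 0 := by
  intro h
  have := P.hfe hF
  rw [h, hermForm_zero_left] at this
  exact zero_ne_one this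

theorem HypPair.symm (hF : Fintype.card F = q ^ 2) (P : HypPair q e f) : HypPair q f e :=
  ⟨P.hff, P.hee, P.hfe hF⟩

theorem inW_iff {y : Fin n → F} : InW q e f y ↔ y ∈ hypCompl q ⊤ e f := by
  rw [mem_hypCompl]
  exact ⟨fun h => ⟨Submodule.mem_top, h.1, h.2⟩, fun h => ⟨h.2.1, h.2.2⟩⟩

theorem InW.eh (hF : Fintype.card F = q ^ 2) {y : Fin n → F} (h : InW q e f y) : ⟪e, y⟫ = 0 :=
  hermForm_eq_zero_symm hF h.1

theorem InW.fh (hF : Fintype.card F = q ^ 2) {y : Fin n → F} (h : InW q e f y) : ⟪f, y⟫ = 0 :=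
  hermForm_eq_zero_symm hF h.2

theorem InW.symm {y : Fin n → F} (h : InW q e f y) : InW q f e y := ⟨h.2, h.1⟩

theorem inW_zero : InW q e f (0 : Fin n → F) := ⟨hermForm_zero_left _, hermForm_zero_left _⟩

theorem InW.add {y y' : Fin n → F} (h : InW q e f y) (h' : InW q e f y') :
    InW q e f (y + y') :=
  ⟨by rw [hermForm_add_left, h.1, h'.1, add_zero], by rw [hermForm_add_left, h.2, h'.2, add_zero]⟩

theorem InW.smul {y : Fin n → F} (h : InW q e f y) (a : F) : InW q e f (a • y) :=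
  ⟨by rw [hermForm_smul_left, h.1, mul_zero], by rw [hermForm_smul_left, h.2, mul_zero]⟩

theorem InW.neg {y : Fin n → F} (h : InW q e f y) : InW q e f (-y) :=
  ⟨by rw [hermForm_neg_left, h.1, neg_zero], by rw [hermForm_neg_left, h.2, neg_zero]⟩

theorem InW.sub {y y' : Fin n → F} (h : InW q e f y) (h' : InW q e f y') :
    InW q e f (y - y') := by
  rw [sub_eq_add_neg]
  exact h.add h'.neg

theorem hypProj_inW (hF : Fintype.card F = q ^ 2) (P : HypPair q e f) (x : Fin n → F) :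
    InW q e f (hypProj q e f x) :=
  inW_iff.mpr (hypProj_mem hF ⊤ Submodule.mem_top Submodule.mem_top P.hee P.hff P.hef
    Submodule.mem_top)

theorem nonDegW (hF : Fintype.card F = q ^ 2) (P : HypPair q e f) :
    NonDeg q (hypCompl q (⊤ : Submodule F (Fin n → F)) e f) :=
  nonDeg_hypCompl hF ⊤ (nonDeg_top hF) Submodule.mem_top Submodule.mem_top P.hee P.hff P.hef

theorem eq_zero_of_inW (hF : Fintype.card F = q ^ 2) (P : HypPair q e f) {y : Fin n → F}
    (hy : InW q e f y) (h : ∀ y', InW q e f y' → ⟪y, y'⟫ = 0) : y = 0 :=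
  nonDegW hF P y (inW_iff.mp hy) (fun y' hy' => h y' (inW_iff.mpr hy'))

theorem eq_zero_of_inW' (hF : Fintype.card F = q ^ 2) (P : HypPair q e f) {y : Fin n → F}
    (hy : InW q e f y) (h : ∀ y', InW q e f y' → ⟪y', y⟫ = 0) : y = 0 :=
  eq_zero_of_inW hF P hy (fun y' hy' => hermForm_eq_zero_symm hF (h y' hy'))

/-- `hypProj` is the identity on `W` -/
theorem hypProj_of_inW {y : Fin n → F} (hy : InW q e f y) : hypProj q e f y = y := by
  rw [hypProj, hy.1, hy.2, zero_smul, zero_smul, sub_zero, sub_zero]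

theorem herm_hypProj_left (hF : Fintype.card F = q ^ 2) (P : HypPair q e f) (x : Fin n → F)
    {y : Fin n → F} (hy : InW q e f y) : ⟪hypProj q e f x, y⟫ = ⟪x, y⟫ := by
  rw [hypProj, hermForm_sub_left, hermForm_sub_left, hermForm_smul_left, hermForm_smul_left,
    hy.eh hF, hy.fh hF, mul_zero, mul_zero, sub_zero, sub_zero]

/-- a trace-type solution exists -/
theorem exists_par (hF : Fintype.card F = q ^ 2) (y : Fin n → F) :
    ∃ c : F, c + c ^ q + ⟪y, y⟫ = 0 := by
  have hfix : (-⟪y, y⟫) ^ q = -⟪y, y⟫ := by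
    rw [frob_neg' hF, hermForm_self_fixed hF]
  obtain ⟨t, ht⟩ := exists_trace_eq_of_fixed hF hfix
  exact ⟨t, by rw [ht]; ring⟩

/-- the action of an Eichler transformation in coordinates -/
theorem eichler_decomp (hF : Fintype.card F = q ^ 2) (P : HypPair q e f) {y : Fin n → F}
    (hy : InW q e f y) (c a b : F) {w : Fin n → F} (hw : InW q e f w) :
    eichler q e y c *ᵥ (a • e + b • f + w) =
      a • e + b • (c • e + f + y) + (w - ⟪w, y⟫ • e) := by
  rw [eichler_mulVec]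
  simp only [hermForm_add_left, hermForm_smul_left, P.hee, P.hfe hF, hw.1, hy.eh hF, hy.fh hF,
    mul_zero, mul_one, add_zero, zero_add]
  module

end Pair

/-! ### the subgroup `Q(e)` -/

/-- the elements fixing `e` and acting trivially on `e^⊥ / e` -/
def Qg (q : ℕ) (e : Fin n → F) : Subgroup (Cfsg.SU n F q) where
  carrier := {A | (A ▹ e) = e ∧ ∀ x, Cfsg.hermForm n F q x e = 0 → ∃ t : F, (A ▹ x) = x + t • e}
  mul_mem' := by
    rintro A B ⟨hA, hA'⟩ ⟨hB, hB'⟩
    refine ⟨by rw [smv_mul, hB, hA], fun x hx => ?_⟩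
    obtain ⟨t, ht⟩ := hB' x hx
    obtain ⟨s, hs⟩ := hA' x hx
    refine ⟨s + t, ?_⟩
    rw [smv_mul, ht, smv_add, smv_smul, hA, hs, add_smul, add_assoc]
  one_mem' := ⟨smv_one e, fun x _ => ⟨0, by rw [smv_one, zero_smul, add_zero]⟩⟩
  inv_mem' := by
    rintro A ⟨hA, hA'⟩
    have hAe : (A⁻¹ ▹ e) = e := by
      conv_lhs => rw [← hA]
      exact smv_inv_smv A e
    refine ⟨hAe, fun x hx => ?_⟩
    obtain ⟨t, ht⟩ := hA' x hx
    refine ⟨-t, ?_⟩
    have h1 : (A⁻¹ ▹ (A ▹ x)) = (A⁻¹ ▹ (x + t • e)) := by rw [ht]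
    rw [smv_inv_smv, smv_add, smv_smul, hAe] at h1
    rw [neg_smul, ← sub_eq_add_neg]
    exact eq_sub_of_add_eq h1.symm

theorem mem_Qg {e : Fin n → F} {A : Cfsg.SU n F q} :
    A ∈ Qg q e ↔ (A ▹ e) = e ∧ ∀ x, ⟪x, e⟫ = 0 → ∃ t : F, (A ▹ x) = x + t • e := Iff.rfl

theorem Qg_conj {e : Fin n → F} {B : Cfsg.SU n F q} (hB : B ∈ Qg q e) (A : Cfsg.SU n F q) :
    A * B * A⁻¹ ∈ Qg q (A ▹ e) := by
  obtain ⟨hBe, hB'⟩ := hB
  refine ⟨by rw [smv_mul, smv_mul, smv_inv_smv, hBe], fun x hx => ?_⟩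
  have hx' : ⟪A⁻¹ ▹ x, e⟫ = 0 := by
    rw [← herm_smv_right]
    exact hx
  obtain ⟨t, ht⟩ := hB' _ hx'
  refine ⟨t, ?_⟩
  rw [smv_mul, smv_mul, ht, smv_add, smv_smv_inv, smv_smul]

theorem Qg_smul {e : Fin n → F} {a : F} (ha : a ≠ 0) : Qg q (a • e) = Qg q e := by
  ext A
  rw [mem_Qg, mem_Qg]
  constructor
  · rintro ⟨h1, h2⟩
    refine ⟨?_, fun x hx => ?_⟩
    · rw [smv_smul] at h1
      exact smul_right_injective _ ha h1
    · obtain ⟨t, ht⟩ := h2 x (by rw [hermForm_smul_right, hx, mul_zero])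
      exact ⟨t * a, by rw [ht, smul_smul]⟩
  · rintro ⟨h1, h2⟩
    refine ⟨by rw [smv_smul, h1], fun x hx => ?_⟩
    rw [hermForm_smul_right] at hx
    have hx' : ⟪x, e⟫ = 0 := by
      rcases mul_eq_zero.mp hx with h | h
      · exact absurd (pow_eq_zero_iff (by
          intro hq0; rw [hq0, pow_zero] at h; exact one_ne_zero h) |>.mp h) ha
      · exact h
    obtain ⟨t, ht⟩ := h2 x hx'
    exact ⟨t * a⁻¹, by rw [ht, smul_smul, mul_assoc, inv_mul_cancel₀ ha, mul_one]⟩

section Pair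

variable {e f : Fin n → F}

/-- a unitary matrix fixing `e` and acting trivially on `e^⊥/e` is an Eichler transformation -/
theorem eichler_of_fix (hF : Fintype.card F = q ^ 2) (P : HypPair q e f)
    {M : Matrix (Fin n) (Fin n) F} (hM : IsU q M) (he : M *ᵥ e = e)
    (hW : ∀ y, InW q e f y → ∃ t : F, M *ᵥ y = y + t • e) :
    ∃ y c, InW q e f y ∧ c + c ^ q + ⟪y, y⟫ = 0 ∧ M = eichler q e y c := by
  set g := M *ᵥ f with hg
  have hge : ⟪g, e⟫ = 1 := by
    have := hM f e
    rw [he] at this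
    rw [this, P.hfe hF]
  set y := hypProj q e f g with hy
  set c := ⟪g, f⟫ with hc
  have hyW : InW q e f y := hypProj_inW hF P g
  have hgd : g = c • e + f + y := by
    have := hypProj_decomp (q := q) e f g
    rw [hge, one_smul] at this
    exact this
  have hgg : ⟪g, g⟫ = 0 := by
    rw [hM f f, P.hff]
  have hcy : c + c ^ q + ⟪y, y⟫ = 0 := by
    have h2 := hgg
    rw [hgd] at h2
    simp only [hermForm_add_left, hermForm_add_right hF, hermForm_smul_left, hermForm_smul_right,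
      P.hee, P.hff, P.hef, P.hfe hF, hyW.1, hyW.2, hyW.eh hF, hyW.fh hF] at h2
    linear_combination h2
  refine ⟨y, c, hyW, hcy, ?_⟩
  apply mat_ext_mulVec
  intro x
  have hxW : InW q e f (hypProj q e f x) := hypProj_inW hF P x
  obtain ⟨t, ht⟩ := hW _ hxW
  have htv : t = -⟪hypProj q e f x, y⟫ := by
    have h1 := hM (hypProj q e f x) f
    rw [ht, ← hg, hgd, hxW.2] at h1
    simp only [hermForm_add_left, hermForm_add_right hF, hermForm_smul_left, hermForm_smul_right,
      P.hee, P.hef, hxW.1, hxW.2, hyW.eh hF] at h1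
    linear_combination h1
  have hx := hypProj_decomp (q := q) e f x
  have h3 : M *ᵥ x = M *ᵥ (⟪x, f⟫ • e + ⟪x, e⟫ • f + hypProj q e f x) := congrArg _ hx
  have h4 : eichler q e y c *ᵥ x =
      eichler q e y c *ᵥ (⟪x, f⟫ • e + ⟪x, e⟫ • f + hypProj q e f x) := congrArg _ hx
  rw [h3, h4, eichler_decomp hF P hyW c _ _ hxW, Matrix.mulVec_add, Matrix.mulVec_add,
    Matrix.mulVec_smul, Matrix.mulVec_smul, he, ← hg, hgd, ht, htv]
  module

/-- parametrisation of `Q(e)` -/
theorem mem_Qg_iff (hF : Fintype.card F = q ^ 2) (P : HypPair q e f) {A : Cfsg.SU n F q} :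
    A ∈ Qg q e ↔ ∃ y c, InW q e f y ∧ c + c ^ q + ⟪y, y⟫ = 0 ∧ IsEi A e y c := by
  constructor
  · rintro ⟨h1, h2⟩
    exact eichler_of_fix hF P (isU_suMat A) h1 (fun y hy => h2 y hy.1)
  · rintro ⟨y, c, hy, hc, hA⟩
    refine ⟨?_, fun x hx => ?_⟩
    · rw [hA.smv, P.hee, hy.eh hF]
      simp
    · refine ⟨-⟪x, y⟫, ?_⟩
      rw [hA.smv, hx]
      simp only [zero_smul, mul_zero, add_zero, neg_smul]
      abel

/-- the parameters of an element of `Q(e)` are unique -/
theorem isEi_unique (hF : Fintype.card F = q ^ 2) (P : HypPair q e f) {A : Cfsg.SU n F q}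
    {y y' : Fin n → F} {c c' : F} (hy : InW q e f y) (hy' : InW q e f y') (h : IsEi A e y c)
    (h' : IsEi A e y' c') : y = y' ∧ c = c' := by
  have h1 := h.smv f
  have h2 := h'.smv f
  rw [P.hfe hF, hy.fh hF] at h1
  rw [P.hfe hF, hy'.fh hF, h1] at h2
  simp only [one_smul, zero_smul, sub_zero, mul_one] at h2
  have h3 : y + c • e = y' + c' • e := by
    have := congrArg (fun z => z - f) h2
    simpa [add_assoc] using this
  have h4 : c = c' := by
    have := congrArg (fun z => ⟪z, f⟫) h3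
    simp only [hermForm_add_left, hermForm_smul_left, hy.2, hy'.2, P.hef, zero_add, mul_one] at this
    exact this
  refine ⟨?_, h4⟩
  rw [h4] at h3
  exact add_right_cancel h3

theorem rootOf_le_Qg (hF : Fintype.card F = q ^ 2) (P : HypPair q e f) :
    rootOf hF e P.hee ≤ Qg q e := by
  rintro A ⟨c, hc, hA⟩
  rw [mem_Qg_iff hF P]
  refine ⟨0, c, inW_zero, ?_, (isEi_zero_iff hF).mpr hA⟩
  rw [hermForm_zero_left, add_zero, hc]

theorem Qg_pow (H : Hyp F p r q n) (P : HypPair q e f) {A : Cfsg.SU n F q} (hA : A ∈ Qg q e) :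
    A ^ (p ^ 2) = 1 := by
  obtain ⟨y, c, hy, hc, hA⟩ := (mem_Qg_iff H.hF P).mp hA
  exact hA.pow_pp H P.hee hy.1

end Pair

end Cfsg.Agent.Helper37.AutU
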