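import Mathlib
import Cfsg.Agent.Helper37.AutUB

/-!
Helper37: automorphisms of `PSU_n(q)`.  Part C: the centraliser of `Q(e)`, the root subgroups as
`C(C(t))` for Sylow-central `t`, and their permutation by automorphisms.
-/

set_option autoImplicit false
set_option linter.unusedSectionVars false
set_option linter.unusedVariables false
set_option linter.style.haveILetI false

namespace Cfsg.Agent.Helper37.AutU

open Matrix Cfsg.Agent.Helper13

variable {F : Type*} [Field F] [Fintype F] {p r q n : ℕ}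

local notation "⟪" x ", " y "⟫" => Cfsg.hermForm n F q x y
local notation:73 A:74 " ▹ " x:73 => (suMat A) *ᵥ x

/-! ### more on transvections -/

theorem exists_herm_eq_one (hF : Fintype.card F = q ^ 2) {v : Fin n → F} (hv : v ≠ 0) :
    ∃ x : Fin n → F, ⟪x, v⟫ = 1 := by
  have : ∃ y, ⟪v, y⟫ ≠ 0 := by
    by_contra hcon
    push Not at hcon
    exact hv (eq_zero_of_hermForm_eq_zero hF v hcon)
  obtain ⟨y, hy⟩ := this
  have hy' : ⟪y, v⟫ ≠ 0 := hermForm_ne_zero_symm hF hy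
  exact ⟨(⟪y, v⟫)⁻¹ • y, by rw [hermForm_smul_left, inv_mul_cancel₀ hy']⟩

theorem exists_theta (hF : Fintype.card F = q ^ 2) : ∃ θ : F, θ ^ q ≠ θ := by
  obtain ⟨l, hl1, hl2⟩ := Cfsg.Agent.Helper5.exists_norm_one_sq_ne_one hF
  refine ⟨l, fun h => hl2 ?_⟩
  rw [pow_succ, h] at hl1
  rw [pow_two]
  exact hl1

theorem IsTv.param_eq (hF : Fintype.card F = q ^ 2) {A : Cfsg.SU n F q} {v : Fin n → F}
    {c c' : F} (h : IsTv A v c) (h' : IsTv A v c') (hv : v ≠ 0) : c = c' := by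
  obtain ⟨x, hx⟩ := exists_herm_eq_one hF hv
  have h1 := h.smv x
  rw [h'.smv x, hx, mul_one, mul_one] at h1
  have h2 : c' • v = c • v := add_left_cancel h1
  have h3 : (c' - c) • v = 0 := by rw [sub_smul, h2, sub_self]
  rcases smul_eq_zero.mp h3 with h4 | h4
  · exact (sub_eq_zero.mp h4).symm
  · exact absurd h4 hv

theorem IsTv.center_eq (hF : Fintype.card F = q ^ 2) {A : Cfsg.SU n F q} {v v' : Fin n → F}
    {c c' : F} (h : IsTv A v c) (h' : IsTv A v' c') (hv : v ≠ 0) (hc : c ≠ 0) :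
    ∃ a : F, a ≠ 0 ∧ v' = a • v := by
  obtain ⟨x, hx⟩ := exists_herm_eq_one hF hv
  have h1 := h.smv x
  rw [h'.smv x, hx, mul_one] at h1
  have h2 : (c' * ⟪x, v'⟫) • v' = c • v := add_left_cancel h1
  have h3 : v = (c⁻¹ * (c' * ⟪x, v'⟫)) • v' := by
    rw [mul_smul, h2, smul_smul, inv_mul_cancel₀ hc, one_smul]
  have h4 : c⁻¹ * (c' * ⟪x, v'⟫) ≠ 0 := by
    intro h0
    rw [h0, zero_smul] at h3
    exact hv h3
  refine ⟨(c⁻¹ * (c' * ⟪x, v'⟫))⁻¹, inv_ne_zero h4, ?_⟩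
  conv_rhs => rw [h3]
  rw [smul_smul, inv_mul_cancel₀ h4, one_smul]

theorem IsTv.ne_one (hF : Fintype.card F = q ^ 2) {A : Cfsg.SU n F q} {v : Fin n → F} {c : F}
    (h : IsTv A v c) (hv : v ≠ 0) (hc : c ≠ 0) : A ≠ 1 := by
  intro h1
  rw [h1] at h
  exact hc (h.param_eq hF (isTv_one v) hv)

/-- an element commuting with a transvection scales its centre by a norm one scalar -/
theorem smv_of_commute_tv (hF : Fintype.card F = q ^ 2) {A T : Cfsg.SU n F q} {v : Fin n → F}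
    {c : F} (hT : IsTv T v c) (hv : v ≠ 0) (hc : c ≠ 0) (h : A * T * A⁻¹ = T) :
    ∃ ζ : F, ζ * ζ ^ q = 1 ∧ (A ▹ v) = ζ • v := by
  have h1 := hT.conj A
  rw [h] at h1
  obtain ⟨a, ha, hav⟩ := hT.center_eq hF h1 hv hc
  refine ⟨a, ?_, hav⟩
  rw [hav, IsTv.smul_iff] at h1
  have h2 := hT.param_eq hF h1 hv
  have h3 : c * (a * a ^ q - 1) = 0 := by linear_combination -h2
  rcases mul_eq_zero.mp h3 with h4 | h4
  · exact absurd h4 hc
  · exact sub_eq_zero.mp h4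

theorem conj_eq_of_smv {A T : Cfsg.SU n F q} {v : Fin n → F} {c ζ : F} (hT : IsTv T v c)
    (hζ : ζ * ζ ^ q = 1) (hA : (A ▹ v) = ζ • v) : A * T * A⁻¹ = T := by
  have h1 := hT.conj A
  rw [hA, IsTv.smul_iff, mul_assoc c ζ (ζ ^ q), hζ, mul_one] at h1
  exact h1.eq hT

theorem eichler_smul_left (hF : Fintype.card F = q ^ 2) (ζ : F) (u y : Fin n → F) (c : F) :
    eichler q (ζ • u) y c = eichler q u (ζ ^ q • y) (c * ζ * ζ ^ q) := by
  apply mat_ext_mulVec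
  intro x
  rw [eichler_mulVec, eichler_mulVec, hermForm_smul_right, hermForm_smul_right, frob_frob hF]
  module

/-! ### the centraliser of `Q(e)` -/

section Pair

variable {e f : Fin n → F}

theorem tv_mul_comm_Qg (hF : Fintype.card F = q ^ 2) (P : HypPair q e f) {T B : Cfsg.SU n F q}
    {κ : F} (hT : IsTv T e κ) (hB : B ∈ Qg q e) : B * T = T * B := by
  obtain ⟨y, c, hy, hc, hB⟩ := (mem_Qg_iff hF P).mp hB
  have hT' : IsEi T e 0 κ := (isEi_zero_iff hF).mpr hT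
  have h0 : ⟪(0 : Fin n → F), e⟫ = 0 := hermForm_zero_left _
  have h1 := hB.mul hF hT' P.hee hy.1 h0
  have h2 := hT'.mul hF hB P.hee h0 hy.1
  rw [hermForm_zero_left, add_zero, sub_zero] at h1
  rw [hermForm_zero_right hF, zero_add, sub_zero, add_comm κ c] at h2
  exact h1.eq h2

/-- the centraliser of `Q(e)` in `SU` consists of scalar multiples of transvections -/
theorem centralizer_Qg (hF : Fintype.card F = q ^ 2) (P : HypPair q e f) {A : Cfsg.SU n F q}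
    (hA : ∀ B ∈ Qg q e, A * B = B * A) :
    ∃ ζ c : F, ζ * ζ ^ q = 1 ∧ c + c ^ q = 0 ∧ ∀ x, (A ▹ x) = ζ • (x + (c * ⟪x, e⟫) • e) := by
  -- step 1: `A e = ζ e`
  obtain ⟨κ, hκ0, hκ⟩ := Cfsg.Agent.Helper5.exists_trace_zero hF
  have hκ' : κ + κ ^ q = 0 := by rw [hκ]; ring
  have hT : IsTv (tvElt hF e κ P.hee hκ') e κ := rfl
  have hTQ : tvElt hF e κ P.hee hκ' ∈ Qg q e :=
    rootOf_le_Qg hF P (hT.mem_rootOf hF P.hee hκ')
  have hcT : A * tvElt hF e κ P.hee hκ' * A⁻¹ = tvElt hF e κ P.hee hκ' := by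
    rw [hA _ hTQ, mul_assoc, mul_inv_cancel, mul_one]
  obtain ⟨ζ, hζ, hAe⟩ := smv_of_commute_tv hF hT P.e_ne hκ0 hcT
  have hζ' : ζ ^ q * ζ = 1 := by rw [mul_comm]; exact hζ
  -- step 2: `A y = ζ y + t e` for `y ∈ W`
  have hAy : ∀ y, InW q e f y → ∃ t : F, (ζ ^ q • suMat A) *ᵥ y = y + t • e := by
    intro y hy
    obtain ⟨c, hc⟩ := exists_par hF y
    have hB : IsEi (eichlerElt hF e y c P.hee hy.1 hc) e y c := rfl
    have hBQ : eichlerElt hF e y c P.hee hy.1 hc ∈ Qg q e :=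
      (mem_Qg_iff hF P).mpr ⟨y, c, hy, hc, hB⟩
    have h1 := hB.conj A
    rw [hA _ hBQ, mul_assoc, mul_inv_cancel, mul_one, hAe] at h1
    unfold IsEi at h1
    rw [eichler_smul_left hF, mul_assoc, hζ, mul_one] at h1
    have h2 := congrArg (fun M => M *ᵥ f) (hB.symm.trans h1)
    simp only [eichler_mulVec, P.hfe hF, hy.fh hF, one_smul, zero_smul, sub_zero, mul_one] at h2
    refine ⟨⟪f, ζ ^ q • (A ▹ y)⟫, ?_⟩
    rw [Matrix.smul_mulVec]
    have h3 := congrArg (fun z => z - f - c • e) h2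
    have h4 : y = ζ ^ q • (A ▹ y) - ⟪f, ζ ^ q • (A ▹ y)⟫ • e := by
      have e1 : f + y + c • e - f - c • e = y := by abel
      have e2 : f + ζ ^ q • (A ▹ y) - ⟪f, ζ ^ q • (A ▹ y)⟫ • e + c • e - f - c • e =
          ζ ^ q • (A ▹ y) - ⟪f, ζ ^ q • (A ▹ y)⟫ • e := by abel
      rw [e1, e2] at h3
      exact h3
    rw [eq_sub_iff_add_eq] at h4
    exact h4.symm
  -- step 3: the matrix `ζ^q A` is an Eichler transformation
  have hMU : IsU q (ζ ^ q • suMat A) := by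
    intro x y
    rw [Matrix.smul_mulVec, Matrix.smul_mulVec, hermForm_smul_left, hermForm_smul_right,
      frob_frob hF, isU_suMat A x y, ← mul_assoc, hζ', one_mul]
  have hMe : (ζ ^ q • suMat A) *ᵥ e = e := by
    rw [Matrix.smul_mulVec, hAe, smul_smul, hζ', one_smul]
  obtain ⟨y₀, c₀, hy₀, hc₀, hM⟩ := eichler_of_fix hF P hMU hMe hAy
  -- step 4: `y₀ = 0`
  have hsym : ∀ y, InW q e f y → ⟪y, y₀⟫ = ⟪y₀, y⟫ := by
    intro y hy
    obtain ⟨c, hc⟩ := exists_par hF y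
    have hB : IsEi (eichlerElt hF e y c P.hee hy.1 hc) e y c := rfl
    have hBQ : eichlerElt hF e y c P.hee hy.1 hc ∈ Qg q e :=
      (mem_Qg_iff hF P).mpr ⟨y, c, hy, hc, hB⟩
    have h1 : suMat A * eichler q e y c = eichler q e y c * suMat A := by
      have := congrArg suMat (hA _ hBQ)
      rw [suMat_mul, suMat_mul, hB] at this
      exact this
    have h2 : (ζ ^ q • suMat A) * eichler q e y c = eichler q e y c * (ζ ^ q • suMat A) := by
      rw [Matrix.smul_mul, Matrix.mul_smul, h1]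
    rw [hM, eichler_mul hF c₀ c P.hee hy₀.1 hy.1, eichler_mul hF c c₀ P.hee hy.1 hy₀.1] at h2
    have h3 := congrArg (fun M => ⟪M *ᵥ f, f⟫) h2
    simp only [eichler_mulVec, P.hfe hF, (hy₀.add hy).fh hF, (hy.add hy₀).fh hF, one_smul,
      zero_smul, sub_zero, mul_one, hermForm_add_left, hermForm_smul_left, P.hff, P.hef,
      (hy₀.add hy).2, (hy.add hy₀).2] at h3
    linear_combination -h3
  have hy₀0 : y₀ = 0 := by
    apply eq_zero_of_inW' hF P hy₀
    intro y hy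
    obtain ⟨θ, hθ⟩ := exists_theta hF
    have h1 := hsym (θ • y) (hy.smul θ)
    rw [hermForm_smul_left, hermForm_smul_right, ← hsym y hy] at h1
    have h2 : (θ - θ ^ q) * ⟪y, y₀⟫ = 0 := by linear_combination h1
    rcases mul_eq_zero.mp h2 with h3 | h3
    · exact absurd (sub_eq_zero.mp h3).symm hθ
    · exact h3
  -- step 5
  rw [hy₀0, hermForm_zero_left, add_zero] at hc₀
  refine ⟨ζ, c₀, hζ, hc₀, fun x => ?_⟩
  have h1 : (A ▹ x) = ζ • ((ζ ^ q • suMat A) *ᵥ x) := by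
    rw [Matrix.smul_mulVec, smul_smul, hζ, one_smul]
  rw [h1, hM, hy₀0, eichler_zero_eq_tv hF, unitaryTransvection_mulVec]

/-- the image in `PSU` of an element centralising `Q(e)` lies in the root subgroup -/
theorem pr_mem_of_centralizer_Qg (hF : Fintype.card F = q ^ 2) (P : HypPair q e f)
    {A : Cfsg.SU n F q} (hA : ∀ B ∈ Qg q e, A * B = B * A) :
    (pr A : Cfsg.PSU n F q) ∈ (rootOf hF e P.hee).map pr := by
  obtain ⟨ζ, c, hζ, hc, hAx⟩ := centralizer_Qg hF P hA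
  have hT : IsTv (tvElt hF e c P.hee hc) e c := rfl
  refine ⟨tvElt hF e c P.hee hc, hT.mem_rootOf hF P.hee hc, ?_⟩
  symm
  rw [pr_eq_iff]
  apply mem_center_of_smv (ζ := ζ⁻¹)
  intro x
  have hζ0 : ζ ≠ 0 := by
    intro h0
    rw [h0, zero_mul] at hζ
    exact zero_ne_one hζ
  have h1 : (A ▹ ((A⁻¹ * tvElt hF e c P.hee hc) ▹ x)) = ζ • (((A⁻¹ * tvElt hF e c P.hee hc) ▹ x) +
      (c * ⟪(A⁻¹ * tvElt hF e c P.hee hc) ▹ x, e⟫) • e) := hAx _
  have h2 : ((tvElt hF e c P.hee hc)⁻¹ ▹ (A ▹ ((A⁻¹ * tvElt hF e c P.hee hc) ▹ x))) = x := by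
    rw [smv_mul, smv_smv_inv, smv_inv_smv]
  have h3 : ∀ z : Fin n → F, z + (c * ⟪z, e⟫) • e = (tvElt hF e c P.hee hc) ▹ z :=
    fun z => (hT.smv z).symm
  rw [h3] at h1
  rw [h1, smv_smul, smv_inv_smv] at h2
  have h4 : ((A⁻¹ * tvElt hF e c P.hee hc) ▹ x) =
      ζ⁻¹ • (ζ • ((A⁻¹ * tvElt hF e c P.hee hc) ▹ x)) := by
    rw [smul_smul, inv_mul_cancel₀ hζ0, one_smul]
  rw [h4, h2]

end Pair

end Cfsg.Agent.Helper37.AutU
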