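import Mathlib
import Cfsg.Agent.Helper37.AutUC

/-!
Helper37: automorphisms of `PSU_n(q)`.  Part D: root subgroups are `C(C(t))` for the Sylow-central
elements `t`, hence permuted by every automorphism.
-/

set_option autoImplicit false
set_option linter.unusedSectionVars false
set_option linter.unusedVariables false
set_option linter.style.haveILetI false

namespace Cfsg.Agent.Helper37.AutU

open Matrix Cfsg.Agent.Helper13

/-- the double centraliser of an element -/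
def zc {G : Type*} [Group G] (t : G) : Subgroup G :=
  Subgroup.centralizer (Subgroup.centralizer {t} : Set G)

theorem mem_zc {G : Type*} [Group G] {t z : G} :
    z ∈ zc t ↔ ∀ h : G, t * h = h * t → h * z = z * h := by
  unfold zc
  rw [Subgroup.mem_centralizer_iff]
  constructor
  · intro H h ht
    apply H h
    rw [SetLike.mem_coe, Subgroup.mem_centralizer_iff]
    intro t' ht'
    rw [Set.mem_singleton_iff] at ht'
    rw [ht']
    exact ht
  · intro H h hh
    apply H h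
    rw [SetLike.mem_coe, Subgroup.mem_centralizer_iff] at hh
    exact hh t rfl

theorem zc_map {G : Type*} [Group G] (β : G ≃* G) (t : G) :
    (zc t).map β.toMonoidHom = zc (β t) := by
  ext x
  rw [Subgroup.mem_map]
  constructor
  · rintro ⟨z, hz, rfl⟩
    rw [mem_zc] at hz ⊢
    intro h hh
    have h1 : t * β.symm h = β.symm h * t := by
      have := congrArg β.symm hh
      rwa [map_mul, map_mul, β.symm_apply_apply] at this
    have h2 := congrArg β (hz _ h1)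
    rwa [map_mul, map_mul, β.apply_symm_apply] at h2
  · intro hx
    refine ⟨β.symm x, ?_, β.apply_symm_apply x⟩
    rw [mem_zc] at hx ⊢
    intro h hh
    have h1 : β t * β h = β h * β t := by rw [← map_mul, ← map_mul, hh]
    have h2 := congrArg β.symm (hx _ h1)
    rwa [map_mul, map_mul, β.symm_apply_apply] at h2

/-- `t` lies in the centre of some Sylow `p`-subgroup -/
def IsSylC {G : Type*} [Group G] (p : ℕ) (t : G) : Prop :=
  ∃ P : Sylow p G, t ∈ (P : Subgroup G) ∧ ∀ x ∈ (P : Subgroup G), x * t = t * x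

theorem IsSylC.map {G : Type*} [Group G] {p : ℕ} {t : G} (h : IsSylC p t)
    (α : G ≃* G) : IsSylC p (α t) := by
  obtain ⟨P, htP, hc⟩ := h
  have hϕ : Function.Injective (α.symm.toMonoidHom : G →* G) := α.symm.injective
  have hr : (P : Subgroup G) ≤ (α.symm.toMonoidHom : G →* G).range := by
    intro x _
    exact ⟨α x, α.symm_apply_apply x⟩
  refine ⟨P.comapOfInjective α.symm.toMonoidHom hϕ hr, ?_, ?_⟩
  · rw [Sylow.coe_comapOfInjective, Subgroup.mem_comap]
    show α.symm (α t) ∈ (P : Subgroup G)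
    rw [α.symm_apply_apply]; exact htP
  · intro x hx
    rw [Sylow.coe_comapOfInjective, Subgroup.mem_comap] at hx
    have h1 := hc (α.symm x) hx
    have h2 := congrArg α h1
    rwa [map_mul, map_mul, α.apply_symm_apply] at h2

variable {F : Type*} [Field F] [Fintype F] {p r q n : ℕ}

local notation "⟪" x ", " y "⟫" => Cfsg.hermForm n F q x y
local notation:73 A:74 " ▹ " x:73 => (suMat A) *ᵥ x

section Pair

variable {e f : Fin n → F}

/-- an element of `PSU` commuting with the image of `Q(e)` lies in the root subgroup -/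
theorem mem_root_of_commute_Qg (H : Hyp F p r q n) (P : HypPair q e f) {z : Cfsg.PSU n F q}
    (hz : ∀ B ∈ Qg q e, z * pr B = pr B * z) : z ∈ (rootOf H.hF e P.hee).map pr := by
  obtain ⟨A, rfl⟩ := pr_surjective z
  apply pr_mem_of_centralizer_Qg H.hF P
  intro B hB
  have h1 : (pr (A * B * A⁻¹) : Cfsg.PSU n F q) = pr B := by
    rw [map_mul, map_mul, hz B hB, map_inv, mul_inv_cancel_right]
  have h2 : (A * B * A⁻¹) ^ (p ^ 2) = 1 := by
    rw [conj_pow, Qg_pow H P hB, mul_one, mul_inv_cancel]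
  have h3 := eq_of_pr_eq_of_pow H 2 h2 (Qg_pow H P hB) h1
  calc A * B = A * B * A⁻¹ * A := by group
    _ = B * A := by rw [h3]

/-- the double centraliser of a transvection in `PSU` is the root subgroup -/
theorem zc_pr_tv (H : Hyp F p r q n) (P : HypPair q e f) {T : Cfsg.SU n F q} {κ : F}
    (hT : IsTv T e κ) (hκ0 : κ ≠ 0) :
    zc (pr T : Cfsg.PSU n F q) = (rootOf H.hF e P.hee).map pr := by
  ext z
  constructor
  · intro hz
    rw [mem_zc] at hz
    apply mem_root_of_commute_Qg H P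
    intro B hB
    have h1 : (pr T : Cfsg.PSU n F q) * pr B = pr B * pr T := by
      rw [← map_mul, ← map_mul, tv_mul_comm_Qg H.hF P hT hB]
    exact (hz _ h1).symm
  · rintro ⟨T', ⟨c, hc, hT'⟩, rfl⟩
    rw [mem_zc]
    intro g hg
    obtain ⟨B, rfl⟩ := pr_surjective g
    have h1 : (pr (B * T * B⁻¹) : Cfsg.PSU n F q) = pr T := by
      rw [map_mul, map_mul, ← hg, map_inv, mul_inv_cancel_right]
    have h2 : T ^ (p ^ 1) = 1 := by rw [pow_one]; exact hT.pow_p H P.hee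
    have h3 : (B * T * B⁻¹) ^ (p ^ 1) = 1 := by
      rw [conj_pow, h2, mul_one, mul_inv_cancel]
    have h4 := eq_of_pr_eq_of_pow H 1 h3 h2 h1
    obtain ⟨ζ, hζ, hBe⟩ := smv_of_commute_tv H.hF hT P.e_ne hκ0 h4
    have h5 : B * T' * B⁻¹ = T' := conj_eq_of_smv (c := c) hT' hζ hBe
    have h6 : B * T' = T' * B := by
      calc B * T' = B * T' * B⁻¹ * B := by group
        _ = T' * B := by rw [h5]
    rw [← map_mul, ← map_mul, h6]

/-- a Sylow subgroup containing the image of `Q(e)` -/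
theorem exists_sylow_ge (H : Hyp F p r q n) (P : HypPair q e f) :
    ∃ S : Sylow p (Cfsg.PSU n F q), (Qg q e).map pr ≤ (S : Subgroup (Cfsg.PSU n F q)) := by
  haveI := Fact.mk H.hp
  apply IsPGroup.exists_le_sylow
  rintro ⟨g, hg⟩
  obtain ⟨B, hB, rfl⟩ := hg
  refine ⟨2, ?_⟩
  apply Subtype.ext
  show (pr B : Cfsg.PSU n F q) ^ (p ^ 2) = 1
  rw [← map_pow, Qg_pow H P hB, map_one]

theorem pr_tv_ne_one (H : Hyp F p r q n) {T : Cfsg.SU n F q} {v : Fin n → F} {κ : F}
    (hT : IsTv T v κ) (hv : ⟪v, v⟫ = 0) (hv0 : v ≠ 0) (hκ0 : κ ≠ 0) :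
    (pr T : Cfsg.PSU n F q) ≠ 1 := by
  intro h1
  have h2 : T ^ (p ^ 1) = 1 := by rw [pow_one]; exact hT.pow_p H hv
  have h3 : (1 : Cfsg.SU n F q) ^ (p ^ 1) = 1 := one_pow _
  have h4 := eq_of_pr_eq_of_pow H 1 h2 h3 (by rw [h1, map_one])
  exact hT.ne_one H.hF hv0 hκ0 h4

/-- a central element of a Sylow subgroup above `Q(e)` lies in the root subgroup -/
theorem sylow_central_mem_root (H : Hyp F p r q n) (P : HypPair q e f)
    {S : Sylow p (Cfsg.PSU n F q)} (hS : (Qg q e).map pr ≤ (S : Subgroup (Cfsg.PSU n F q)))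
    {z : Cfsg.PSU n F q} (hz : ∀ x ∈ (S : Subgroup (Cfsg.PSU n F q)), x * z = z * x) :
    z ∈ (rootOf H.hF e P.hee).map pr := by
  apply mem_root_of_commute_Qg H P
  intro B hB
  exact (hz _ (hS (Subgroup.mem_map_of_mem _ hB))).symm

/-- nontrivial Sylow-central transvections exist -/
theorem exists_sylC (H : Hyp F p r q n) (P : HypPair q e f) :
    ∃ (T : Cfsg.SU n F q) (κ : F), IsTv T e κ ∧ κ ≠ 0 ∧ κ + κ ^ q = 0 ∧
      IsSylC p (pr T : Cfsg.PSU n F q) := by
  haveI := Fact.mk H.hp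
  obtain ⟨S, hS⟩ := exists_sylow_ge H P
  obtain ⟨κ₀, hκ₀0, hκ₀⟩ := Cfsg.Agent.Helper5.exists_trace_zero H.hF
  have hκ₀' : κ₀ + κ₀ ^ q = 0 := by rw [hκ₀]; ring
  have hT₀ : IsTv (tvElt H.hF e κ₀ P.hee hκ₀') e κ₀ := rfl
  have hT₀S : (pr (tvElt H.hF e κ₀ P.hee hκ₀') : Cfsg.PSU n F q) ∈
      (S : Subgroup (Cfsg.PSU n F q)) :=
    hS (Subgroup.mem_map_of_mem _ (rootOf_le_Qg H.hF P (hT₀.mem_rootOf H.hF P.hee hκ₀')))
  haveI : Nontrivial ↥(S : Subgroup (Cfsg.PSU n F q)) := by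
    refine ⟨⟨⟨_, hT₀S⟩, 1, ?_⟩⟩
    intro h
    exact pr_tv_ne_one H hT₀ P.hee P.e_ne hκ₀0 (congrArg Subtype.val h)
  haveI := IsPGroup.center_nontrivial S.isPGroup'
  obtain ⟨⟨⟨z, hzS⟩, hz⟩, hz1⟩ :=
    exists_ne (1 : Subgroup.center ↥(S : Subgroup (Cfsg.PSU n F q)))
  have hzc : ∀ x ∈ (S : Subgroup (Cfsg.PSU n F q)), x * z = z * x := by
    intro x hx
    have := Subgroup.mem_center_iff.mp hz ⟨x, hx⟩
    exact congrArg Subtype.val this
  obtain ⟨T, ⟨c, hc, hT⟩, hTz⟩ := sylow_central_mem_root H P hS hzc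
  have hT' : IsTv T e c := hT
  refine ⟨T, c, hT', ?_, hc, ⟨S, ?_, ?_⟩⟩
  · intro hc0
    rw [hc0] at hT'
    have : T = 1 := hT'.eq (isTv_one e)
    apply hz1
    apply Subtype.ext
    apply Subtype.ext
    show z = 1
    rw [← hTz, this, map_one]
  · rw [hTz]; exact hzS
  · rw [hTz]; exact hzc

/-- every nontrivial Sylow-central element lies in a root subgroup -/
theorem sylC_mem_root (H : Hyp F p r q n) (P : HypPair q e f) {s : Cfsg.PSU n F q}
    (hs : IsSylC p s) :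
    ∃ v : Fin n → F, v ≠ 0 ∧ ∃ hv : ⟪v, v⟫ = 0, s ∈ (rootOf H.hF v hv).map pr := by
  haveI := Fact.mk H.hp
  obtain ⟨S, hS⟩ := exists_sylow_ge H P
  obtain ⟨S', hsS', hsc⟩ := hs
  obtain ⟨g, hg⟩ := MulAction.exists_smul_eq (Cfsg.PSU n F q) S S'
  obtain ⟨A, rfl⟩ := pr_surjective g
  have hmem : ∀ x : Cfsg.PSU n F q, x ∈ (S' : Subgroup (Cfsg.PSU n F q)) ↔
      (pr A)⁻¹ * x * pr A ∈ (S : Subgroup (Cfsg.PSU n F q)) := by
    intro x
    rw [← hg, Sylow.coe_subgroup_smul, Subgroup.mem_pointwise_smul_iff_inv_smul_mem]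
    simp [MulAut.smul_def, MulAut.conj_inv_apply]
  have hz : ∀ x ∈ (S : Subgroup (Cfsg.PSU n F q)),
      x * ((pr A)⁻¹ * s * pr A) = ((pr A)⁻¹ * s * pr A) * x := by
    intro x hx
    have h1 : pr A * x * (pr A)⁻¹ ∈ (S' : Subgroup (Cfsg.PSU n F q)) := by
      rw [hmem]
      convert hx using 1
      group
    have h2 := hsc _ h1
    calc x * ((pr A)⁻¹ * s * pr A) = (pr A)⁻¹ * (pr A * x * (pr A)⁻¹ * s) * pr A := by group
      _ = (pr A)⁻¹ * (s * (pr A * x * (pr A)⁻¹)) * pr A := by rw [h2]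
      _ = ((pr A)⁻¹ * s * pr A) * x := by group
  obtain ⟨T, ⟨c, hc, hT⟩, hTz⟩ := sylow_central_mem_root H P hS hz
  have hT' : IsTv T e c := hT
  have hAe0 : (A ▹ e) ≠ 0 := suMat_mulVec_ne_zero A P.e_ne
  have hAe : ⟪A ▹ e, A ▹ e⟫ = 0 := by rw [herm_smv, P.hee]
  refine ⟨A ▹ e, hAe0, hAe, A * T * A⁻¹, ⟨c, hc, hT'.conj A⟩, ?_⟩
  rw [map_mul, map_mul, hTz, map_inv]
  group

end Pair

/-- `S` is the image in `PSU` of a root subgroup -/
def IsRootSub (hF : Fintype.card F = q ^ 2) (S : Subgroup (Cfsg.PSU n F q)) : Prop :=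
  ∃ v : Fin n → F, v ≠ 0 ∧ ∃ hv : ⟪v, v⟫ = 0, S = (rootOf hF v hv).map pr

/-- automorphisms permute the root subgroups -/
theorem isRootSub_map (H : Hyp F p r q n) (β : Cfsg.PSU n F q ≃* Cfsg.PSU n F q)
    {S : Subgroup (Cfsg.PSU n F q)} (hS : IsRootSub H.hF S) :
    IsRootSub H.hF (S.map β.toMonoidHom) := by
  obtain ⟨v, hv0, hv, rfl⟩ := hS
  obtain ⟨f, hff, hvf⟩ := exists_hyperbolic_partner H.hF v hv0 hv
  have P : HypPair q v f := ⟨hv, hff, hvf⟩
  obtain ⟨T, κ, hT, hκ0, hκ, hsyl⟩ := exists_sylC H P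
  have h1 := zc_pr_tv H P hT hκ0
  have h2 := hsyl.map β
  obtain ⟨v', hv'0, hv', hmem⟩ := sylC_mem_root H P h2
  obtain ⟨T', ⟨c', hc', hT'⟩, hTT'⟩ := hmem
  have hT'' : IsTv T' v' c' := hT'
  obtain ⟨f', hf'f', hv'f'⟩ := exists_hyperbolic_partner H.hF v' hv'0 hv'
  have P' : HypPair q v' f' := ⟨hv', hf'f', hv'f'⟩
  have hc'0 : c' ≠ 0 := by
    intro h0
    rw [h0] at hT''
    have h3 : T' = 1 := hT''.eq (isTv_one v')
    rw [h3, map_one] at hTT'
    have h4 : (pr T : Cfsg.PSU n F q) = 1 := by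
      have := congrArg β.symm hTT'
      rw [β.symm_apply_apply, map_one] at this
      exact this.symm
    exact pr_tv_ne_one H hT hv hv0 hκ0 h4
  have h3 := zc_pr_tv H P' hT'' hc'0
  refine ⟨v', hv'0, hv', ?_⟩
  rw [← h1, zc_map, ← hTT', h3]

end Cfsg.Agent.Helper37.AutU
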