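import Mathlib
import Cfsg.Agent.Helper37.AutUD

/-!
Helper37: automorphisms of `PSU_n(q)`.  Part E: the standard automorphisms `A ↦ g σ(A) g⁻¹`
(`g` general unitary, `σ` a field automorphism) of `SU` and `PSU`, and their effect on
transvections and Eichler transformations.
-/

set_option autoImplicit false
set_option linter.unusedSectionVars false
set_option linter.unusedVariables false
set_option linter.style.haveILetI false

namespace Cfsg.Agent.Helper37.AutU

open Matrix Cfsg.Agent.Helper13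

variable {F : Type*} [Field F] [Fintype F] {p r q n : ℕ}

local notation "⟪" x ", " y "⟫" => Cfsg.hermForm n F q x y
local notation:73 A:74 " ▹ " x:73 => (suMat A) *ᵥ x

/-- the matrix of an element of `GU` -/
abbrev gm (g : Cfsg.GU n F q) : Matrix (Fin n) (Fin n) F :=
  ((g : GL (Fin n) F) : Matrix (Fin n) (Fin n) F)

theorem gm_mul (g h : Cfsg.GU n F q) : gm (g * h) = gm g * gm h := rfl

theorem gm_one : gm (1 : Cfsg.GU n F q) = 1 := rfl

theorem gm_mul_inv (g : Cfsg.GU n F q) : gm g * gm g⁻¹ = 1 := by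
  have := Units.mul_inv (g : GL (Fin n) F)
  exact this

theorem gm_inv_mul (g : Cfsg.GU n F q) : gm g⁻¹ * gm g = 1 := by
  have := Units.inv_mul (g : GL (Fin n) F)
  exact this

theorem isU_gm (g : Cfsg.GU n F q) : IsU q (gm g) := fun u v => GU_preserves g u v

/-- the semilinear map `x ↦ M σ(x)` -/
def semi (M : Matrix (Fin n) (Fin n) F) (σ : F ≃+* F) (x : Fin n → F) : Fin n → F :=
  M *ᵥ (fun i => σ (x i))

theorem semi_add (M : Matrix (Fin n) (Fin n) F) (σ : F ≃+* F) (x y : Fin n → F) :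
    semi M σ (x + y) = semi M σ x + semi M σ y := by
  unfold semi
  rw [← Matrix.mulVec_add]
  congr 1
  ext i
  simp

theorem semi_smul (M : Matrix (Fin n) (Fin n) F) (σ : F ≃+* F) (c : F) (x : Fin n → F) :
    semi M σ (c • x) = σ c • semi M σ x := by
  unfold semi
  rw [← Matrix.mulVec_smul]
  congr 1
  ext i
  simp

theorem semi_zero (M : Matrix (Fin n) (Fin n) F) (σ : F ≃+* F) : semi M σ 0 = 0 := by
  unfold semi
  have : (fun i => σ ((0 : Fin n → F) i)) = 0 := by
    ext i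
    simp
  rw [this, Matrix.mulVec_zero]

theorem semi_neg (M : Matrix (Fin n) (Fin n) F) (σ : F ≃+* F) (x : Fin n → F) :
    semi M σ (-x) = -semi M σ x := by
  have := semi_smul M σ (-1) x
  simpa using this

theorem semi_sub (M : Matrix (Fin n) (Fin n) F) (σ : F ≃+* F) (x y : Fin n → F) :
    semi M σ (x - y) = semi M σ x - semi M σ y := by
  rw [sub_eq_add_neg, semi_add, semi_neg, ← sub_eq_add_neg]

theorem herm_map (σ : F ≃+* F) (x y : Fin n → F) :
    ⟪(fun i => σ (x i)), (fun i => σ (y i))⟫ = σ ⟪x, y⟫ := by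
  simp only [Cfsg.hermForm, map_sum, map_mul, map_pow]

theorem herm_semi {M : Matrix (Fin n) (Fin n) F} (hM : IsU q M) (σ : F ≃+* F)
    (x y : Fin n → F) : ⟪semi M σ x, semi M σ y⟫ = σ ⟪x, y⟫ := by
  unfold semi
  rw [hM, herm_map]

theorem map_mulVec_map (A : Matrix (Fin n) (Fin n) F) (σ : F ≃+* F) (x : Fin n → F) :
    (A.map σ) *ᵥ (fun i => σ (x i)) = fun i => σ ((A *ᵥ x) i) := by
  ext i
  have := RingHom.map_mulVec (σ : F →+* F) A x i
  exact this.symm

theorem isU_map {A : Matrix (Fin n) (Fin n) F} (hA : IsU q A) (σ : F ≃+* F) :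
    IsU q (A.map σ) := by
  intro x y
  have hx : x = fun i => σ (σ.symm (x i)) := by ext i; simp
  have hy : y = fun i => σ (σ.symm (y i)) := by ext i; simp
  rw [hx, hy, map_mulVec_map, map_mulVec_map, herm_map, herm_map, hA]

theorem semi_surjective (g : Cfsg.GU n F q) (σ : F ≃+* F) (x : Fin n → F) :
    ∃ x', semi (gm g) σ x' = x := by
  refine ⟨fun i => σ.symm ((gm g⁻¹ *ᵥ x) i), ?_⟩
  unfold semi
  have : (fun i => σ (σ.symm ((gm g⁻¹ *ᵥ x) i))) = gm g⁻¹ *ᵥ x := by ext i; simp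
  rw [this, Matrix.mulVec_mulVec, gm_mul_inv, Matrix.one_mulVec]

theorem semi_injective (g : Cfsg.GU n F q) (σ : F ≃+* F) {x y : Fin n → F}
    (h : semi (gm g) σ x = semi (gm g) σ y) : x = y := by
  unfold semi at h
  have h1 := congrArg (fun z => gm g⁻¹ *ᵥ z) h
  simp only [Matrix.mulVec_mulVec, gm_inv_mul, Matrix.one_mulVec] at h1
  ext i
  have := congrFun h1 i
  exact σ.injective this

/-- the standard map on matrices -/
def stdFun (g : Cfsg.GU n F q) (σ : F ≃+* F) (A : Cfsg.SU n F q) : Cfsg.SU n F q :=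
  ⟨⟨gm g * (suMat A).map σ * gm g⁻¹, by
    rw [Matrix.det_mul, Matrix.det_mul, mul_right_comm, ← Matrix.det_mul, gm_mul_inv,
      Matrix.det_one, one_mul]
    have h1 := RingHom.map_det (σ : F →+* F) (suMat A)
    rw [det_suMat, map_one, RingHom.mapMatrix_apply] at h1
    exact h1.symm⟩, by
    show IsU q (gm g * (suMat A).map σ * gm g⁻¹)
    exact ((isU_gm g).mul (isU_map (isU_suMat A) σ)).mul (isU_gm g⁻¹)⟩

theorem suMat_stdFun (g : Cfsg.GU n F q) (σ : F ≃+* F) (A : Cfsg.SU n F q) :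
    suMat (stdFun g σ A) = gm g * (suMat A).map σ * gm g⁻¹ := rfl

theorem stdFun_mul (g : Cfsg.GU n F q) (σ : F ≃+* F) (A B : Cfsg.SU n F q) :
    stdFun g σ (A * B) = stdFun g σ A * stdFun g σ B := by
  apply suMat_injective
  rw [suMat_mul, suMat_stdFun, suMat_stdFun, suMat_stdFun, suMat_mul, Matrix.map_mul]
  have h : gm g * (suMat A).map σ * gm g⁻¹ * (gm g * (suMat B).map σ * gm g⁻¹) =
      gm g * (suMat A).map σ * (gm g⁻¹ * gm g) * (suMat B).map σ * gm g⁻¹ := by
    simp only [Matrix.mul_assoc]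
  rw [h, gm_inv_mul, Matrix.mul_one]
  simp only [Matrix.mul_assoc]

theorem stdFun_injective (g : Cfsg.GU n F q) (σ : F ≃+* F) :
    Function.Injective (stdFun (n := n) (q := q) g σ) := by
  intro A B h
  have h1 := congrArg suMat h
  rw [suMat_stdFun, suMat_stdFun] at h1
  have h2 := congrArg (fun M => gm g⁻¹ * M * gm g) h1
  have e : ∀ X : Matrix (Fin n) (Fin n) F, gm g⁻¹ * (gm g * X * gm g⁻¹) * gm g = X := by
    intro X
    calc gm g⁻¹ * (gm g * X * gm g⁻¹) * gm g = (gm g⁻¹ * gm g) * X * (gm g⁻¹ * gm g) := by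
          simp only [Matrix.mul_assoc]
      _ = X := by rw [gm_inv_mul, Matrix.one_mul, Matrix.mul_one]
  rw [e, e] at h2
  apply suMat_injective
  exact Matrix.map_injective σ.injective h2

/-- the standard automorphism of `SU` -/
noncomputable def stdSU (g : Cfsg.GU n F q) (σ : F ≃+* F) : Cfsg.SU n F q ≃* Cfsg.SU n F q :=
  MulEquiv.ofBijective (MonoidHom.mk' (stdFun g σ) (stdFun_mul g σ))
    ⟨stdFun_injective g σ, Finite.injective_iff_surjective.mp (stdFun_injective g σ)⟩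

theorem stdSU_apply (g : Cfsg.GU n F q) (σ : F ≃+* F) (A : Cfsg.SU n F q) :
    stdSU g σ A = stdFun g σ A := rfl

theorem suMat_stdSU (g : Cfsg.GU n F q) (σ : F ≃+* F) (A : Cfsg.SU n F q) :
    suMat (stdSU g σ A) = gm g * (suMat A).map σ * gm g⁻¹ := rfl

/-- the basic equivariance -/
theorem stdSU_smv (g : Cfsg.GU n F q) (σ : F ≃+* F) (A : Cfsg.SU n F q) (x : Fin n → F) :
    ((stdSU g σ A) ▹ (semi (gm g) σ x)) = semi (gm g) σ (A ▹ x) := by
  rw [suMat_stdSU]
  unfold semi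
  rw [Matrix.mulVec_mulVec, Matrix.mul_assoc, Matrix.mul_assoc, gm_inv_mul, Matrix.mul_one,
    ← Matrix.mulVec_mulVec, map_mulVec_map]

theorem IsTv.std {A : Cfsg.SU n F q} {v : Fin n → F} {c : F} (hA : IsTv A v c)
    (g : Cfsg.GU n F q) (σ : F ≃+* F) : IsTv (stdSU g σ A) (semi (gm g) σ v) (σ c) := by
  apply isTv_of_smv
  intro x
  obtain ⟨x', rfl⟩ := semi_surjective g σ x
  rw [stdSU_smv, hA.smv, semi_add, semi_smul, herm_semi (isU_gm g), map_mul]

theorem IsEi.std {A : Cfsg.SU n F q} {u y : Fin n → F} {c : F} (hA : IsEi A u y c)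
    (g : Cfsg.GU n F q) (σ : F ≃+* F) :
    IsEi (stdSU g σ A) (semi (gm g) σ u) (semi (gm g) σ y) (σ c) := by
  apply isEi_of_smv
  intro x
  obtain ⟨x', rfl⟩ := semi_surjective g σ x
  rw [stdSU_smv, hA.smv, semi_add, semi_sub, semi_add, semi_smul, semi_smul, semi_smul,
    herm_semi (isU_gm g), herm_semi (isU_gm g), map_mul]

/-! ### descent to `PSU` -/

theorem map_center_aut {G : Type*} [Group G] (e : G ≃* G) :
    Subgroup.map (e : G →* G) (Subgroup.center G) = Subgroup.center G := by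
  ext x
  constructor
  · rintro ⟨z, hz, rfl⟩
    have hz : z ∈ Subgroup.center G := hz
    rw [Subgroup.mem_center_iff] at hz ⊢
    intro h
    have := hz (e.symm h)
    have h2 := congrArg e this
    simpa using h2
  · intro hx
    refine ⟨e.symm x, ?_, by simp⟩
    show e.symm x ∈ Subgroup.center G
    rw [Subgroup.mem_center_iff] at hx ⊢
    intro g
    have := hx (e g)
    apply e.injective
    simpa using this

/-- the standard automorphism of `PSU` -/
noncomputable def pstd (g : Cfsg.GU n F q) (σ : F ≃+* F) : Cfsg.PSU n F q ≃* Cfsg.PSU n F q :=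
  QuotientGroup.congr (Subgroup.center (Cfsg.SU n F q)) (Subgroup.center (Cfsg.SU n F q))
    (stdSU g σ) (map_center_aut _)

theorem pstd_pr (g : Cfsg.GU n F q) (σ : F ≃+* F) (A : Cfsg.SU n F q) :
    pstd g σ (pr A) = pr (stdSU g σ A) :=
  QuotientGroup.congr_mk _ _ _ _ A

/-- an element of `SU` as an element of `GU` -/
def suGU (A : Cfsg.SU n F q) : Cfsg.GU n F q :=
  ⟨Matrix.SpecialLinearGroup.toGL (A : Matrix.SpecialLinearGroup (Fin n) F), fun u v => A.2 u v⟩

theorem gm_suGU (A : Cfsg.SU n F q) : gm (suGU A) = suMat A := rfl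

theorem gm_suGU_inv (A : Cfsg.SU n F q) : gm (suGU A)⁻¹ = suMat A⁻¹ := by
  have h1 : gm (suGU A)⁻¹ * gm (suGU A) = 1 := gm_inv_mul _
  have h2 : suMat A⁻¹ * suMat A = 1 := suMat_inv_mul A
  rw [gm_suGU] at h1
  calc gm (suGU A)⁻¹ = gm (suGU A)⁻¹ * (suMat A * suMat A⁻¹) := by
        rw [suMat_mul_inv, Matrix.mul_one]
    _ = suMat A⁻¹ := by rw [← Matrix.mul_assoc, h1, Matrix.one_mul]

theorem map_refl (X : Matrix (Fin n) (Fin n) F) : X.map (RingEquiv.refl F) = X := by
  ext i j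
  simp

theorem stdSU_suGU (A B : Cfsg.SU n F q) : stdSU (suGU A) (RingEquiv.refl F) B = A * B * A⁻¹ := by
  apply suMat_injective
  rw [suMat_stdSU, gm_suGU, gm_suGU_inv, map_refl]
  rfl

theorem pstd_suGU (A : Cfsg.SU n F q) (x : Cfsg.PSU n F q) :
    pstd (suGU A) (RingEquiv.refl F) x = pr A * x * (pr A)⁻¹ := by
  obtain ⟨B, rfl⟩ := pr_surjective x
  rw [pstd_pr, stdSU_suGU, map_mul, map_mul, map_inv]

theorem stdSU_comp (g g' : Cfsg.GU n F q) (σ : F ≃+* F) (A : Cfsg.SU n F q) :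
    stdSU g (RingEquiv.refl F) (stdSU g' σ A) = stdSU (g * g') σ A := by
  apply suMat_injective
  rw [suMat_stdSU, suMat_stdSU, suMat_stdSU, map_refl, _root_.mul_inv_rev, gm_mul, gm_mul]
  simp only [Matrix.mul_assoc]

theorem pstd_comp (g g' : Cfsg.GU n F q) (σ : F ≃+* F) (x : Cfsg.PSU n F q) :
    pstd g (RingEquiv.refl F) (pstd g' σ x) = pstd (g * g') σ x := by
  obtain ⟨A, rfl⟩ := pr_surjective x
  rw [pstd_pr, pstd_pr, pstd_pr, stdSU_comp]

end Cfsg.Agent.Helper37.AutU
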