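import Mathlib
import Cfsg.Agent.Helper37.AutUE

/-!
Helper37: automorphisms of `PSU_n(q)`.  Part F: root subgroups of `PSU` as predicates, commuting
versus orthogonality, normalisation of an automorphism at a hyperbolic pair, the Weyl relation.
-/

set_option autoImplicit false
set_option linter.unusedSectionVars false
set_option linter.unusedVariables false
set_option linter.style.haveILetI false

namespace Cfsg.Agent.Helper37.AutU

open Matrix Cfsg.Agent.Helper13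

variable {F : Type*} [Field F] [Fintype F] {p r q n : ℕ}

local notation "⟪" x ", " y "⟫" => Cfsg.hermForm n F q x y
local notation:73 A:74 " ▹ " x:73 => (suMat A) *ᵥ x

/-- `x` lies in the image of the root subgroup of `v` -/
def InX (q : ℕ) (v : Fin n → F) (x : Cfsg.PSU n F q) : Prop :=
  ∃ (T : Cfsg.SU n F q) (c : F), c + c ^ q = 0 ∧ IsTv T v c ∧ pr T = x

theorem inX_iff_mem (hF : Fintype.card F = q ^ 2) {v : Fin n → F} (hv : ⟪v, v⟫ = 0)
    {x : Cfsg.PSU n F q} : InX q v x ↔ x ∈ (rootOf hF v hv).map pr := by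
  constructor
  · rintro ⟨T, c, hc, hT, rfl⟩
    exact ⟨T, ⟨c, hc, hT⟩, rfl⟩
  · rintro ⟨T, ⟨c, hc, hT⟩, rfl⟩
    exact ⟨T, c, hc, hT, rfl⟩

theorem inX_one (hF : Fintype.card F = q ^ 2) (v : Fin n → F) : InX q v (1 : Cfsg.PSU n F q) :=
  ⟨1, 0, by rw [zero_pow (by have := two_le_of_card_eq_sq hF; omega), add_zero], isTv_one v,
    map_one _⟩

theorem InX.smul_iff (hF : Fintype.card F = q ^ 2) {v : Fin n → F} {a : F} (ha : a ≠ 0)
    {x : Cfsg.PSU n F q} : InX q (a • v) x ↔ InX q v x := by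
  have haq : a ^ q ≠ 0 := pow_ne_zero q ha
  constructor
  · rintro ⟨T, c, hc, hT, rfl⟩
    refine ⟨T, c * a * a ^ q, ?_, IsTv.smul_iff.mp hT, rfl⟩
    rw [mul_pow, mul_pow, frob_frob hF]
    linear_combination (a * a ^ q) * hc
  · rintro ⟨T, c, hc, hT, rfl⟩
    refine ⟨T, c * (a * a ^ q)⁻¹, ?_, ?_, rfl⟩
    · rw [mul_pow, inv_pow, mul_pow, frob_frob hF]
      field_simp
      linear_combination hc
    · rw [IsTv.smul_iff]
      have : c * (a * a ^ q)⁻¹ * a * a ^ q = c := by field_simp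
      rw [this]
      exact hT

theorem InX.conj {v : Fin n → F} {x : Cfsg.PSU n F q} (h : InX q v x) (A : Cfsg.SU n F q) :
    InX q (A ▹ v) (pr A * x * (pr A)⁻¹) := by
  obtain ⟨T, c, hc, hT, rfl⟩ := h
  exact ⟨A * T * A⁻¹, c, hc, hT.conj A, by rw [map_mul, map_mul, map_inv]⟩

theorem InX.conj_iff {v : Fin n → F} {x : Cfsg.PSU n F q} (A : Cfsg.SU n F q) :
    InX q (A ▹ v) (pr A * x * (pr A)⁻¹) ↔ InX q v x := by
  constructor
  · intro h
    have := h.conj A⁻¹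
    rw [smv_inv_smv] at this
    convert this using 1
    rw [map_inv]
    group
  · intro h
    exact h.conj A

/-- uniqueness of the lift of an element of a root subgroup -/
theorem InX.lift_unique (H : Hyp F p r q n) {v v' : Fin n → F} (hv : ⟪v, v⟫ = 0)
    (hv' : ⟪v', v'⟫ = 0) {T T' : Cfsg.SU n F q} {c c' : F} (hT : IsTv T v c)
    (hT' : IsTv T' v' c') (h : (pr T : Cfsg.PSU n F q) = pr T') : T = T' := by
  have h2 : T ^ (p ^ 1) = 1 := by rw [pow_one]; exact hT.pow_p H hv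
  have h3 : T' ^ (p ^ 1) = 1 := by rw [pow_one]; exact hT'.pow_p H hv'
  exact eq_of_pr_eq_of_pow H 1 h2 h3 h

/-- two root subgroups sharing a nontrivial element have proportional centres -/
theorem InX.center (H : Hyp F p r q n) {v v' : Fin n → F} (hv : ⟪v, v⟫ = 0)
    (hv' : ⟪v', v'⟫ = 0) (hv0 : v ≠ 0) {x : Cfsg.PSU n F q} (hx : InX q v x) (hx' : InX q v' x)
    (hx1 : x ≠ 1) : ∃ a : F, a ≠ 0 ∧ v' = a • v := by
  obtain ⟨T, c, hc, hT, rfl⟩ := hx
  obtain ⟨T', c', hc', hT', hTT'⟩ := hx'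
  have h1 := InX.lift_unique H hv' hv hT' hT hTT'
  rw [h1] at hT'
  have hc0 : c ≠ 0 := by
    intro h0
    rw [h0] at hT
    apply hx1
    rw [hT.eq (isTv_one v), map_one]
  exact hT.center_eq H.hF hT' hv0 hc0

/-- `β` maps the root subgroup of `v` onto that of `v'` -/
def MapsX (β : Cfsg.PSU n F q ≃* Cfsg.PSU n F q) (v v' : Fin n → F) : Prop :=
  ∀ x, InX q v x ↔ InX q v' (β x)

theorem exists_mapsX (H : Hyp F p r q n) (β : Cfsg.PSU n F q ≃* Cfsg.PSU n F q)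
    {v : Fin n → F} (hv0 : v ≠ 0) (hv : ⟪v, v⟫ = 0) :
    ∃ v' : Fin n → F, v' ≠ 0 ∧ ⟪v', v'⟫ = 0 ∧ MapsX β v v' := by
  obtain ⟨v', hv'0, hv', h⟩ := isRootSub_map H β ⟨v, hv0, hv, rfl⟩
  refine ⟨v', hv'0, hv', fun x => ?_⟩
  rw [inX_iff_mem H.hF hv, inX_iff_mem H.hF hv', ← h]
  constructor
  · intro hx
    exact Subgroup.mem_map_of_mem _ hx
  · rintro ⟨y, hy, hyx⟩
    have : y = x := β.injective hyx
    rw [← this]
    exact hy

/-! ### commuting and orthogonality -/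

theorem commute_of_orth (hF : Fintype.card F = q ^ 2) {A B : Cfsg.SU n F q} {a b : Fin n → F}
    {c c' : F} (hA : IsTv A a c) (hB : IsTv B b c') (hab : ⟪a, b⟫ = 0) : A * B = B * A := by
  have hba : ⟪b, a⟫ = 0 := hermForm_eq_zero_symm hF hab
  apply su_ext
  intro x
  rw [smv_mul, smv_mul, hB.smv x, hA.smv x, hA.smv, hB.smv]
  simp only [hermForm_add_left, hermForm_smul_left, hab, hba, mul_zero, add_zero]
  abel

theorem orth_of_commute (hF : Fintype.card F = q ^ 2) {A B : Cfsg.SU n F q} {a b : Fin n → F}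
    {c c' : F} (hA : IsTv A a c) (hB : IsTv B b c') (hc : c ≠ 0) (hc' : c' ≠ 0) (hb0 : b ≠ 0)
    (hbb : ⟪b, b⟫ = 0) (h : A * B = B * A) : ⟪a, b⟫ = 0 := by
  have h1 : ((A * B) ▹ b) = ((B * A) ▹ b) := by rw [h]
  rw [smv_mul, smv_mul, hB.smv, hA.smv, hbb, mul_zero, zero_smul, add_zero, hA.smv, smv_add,
    smv_smul, hB.smv, hB.smv, hbb, mul_zero, zero_smul, add_zero] at h1
  have h2 : (c * ⟪b, a⟫ * (c' * ⟪a, b⟫)) • b = 0 := by
    have h3 : b + (c * ⟪b, a⟫) • a = b + (c * ⟪b, a⟫) • (a + (c' * ⟪a, b⟫) • b) := h1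
    rw [smul_add, smul_smul] at h3
    have h4 := add_left_cancel h3
    have h5 : (c * ⟪b, a⟫) • a + (c * ⟪b, a⟫ * (c' * ⟪a, b⟫)) • b = (c * ⟪b, a⟫) • a + 0 := by
      rw [add_zero]; exact h4.symm
    exact add_left_cancel h5
  rcases smul_eq_zero.mp h2 with h3 | h3
  · have h4 : ⟪b, a⟫ * ⟪a, b⟫ = 0 := by
      have : c * c' * (⟪b, a⟫ * ⟪a, b⟫) = 0 := by linear_combination h3
      rcases mul_eq_zero.mp this with h5 | h5
      · exact absurd h5 (mul_ne_zero hc hc')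
      · exact h5
    rcases mul_eq_zero.mp h4 with h5 | h5
    · exact hermForm_eq_zero_symm hF h5
    · exact h5
  · exact absurd h3 hb0

/-- two subgroups (given as predicates) commute elementwise -/
def CommX (X Y : Cfsg.PSU n F q → Prop) : Prop := ∀ x y, X x → Y y → x * y = y * x

theorem commX_iff_orth (H : Hyp F p r q n) {a b : Fin n → F} (ha : ⟪a, a⟫ = 0) (hb : ⟪b, b⟫ = 0)
    (hb0 : b ≠ 0) : CommX (InX q a) (InX q b) ↔ ⟪a, b⟫ = 0 := by
  constructor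
  · intro h
    obtain ⟨κ, hκ0, hκ⟩ := Cfsg.Agent.Helper5.exists_trace_zero H.hF
    have hκ' : κ + κ ^ q = 0 := by rw [hκ]; ring
    have hA : IsTv (tvElt H.hF a κ ha hκ') a κ := rfl
    have hB : IsTv (tvElt H.hF b κ hb hκ') b κ := rfl
    have h1 := h _ _ ⟨_, κ, hκ', hA, rfl⟩ ⟨_, κ, hκ', hB, rfl⟩
    have h2 : (pr (tvElt H.hF a κ ha hκ' * tvElt H.hF b κ hb hκ' * (tvElt H.hF a κ ha hκ')⁻¹) :
        Cfsg.PSU n F q) = pr (tvElt H.hF b κ hb hκ') := by
      rw [map_mul, map_mul, h1, map_inv, mul_inv_cancel_right]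
    have hb' : ⟪(tvElt H.hF a κ ha hκ') ▹ b, (tvElt H.hF a κ ha hκ') ▹ b⟫ = 0 := by
      rw [herm_smv, hb]
    have h3 := InX.lift_unique H hb' hb (hB.conj (tvElt H.hF a κ ha hκ')) hB h2
    have h4 : tvElt H.hF a κ ha hκ' * tvElt H.hF b κ hb hκ' =
        tvElt H.hF b κ hb hκ' * tvElt H.hF a κ ha hκ' := by
      calc tvElt H.hF a κ ha hκ' * tvElt H.hF b κ hb hκ'
          = tvElt H.hF a κ ha hκ' * tvElt H.hF b κ hb hκ' * (tvElt H.hF a κ ha hκ')⁻¹ *
              tvElt H.hF a κ ha hκ' := by group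
        _ = _ := by rw [h3]
    exact orth_of_commute H.hF hA hB hκ0 hκ0 hb0 hb h4
  · rintro h x y ⟨T, c, hc, hT, rfl⟩ ⟨T', c', hc', hT', rfl⟩
    rw [← map_mul, ← map_mul, commute_of_orth H.hF hT hT' h]

theorem CommX.of_mapsX {β : Cfsg.PSU n F q ≃* Cfsg.PSU n F q} {a a' b b' : Fin n → F}
    (ha : MapsX β a a') (hb : MapsX β b b') (h : CommX (InX q a') (InX q b')) :
    CommX (InX q a) (InX q b) := by
  intro x y hx hy
  have := h _ _ ((ha x).mp hx) ((hb y).mp hy)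
  apply β.injective
  rw [map_mul, map_mul, this]

theorem CommX.to_mapsX {β : Cfsg.PSU n F q ≃* Cfsg.PSU n F q} {a a' b b' : Fin n → F}
    (ha : MapsX β a a') (hb : MapsX β b b') (h : CommX (InX q a) (InX q b)) :
    CommX (InX q a') (InX q b') := by
  intro x y hx hy
  have hx' : InX q a (β.symm x) := (ha _).mpr (by rw [β.apply_symm_apply]; exact hx)
  have hy' : InX q b (β.symm y) := (hb _).mpr (by rw [β.apply_symm_apply]; exact hy)
  have := congrArg β (h _ _ hx' hy')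
  rwa [map_mul, map_mul, β.apply_symm_apply, β.apply_symm_apply] at this

theorem orth_iff_of_mapsX (H : Hyp F p r q n) {β : Cfsg.PSU n F q ≃* Cfsg.PSU n F q}
    {a a' b b' : Fin n → F} (haa : ⟪a, a⟫ = 0) (hbb : ⟪b, b⟫ = 0) (hb0 : b ≠ 0)
    (ha'a' : ⟪a', a'⟫ = 0) (hb'b' : ⟪b', b'⟫ = 0) (hb'0 : b' ≠ 0)
    (ha : MapsX β a a') (hb : MapsX β b b') : ⟪a, b⟫ = 0 ↔ ⟪a', b'⟫ = 0 := by
  rw [← commX_iff_orth H haa hbb hb0, ← commX_iff_orth H ha'a' hb'b' hb'0]
  exact ⟨CommX.to_mapsX ha hb, CommX.of_mapsX ha hb⟩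

/-! ### normalisation -/

/-- the composite of `β` with the inner automorphism of `pr A` -/
noncomputable def innerComp (A : Cfsg.SU n F q) (β : Cfsg.PSU n F q ≃* Cfsg.PSU n F q) :
    Cfsg.PSU n F q ≃* Cfsg.PSU n F q :=
  β.trans (MulAut.conj (pr A))

theorem innerComp_apply (A : Cfsg.SU n F q) (β : Cfsg.PSU n F q ≃* Cfsg.PSU n F q)
    (x : Cfsg.PSU n F q) : innerComp A β x = pr A * β x * (pr A)⁻¹ := rfl

theorem MapsX.innerComp {β : Cfsg.PSU n F q ≃* Cfsg.PSU n F q} {v v' : Fin n → F}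
    (h : MapsX β v v') (A : Cfsg.SU n F q) : MapsX (innerComp A β) v (A ▹ v') := by
  intro x
  rw [innerComp_apply, InX.conj_iff]
  exact h x

theorem MapsX.smul_right (hF : Fintype.card F = q ^ 2) {β : Cfsg.PSU n F q ≃* Cfsg.PSU n F q}
    {v v' : Fin n → F} (h : MapsX β v v') {a : F} (ha : a ≠ 0) : MapsX β v (a • v') := by
  intro x
  rw [InX.smul_iff hF ha]
  exact h x

/-- every automorphism can be composed with an inner one so as to fix the root subgroups of a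
hyperbolic pair -/
theorem exists_normalize (H : Hyp F p r q n) {e f : Fin n → F} (P : HypPair q e f)
    (β : Cfsg.PSU n F q ≃* Cfsg.PSU n F q) :
    ∃ A : Cfsg.SU n F q, MapsX (innerComp A β) e e ∧ MapsX (innerComp A β) f f := by
  obtain ⟨e', he'0, he', hme⟩ := exists_mapsX H β P.e_ne P.hee
  obtain ⟨f', hf'0, hf', hmf⟩ := exists_mapsX H β (P.f_ne H.hF) P.hff
  have hne : ⟪e', f'⟫ ≠ 0 := by
    intro h0
    have := (orth_iff_of_mapsX H P.hee P.hff (P.f_ne H.hF) he' hf' hf'0 hme hmf).mpr h0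
    rw [P.hef] at this
    exact one_ne_zero this
  -- rescale `f'`
  set c : F := ((⟪e', f'⟫)⁻¹) ^ q with hc
  have hc0 : c ≠ 0 := pow_ne_zero q (inv_ne_zero hne)
  have hcq : c ^ q = (⟪e', f'⟫)⁻¹ := frob_frob H.hF _
  have hmf' : MapsX β f (c • f') := hmf.smul_right H.hF hc0
  have hef'' : ⟪e', c • f'⟫ = 1 := by
    rw [hermForm_smul_right, hcq, inv_mul_cancel₀ hne]
  have hf''f'' : ⟪c • f', c • f'⟫ = 0 := by
    rw [hermForm_smul_left, hermForm_smul_right, hf', mul_zero, mul_zero]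
  obtain ⟨A₁, hA₁⟩ := exists_SU_map H.hF H.hn he'0 P.e_ne he' P.hee
  have h1 : ⟪A₁ ▹ (c • f'), e⟫ = 1 := by
    rw [← hA₁, herm_smv, ← hermForm_conj H.hF, hef'', one_pow]
  have h2 : ⟪A₁ ▹ (c • f'), A₁ ▹ (c • f')⟫ = 0 := by rw [herm_smv, hf''f'']
  obtain ⟨A₂, hA₂e, hA₂f⟩ := exists_SU_fix_map H.hF P.hee h2 P.hff h1 (P.hfe H.hF)
  refine ⟨A₂ * A₁, ?_, ?_⟩
  · have := hme.innerComp (A₂ * A₁)
    rw [smv_mul, hA₁, hA₂e] at this
    exact this
  · have := hmf'.innerComp (A₂ * A₁)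
    rw [smv_mul, hA₂f] at this
    exact this

end Cfsg.Agent.Helper37.AutU
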