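import Mathlib
import Cfsg.Agent.Helper37.AutUF

/-!
Helper37: automorphisms of `PSU_n(q)`.  Part G: irreducibility of `W = <e,f>^⊥` under the
transvections of `W`.
-/

set_option autoImplicit false
set_option linter.unusedSectionVars false
set_option linter.unusedVariables false
set_option linter.style.haveILetI false

namespace Cfsg.Agent.Helper37.AutU

open Matrix Cfsg.Agent.Helper13

variable {F : Type*} [Field F] [Fintype F] {p r q n : ℕ}

local notation "⟪" x ", " y "⟫" => Cfsg.hermForm n F q x y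
local notation:73 A:74 " ▹ " x:73 => (suMat A) *ᵥ x

variable {e f : Fin n → F}

/-- a transvection-invariant "subspace" of `W` containing a nonzero vector is all of `W` -/
theorem irr_W (hF : Fintype.card F = q ^ 2) (P : HypPair q e f) (U : (Fin n → F) → Prop)
    (hU0 : ∃ w, InW q e f w ∧ w ≠ 0 ∧ U w)
    (hadd : ∀ a b, U a → U b → U (a + b)) (hsmul : ∀ (c : F) a, U a → U (c • a))
    (htv : ∀ (a : Fin n → F) (κ : F) w, InW q e f a → ⟪a, a⟫ = 0 → κ + κ ^ q = 0 → InW q e f w →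
      U w → U (w + (κ * ⟪w, a⟫) • a)) :
    ∀ w, InW q e f w → U w := by
  obtain ⟨w₀, hw₀W, hw₀0, hw₀U⟩ := hU0
  have hWnd := nonDegW hF P
  obtain ⟨κ, hκ0, hκ⟩ := Cfsg.Agent.Helper5.exists_trace_zero hF
  have hκ' : κ + κ ^ q = 0 := by rw [hκ]; ring
  -- the basic step
  have step : ∀ w a, InW q e f w → U w → InW q e f a → ⟪a, a⟫ = 0 → ⟪w, a⟫ ≠ 0 → U a := by
    intro w a hwW hwU haW haa hwa
    have h1 := htv a κ w haW haa hκ' hwW hwU
    have h2 := hadd _ _ h1 (hsmul (-1) w hwU)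
    have h3 : w + (κ * ⟪w, a⟫) • a + (-1 : F) • w = (κ * ⟪w, a⟫) • a := by
      rw [neg_one_smul]; abel
    rw [h3] at h2
    have h4 := hsmul (κ * ⟪w, a⟫)⁻¹ _ h2
    rwa [smul_smul, inv_mul_cancel₀ (mul_ne_zero hκ0 hwa), one_smul] at h4
  have hUzero : U 0 := by
    have := hsmul 0 w₀ hw₀U
    rwa [zero_smul] at this
  by_cases hiso : ∃ u, InW q e f u ∧ u ≠ 0 ∧ ⟪u, u⟫ = 0
  · obtain ⟨u, huW, hu0, huu⟩ := hiso
    intro w hw
    refine isotropic_span_induction hF _ hWnd (inW_iff.mp huW) hu0 huu U hadd ?_ w (inW_iff.mp hw)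
    intro y hyW hyy
    have hyW' : InW q e f y := inW_iff.mpr hyW
    by_cases hy0 : y = 0
    · rw [hy0]; exact hUzero
    by_cases hwy : ⟪w₀, y⟫ = 0
    · -- find an intermediate isotropic vector
      obtain ⟨b₀, hb₀W, hb₀b₀, hyb₀⟩ := exists_hyperbolic_partner_in hF _ hWnd hyW hy0 hyy
      have hb₀W' : InW q e f b₀ := inW_iff.mpr hb₀W
      have hb₀y : ⟪b₀, y⟫ = 1 := by rw [← hermForm_conj hF, hyb₀, one_pow]
      by_cases hwb : ⟪w₀, b₀⟫ = 0
      · have hnd' := nonDeg_hypCompl hF _ hWnd hyW hb₀W hyy hb₀b₀ hyb₀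
        have hw₀' : w₀ ∈ hypCompl q (hypCompl q ⊤ e f) y b₀ := ⟨inW_iff.mp hw₀W, hwy, hwb⟩
        obtain ⟨z, hz, hwz⟩ : ∃ z ∈ hypCompl q (hypCompl q ⊤ e f) y b₀, ⟪w₀, z⟫ ≠ 0 := by
          by_contra hcon
          push Not at hcon
          exact hw₀0 (hnd' w₀ hw₀' hcon)
        obtain ⟨c, hc⟩ := exists_par hF z
        have hzW : InW q e f z := inW_iff.mpr hz.1
        have hzy : ⟪z, y⟫ = 0 := hz.2.1
        have hzb : ⟪z, b₀⟫ = 0 := hz.2.2
        have hyz : ⟪y, z⟫ = 0 := hermForm_eq_zero_symm hF hzy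
        have hbz : ⟪b₀, z⟫ = 0 := hermForm_eq_zero_symm hF hzb
        set b : Fin n → F := b₀ + z + c • y with hb
        have hbW : InW q e f b := (hb₀W'.add hzW).add (hyW'.smul c)
        have hbb : ⟪b, b⟫ = 0 := by
          rw [hb]
          simp only [hermForm_add_left, hermForm_add_right hF, hermForm_smul_left,
            hermForm_smul_right, hb₀b₀, hyy, hyb₀, hb₀y, hzy, hzb, hyz, hbz]
          linear_combination hc
        have hwb' : ⟪w₀, b⟫ ≠ 0 := by
          rw [hb, hermForm_add_right hF, hermForm_add_right hF, hermForm_smul_right, hwb, hwy]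
          simpa using hwz
        have hby : ⟪b, y⟫ ≠ 0 := by
          rw [hb, hermForm_add_left, hermForm_add_left, hermForm_smul_left, hb₀y, hzy, hyy]
          simp
        have hbU := step w₀ b hw₀W hw₀U hbW hbb hwb'
        exact step b y hbW hbU hyW' hyy hby
      · have hbU := step w₀ b₀ hw₀W hw₀U hb₀W' hb₀b₀ hwb
        exact step b₀ y hb₀W' hbU hyW' hyy (by rw [hb₀y]; exact one_ne_zero)
    · exact step w₀ y hw₀W hw₀U hyW' hyy hwy
  · push Not at hiso
    intro w hw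
    have hani : ∀ x ∈ hypCompl q (⊤ : Submodule F (Fin n → F)) e f, ⟪x, x⟫ = 0 → x = 0 := by
      intro x hx hxx
      by_contra hx0
      exact hiso x (inW_iff.mpr hx) hx0 hxx
    obtain ⟨c, hc⟩ := eq_smul_of_anisotropic hF _ hani (inW_iff.mp hw₀W) hw₀0 (inW_iff.mp hw)
    rw [hc]
    exact hsmul c w₀ hw₀U

end Cfsg.Agent.Helper37.AutU
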