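import Mathlib
import Cfsg.Agent.Helper37.AutUG

/-!
Helper37: automorphisms of `PSU_n(q)`.  Part H: the image of `Q(e)` in `PSU` is the largest normal
`p`-subgroup of the normaliser of the root subgroup of `e`; hence it is invariant under every
automorphism fixing that root subgroup.
-/

set_option autoImplicit false
set_option linter.unusedSectionVars false
set_option linter.unusedVariables false
set_option linter.style.haveILetI false

namespace Cfsg.Agent.Helper37.AutU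

open Matrix Cfsg.Agent.Helper13

variable {F : Type*} [Field F] [Fintype F] {p r q n : ℕ}

local notation "⟪" x ", " y "⟫" => Cfsg.hermForm n F q x y
local notation:73 A:74 " ▹ " x:73 => (suMat A) *ᵥ x

/-! ### linearity of `hypProj` -/

theorem hypProj_add (e f x y : Fin n → F) :
    hypProj q e f (x + y) = hypProj q e f x + hypProj q e f y := by
  unfold hypProj
  rw [hermForm_add_left, hermForm_add_left]
  module

theorem hypProj_smul (e f : Fin n → F) (c : F) (x : Fin n → F) :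
    hypProj q e f (c • x) = c • hypProj q e f x := by
  unfold hypProj
  rw [hermForm_smul_left, hermForm_smul_left]
  module

theorem hypProj_left (hF : Fintype.card F = q ^ 2) {e f : Fin n → F} (P : HypPair q e f) :
    hypProj q e f e = 0 := by
  unfold hypProj
  rw [P.hef, P.hee]
  module

theorem hypProj_right (hF : Fintype.card F = q ^ 2) {e f : Fin n → F} (P : HypPair q e f) :
    hypProj q e f f = 0 := by
  unfold hypProj
  rw [P.hff, P.hfe hF]
  module

theorem decomp_of_perp {e f x : Fin n → F} (hx : ⟪x, e⟫ = 0) :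
    x = hypProj q e f x + ⟪x, f⟫ • e := by
  have := hypProj_decomp (q := q) e f x
  rw [hx, zero_smul, add_zero] at this
  rw [add_comm]
  exact this

theorem smv_pow_eigen {g : Cfsg.SU n F q} {e : Fin n → F} {a : F} (h : (g ▹ e) = a • e) (k : ℕ) :
    ((g ^ k) ▹ e) = a ^ k • e := by
  induction k with
  | zero => rw [pow_zero, pow_zero, one_smul, smv_one]
  | succ k ih => rw [pow_succ, smv_mul, h, smv_smul, ih, smul_smul, pow_succ, mul_comm]

theorem smv_inv_eigen {g : Cfsg.SU n F q} {e : Fin n → F} {a : F} (ha : a ≠ 0)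
    (h : (g ▹ e) = a • e) : (g⁻¹ ▹ e) = a⁻¹ • e := by
  have h1 : (g⁻¹ ▹ (g ▹ e)) = (g⁻¹ ▹ (a • e)) := by rw [h]
  rw [smv_inv_smv, smv_smul] at h1
  have h2 : (g⁻¹ ▹ e) = a⁻¹ • (a • (g⁻¹ ▹ e)) := by
    rw [smul_smul, inv_mul_cancel₀ ha, one_smul]
  rw [h2, ← h1]

/-! ### the normaliser of a root subgroup -/

/-- `x` normalises the root subgroup of `e` -/
def InP (q : ℕ) (e : Fin n → F) (x : Cfsg.PSU n F q) : Prop :=
  ∀ s, InX q e s → InX q e (x * s * x⁻¹)

variable {e f : Fin n → F}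

theorem inP_pr_of_eigen (hF : Fintype.card F = q ^ 2) {g : Cfsg.SU n F q} {a : F} (ha : a ≠ 0)
    (h : (g ▹ e) = a • e) : InP q e (pr g) := by
  intro s hs
  have := hs.conj g
  rwa [h, InX.smul_iff hF ha] at this

theorem eigen_of_inP_pr (H : Hyp F p r q n) (he0 : e ≠ 0) (hee : ⟪e, e⟫ = 0) {g : Cfsg.SU n F q}
    (h : InP q e (pr g)) : ∃ a : F, a ≠ 0 ∧ (g ▹ e) = a • e := by
  obtain ⟨κ, hκ0, hκ⟩ := Cfsg.Agent.Helper5.exists_trace_zero H.hF
  have hκ' : κ + κ ^ q = 0 := by rw [hκ]; ring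
  have hT : IsTv (tvElt H.hF e κ hee hκ') e κ := rfl
  have hs : InX q e (pr (tvElt H.hF e κ hee hκ')) := ⟨_, κ, hκ', hT, rfl⟩
  have h1 := h _ hs
  have h2 := hs.conj g
  have hge : ⟪g ▹ e, g ▹ e⟫ = 0 := by rw [herm_smv, hee]
  have hne : (pr g : Cfsg.PSU n F q) * pr (tvElt H.hF e κ hee hκ') * (pr g)⁻¹ ≠ 1 := by
    intro h3
    have h4 : (pr (tvElt H.hF e κ hee hκ') : Cfsg.PSU n F q) = 1 := by
      have h5 : (pr g : Cfsg.PSU n F q)⁻¹ *
          ((pr g : Cfsg.PSU n F q) * pr (tvElt H.hF e κ hee hκ') * (pr g)⁻¹) * pr g = 1 := by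
        rw [h3, mul_one, inv_mul_cancel]
      rw [← h5]
      group
    exact pr_tv_ne_one H hT hee he0 hκ0 h4
  exact InX.center H hee hge he0 h1 h2 hne

theorem MapsX.symm {β : Cfsg.PSU n F q ≃* Cfsg.PSU n F q} {v v' : Fin n → F}
    (h : MapsX β v v') : MapsX β.symm v' v := by
  intro x
  have := h (β.symm x)
  rw [β.apply_symm_apply] at this
  exact this.symm

theorem InP.map {β : Cfsg.PSU n F q ≃* Cfsg.PSU n F q} (hβ : MapsX β e e)
    {x : Cfsg.PSU n F q} (hx : InP q e x) : InP q e (β x) := by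
  intro s hs
  have hs' : InX q e (β.symm s) := (hβ.symm s).mp hs
  have h1 := hx _ hs'
  have h2 := (hβ _).mp h1
  rwa [map_mul, map_mul, map_inv, β.apply_symm_apply] at h2

/-- the scalar element of `SU` -/
theorem exists_scalar (hF : Fintype.card F = q ^ 2) {a : F} (han : a ^ n = 1)
    (haq : a ^ (q + 1) = 1) :
    ∃ z : Cfsg.SU n F q, z ∈ Subgroup.center (Cfsg.SU n F q) ∧ ∀ x, (z ▹ x) = a • x := by
  have hz : ∀ x, ((Cfsg.Agent.Helper5.scalarSU a han haq : Cfsg.SU n F q) ▹ x) = a • x := by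
    intro x
    show Matrix.scalar (Fin n) a *ᵥ x = a • x
    ext i
    simp [Matrix.mulVec_diagonal]
  exact ⟨_, mem_center_of_smv hz, hz⟩

section OP

variable (H : Hyp F p r q n) (P : HypPair q e f) (N : Subgroup (Cfsg.PSU n F q))

/-- the elements of `SU` fixing `e` whose image lies in `N` -/
def liftSub (e : Fin n → F) (N : Subgroup (Cfsg.PSU n F q)) : Subgroup (Cfsg.SU n F q) where
  carrier := {g | (g ▹ e) = e ∧ pr g ∈ N}
  mul_mem' := by
    rintro a b ⟨ha, ha'⟩ ⟨hb, hb'⟩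
    exact ⟨by rw [smv_mul, hb, ha], by rw [map_mul]; exact N.mul_mem ha' hb'⟩
  one_mem' := ⟨smv_one e, by rw [map_one]; exact N.one_mem⟩
  inv_mem' := by
    rintro a ⟨ha, ha'⟩
    refine ⟨?_, by rw [map_inv]; exact N.inv_mem ha'⟩
    conv_lhs => rw [← ha]
    exact smv_inv_smv a e

theorem mem_liftSub {g : Cfsg.SU n F q} : g ∈ liftSub e N ↔ (g ▹ e) = e ∧ pr g ∈ N := Iff.rfl

include H P in
theorem liftSub_pow (hp : ∀ x ∈ N, x ^ (p ^ 2) = 1) {g : Cfsg.SU n F q} (hg : g ∈ liftSub e N) :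
    g ^ (p ^ 2) = 1 := by
  have hz : g ^ (p ^ 2) ∈ Subgroup.center (Cfsg.SU n F q) := by
    rw [← pr_eq_one_iff, map_pow, hp _ hg.2]
  obtain ⟨ζ, -, -, hζ⟩ := center_smv H.hF H.one_le_n hz
  have h1 : ((g ^ (p ^ 2)) ▹ e) = e := by
    have := smv_pow_eigen (a := 1) (by rw [hg.1, one_smul]) (p ^ 2) (g := g) (e := e)
    rwa [one_pow, one_smul] at this
  have h2 : ζ = 1 := by
    have h3 := hζ e
    rw [h1] at h3
    have h4 : (ζ - 1) • e = 0 := by rw [sub_smul, one_smul, ← h3, sub_self]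
    rcases smul_eq_zero.mp h4 with h5 | h5
    · exact sub_eq_zero.mp h5
    · exact absurd h5 P.e_ne
  apply su_ext
  intro x
  rw [hζ, h2, one_smul, smv_one]

include H P in
theorem exists_lift (hp : ∀ x ∈ N, x ^ (p ^ 2) = 1) (hNP : ∀ x ∈ N, InP q e x) :
    ∀ x ∈ N, ∃ g ∈ liftSub e N, pr g = x := by
  intro x hx
  obtain ⟨g₀, rfl⟩ := pr_surjective x
  obtain ⟨a, ha0, hga⟩ := eigen_of_inP_pr H P.e_ne P.hee (hNP _ hx)
  have hz : g₀ ^ (p ^ 2) ∈ Subgroup.center (Cfsg.SU n F q) := by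
    rw [← pr_eq_one_iff, map_pow, hp _ hx]
  obtain ⟨ζ, hζ1, hζn, hζ⟩ := center_smv H.hF H.one_le_n hz
  have hpow := smv_pow_eigen hga (p ^ 2)
  have haζ : a ^ (p ^ 2) = ζ := by
    have h3 := hζ e
    rw [hpow] at h3
    have h4 : (a ^ (p ^ 2) - ζ) • e = 0 := by rw [sub_smul, h3, sub_self]
    rcases smul_eq_zero.mp h4 with h5 | h5
    · exact sub_eq_zero.mp h5
    · exact absurd h5 P.e_ne
  have ha1 : a ^ (q + 1) = 1 := by
    apply H.eq_one_of_pow (k := 2)
    rw [← pow_mul, mul_comm, pow_mul, haζ, hζ1]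
  have han : a ^ n = 1 := by
    apply H.eq_one_of_pow (k := 2)
    rw [← pow_mul, mul_comm, pow_mul, haζ, hζn]
  obtain ⟨z, hzc, hzx⟩ := exists_scalar H.hF han ha1
  refine ⟨z⁻¹ * g₀, ⟨?_, ?_⟩, ?_⟩
  · rw [smv_mul, hga, smv_smul]
    have : (z⁻¹ ▹ e) = a⁻¹ • e := smv_inv_eigen ha0 (hzx e)
    rw [this, smul_smul, mul_inv_cancel₀ ha0, one_smul]
  · have : (pr (z⁻¹ * g₀) : Cfsg.PSU n F q) = pr g₀ := by
      rw [map_mul, map_inv, pr_eq_one_iff.mpr hzc, inv_one, one_mul]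
    rw [this]
    exact hx
  · rw [map_mul, map_inv, pr_eq_one_iff.mpr hzc, inv_one, one_mul]

/-- the action of the stabiliser of `e` on `W` -/
def actW (q : ℕ) (e f : Fin n → F) (g : Cfsg.SU n F q) (w : Fin n → F) : Fin n → F :=
  hypProj q e f (g ▹ w)

include H P in
theorem actW_mul {g h : Cfsg.SU n F q} (hg : (g ▹ e) = e) (hh : (h ▹ e) = e) {w : Fin n → F}
    (hw : InW q e f w) : actW q e f (g * h) w = actW q e f g (actW q e f h w) := by
  unfold actW
  have h1 : ⟪h ▹ w, e⟫ = 0 := by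
    conv_lhs => rw [← hh]
    rw [herm_smv]
    exact hw.1
  have h2 := decomp_of_perp (f := f) h1
  rw [smv_mul]
  conv_lhs => rw [h2]
  rw [smv_add, smv_smul, hg, hypProj_add, hypProj_smul, hypProj_left H.hF P, smul_zero, add_zero]

include H P in
theorem smv_eq_actW {g : Cfsg.SU n F q} (hg : (g ▹ e) = e) {w : Fin n → F}
    (hw : ⟪w, e⟫ = 0) : (g ▹ w) = actW q e f g w + ⟪g ▹ w, f⟫ • e := by
  have h1 : ⟪g ▹ w, e⟫ = 0 := by
    conv_lhs => rw [← hg]
    rw [herm_smv]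
    exact hw
  exact decomp_of_perp h1

include H P in
/-- a normal `p`-subgroup of the normaliser of the root subgroup lies in the image of `Q(e)` -/
theorem opLemma (hp : ∀ x ∈ N, x ^ (p ^ 2) = 1) (hNP : ∀ x ∈ N, InP q e x)
    (hnorm : ∀ y, InP q e y → ∀ x ∈ N, y * x * y⁻¹ ∈ N) :
    ∀ x ∈ N, ∃ B ∈ Qg q e, pr B = x := by
  haveI := Fact.mk H.hp
  -- the action on `W`
  let W : Submodule F (Fin n → F) := hypCompl q ⊤ e f
  let ρ : ↥(liftSub e N) →* Function.End ↥W :=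
    { toFun := fun g w => ⟨actW q e f g.1 w.1, inW_iff.mp (hypProj_inW H.hF P _)⟩
      map_one' := by
        funext w
        apply Subtype.ext
        show actW q e f 1 w.1 = w.1
        unfold actW
        rw [smv_one, hypProj_of_inW (inW_iff.mpr w.2)]
      map_mul' := by
        intro g h
        funext w
        apply Subtype.ext
        exact actW_mul H P g.2.1 h.2.1 (inW_iff.mpr w.2) }
  letI : MulAction ↥(liftSub e N) ↥W := MulAction.ofEndHom ρ
  have hsmul : ∀ (g : ↥(liftSub e N)) (w : ↥W), ((g • w : ↥W) : Fin n → F) = actW q e f g.1 w.1 :=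
    fun g w => rfl
  have hpg : IsPGroup p ↥(liftSub e N) := by
    intro g
    refine ⟨2, ?_⟩
    apply Subtype.ext
    show g.1 ^ (p ^ 2) = 1
    exact liftSub_pow H P N hp g.2
  -- `p` divides the order of `W`
  have hcard : p ∣ Nat.card ↥W := by
    have h3 : 3 ≤ Module.finrank F ↥(⊤ : Submodule F (Fin n → F)) := by
      rw [finrank_top, Module.finrank_fin_fun]
      exact H.hn
    obtain ⟨y, hy, hy0⟩ := exists_mem_hypCompl_ne_zero H.hF ⊤ h3 Submodule.mem_top
      Submodule.mem_top P.hee P.hff P.hef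
    have hpos : 0 < Module.finrank F ↥W := by
      rw [Module.finrank_pos_iff_exists_ne_zero]
      exact ⟨⟨y, hy⟩, fun h => hy0 (congrArg Subtype.val h)⟩
    letI : Fintype ↥W := Fintype.ofFinite _
    rw [Nat.card_eq_fintype_card, Module.card_eq_pow_finrank (K := F) (V := ↥W), H.hF, H.hq]
    obtain ⟨k, hk⟩ : ∃ k, Module.finrank F ↥W = k + 1 := ⟨_, (Nat.succ_pred_eq_of_pos hpos).symm⟩
    obtain ⟨j, hj⟩ : ∃ j, r = j + 1 := ⟨r - 1, by have := H.hf; omega⟩
    rw [hk, hj, pow_succ, pow_succ, pow_succ]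
    exact Dvd.dvd.mul_left (Dvd.dvd.mul_left (dvd_mul_left _ _) _) _
  have hfix0 : (0 : ↥W) ∈ MulAction.fixedPoints ↥(liftSub e N) ↥W := by
    rw [MulAction.mem_fixedPoints]
    intro g
    apply Subtype.ext
    rw [hsmul]
    show actW q e f g.1 0 = 0
    unfold actW
    rw [smv_zero]
    exact hypProj_of_inW inW_zero
  obtain ⟨w₁, hw₁fix, hw₁0⟩ :=
    hpg.exists_fixed_point_of_prime_dvd_card_of_fixed_point ↥W hcard hfix0
  rw [MulAction.mem_fixedPoints] at hw₁fix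
  -- the fixed space is everything
  have hall : ∀ w, InW q e f w → (InW q e f w ∧ ∀ g ∈ liftSub e N, actW q e f g w = w) := by
    apply irr_W H.hF P (fun w => InW q e f w ∧ ∀ g ∈ liftSub e N, actW q e f g w = w)
    · refine ⟨w₁.1, inW_iff.mpr w₁.2, fun h => hw₁0 (Subtype.ext h.symm), inW_iff.mpr w₁.2, ?_⟩
      intro g hg
      have := congrArg Subtype.val (hw₁fix ⟨g, hg⟩)
      rw [hsmul] at this
      exact this
    · rintro a b ⟨ha, ha'⟩ ⟨hb, hb'⟩
      refine ⟨ha.add hb, fun g hg => ?_⟩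
      unfold actW at ha' hb' ⊢
      rw [smv_add, hypProj_add, ha' g hg, hb' g hg]
    · rintro c a ⟨ha, ha'⟩
      refine ⟨ha.smul c, fun g hg => ?_⟩
      unfold actW at ha' ⊢
      rw [smv_smul, hypProj_smul, ha' g hg]
    · rintro a κ w haW haa hκ hwW ⟨_, hw'⟩
      have hT : IsTv (tvElt H.hF a κ haa hκ) a κ := rfl
      have hTe : ((tvElt H.hF a κ haa hκ) ▹ e) = e := by
        rw [hT.smv, haW.eh H.hF, mul_zero, zero_smul, add_zero]
      have hTw : ((tvElt H.hF a κ haa hκ) ▹ w) = w + (κ * ⟪w, a⟫) • a := hT.smv w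
      have hw'W : InW q e f (w + (κ * ⟪w, a⟫) • a) := hwW.add (haW.smul _)
      refine ⟨hw'W, fun g hg => ?_⟩
      -- conjugate
      have hTie : ((tvElt H.hF a κ haa hκ)⁻¹ ▹ e) = e := by
        conv_lhs => rw [← hTe]
        exact smv_inv_smv _ _
      have hg' : (tvElt H.hF a κ haa hκ)⁻¹ * g * tvElt H.hF a κ haa hκ ∈ liftSub e N := by
        refine ⟨by rw [smv_mul, smv_mul, hTe, hg.1, hTie], ?_⟩
        have hy : InP q e (pr (tvElt H.hF a κ haa hκ)⁻¹) :=
          inP_pr_of_eigen H.hF one_ne_zero (by rw [hTie, one_smul])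
        have := hnorm _ hy _ hg.2
        rw [map_mul, map_mul]
        convert this using 1
        rw [map_inv, inv_inv]
      have h1 := hw' _ hg'
      have h2 := smv_eq_actW H P hg'.1 hwW.1
      rw [h1] at h2
      -- now compute
      have h3 : (g ▹ (w + (κ * ⟪w, a⟫) • a)) =
          (tvElt H.hF a κ haa hκ) ▹
            (((tvElt H.hF a κ haa hκ)⁻¹ * g * tvElt H.hF a κ haa hκ) ▹ w) := by
        rw [smv_mul, smv_mul, smv_smv_inv, hTw]
      unfold actW
      rw [h3, h2, smv_add, smv_smul, hTe, hTw, hypProj_add, hypProj_smul, hypProj_left H.hF P,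
        smul_zero, add_zero, hypProj_of_inW hw'W]
  -- conclusion
  intro x hx
  obtain ⟨g, hg, rfl⟩ := exists_lift H P N hp hNP x hx
  refine ⟨g, ⟨hg.1, fun y hy => ?_⟩, rfl⟩
  have h1 := decomp_of_perp (f := f) hy
  have hyW := hypProj_inW H.hF P y
  have h2 := smv_eq_actW H P hg.1 hyW.1
  rw [(hall _ hyW).2 g hg] at h2
  obtain ⟨t, ht⟩ : ∃ t : F, (g ▹ hypProj q e f y) = hypProj q e f y + t • e := ⟨_, h2⟩
  refine ⟨t, ?_⟩
  have hgy : (g ▹ y) = (g ▹ (hypProj q e f y + ⟪y, f⟫ • e)) := congrArg (fun z => g ▹ z) h1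
  rw [hgy, smv_add, smv_smul, hg.1, ht]
  have h3 : y + t • e = (hypProj q e f y + ⟪y, f⟫ • e) + t • e := by
    rw [← h1]
  rw [h3]
  abel

end OP

/-- the image of `Q(e)` is invariant under automorphisms fixing the root subgroup of `e` -/
theorem Qg_invariant (H : Hyp F p r q n) (P : HypPair q e f)
    (β : Cfsg.PSU n F q ≃* Cfsg.PSU n F q) (hβ : MapsX β e e) :
    ∀ B ∈ Qg q e, ∃ B' ∈ Qg q e, β (pr B) = pr B' := by
  intro B hB
  have key := opLemma H P (((Qg q e).map pr).map β.toMonoidHom) ?_ ?_ ?_ (β (pr B))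
    ⟨pr B, ⟨B, hB, rfl⟩, rfl⟩
  · obtain ⟨B', hB', h⟩ := key
    exact ⟨B', hB', h.symm⟩
  · rintro x ⟨y, ⟨B₁, hB₁, rfl⟩, rfl⟩
    show (β (pr B₁)) ^ (p ^ 2) = 1
    rw [← map_pow, ← map_pow, Qg_pow H P hB₁, map_one, map_one]
  · rintro x ⟨y, ⟨B₁, hB₁, rfl⟩, rfl⟩
    show InP q e (β (pr B₁))
    apply InP.map hβ
    exact inP_pr_of_eigen H.hF one_ne_zero (by rw [hB₁.1, one_smul])
  · rintro y hy x ⟨x₀, ⟨B₁, hB₁, rfl⟩, rfl⟩
    have hy₀ : InP q e (β.symm y) := InP.map hβ.symm hy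
    obtain ⟨g, hg⟩ := pr_surjective (β.symm y)
    rw [← hg] at hy₀
    obtain ⟨a, ha0, hga⟩ := eigen_of_inP_pr H P.e_ne P.hee hy₀
    have h1 : g * B₁ * g⁻¹ ∈ Qg q e := by
      have := Qg_conj hB₁ g
      rwa [hga, Qg_smul ha0] at this
    refine ⟨pr (g * B₁ * g⁻¹), ⟨_, h1, rfl⟩, ?_⟩
    show β (pr (g * B₁ * g⁻¹)) = y * β (pr B₁) * y⁻¹
    rw [map_mul, map_mul, map_inv, map_mul, map_mul, map_inv, hg, β.apply_symm_apply]

end Cfsg.Agent.Helper37.AutU
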