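import Mathlib
import Cfsg.Agent.Helper37.AutUH

/-!
Helper37: automorphisms of `PSU_n(q)`.  Part I: the map induced on `W = <e,f>^⊥` by an
automorphism fixing the root subgroup of `e`, as a functional relation.
-/

set_option autoImplicit false
set_option linter.unusedSectionVars false
set_option linter.unusedVariables false
set_option linter.style.haveILetI false

namespace Cfsg.Agent.Helper37.AutU

open Matrix Cfsg.Agent.Helper13

variable {F : Type*} [Field F] [Fintype F] {p r q n : ℕ}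

local notation "⟪" x ", " y "⟫" => Cfsg.hermForm n F q x y
local notation:73 A:74 " ▹ " x:73 => (suMat A) *ᵥ x

variable {e f : Fin n → F}

/-- the parameters of an element of `Q(e)` -/
def Par (q : ℕ) (e f : Fin n → F) (B : Cfsg.SU n F q) (y : Fin n → F) (c : F) : Prop :=
  InW q e f y ∧ c + c ^ q + Cfsg.hermForm n F q y y = 0 ∧ IsEi B e y c

section ParBasics

variable (hF : Fintype.card F = q ^ 2) (P : HypPair q e f)
include hF P

theorem Par.mem {B : Cfsg.SU n F q} {y : Fin n → F} {c : F} (h : Par q e f B y c) :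
    B ∈ Qg q e :=
  (mem_Qg_iff hF P).mpr ⟨y, c, h.1, h.2.1, h.2.2⟩

theorem exists_par_of_mem {B : Cfsg.SU n F q} (h : B ∈ Qg q e) : ∃ y c, Par q e f B y c :=
  (mem_Qg_iff hF P).mp h

theorem Par.unique {B : Cfsg.SU n F q} {y y' : Fin n → F} {c c' : F} (h : Par q e f B y c)
    (h' : Par q e f B y' c') : y = y' ∧ c = c' :=
  isEi_unique hF P h.1 h'.1 h.2.2 h'.2.2

theorem exists_Par {y : Fin n → F} {c : F} (hy : InW q e f y) (hc : c + c ^ q + ⟪y, y⟫ = 0) :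
    ∃ B : Cfsg.SU n F q, Par q e f B y c :=
  ⟨eichlerElt hF e y c P.hee hy.1 hc, hy, hc, rfl⟩

theorem exists_Par' {y : Fin n → F} (hy : InW q e f y) :
    ∃ (B : Cfsg.SU n F q) (c : F), Par q e f B y c := by
  obtain ⟨c, hc⟩ := exists_par hF y
  obtain ⟨B, hB⟩ := exists_Par hF P hy hc
  exact ⟨B, c, hB⟩

theorem Par.mul {B B' : Cfsg.SU n F q} {y y' : Fin n → F} {c c' : F} (h : Par q e f B y c)
    (h' : Par q e f B' y' c') : Par q e f (B * B') (y + y') (c + c' - ⟪y', y⟫) := by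
  refine ⟨h.1.add h'.1, ?_, h.2.2.mul hF h'.2.2 P.hee h.1.1 h'.1.1⟩
  rw [frob_sub' hF, frob_add hF, hermForm_conj hF, hermForm_add_left, hermForm_add_right hF,
    hermForm_add_right hF]
  linear_combination h.2.1 + h'.2.1

theorem par_one : Par q e f (1 : Cfsg.SU n F q) 0 0 := by
  have hq := two_le_of_card_eq_sq hF
  refine ⟨inW_zero, ?_, ?_⟩
  · rw [hermForm_zero_left, zero_pow (by omega), add_zero, add_zero]
  · show suMat 1 = _
    rw [suMat_one, eichler_zero_zero hF]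

theorem Par.inv {B : Cfsg.SU n F q} {y : Fin n → F} {c : F} (h : Par q e f B y c) :
    ∃ c', Par q e f B⁻¹ (-y) c' := by
  obtain ⟨y', c', h'⟩ := exists_par_of_mem hF P ((Qg q e).inv_mem (h.mem hF P))
  have h1 := h.mul hF P h'
  rw [mul_inv_cancel] at h1
  have h2 := (h1.unique hF P (par_one hF P)).1
  have h3 : y' = -y := by
    rw [eq_neg_iff_add_eq_zero, add_comm]
    exact h2
  rw [h3] at h'
  exact ⟨c', h'⟩

theorem par_tv {T : Cfsg.SU n F q} {κ : F} (hT : IsTv T e κ) (hκ : κ + κ ^ q = 0) :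
    Par q e f T 0 κ :=
  ⟨inW_zero, by rw [hermForm_zero_left, add_zero]; exact hκ, (isEi_zero_iff hF).mpr hT⟩

theorem Par.tv {T : Cfsg.SU n F q} {κ : F} (h : Par q e f T 0 κ) :
    IsTv T e κ ∧ κ + κ ^ q = 0 := by
  refine ⟨(isEi_zero_iff hF).mp h.2.2, ?_⟩
  have := h.2.1
  rwa [hermForm_zero_left, add_zero] at this

theorem Par.smv_e {B : Cfsg.SU n F q} {y : Fin n → F} {c : F} (h : Par q e f B y c) :
    (B ▹ e) = e :=
  (h.mem hF P).1

theorem Par.smv_f {B : Cfsg.SU n F q} {y : Fin n → F} {c : F} (h : Par q e f B y c) :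
    (B ▹ f) = f + y + c • e := by
  rw [h.2.2.smv, P.hfe hF, h.1.fh hF]
  simp only [one_smul, zero_smul, sub_zero, mul_one]

theorem Par.smv_perp {B : Cfsg.SU n F q} {y : Fin n → F} {c : F} (h : Par q e f B y c)
    {w : Fin n → F} (hw : ⟪w, e⟫ = 0) : (B ▹ w) = w - ⟪w, y⟫ • e := by
  rw [h.2.2.smv, hw]
  simp only [zero_smul, mul_zero, add_zero]

/-- the same `y` with another `c` differs by a transvection -/
theorem Par.change {B : Cfsg.SU n F q} {y : Fin n → F} {c c' : F} (h : Par q e f B y c)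
    (hc' : c' + c' ^ q + ⟪y, y⟫ = 0) :
    ∃ (T : Cfsg.SU n F q) (κ : F), IsTv T e κ ∧ κ + κ ^ q = 0 ∧ κ = c' - c ∧
      Par q e f (B * T) y c' := by
  have hκ : (c' - c) + (c' - c) ^ q = 0 := by
    rw [frob_sub' hF]
    linear_combination hc' - h.2.1
  have hT : IsTv (tvElt hF e (c' - c) P.hee hκ) e (c' - c) := rfl
  refine ⟨tvElt hF e (c' - c) P.hee hκ, c' - c, hT, hκ, rfl, ?_⟩
  have h1 := h.mul hF P (par_tv hF P hT hκ)
  rw [add_zero, hermForm_zero_left, sub_zero, add_sub_cancel] at h1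
  exact h1

/-- conjugation by an element normalising the root subgroups of `e` and `f` -/
theorem Par.conjL {B : Cfsg.SU n F q} {y : Fin n → F} {c : F} (h : Par q e f B y c)
    {l : Cfsg.SU n F q} {a b : F} (ha : a ≠ 0) (hb : b ≠ 0) (hle : (l ▹ e) = a • e)
    (hlf : (l ▹ f) = b • f) :
    Par q e f (l * B * l⁻¹) (a ^ q • (l ▹ y)) (c * a * a ^ q) := by
  have haq : a ^ q ≠ 0 := pow_ne_zero q ha
  have hbq : b ^ q ≠ 0 := pow_ne_zero q hb
  have h1 : ⟪l ▹ y, e⟫ = 0 := by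
    have h2 : ⟪l ▹ y, l ▹ e⟫ = 0 := by rw [herm_smv]; exact h.1.1
    rw [hle, hermForm_smul_right] at h2
    rcases mul_eq_zero.mp h2 with h3 | h3
    · exact absurd h3 haq
    · exact h3
  have h2 : ⟪l ▹ y, f⟫ = 0 := by
    have h2 : ⟪l ▹ y, l ▹ f⟫ = 0 := by rw [herm_smv]; exact h.1.2
    rw [hlf, hermForm_smul_right] at h2
    rcases mul_eq_zero.mp h2 with h3 | h3
    · exact absurd h3 hbq
    · exact h3
  refine ⟨InW.smul ⟨h1, h2⟩ _, ?_, ?_⟩
  · rw [mul_pow, mul_pow, frob_frob hF, hermForm_smul_left, hermForm_smul_right, frob_frob hF,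
      herm_smv]
    linear_combination (a * a ^ q) * h.2.1
  · have h3 := h.2.2.conj l
    rw [hle] at h3
    unfold IsEi at h3 ⊢
    rw [h3, eichler_smul_left hF]

end ParBasics

/-! ### transfer along an automorphism -/

section Transfer

variable (H : Hyp F p r q n) (P : HypPair q e f) (β : Cfsg.PSU n F q ≃* Cfsg.PSU n F q)
  (hβ : MapsX β e e)
include H P

theorem Qg_lift_unique {B B' : Cfsg.SU n F q} (hB : B ∈ Qg q e) (hB' : B' ∈ Qg q e)
    (h : (pr B : Cfsg.PSU n F q) = pr B') : B = B' :=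
  eq_of_pr_eq_of_pow H 2 (Qg_pow H P hB) (Qg_pow H P hB') h

include hβ

theorem exists_tr {B : Cfsg.SU n F q} (hB : B ∈ Qg q e) :
    ∃ B' ∈ Qg q e, β (pr B) = pr B' :=
  Qg_invariant H P β hβ B hB

theorem tr_tv {T B' : Cfsg.SU n F q} {κ : F} (hT : IsTv T e κ) (hκ : κ + κ ^ q = 0)
    (hB' : B' ∈ Qg q e) (h : β (pr T) = pr B') : ∃ κ', κ' + κ' ^ q = 0 ∧ IsTv B' e κ' := by
  have h1 : InX q e (pr T : Cfsg.PSU n F q) := ⟨T, κ, hκ, hT, rfl⟩
  obtain ⟨T', κ', hκ', hT', hTT'⟩ := (hβ _).mp h1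
  rw [h] at hTT'
  have h2 : T' ∈ Qg q e := rootOf_le_Qg H.hF P (hT'.mem_rootOf H.hF P.hee hκ')
  have h3 := Qg_lift_unique H P h2 hB' hTT'
  rw [← h3]
  exact ⟨κ', hκ', hT'⟩

/-- the relation induced on `W` -/
def Rl (β : Cfsg.PSU n F q ≃* Cfsg.PSU n F q) (e f : Fin n → F)
    (y y' : Fin n → F) : Prop :=
  ∃ (B : Cfsg.SU n F q) (c : F) (B' : Cfsg.SU n F q) (c' : F),
    Par q e f B y c ∧ Par q e f B' y' c' ∧ β (pr B) = pr B'

omit H P hβ in
theorem Rl.inW_left {y y' : Fin n → F} (h : Rl β e f y y') : InW q e f y := by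
  obtain ⟨B, c, B', c', h1, h2, h3⟩ := h
  exact h1.1

omit H P hβ in
theorem Rl.inW_right {y y' : Fin n → F} (h : Rl β e f y y') : InW q e f y' := by
  obtain ⟨B, c, B', c', h1, h2, h3⟩ := h
  exact h2.1

theorem Rl.total {y : Fin n → F} (hy : InW q e f y) : ∃ y', Rl β e f y y' := by
  obtain ⟨B, c, hB⟩ := exists_Par' H.hF P hy
  obtain ⟨B', hB', h⟩ := exists_tr H P β hβ (hB.mem H.hF P)
  obtain ⟨y', c', hB''⟩ := exists_par_of_mem H.hF P hB'
  exact ⟨y', B, c, B', c', hB, hB'', h⟩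

/-- the relation does not depend on the chosen representative -/
theorem Rl.spec {y y' : Fin n → F} (h : Rl β e f y y') {B : Cfsg.SU n F q} {c : F}
    (hB : Par q e f B y c) : ∃ B' c', Par q e f B' y' c' ∧ β (pr B) = pr B' := by
  obtain ⟨B₀, c₀, B₀', c₀', h1, h2, h3⟩ := h
  obtain ⟨T, κ, hT, hκ, -, hBT⟩ := h1.change H.hF P hB.2.1
  have hBeq : B = B₀ * T := hB.2.2.eq hBT.2.2
  obtain ⟨T', hT'Q, hTT'⟩ := exists_tr H P β hβ (rootOf_le_Qg H.hF P (hT.mem_rootOf H.hF P.hee hκ))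
  obtain ⟨κ', hκ', hT'⟩ := tr_tv H P β hβ hT hκ hT'Q hTT'
  have h4 := h2.mul H.hF P (par_tv H.hF P hT' hκ')
  rw [add_zero, hermForm_zero_left, sub_zero] at h4
  refine ⟨B₀' * T', c₀' + κ', h4, ?_⟩
  rw [hBeq, map_mul, map_mul, map_mul, h3, hTT']

theorem Rl.func {y y₁ y₂ : Fin n → F} (h₁ : Rl β e f y y₁) (h₂ : Rl β e f y y₂) :
    y₁ = y₂ := by
  obtain ⟨B, c, B', c', h1, h2, h3⟩ := h₂
  obtain ⟨B'', c'', h4, h5⟩ := h₁.spec H P β hβ h1
  have h6 : B'' = B' := Qg_lift_unique H P (h4.mem H.hF P) (h2.mem H.hF P) (h5.symm.trans h3)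
  rw [h6] at h4
  exact (h4.unique H.hF P h2).1

omit hβ in
theorem Rl.add {y₁ y₁' y₂ y₂' : Fin n → F} (h₁ : Rl β e f y₁ y₁') (h₂ : Rl β e f y₂ y₂') :
    Rl β e f (y₁ + y₂) (y₁' + y₂') := by
  obtain ⟨B₁, c₁, B₁', c₁', h1, h2, h3⟩ := h₁
  obtain ⟨B₂, c₂, B₂', c₂', h4, h5, h6⟩ := h₂
  exact ⟨B₁ * B₂, _, B₁' * B₂', _, h1.mul H.hF P h4, h2.mul H.hF P h5,
    by rw [map_mul, map_mul, map_mul, h3, h6]⟩

omit hβ in
theorem Rl.zero : Rl β e f 0 0 :=
  ⟨1, 0, 1, 0, par_one H.hF P, par_one H.hF P, by simp⟩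

omit H P hβ in
theorem Rl.symm {y y' : Fin n → F} (h : Rl β e f y y') : Rl β.symm e f y' y := by
  obtain ⟨B, c, B', c', h1, h2, h3⟩ := h
  exact ⟨B', c', B, c, h2, h1, by rw [← h3, β.symm_apply_apply]⟩

/-- compatibility with conjugation -/
theorem Rl.conjL {y y' : Fin n → F} (h : Rl β e f y y') {l l' : Cfsg.SU n F q}
    {a b a' b' : F} (ha : a ≠ 0) (hb : b ≠ 0) (ha' : a' ≠ 0) (hb' : b' ≠ 0)
    (hle : (l ▹ e) = a • e) (hlf : (l ▹ f) = b • f) (hle' : (l' ▹ e) = a' • e)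
    (hlf' : (l' ▹ f) = b' • f) (hll' : β (pr l) = pr l') :
    Rl β e f (a ^ q • (l ▹ y)) (a' ^ q • (l' ▹ y')) := by
  obtain ⟨B, c, B', c', h1, h2, h3⟩ := h
  refine ⟨l * B * l⁻¹, _, l' * B' * l'⁻¹, _, h1.conjL H.hF P ha hb hle hlf,
    h2.conjL H.hF P ha' hb' hle' hlf', ?_⟩
  simp only [map_mul, map_inv, h3, hll']

end Transfer

end Cfsg.Agent.Helper37.AutU
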