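import Mathlib
import Cfsg.Agent.Helper37.AutUI

/-!
Helper37: automorphisms of `PSU_n(q)`.  Part J: the induced map `phi` on `W` as a function, the
induced map on the parameters of a root subgroup, and the preservation of isotropic lines of `W`.
-/

set_option autoImplicit false
set_option linter.unusedSectionVars false
set_option linter.unusedVariables false
set_option linter.style.haveILetI false

namespace Cfsg.Agent.Helper37.AutU

open Matrix Cfsg.Agent.Helper13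

variable {F : Type*} [Field F] [Fintype F] {p r q n : ℕ}

local notation "⟪" x ", " y "⟫" => Cfsg.hermForm n F q x y
local notation:73 A:74 " ▹ " x:73 => (suMat A) *ᵥ x

variable {e f : Fin n → F}

theorem Rl.symm' {β : Cfsg.PSU n F q ≃* Cfsg.PSU n F q} {y y' : Fin n → F}
    (h : Rl β.symm e f y y') : Rl β e f y' y := by
  obtain ⟨B, c, B', c', h1, h2, h3⟩ := h
  exact ⟨B', c', B, c, h2, h1, by rw [← h3, β.apply_symm_apply]⟩

open Classical in
/-- the map induced on `W` -/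
noncomputable def phi (β : Cfsg.PSU n F q ≃* Cfsg.PSU n F q) (e f : Fin n → F)
    (y : Fin n → F) : Fin n → F :=
  if h : ∃ y', Rl β e f y y' then Classical.choose h else 0

section Phi

variable (H : Hyp F p r q n) (P : HypPair q e f) (β : Cfsg.PSU n F q ≃* Cfsg.PSU n F q)
  (hβ : MapsX β e e)
include H P hβ

theorem phi_rl {y : Fin n → F} (hy : InW q e f y) : Rl β e f y (phi β e f y) := by
  unfold phi
  rw [dif_pos (Rl.total H P β hβ hy)]
  exact Classical.choose_spec (Rl.total H P β hβ hy)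

theorem phi_eq {y y' : Fin n → F} (h : Rl β e f y y') : phi β e f y = y' :=
  Rl.func H P β hβ (phi_rl H P β hβ h.inW_left) h

theorem phi_inW {y : Fin n → F} (hy : InW q e f y) : InW q e f (phi β e f y) :=
  (phi_rl H P β hβ hy).inW_right

theorem phi_add {y y' : Fin n → F} (hy : InW q e f y) (hy' : InW q e f y') :
    phi β e f (y + y') = phi β e f y + phi β e f y' :=
  phi_eq H P β hβ (Rl.add H P β (phi_rl H P β hβ hy) (phi_rl H P β hβ hy'))

theorem phi_zero : phi β e f 0 = 0 := phi_eq H P β hβ (Rl.zero H P β)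

theorem phi_neg {y : Fin n → F} (hy : InW q e f y) : phi β e f (-y) = -phi β e f y := by
  have h := phi_add H P β hβ hy hy.neg
  rw [add_neg_cancel, phi_zero H P β hβ] at h
  exact (neg_eq_of_add_eq_zero_right h.symm).symm

theorem phi_sub {y y' : Fin n → F} (hy : InW q e f y) (hy' : InW q e f y') :
    phi β e f (y - y') = phi β e f y - phi β e f y' := by
  rw [sub_eq_add_neg, phi_add H P β hβ hy hy'.neg, phi_neg H P β hβ hy', ← sub_eq_add_neg]

theorem phi_spec {y : Fin n → F} {B : Cfsg.SU n F q} {c : F} (hB : Par q e f B y c) :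
    ∃ B' c', Par q e f B' (phi β e f y) c' ∧ β (pr B) = pr B' :=
  (phi_rl H P β hβ hB.1).spec H P β hβ hB

theorem phi_conjL {y : Fin n → F} (hy : InW q e f y) {l l' : Cfsg.SU n F q}
    {a b a' b' : F} (ha : a ≠ 0) (hb : b ≠ 0) (ha' : a' ≠ 0) (hb' : b' ≠ 0)
    (hle : (l ▹ e) = a • e) (hlf : (l ▹ f) = b • f) (hle' : (l' ▹ e) = a' • e)
    (hlf' : (l' ▹ f) = b' • f) (hll' : β (pr l) = pr l') :
    phi β e f (a ^ q • (l ▹ y)) = a' ^ q • (l' ▹ phi β e f y) :=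
  phi_eq H P β hβ ((phi_rl H P β hβ hy).conjL H P β hβ ha hb ha' hb' hle hlf hle' hlf' hll')

theorem phi_symm {y : Fin n → F} (hy : InW q e f y) :
    phi β.symm e f (phi β e f y) = y :=
  phi_eq H P β.symm hβ.symm (phi_rl H P β hβ hy).symm

theorem phi_symm' {y : Fin n → F} (hy : InW q e f y) :
    phi β e f (phi β.symm e f y) = y :=
  phi_eq H P β hβ (phi_rl H P β.symm hβ.symm hy).symm'

theorem phi_inj {y : Fin n → F} (hy : InW q e f y) (h : phi β e f y = 0) : y = 0 := by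
  have h1 := phi_symm H P β hβ hy
  rw [h, phi_zero H P β.symm hβ.symm] at h1
  exact h1.symm

theorem phi_ne {y : Fin n → F} (hy : InW q e f y) (h : y ≠ 0) : phi β e f y ≠ 0 :=
  fun h0 => h (phi_inj H P β hβ hy h0)

end Phi

/-! ### the induced map on a root subgroup -/

/-- the relation induced on the parameters of root subgroups -/
def Rt (β : Cfsg.PSU n F q ≃* Cfsg.PSU n F q) (v v' : Fin n → F) (κ κ' : F) : Prop :=
  ∃ T T' : Cfsg.SU n F q, IsTv T v κ ∧ IsTv T' v' κ' ∧ κ + κ ^ q = 0 ∧ κ' + κ' ^ q = 0 ∧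
    β (pr T) = pr T'

section RtSec

variable (H : Hyp F p r q n) (β : Cfsg.PSU n F q ≃* Cfsg.PSU n F q) {v v' : Fin n → F}
  (hv : Cfsg.hermForm n F q v v = 0) (hv' : Cfsg.hermForm n F q v' v' = 0) (hv0 : v ≠ 0)
  (hv'0 : v' ≠ 0) (hβ : MapsX β v v')
include H hv hv' hv0 hv'0 hβ

theorem Rt.total {κ : F} (hκ : κ + κ ^ q = 0) : ∃ κ', Rt β v v' κ κ' := by
  have hT : IsTv (tvElt H.hF v κ hv hκ) v κ := rfl
  obtain ⟨T', κ', hκ', hT', h⟩ := (hβ _).mp ⟨_, κ, hκ, hT, rfl⟩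
  exact ⟨κ', _, T', hT, hT', hκ, hκ', h.symm⟩

theorem Rt.spec {κ κ' : F} (h : Rt β v v' κ κ') {T : Cfsg.SU n F q} (hT : IsTv T v κ) :
    ∃ T', IsTv T' v' κ' ∧ β (pr T) = pr T' := by
  obtain ⟨T₀, T', hT₀, hT', -, -, h1⟩ := h
  rw [hT.eq hT₀]
  exact ⟨T', hT', h1⟩

theorem Rt.func {κ κ₁ κ₂ : F} (h₁ : Rt β v v' κ κ₁) (h₂ : Rt β v v' κ κ₂) : κ₁ = κ₂ := by
  obtain ⟨T, T₂, hT, hT₂, -, -, h2⟩ := h₂
  obtain ⟨T₁, hT₁, h1⟩ := h₁.spec H β hv hv' hv0 hv'0 hβ hT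
  have h3 := InX.lift_unique H hv' hv' hT₁ hT₂ (h1.symm.trans h2)
  rw [h3] at hT₁
  exact hT₁.param_eq H.hF hT₂ hv'0

omit hv0 hv'0 hβ in
theorem Rt.add {κ₁ κ₁' κ₂ κ₂' : F} (h₁ : Rt β v v' κ₁ κ₁') (h₂ : Rt β v v' κ₂ κ₂') :
    Rt β v v' (κ₁ + κ₂) (κ₁' + κ₂') := by
  obtain ⟨T₁, T₁', h1, h2, h3, h4, h5⟩ := h₁
  obtain ⟨T₂, T₂', g1, g2, g3, g4, g5⟩ := h₂
  refine ⟨T₁ * T₂, T₁' * T₂', h1.mul g1 hv, h2.mul g2 hv', ?_, ?_, ?_⟩
  · rw [frob_add H.hF]
    linear_combination h3 + g3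
  · rw [frob_add H.hF]
    linear_combination h4 + g4
  · rw [map_mul, map_mul, map_mul, h5, g5]

omit hv0 hv'0 hβ in
theorem Rt.zero : Rt β v v' 0 0 := by
  have hq := H.two_le_q
  have h0 : (0 : F) + 0 ^ q = 0 := by rw [zero_pow (by omega), add_zero]
  exact ⟨1, 1, isTv_one v, isTv_one v', h0, h0, by simp⟩

end RtSec

theorem Rt.symm {β : Cfsg.PSU n F q ≃* Cfsg.PSU n F q} {v v' : Fin n → F} {κ κ' : F}
    (h : Rt β v v' κ κ') : Rt β.symm v' v κ' κ := by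
  obtain ⟨T, T', h1, h2, h3, h4, h5⟩ := h
  exact ⟨T', T, h2, h1, h4, h3, by rw [← h5, β.symm_apply_apply]⟩

open Classical in
/-- the map induced on the parameters of a root subgroup -/
noncomputable def phit (β : Cfsg.PSU n F q ≃* Cfsg.PSU n F q) (v v' : Fin n → F) (κ : F) : F :=
  if h : ∃ κ', Rt β v v' κ κ' then Classical.choose h else 0

section Phit

variable (H : Hyp F p r q n) (β : Cfsg.PSU n F q ≃* Cfsg.PSU n F q) {v v' : Fin n → F}
  (hv : Cfsg.hermForm n F q v v = 0) (hv' : Cfsg.hermForm n F q v' v' = 0) (hv0 : v ≠ 0)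
  (hv'0 : v' ≠ 0) (hβ : MapsX β v v')
include H hv hv' hv0 hv'0 hβ

theorem phit_rt {κ : F} (hκ : κ + κ ^ q = 0) : Rt β v v' κ (phit β v v' κ) := by
  unfold phit
  rw [dif_pos (Rt.total H β hv hv' hv0 hv'0 hβ hκ)]
  exact Classical.choose_spec (Rt.total H β hv hv' hv0 hv'0 hβ hκ)

theorem phit_eq {κ κ' : F} (h : Rt β v v' κ κ') : phit β v v' κ = κ' := by
  obtain ⟨T, T', h1, h2, h3, h4, h5⟩ := h
  exact Rt.func H β hv hv' hv0 hv'0 hβ (phit_rt H β hv hv' hv0 hv'0 hβ h3)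
    ⟨T, T', h1, h2, h3, h4, h5⟩

theorem phit_tr {κ : F} (hκ : κ + κ ^ q = 0) :
    phit β v v' κ + (phit β v v' κ) ^ q = 0 := by
  obtain ⟨T, T', h1, h2, h3, h4, h5⟩ := phit_rt H β hv hv' hv0 hv'0 hβ hκ
  exact h4

theorem phit_spec {κ : F} (hκ : κ + κ ^ q = 0) {T : Cfsg.SU n F q} (hT : IsTv T v κ) :
    ∃ T', IsTv T' v' (phit β v v' κ) ∧ β (pr T) = pr T' :=
  (phit_rt H β hv hv' hv0 hv'0 hβ hκ).spec H β hv hv' hv0 hv'0 hβ hT

theorem phit_add {κ₁ κ₂ : F} (h₁ : κ₁ + κ₁ ^ q = 0) (h₂ : κ₂ + κ₂ ^ q = 0) :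
    phit β v v' (κ₁ + κ₂) = phit β v v' κ₁ + phit β v v' κ₂ :=
  phit_eq H β hv hv' hv0 hv'0 hβ (Rt.add H β hv hv' (phit_rt H β hv hv' hv0 hv'0 hβ h₁)
    (phit_rt H β hv hv' hv0 hv'0 hβ h₂))

theorem phit_zero : phit β v v' 0 = 0 :=
  phit_eq H β hv hv' hv0 hv'0 hβ (Rt.zero H β hv hv')

theorem phit_inj {κ : F} (hκ : κ + κ ^ q = 0) (h : phit β v v' κ = 0) : κ = 0 := by
  have h1 := (phit_rt H β hv hv' hv0 hv'0 hβ hκ).symm
  rw [h] at h1
  exact Rt.func H β.symm hv' hv hv'0 hv0 hβ.symm h1 (Rt.zero H β.symm hv' hv)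

end Phit

/-! ### isotropic lines of `W` -/

section Lines

variable (H : Hyp F p r q n) (P : HypPair q e f) (β : Cfsg.PSU n F q ≃* Cfsg.PSU n F q)
  (hβe : MapsX β e e) (hβf : MapsX β f f)
include H P hβe hβf

/-- the image of the root subgroup of an isotropic vector of `W` -/
theorem exists_mapsX_W {a : Fin n → F} (haW : InW q e f a) (ha0 : a ≠ 0) (haa : ⟪a, a⟫ = 0) :
    ∃ a', InW q e f a' ∧ a' ≠ 0 ∧ ⟪a', a'⟫ = 0 ∧ MapsX β a a' := by
  obtain ⟨a', ha'0, ha'a', hm⟩ := exists_mapsX H β ha0 haa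
  refine ⟨a', ⟨?_, ?_⟩, ha'0, ha'a', hm⟩
  · exact (orth_iff_of_mapsX H haa P.hee P.e_ne ha'a' P.hee P.e_ne hm hβe).mp haW.1
  · exact (orth_iff_of_mapsX H haa P.hff (P.f_ne H.hF) ha'a' P.hff (P.f_ne H.hF) hm hβf).mp haW.2

theorem tvW_smv_e {a : Fin n → F} (haW : InW q e f a) {t : Cfsg.SU n F q} {κ : F}
    (ht : IsTv t a κ) : (t ▹ e) = (1 : F) • e := by
  rw [ht.smv, haW.eh H.hF, mul_zero, zero_smul, add_zero, one_smul]

theorem tvW_smv_f {a : Fin n → F} (haW : InW q e f a) {t : Cfsg.SU n F q} {κ : F}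
    (ht : IsTv t a κ) : (t ▹ f) = (1 : F) • f := by
  rw [ht.smv, haW.fh H.hF, mul_zero, zero_smul, add_zero, one_smul]

/-- `phi` intertwines the transvections of `W` -/
theorem phi_tvW {a a' : Fin n → F} (haW : InW q e f a) (ha'W : InW q e f a')
    {t t' : Cfsg.SU n F q} {κ κ' : F} (ht : IsTv t a κ) (ht' : IsTv t' a' κ')
    (htt' : β (pr t) = pr t') {y : Fin n → F} (hy : InW q e f y) :
    phi β e f (t ▹ y) = (t' ▹ phi β e f y) := by
  have h := phi_conjL H P β hβe hy one_ne_zero one_ne_zero one_ne_zero one_ne_zero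
    (tvW_smv_e H P β hβe hβf haW ht) (tvW_smv_f H P β hβe hβf haW ht)
    (tvW_smv_e H P β hβe hβf ha'W ht') (tvW_smv_f H P β hβe hβf ha'W ht') htt'
  rwa [one_pow, one_smul, one_smul] at h

/-- isotropic lines of `W` are mapped into isotropic lines -/
theorem phi_line {a a' : Fin n → F} (haW : InW q e f a) (ha0 : a ≠ 0) (haa : ⟪a, a⟫ = 0)
    (ha'W : InW q e f a') (ha'0 : a' ≠ 0) (ha'a' : ⟪a', a'⟫ = 0) (hm : MapsX β a a') (x : F) :
    ∃ x' : F, phi β e f (x • a) = x' • a' := by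
  obtain ⟨b, hbW, hbb, hab⟩ := exists_hyperbolic_partner_in H.hF _ (nonDegW H.hF P)
    (inW_iff.mp haW) ha0 haa
  have hbW' : InW q e f b := inW_iff.mpr hbW
  have hba : ⟪b, a⟫ = 1 := by rw [← hermForm_conj H.hF, hab, one_pow]
  obtain ⟨κ, hκ0, hκ⟩ := Cfsg.Agent.Helper5.exists_trace_zero H.hF
  have hκ' : κ + κ ^ q = 0 := by rw [hκ]; ring
  have ht : IsTv (tvElt H.hF a κ haa hκ') a κ := rfl
  obtain ⟨t', ht', htt'⟩ := phit_spec H β haa ha'a' ha0 ha'0 hm hκ' ht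
  set y : Fin n → F := (κ⁻¹ * x) • b with hy
  have hyW : InW q e f y := hbW'.smul _
  have h1 := phi_tvW H P β hβe hβf haW ha'W ht ht' htt' hyW
  have h2 : ((tvElt H.hF a κ haa hκ') ▹ y) = y + x • a := by
    rw [ht.smv, hy, hermForm_smul_left, hba, mul_one, ← mul_assoc, mul_inv_cancel₀ hκ0, one_mul]
  rw [h2, phi_add H P β hβe hyW (haW.smul x), ht'.smv] at h1
  exact ⟨_, add_left_cancel h1⟩

end Lines

end Cfsg.Agent.Helper37.AutU
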