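import Mathlib
import Cfsg.Agent.Helper37.AutUJ

/-!
Helper37: automorphisms of `PSU_n(q)`.  Part K: torus elements of `SU_n(q)` and some facts on the
multiplicative group of the field.
-/

set_option autoImplicit false
set_option linter.unusedSectionVars false
set_option linter.unusedVariables false
set_option linter.style.haveILetI false

namespace Cfsg.Agent.Helper37.AutU

open Matrix Cfsg.Agent.Helper13

variable {F : Type*} [Field F] [Fintype F] {p r q n : ℕ}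

local notation "⟪" x ", " y "⟫" => Cfsg.hermForm n F q x y
local notation:73 A:74 " ▹ " x:73 => (suMat A) *ᵥ x

theorem exists_su_of {M : Matrix (Fin n) (Fin n) F} (hdet : M.det = 1) (hU : IsU q M) :
    ∃ A : Cfsg.SU n F q, suMat A = M :=
  ⟨⟨⟨M, hdet⟩, hU⟩, rfl⟩

/-- coefficients of a hyperbolic rotation -/
theorem hyp_coeffs (hF : Fintype.card F = q ^ 2) {a : F} (ha : a ≠ 0) :
    (a - 1) ^ q + ((a ^ q)⁻¹ - 1) + ((a ^ q)⁻¹ - 1) * (a - 1) ^ q = 0 ∧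
      ((a ^ q)⁻¹ - 1) ^ q + (a - 1) + (a - 1) * ((a ^ q)⁻¹ - 1) ^ q = 0 := by
  have haq0 : a ^ q ≠ 0 := pow_ne_zero _ ha
  have hαq : (a - 1) ^ q = a ^ q - 1 := by
    rw [frob_sub' hF, one_pow]
  have hβq : ((a ^ q)⁻¹ - 1) ^ q = a⁻¹ - 1 := by
    rw [frob_sub' hF, one_pow, inv_pow, frob_frob hF]
  constructor
  · rw [hαq]
    field_simp
    ring
  · rw [hβq]
    field_simp
    ring

section Torus

variable {e f : Fin n → F}

/-- a hyperbolic rotation -/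
theorem exists_hypRot (hF : Fintype.card F = q ^ 2) {u u' : Fin n → F} (huu : ⟪u, u⟫ = 0)
    (hu'u' : ⟪u', u'⟫ = 0) (huu' : ⟪u, u'⟫ = 1) {a : F} (ha : a ≠ 0) :
    ∃ M : Matrix (Fin n) (Fin n) F, IsU q M ∧ M.det = a * (a ^ q)⁻¹ ∧
      ∀ x, M *ᵥ x = x + ((a - 1) * ⟪x, u'⟫) • u + (((a ^ q)⁻¹ - 1) * ⟪x, u⟫) • u' := by
  have hu'u : ⟪u', u⟫ = 1 := by rw [← hermForm_conj hF, huu', one_pow]
  obtain ⟨hc1, hc2⟩ := hyp_coeffs hF ha
  refine ⟨hypMat q u u' (a - 1) ((a ^ q)⁻¹ - 1), ?_, ?_, ?_⟩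
  · intro x y
    exact hypMat_preserves hF u u' _ _ huu hu'u' huu' hc1 hc2 x y
  · rw [det_hypMat, huu', hu'u]
    ring
  · intro x
    exact hypMat_mulVec u u' _ _ hu'u' x

/-- a quasi-reflection -/
theorem exists_quasiRefl (hF : Fintype.card F = q ^ 2) {w : Fin n → F} (hww : ⟪w, w⟫ = 1)
    {ρ : F} (hρ : ρ * ρ ^ q = 1) :
    ∃ M : Matrix (Fin n) (Fin n) F, IsU q M ∧ M.det = ρ ∧
      ∀ x, M *ᵥ x = x + ((ρ - 1) * ⟪x, w⟫) • w := by
  refine ⟨1 + (ρ - 1) • rankOne q w w, ?_, ?_, ?_⟩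
  · intro x y
    have hc : (ρ - 1) ^ q + (ρ - 1) + (ρ - 1) * (ρ - 1) ^ q = 0 := by
      rw [frob_sub' hF, one_pow]
      linear_combination hρ
    rw [one_add_rankOne_mulVec, one_add_rankOne_mulVec]
    simp only [hermForm_add_left, hermForm_add_right hF, hermForm_smul_left, hermForm_smul_right,
      mul_pow, hermForm_conj hF y w, hww]
    linear_combination (⟪x, w⟫ * ⟪w, y⟫) * hc
  · rw [det_one_add_rankOne, hww]
    ring
  · intro x
    exact one_add_rankOne_mulVec _ _ _ _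

/-- the torus element attached to a hyperbolic pair of `W` -/
theorem exists_torusH (hF : Fintype.card F = q ^ 2) (P : HypPair q e f) {a b : Fin n → F}
    (haW : InW q e f a) (hbW : InW q e f b) (haa : ⟪a, a⟫ = 0) (hbb : ⟪b, b⟫ = 0)
    (hab : ⟪a, b⟫ = 1) {m : F} (hm : m ≠ 0) :
    ∃ l : Cfsg.SU n F q, (l ▹ e) = m • e ∧ (l ▹ f) = (m ^ q)⁻¹ • f ∧ (l ▹ a) = m ^ q • a := by
  have hmq : m ^ q ≠ 0 := pow_ne_zero _ hm
  obtain ⟨M₁, hU₁, hd₁, hM₁⟩ := exists_hypRot hF P.hee P.hff P.hef hm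
  obtain ⟨M₂, hU₂, hd₂, hM₂⟩ := exists_hypRot hF haa hbb hab hmq
  have hdet : (M₁ * M₂).det = 1 := by
    rw [Matrix.det_mul, hd₁, hd₂, frob_frob hF]
    field_simp
  obtain ⟨l, hl⟩ := exists_su_of hdet (hU₁.mul hU₂)
  refine ⟨l, ?_, ?_, ?_⟩
  · have h0 : M₂ *ᵥ e = e := by
      rw [hM₂, haW.eh hF, hbW.eh hF]
      simp only [mul_zero, zero_smul, add_zero]
    rw [hl, ← Matrix.mulVec_mulVec, h0, hM₁, P.hee, P.hef]
    simp only [mul_zero, zero_smul, add_zero, mul_one]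
    rw [sub_smul, one_smul]
    abel
  · have h0 : M₂ *ᵥ f = f := by
      rw [hM₂, haW.fh hF, hbW.fh hF]
      simp only [mul_zero, zero_smul, add_zero]
    rw [hl, ← Matrix.mulVec_mulVec, h0, hM₁, P.hff, P.hfe hF]
    simp only [mul_zero, zero_smul, add_zero, mul_one]
    rw [sub_smul, one_smul]
    abel
  · have hba : ⟪b, a⟫ = 1 := by rw [← hermForm_conj hF, hab, one_pow]
    rw [hl, ← Matrix.mulVec_mulVec, hM₂, haa, hab]
    simp only [mul_zero, zero_smul, add_zero, mul_one]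
    have h1 : a + (m ^ q - 1) • a = m ^ q • a := by
      rw [sub_smul, one_smul]
      abel
    rw [h1, Matrix.mulVec_smul, hM₁, haW.1, haW.2]
    simp only [mul_zero, zero_smul, add_zero]

/-- the torus element attached to a unit vector of `W` -/
theorem exists_torusA (hF : Fintype.card F = q ^ 2) (P : HypPair q e f) {w : Fin n → F}
    (hwW : InW q e f w) (hww : ⟪w, w⟫ = 1) {m : F} (hm : m ≠ 0) :
    ∃ l : Cfsg.SU n F q, (l ▹ e) = m • e ∧ (l ▹ f) = (m ^ q)⁻¹ • f ∧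
      (l ▹ w) = (m ^ q * m⁻¹) • w := by
  have hmq : m ^ q ≠ 0 := pow_ne_zero _ hm
  have hρ : (m ^ q * m⁻¹) * (m ^ q * m⁻¹) ^ q = 1 := by
    rw [mul_pow, inv_pow, frob_frob hF]
    field_simp
  obtain ⟨M₁, hU₁, hd₁, hM₁⟩ := exists_hypRot hF P.hee P.hff P.hef hm
  obtain ⟨M₂, hU₂, hd₂, hM₂⟩ := exists_quasiRefl hF hww hρ
  have hdet : (M₁ * M₂).det = 1 := by
    rw [Matrix.det_mul, hd₁, hd₂]
    field_simp
  obtain ⟨l, hl⟩ := exists_su_of hdet (hU₁.mul hU₂)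
  refine ⟨l, ?_, ?_, ?_⟩
  · have h0 : M₂ *ᵥ e = e := by
      rw [hM₂, hwW.eh hF]
      simp only [mul_zero, zero_smul, add_zero]
    rw [hl, ← Matrix.mulVec_mulVec, h0, hM₁, P.hee, P.hef]
    simp only [mul_zero, zero_smul, add_zero, mul_one]
    rw [sub_smul, one_smul]
    abel
  · have h0 : M₂ *ᵥ f = f := by
      rw [hM₂, hwW.fh hF]
      simp only [mul_zero, zero_smul, add_zero]
    rw [hl, ← Matrix.mulVec_mulVec, h0, hM₁, P.hff, P.hfe hF]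
    simp only [mul_zero, zero_smul, add_zero, mul_one]
    rw [sub_smul, one_smul]
    abel
  · rw [hl, ← Matrix.mulVec_mulVec, hM₂, hww, mul_one]
    have h1 : w + (m ^ q * m⁻¹ - 1) • w = (m ^ q * m⁻¹) • w := by
      rw [sub_smul, one_smul]
      abel
    rw [h1, Matrix.mulVec_smul, hM₁, hwW.1, hwW.2]
    simp only [mul_zero, zero_smul, add_zero]

end Torus

/-! ### the multiplicative group -/

/-- a generator of the multiplicative group -/
theorem exists_gen (hF : Fintype.card F = q ^ 2) :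
    ∃ γ : F, γ ≠ 0 ∧ ∀ k : ℕ, γ ^ k = 1 → (q ^ 2 - 1) ∣ k := by
  obtain ⟨g, hg⟩ := IsCyclic.exists_generator (α := Fˣ)
  have h1 : orderOf g = q ^ 2 - 1 := by
    rw [orderOf_eq_card_of_forall_mem_zpowers hg, Nat.card_units, Nat.card_eq_fintype_card, hF]
  refine ⟨(g : F), g.ne_zero, fun k hk => ?_⟩
  rw [← h1]
  apply orderOf_dvd_of_pow_eq_one
  apply Units.ext
  rw [Units.val_pow_eq_pow_val, hk, Units.val_one]

theorem sq_sub_one_eq {j : ℕ} : (j + 3) ^ 2 - 1 = (j + 2) * (j + 4) := by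
  apply Nat.sub_eq_of_eq_add
  ring

theorem not_dvd_aux {j : ℕ} (h : (j + 4) ∣ 2 * j + 5) : False := by
  have h1 : (j + 4) ∣ 2 * (j + 4) - (2 * j + 5) := Nat.dvd_sub (dvd_mul_left (j + 4) 2) h
  have h2 : 2 * (j + 4) - (2 * j + 5) = 3 := by omega
  rw [h2] at h1
  have := Nat.le_of_dvd (by norm_num) h1
  omega

/-- for `q > 2` some `m^(2q-1)` is not fixed by the Frobenius -/
theorem exists_C_nonfixed (hF : Fintype.card F = q ^ 2) (hq : 2 < q) :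
    ∃ m : F, m ≠ 0 ∧ ((m ^ q) ^ 2 * m⁻¹) ^ q ≠ (m ^ q) ^ 2 * m⁻¹ := by
  obtain ⟨γ, hγ0, hγ⟩ := exists_gen hF
  refine ⟨γ, hγ0, fun h => ?_⟩
  obtain ⟨j, rfl⟩ : ∃ j, q = j + 3 := ⟨q - 3, by omega⟩
  have h1 : (γ ^ (j + 3)) ^ 2 * γ⁻¹ = γ ^ (2 * j + 5) := by
    have : (γ ^ (j + 3)) ^ 2 = γ ^ (2 * j + 5) * γ := by
      rw [← pow_mul, ← pow_succ]
      congr 1
      ring
    rw [this, mul_assoc, mul_inv_cancel₀ hγ0, mul_one]
  rw [h1, ← pow_mul] at h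
  have h2 : γ ^ ((2 * j + 5) * (j + 2)) = 1 := by
    have h3 : (2 * j + 5) * (j + 3) = (2 * j + 5) + (2 * j + 5) * (j + 2) := by ring
    rw [h3, pow_add] at h
    have h4 : γ ^ (2 * j + 5) ≠ 0 := pow_ne_zero _ hγ0
    have h5 : γ ^ (2 * j + 5) * γ ^ ((2 * j + 5) * (j + 2)) = γ ^ (2 * j + 5) * 1 := by
      rw [h, mul_one]
    exact mul_left_cancel₀ h4 h5
  have h3 := hγ _ h2
  rw [sq_sub_one_eq, mul_comm (2 * j + 5) (j + 2)] at h3
  exact not_dvd_aux (Nat.dvd_of_mul_dvd_mul_left (by omega) h3)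

/-- for `q > 2` there is a norm one element whose cube is not `1` -/
theorem exists_U1_cube_ne (hF : Fintype.card F = q ^ 2) (hq : 2 < q) :
    ∃ ζ : F, ζ * ζ ^ q = 1 ∧ ζ ^ 3 ≠ 1 := by
  obtain ⟨γ, hγ0, hγ⟩ := exists_gen hF
  obtain ⟨j, rfl⟩ : ∃ j, q = j + 3 := ⟨q - 3, by omega⟩
  refine ⟨γ ^ (j + 2), ?_, fun h => ?_⟩
  · have h1 : γ ^ (j + 2) * (γ ^ (j + 2)) ^ (j + 3) = γ ^ ((j + 3) ^ 2 - 1) := by
      rw [sq_sub_one_eq, ← pow_mul, ← pow_add]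
      congr 1
      ring
    rw [h1, ← hF]
    exact FiniteField.pow_card_sub_one_eq_one γ hγ0
  · rw [← pow_mul] at h
    have h3 := hγ _ h
    rw [sq_sub_one_eq] at h3
    have h4 : (j + 4) ∣ 3 := Nat.dvd_of_mul_dvd_mul_left (by omega : 0 < j + 2) h3
    have := Nat.le_of_dvd (by norm_num) h4
    omega

end Cfsg.Agent.Helper37.AutU
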