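import Mathlib
import Cfsg.Agent.Helper37.AutUK

/-!
Helper37: automorphisms of `PSU_n(q)`.  Part L: the map induced on `W` is semilinear with respect
to a field automorphism.
-/

set_option autoImplicit false
set_option linter.unusedSectionVars false
set_option linter.unusedVariables false
set_option linter.style.haveILetI false

namespace Cfsg.Agent.Helper37.AutU

open Matrix Cfsg.Agent.Helper13

variable {F : Type*} [Field F] [Fintype F] {p r q n : ℕ}

local notation "⟪" x ", " y "⟫" => Cfsg.hermForm n F q x y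
local notation:73 A:74 " ▹ " x:73 => (suMat A) *ᵥ x

/-! ### field theory -/

/-- an additive map which is multiplicative on an additively generating set -/
theorem mult_of_closure {s : F → F} (hadd : ∀ x y, s (x + y) = s x + s y) (h1 : s 1 = 1)
    (S : Set F) (hS : ∀ m ∈ S, ∃ d, ∀ x, s (m * x) = d * s x)
    (hspan : AddSubgroup.closure S = ⊤) : ∀ m x, s (m * x) = s m * s x := by
  have h0 : s 0 = 0 := by
    have := hadd 0 0
    rw [add_zero] at this
    exact left_eq_add.mp this
  have hneg : ∀ x, s (-x) = -s x := by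
    intro x
    have := hadd x (-x)
    rw [add_neg_cancel, h0] at this
    exact (neg_eq_of_add_eq_zero_right this.symm).symm
  let K : AddSubgroup F :=
    { carrier := {m | ∀ x, s (m * x) = s m * s x}
      zero_mem' := by
        intro x
        rw [zero_mul, h0, zero_mul]
      add_mem' := by
        intro a b ha hb x
        rw [add_mul, hadd, ha x, hb x, hadd, add_mul]
      neg_mem' := by
        intro a ha x
        rw [neg_mul, hneg, ha x, hneg, neg_mul] }
  have hSK : S ⊆ K := by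
    intro m hm x
    obtain ⟨d, hd⟩ := hS m hm
    have h2 := hd 1
    rw [mul_one, h1, mul_one] at h2
    rw [hd x, h2]
  have hK : K = ⊤ := by
    rw [eq_top_iff, ← hspan, AddSubgroup.closure_le]
    exact hSK
  intro m x
  have : m ∈ K := by rw [hK]; exact AddSubgroup.mem_top m
  exact this x

/-- the squares generate a finite field additively -/
theorem closure_squares : AddSubgroup.closure {m : F | ∃ t : F, m = t ^ 2} = ⊤ := by
  rw [eq_top_iff]
  intro x _
  by_cases h2 : (2 : F) = 0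
  · have hc : ringChar F = 2 :=
      CharP.ringChar_of_prime_eq_zero Nat.prime_two (by exact_mod_cast h2)
    obtain ⟨t, ht⟩ := FiniteField.isSquare_of_char_two hc x
    exact AddSubgroup.subset_closure ⟨t, by rw [ht, sq]⟩
  · have hx : x = ((x + 1) / 2) ^ 2 - ((x - 1) / 2) ^ 2 := by
      field_simp
      ring
    rw [hx]
    exact AddSubgroup.sub_mem _ (AddSubgroup.subset_closure ⟨_, rfl⟩)
      (AddSubgroup.subset_closure ⟨_, rfl⟩)

/-- for `q > 2` the elements `m^(2q-1)` generate the field additively -/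
theorem closure_C (hF : Fintype.card F = q ^ 2) (hq : 2 < q) :
    AddSubgroup.closure {c : F | ∃ m : F, m ≠ 0 ∧ c = (m ^ q) ^ 2 * m⁻¹} = ⊤ := by
  obtain ⟨m₀, hm₀, hc₀⟩ := exists_C_nonfixed hF hq
  set c₀ : F := (m₀ ^ q) ^ 2 * m₀⁻¹ with hc₀def
  have hfix : ∀ s : F, s ^ q = s → s ≠ 0 →
      s * c₀ ∈ AddSubgroup.closure {c : F | ∃ m : F, m ≠ 0 ∧ c = (m ^ q) ^ 2 * m⁻¹} := by
    intro s hs hs0
    apply AddSubgroup.subset_closure
    refine ⟨s * m₀, mul_ne_zero hs0 hm₀, ?_⟩
    rw [mul_pow, hs, hc₀def]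
    field_simp
  have hfix1 : ∀ s : F, s ^ q = s → s ≠ 0 →
      s ∈ AddSubgroup.closure {c : F | ∃ m : F, m ≠ 0 ∧ c = (m ^ q) ^ 2 * m⁻¹} := by
    intro s hs hs0
    apply AddSubgroup.subset_closure
    refine ⟨s, hs0, ?_⟩
    rw [hs]
    field_simp
  rw [eq_top_iff]
  intro x _
  set d : F := c₀ - c₀ ^ q with hd
  have hd0 : d ≠ 0 := fun h => hc₀ (sub_eq_zero.mp h).symm
  have hdq : d ^ q = -d := by
    rw [hd, frob_sub' hF, frob_frob hF]
    ring
  set s : F := (x - x ^ q) * d⁻¹ with hs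
  have hsq : s ^ q = s := by
    rw [hs, mul_pow, inv_pow, hdq, frob_sub' hF, frob_frob hF]
    field_simp
    ring
  set t : F := x - s * c₀ with ht
  have htq : t ^ q = t := by
    rw [ht, frob_sub' hF, mul_pow, hsq]
    have : s * d = x - x ^ q := by
      rw [hs, mul_assoc, inv_mul_cancel₀ hd0, mul_one]
    rw [hd] at this
    linear_combination this
  have hx : x = t + s * c₀ := by rw [ht]; ring
  rw [hx]
  apply AddSubgroup.add_mem
  · by_cases ht0 : t = 0
    · rw [ht0]; exact AddSubgroup.zero_mem _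
    · exact hfix1 t htq ht0
  · by_cases hs0 : s = 0
    · rw [hs0, zero_mul]; exact AddSubgroup.zero_mem _
    · exact hfix s hsq hs0

variable {e f : Fin n → F}

/-! ### auxiliary facts -/

theorem inW_smv (hF : Fintype.card F = q ^ 2) {l : Cfsg.SU n F q} {a b : F} (ha : a ≠ 0)
    (hb : b ≠ 0) (hle : (l ▹ e) = a • e) (hlf : (l ▹ f) = b • f) {y : Fin n → F}
    (hy : InW q e f y) : InW q e f (l ▹ y) := by
  have haq : a ^ q ≠ 0 := pow_ne_zero q ha
  have hbq : b ^ q ≠ 0 := pow_ne_zero q hb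
  constructor
  · have h2 : ⟪l ▹ y, l ▹ e⟫ = 0 := by rw [herm_smv]; exact hy.1
    rw [hle, hermForm_smul_right] at h2
    rcases mul_eq_zero.mp h2 with h3 | h3
    · exact absurd h3 haq
    · exact h3
  · have h2 : ⟪l ▹ y, l ▹ f⟫ = 0 := by rw [herm_smv]; exact hy.2
    rw [hlf, hermForm_smul_right] at h2
    rcases mul_eq_zero.mp h2 with h3 | h3
    · exact absurd h3 hbq
    · exact h3

theorem InP.map' {β : Cfsg.PSU n F q ≃* Cfsg.PSU n F q} {v v' : Fin n → F} (hβ : MapsX β v v')
    {x : Cfsg.PSU n F q} (hx : InP q v x) : InP q v' (β x) := by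
  intro s hs
  have hs' : InX q v (β.symm s) := (hβ.symm s).mp hs
  have h1 := hx _ hs'
  have h2 := (hβ _).mp h1
  rwa [map_mul, map_mul, map_inv, β.apply_symm_apply] at h2

/-- `W` has a non-zero vector -/
theorem exists_inW_ne_zero (H : Hyp F p r q n) (P : HypPair q e f) :
    ∃ w, InW q e f w ∧ w ≠ 0 := by
  have h3 : 3 ≤ Module.finrank F ↥(⊤ : Submodule F (Fin n → F)) := by
    rw [finrank_top, Module.finrank_fin_fun]
    exact H.hn
  obtain ⟨y, hy, hy0⟩ := exists_mem_hypCompl_ne_zero H.hF ⊤ h3 Submodule.mem_top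
    Submodule.mem_top P.hee P.hff P.hef
  exact ⟨y, inW_iff.mpr hy, hy0⟩

/-- if `W` is anisotropic then `n = 3` -/
theorem n_eq_three_of_aniso (H : Hyp F p r q n) (P : HypPair q e f)
    (hani : ∀ x, InW q e f x → ⟪x, x⟫ = 0 → x = 0) : n = 3 := by
  classical
  obtain ⟨w₀, hw₀W, hw₀0⟩ := exists_inW_ne_zero H P
  have hani' : ∀ x ∈ hypCompl q (⊤ : Submodule F (Fin n → F)) e f, ⟪x, x⟫ = 0 → x = 0 :=
    fun x hx hxx => hani x (inW_iff.mpr hx) hxx
  have hle : (⊤ : Submodule F (Fin n → F)) ≤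
      Submodule.span F (({e, f, w₀} : Finset (Fin n → F)) : Set (Fin n → F)) := by
    intro x _
    obtain ⟨c, hc⟩ := eq_smul_of_anisotropic H.hF _ hani' (inW_iff.mp hw₀W) hw₀0
      (inW_iff.mp (hypProj_inW H.hF P x))
    rw [hypProj_decomp (q := q) e f x, hc]
    apply Submodule.add_mem
    · apply Submodule.add_mem
      · exact Submodule.smul_mem _ _ (Submodule.subset_span (by simp))
      · exact Submodule.smul_mem _ _ (Submodule.subset_span (by simp))
    · exact Submodule.smul_mem _ _ (Submodule.subset_span (by simp))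
  have h4 := Submodule.finrank_mono hle
  rw [finrank_top, Module.finrank_fin_fun] at h4
  have h5 : Module.finrank F
      (Submodule.span F (({e, f, w₀} : Finset (Fin n → F)) : Set (Fin n → F))) ≤ _ :=
    finrank_span_finset_le_card (R := F) ({e, f, w₀} : Finset (Fin n → F))
  have h6 : ({e, f, w₀} : Finset (Fin n → F)).card ≤ 3 := Finset.card_le_three
  have := H.hn
  omega

/-! ### lines mapped into lines -/

/-- the line through `a ∈ W` is mapped into the line through `phi a` -/
def LP (β : Cfsg.PSU n F q ≃* Cfsg.PSU n F q) (e f a : Fin n → F) : Prop :=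
  InW q e f a ∧ a ≠ 0 ∧ ∀ x : F, ∃ x' : F, phi β e f (x • a) = x' • phi β e f a

open Classical in
/-- the induced map on scalars along the line of `a` -/
noncomputable def sg (β : Cfsg.PSU n F q ≃* Cfsg.PSU n F q) (e f a : Fin n → F) (x : F) : F :=
  if h : ∃ x' : F, phi β e f (x • a) = x' • phi β e f a then Classical.choose h else 0

section Sg

variable (H : Hyp F p r q n) (P : HypPair q e f) (β : Cfsg.PSU n F q ≃* Cfsg.PSU n F q)
  (hβe : MapsX β e e) (hβf : MapsX β f f) {a : Fin n → F} (hLP : LP β e f a)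
include H P hβe hβf hLP

theorem sg_spec (x : F) : phi β e f (x • a) = sg β e f a x • phi β e f a := by
  unfold sg
  rw [dif_pos (hLP.2.2 x)]
  exact Classical.choose_spec (hLP.2.2 x)

theorem phi_a_ne : phi β e f a ≠ 0 := phi_ne H P β hβe hLP.1 hLP.2.1

theorem sg_eq {x x' : F} (h : phi β e f (x • a) = x' • phi β e f a) : sg β e f a x = x' := by
  have h1 := sg_spec H P β hβe hβf hLP x
  rw [h] at h1
  exact (smul_left_injective F (phi_a_ne H P β hβe hβf hLP) h1).symm

theorem sg_add (x y : F) : sg β e f a (x + y) = sg β e f a x + sg β e f a y := by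
  apply sg_eq H P β hβe hβf hLP
  rw [add_smul, phi_add H P β hβe (hLP.1.smul x) (hLP.1.smul y), sg_spec H P β hβe hβf hLP,
    sg_spec H P β hβe hβf hLP, add_smul]

theorem sg_one : sg β e f a 1 = 1 := by
  apply sg_eq H P β hβe hβf hLP
  rw [one_smul, one_smul]

/-- the consequence of a torus element for `sg` -/
theorem sg_torus {l : Cfsg.SU n F q} {m b c : F} (hm : m ≠ 0) (hb : b ≠ 0)
    (hle : (l ▹ e) = m • e) (hlf : (l ▹ f) = b • f) (hla : (l ▹ a) = c • a)
    (hinv : ∀ (l' : Cfsg.SU n F q) (a₁ b₁ : F), a₁ ≠ 0 → b₁ ≠ 0 → (l' ▹ e) = a₁ • e →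
      (l' ▹ f) = b₁ • f → β (pr l) = pr l' → ∃ α : F, (l' ▹ phi β e f a) = α • phi β e f a) :
    ∃ d : F, ∀ x, sg β e f a (m ^ q * c * x) = d * sg β e f a x := by
  obtain ⟨l', hl'⟩ := pr_surjective (β (pr l))
  have h1 : InP q e (pr l') := by
    rw [hl']
    exact InP.map' hβe (inP_pr_of_eigen H.hF hm hle)
  have h2 : InP q f (pr l') := by
    rw [hl']
    exact InP.map' hβf (inP_pr_of_eigen H.hF hb hlf)
  obtain ⟨a₁, ha₁, hl'e⟩ := eigen_of_inP_pr H P.e_ne P.hee h1
  obtain ⟨b₁, hb₁, hl'f⟩ := eigen_of_inP_pr H (P.f_ne H.hF) P.hff h2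
  obtain ⟨α, hα⟩ := hinv l' a₁ b₁ ha₁ hb₁ hl'e hl'f hl'.symm
  refine ⟨a₁ ^ q * α, fun x => ?_⟩
  apply sg_eq H P β hβe hβf hLP
  have h3 := phi_conjL H P β hβe (hLP.1.smul x) hm hb ha₁ hb₁ hle hlf hl'e hl'f hl'.symm
  have hL : m ^ q • (l ▹ (x • a)) = (m ^ q * c * x) • a := by
    rw [smv_smul, hla, smul_smul, smul_smul]
    congr 1
    ring
  have hR : a₁ ^ q • (l' ▹ phi β e f (x • a)) = (a₁ ^ q * α * sg β e f a x) • phi β e f a := by
    rw [sg_spec H P β hβe hβf hLP x, smv_smul, hα, smul_smul, smul_smul]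
    congr 1
    ring
  rw [hL, hR] at h3
  exact h3

/-- `sg` is a field automorphism as soon as enough torus elements act -/
theorem sg_ring (S : Set F) (hS : ∀ m ∈ S, ∃ d, ∀ x, sg β e f a (m * x) = d * sg β e f a x)
    (hspan : AddSubgroup.closure S = ⊤) :
    ∃ σ : F ≃+* F, ∀ x, σ x = sg β e f a x := by
  have hmul := mult_of_closure (sg_add H P β hβe hβf hLP) (sg_one H P β hβe hβf hLP) S hS hspan
  have h0 : sg β e f a 0 = 0 := by
    have := sg_add H P β hβe hβf hLP 0 0
    rw [add_zero] at this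
    exact left_eq_add.mp this
  let φ : F →+* F :=
    { toFun := sg β e f a
      map_one' := sg_one H P β hβe hβf hLP
      map_mul' := hmul
      map_zero' := h0
      map_add' := sg_add H P β hβe hβf hLP }
  have hinj : Function.Injective φ := φ.injective
  have hbij : Function.Bijective φ := ⟨hinj, Finite.injective_iff_surjective.mp hinj⟩
  exact ⟨RingEquiv.ofBijective φ hbij, fun x => rfl⟩

end Sg

end Cfsg.Agent.Helper37.AutU
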