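import Mathlib
import Cfsg.Agent.Helper37.AutUL

/-!
Helper37: automorphisms of `PSU_n(q)`.  Part M: existence of the field automorphism `σ` such that
the map induced on `W` is `σ`-semilinear.
-/

set_option autoImplicit false
set_option linter.unusedSectionVars false
set_option linter.unusedVariables false
set_option linter.style.haveILetI false

namespace Cfsg.Agent.Helper37.AutU

open Matrix Cfsg.Agent.Helper13

variable {F : Type*} [Field F] [Fintype F] {p r q n : ℕ}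

local notation "⟪" x ", " y "⟫" => Cfsg.hermForm n F q x y
local notation:73 A:74 " ▹ " x:73 => (suMat A) *ᵥ x

variable {e f : Fin n → F}

section SigmaMain

variable (H : Hyp F p r q n) (P : HypPair q e f) (β : Cfsg.PSU n F q ≃* Cfsg.PSU n F q)
  (hβe : MapsX β e e) (hβf : MapsX β f f)
include H P hβe hβf

/-- isotropic vectors of `W` have their lines preserved -/
theorem lp_of_isotropic {a : Fin n → F} (haW : InW q e f a) (ha0 : a ≠ 0) (haa : ⟪a, a⟫ = 0) :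
    LP β e f a ∧ ∃ a', InW q e f a' ∧ a' ≠ 0 ∧ ⟪a', a'⟫ = 0 ∧ MapsX β a a' ∧
      ∃ x₁ : F, x₁ ≠ 0 ∧ phi β e f a = x₁ • a' := by
  obtain ⟨a', ha'W, ha'0, ha'a', hm⟩ := exists_mapsX_W H P β hβe hβf haW ha0 haa
  obtain ⟨x₁, hx₁⟩ := phi_line H P β hβe hβf haW ha0 haa ha'W ha'0 ha'a' hm 1
  rw [one_smul] at hx₁
  have hx₁0 : x₁ ≠ 0 := by
    intro h0
    rw [h0, zero_smul] at hx₁
    exact phi_ne H P β hβe haW ha0 hx₁
  refine ⟨⟨haW, ha0, fun x => ?_⟩, a', ha'W, ha'0, ha'a', hm, x₁, hx₁0, hx₁⟩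
  obtain ⟨x', hx'⟩ := phi_line H P β hβe hβf haW ha0 haa ha'W ha'0 ha'a' hm x
  refine ⟨x' * x₁⁻¹, ?_⟩
  rw [hx', hx₁, smul_smul, mul_assoc, inv_mul_cancel₀ hx₁0, mul_one]

/-- the isotropic case -/
theorem exists_sigma_iso {a : Fin n → F} (haW : InW q e f a) (ha0 : a ≠ 0) (haa : ⟪a, a⟫ = 0) :
    ∃ a₀, LP β e f a₀ ∧ ∃ σ : F ≃+* F, ∀ x, σ x = sg β e f a₀ x := by
  obtain ⟨hLP, a', ha'W, ha'0, ha'a', hm, x₁, hx₁0, hx₁⟩ :=
    lp_of_isotropic H P β hβe hβf haW ha0 haa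
  refine ⟨a, hLP, ?_⟩
  obtain ⟨b, hbW, hbb, hab⟩ := exists_hyperbolic_partner_in H.hF _ (nonDegW H.hF P)
    (inW_iff.mp haW) ha0 haa
  have hbW' : InW q e f b := inW_iff.mpr hbW
  apply sg_ring H P β hβe hβf hLP {m : F | ∃ t : F, m = t ^ 2} ?_ closure_squares
  rintro s ⟨t, rfl⟩
  by_cases ht : t = 0
  · refine ⟨0, fun x => ?_⟩
    have h0 : sg β e f a 0 = 0 := by
      have := sg_add H P β hβe hβf hLP 0 0
      rw [add_zero] at this
      exact left_eq_add.mp this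
    have hq := H.two_le_q
    rw [ht, zero_pow (by norm_num), zero_mul, zero_mul, h0]
  · have hm0 : t ^ q ≠ 0 := pow_ne_zero q ht
    obtain ⟨l, hle, hlf, hla⟩ := exists_torusH H.hF P haW hbW' haa hbb hab hm0
    have hb0 : ((t ^ q) ^ q)⁻¹ ≠ 0 := inv_ne_zero (pow_ne_zero q hm0)
    obtain ⟨d, hd⟩ := sg_torus H P β hβe hβf hLP hm0 hb0 hle hlf hla (by
      intro l' a₁ b₁ ha₁ hb₁ hl'e hl'f hll'
      have h1 : InP q a (pr l) := inP_pr_of_eigen H.hF (pow_ne_zero q hm0) hla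
      have h2 : InP q a' (pr l') := by
        rw [← hll']
        exact InP.map' hm h1
      obtain ⟨α, hα0, hα⟩ := eigen_of_inP_pr H ha'0 ha'a' h2
      refine ⟨α, ?_⟩
      rw [hx₁, smv_smul, hα, smul_smul, smul_smul, mul_comm])
    refine ⟨d, fun x => ?_⟩
    have := hd x
    rw [frob_frob H.hF] at this
    rw [← this]
    congr 1
    ring

/-- the anisotropic case -/
theorem exists_sigma_aniso (hani : ∀ x, InW q e f x → ⟪x, x⟫ = 0 → x = 0) :
    ∃ a₀, LP β e f a₀ ∧ ∃ σ : F ≃+* F, ∀ x, σ x = sg β e f a₀ x := by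
  have hn3 := n_eq_three_of_aniso H P hani
  have hq2 : 2 < q := by
    have h1 := H.two_le_q
    have h2 := H.h32
    by_contra hcon
    exact h2 ⟨hn3, by omega⟩
  have hani' : ∀ x ∈ hypCompl q (⊤ : Submodule F (Fin n → F)) e f, ⟪x, x⟫ = 0 → x = 0 :=
    fun x hx hxx => hani x (inW_iff.mpr hx) hxx
  obtain ⟨w₀, hw₀W, hw₀0⟩ := exists_inW_ne_zero H P
  obtain ⟨w, hwW, hww⟩ := exists_norm_eq_in H.hF _ (nonDegW H.hF P) (inW_iff.mp hw₀W) hw₀0
    (ν := 1) (one_pow q)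
  have hwW' : InW q e f w := inW_iff.mpr hwW
  have hw0 : w ≠ 0 := by
    intro h0
    rw [h0, hermForm_zero_left] at hww
    exact zero_ne_one hww
  have hpw0 : phi β e f w ≠ 0 := phi_ne H P β hβe hwW' hw0
  have hpwW : InW q e f (phi β e f w) := phi_inW H P β hβe hwW'
  have hline : ∀ y, InW q e f y → ∃ c : F, y = c • phi β e f w := fun y hy =>
    eq_smul_of_anisotropic H.hF _ hani' (inW_iff.mp hpwW) hpw0 (inW_iff.mp hy)
  have hLP : LP β e f w :=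
    ⟨hwW', hw0, fun x => hline _ (phi_inW H P β hβe (hwW'.smul x))⟩
  refine ⟨w, hLP, ?_⟩
  apply sg_ring H P β hβe hβf hLP {c : F | ∃ m : F, m ≠ 0 ∧ c = (m ^ q) ^ 2 * m⁻¹} ?_
    (closure_C H.hF hq2)
  rintro s ⟨m, hm0, rfl⟩
  obtain ⟨l, hle, hlf, hla⟩ := exists_torusA H.hF P hwW' hww hm0
  have hb0 : (m ^ q)⁻¹ ≠ 0 := inv_ne_zero (pow_ne_zero q hm0)
  obtain ⟨d, hd⟩ := sg_torus H P β hβe hβf hLP hm0 hb0 hle hlf hla (by
    intro l' a₁ b₁ ha₁ hb₁ hl'e hl'f hll'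
    exact hline _ (inW_smv H.hF ha₁ hb₁ hl'e hl'f hpwW))
  refine ⟨d, fun x => ?_⟩
  rw [← hd x]
  congr 1
  ring

/-- the map induced on `W` is semilinear -/
theorem exists_sigma :
    ∃ σ : F ≃+* F, ∀ y, InW q e f y → ∀ x : F, phi β e f (x • y) = σ x • phi β e f y := by
  have hex : ∃ a₀, LP β e f a₀ ∧ ∃ σ : F ≃+* F, ∀ x, σ x = sg β e f a₀ x := by
    by_cases hiso : ∃ a, InW q e f a ∧ a ≠ 0 ∧ ⟪a, a⟫ = 0
    · obtain ⟨a, haW, ha0, haa⟩ := hiso
      exact exists_sigma_iso H P β hβe hβf haW ha0 haa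
    · push Not at hiso
      apply exists_sigma_aniso H P β hβe hβf
      intro x hx hxx
      by_contra hx0
      exact hiso x hx hx0 hxx
  obtain ⟨a₀, hLP, σ, hσ⟩ := hex
  refine ⟨σ, ?_⟩
  have key : ∀ w, InW q e f w →
      (InW q e f w ∧ ∀ x : F, phi β e f (x • w) = σ x • phi β e f w) := by
    apply irr_W H.hF P (fun w => InW q e f w ∧ ∀ x : F, phi β e f (x • w) = σ x • phi β e f w)
    · refine ⟨a₀, hLP.1, hLP.2.1, hLP.1, fun x => ?_⟩
      rw [hσ]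
      exact sg_spec H P β hβe hβf hLP x
    · rintro a b ⟨ha, ha'⟩ ⟨hb, hb'⟩
      refine ⟨ha.add hb, fun x => ?_⟩
      rw [smul_add, phi_add H P β hβe (ha.smul x) (hb.smul x), ha' x, hb' x,
        phi_add H P β hβe ha hb, smul_add]
    · rintro c a ⟨ha, ha'⟩
      refine ⟨ha.smul c, fun x => ?_⟩
      rw [smul_smul, ha' (x * c), map_mul, ha' c, smul_smul]
    · rintro a κ w haW haa hκ hwW ⟨_, hw'⟩
      by_cases ha0 : a = 0
      · rw [ha0, smul_zero, add_zero]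
        exact ⟨hwW, hw'⟩
      obtain ⟨a', ha'W, ha'0, ha'a', hm⟩ := exists_mapsX_W H P β hβe hβf haW ha0 haa
      have ht : IsTv (tvElt H.hF a κ haa hκ) a κ := rfl
      obtain ⟨t', ht', htt'⟩ := phit_spec H β haa ha'a' ha0 ha'0 hm hκ ht
      have htw : ((tvElt H.hF a κ haa hκ) ▹ w) = w + (κ * ⟪w, a⟫) • a := ht.smv w
      rw [← htw]
      refine ⟨by rw [htw]; exact hwW.add (haW.smul _), fun x => ?_⟩
      rw [← smv_smul, phi_tvW H P β hβe hβf haW ha'W ht ht' htt' (hwW.smul x), hw' x, smv_smul,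
        phi_tvW H P β hβe hβf haW ha'W ht ht' htt' hwW]
  exact fun y hy => (key y hy).2

end SigmaMain

end Cfsg.Agent.Helper37.AutU
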