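import Mathlib
import Cfsg.Agent.Helper37.AutUM

/-!
Helper37: automorphisms of `PSU_n(q)`.  Part N: the map induced on `W` is a similitude.
-/

set_option autoImplicit false
set_option linter.unusedSectionVars false
set_option linter.unusedVariables false
set_option linter.style.haveILetI false

namespace Cfsg.Agent.Helper37.AutU

open Matrix Cfsg.Agent.Helper13

variable {F : Type*} [Field F] [Fintype F] {p r q n : ℕ}

local notation "⟪" x ", " y "⟫" => Cfsg.hermForm n F q x y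
local notation:73 A:74 " ▹ " x:73 => (suMat A) *ᵥ x

variable {e f : Fin n → F}

section Simil

variable (H : Hyp F p r q n) (P : HypPair q e f) (β : Cfsg.PSU n F q ≃* Cfsg.PSU n F q)
  (hβe : MapsX β e e) (hβf : MapsX β f f)
include H P hβe hβf

/-- compatibility of the induced maps with commutators in `Q(e)` -/
theorem phit_comm {y y' : Fin n → F} (hy : InW q e f y) (hy' : InW q e f y') :
    phit β e e (⟪y, y'⟫ - ⟪y', y⟫) =
      ⟪phi β e f y, phi β e f y'⟫ - ⟪phi β e f y', phi β e f y⟫ := by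
  obtain ⟨B₁, c₁, hB₁⟩ := exists_Par' H.hF P hy
  obtain ⟨B₂, c₂, hB₂⟩ := exists_Par' H.hF P hy'
  obtain ⟨B₁', c₁', hB₁', h1⟩ := phi_spec H P β hβe hB₁
  obtain ⟨B₂', c₂', hB₂', h2⟩ := phi_spec H P β hβe hB₂
  -- a general commutator computation
  have comm : ∀ (C₁ C₂ : Cfsg.SU n F q) (z z' : Fin n → F) (d d' : F), Par q e f C₁ z d →
      Par q e f C₂ z' d' → ∃ T : Cfsg.SU n F q, IsTv T e (⟪z, z'⟫ - ⟪z', z⟫) ∧
        (⟪z, z'⟫ - ⟪z', z⟫) + (⟪z, z'⟫ - ⟪z', z⟫) ^ q = 0 ∧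
        T = (C₂ * C₁)⁻¹ * (C₁ * C₂) := by
    intro C₁ C₂ z z' d d' hC₁ hC₂
    have hκ : (⟪z, z'⟫ - ⟪z', z⟫) + (⟪z, z'⟫ - ⟪z', z⟫) ^ q = 0 := by
      rw [frob_sub' H.hF, hermForm_conj H.hF, hermForm_conj H.hF]
      ring
    have hT : IsTv (tvElt H.hF e (⟪z, z'⟫ - ⟪z', z⟫) P.hee hκ) e (⟪z, z'⟫ - ⟪z', z⟫) := rfl
    refine ⟨_, hT, hκ, ?_⟩
    have h12 := hC₁.mul H.hF P hC₂
    have h21 := (hC₂.mul H.hF P hC₁).mul H.hF P (par_tv H.hF P hT hκ)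
    have h3 : C₁ * C₂ = C₂ * C₁ * tvElt H.hF e (⟪z, z'⟫ - ⟪z', z⟫) P.hee hκ := by
      apply h12.2.2.eq
      have := h21.2.2
      convert this using 1
      · rw [add_zero, add_comm]
      · rw [hermForm_zero_left]
        ring
    rw [h3]
    group
  obtain ⟨T, hT, hκ, hTeq⟩ := comm B₁ B₂ y y' c₁ c₂ hB₁ hB₂
  obtain ⟨T', hT', hκ', hT'eq⟩ := comm B₁' B₂' _ _ c₁' c₂' hB₁' hB₂'
  apply phit_eq H β P.hee P.hee P.e_ne P.e_ne hβe
  refine ⟨T, T', hT, hT', hκ, hκ', ?_⟩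
  rw [hTeq, hT'eq]
  simp only [map_mul, map_inv, h1, h2]

/-- the induced map on `W` is a similitude -/
theorem exists_nu (σ : F ≃+* F)
    (hσ : ∀ y, InW q e f y → ∀ x : F, phi β e f (x • y) = σ x • phi β e f y) :
    ∃ ν : F, ν ≠ 0 ∧ ν ^ q = ν ∧
      (∀ y y', InW q e f y → InW q e f y' → ⟪phi β e f y, phi β e f y'⟫ = σ (ν * ⟪y, y'⟫)) ∧
      (∀ κ : F, κ + κ ^ q = 0 → phit β e e κ = σ (ν * κ)) := by
  -- the key identity
  have key : ∀ y y', InW q e f y → InW q e f y' → ∀ x : F,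
      phit β e e (x * ⟪y, y'⟫ - (x * ⟪y, y'⟫) ^ q) =
        σ x * ⟪phi β e f y, phi β e f y'⟫ - (σ x * ⟪phi β e f y, phi β e f y'⟫) ^ q := by
    intro y y' hy hy' x
    have h1 := phit_comm H P β hβe hβf (hy.smul x) hy'
    rw [hσ y hy x, hermForm_smul_left, hermForm_smul_right, hermForm_smul_left,
      hermForm_smul_right] at h1
    have e1 : x ^ q * ⟪y', y⟫ = (x * ⟪y, y'⟫) ^ q := by
      rw [mul_pow, hermForm_conj H.hF]
    have e2 : σ x ^ q * ⟪phi β e f y', phi β e f y⟫ =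
        (σ x * ⟪phi β e f y, phi β e f y'⟫) ^ q := by
      rw [mul_pow, hermForm_conj H.hF]
    rw [e1, e2] at h1
    exact h1
  -- a pair with `⟪y₀, y₀'⟫ = 1`
  obtain ⟨w₀, hw₀W, hw₀0⟩ := exists_inW_ne_zero H P
  obtain ⟨y₀', hy₀'W, hne⟩ : ∃ y', InW q e f y' ∧ ⟪w₀, y'⟫ ≠ 0 := by
    by_contra hcon
    push Not at hcon
    exact hw₀0 (eq_zero_of_inW H.hF P hw₀W hcon)
  set y₀ : Fin n → F := (⟪w₀, y₀'⟫)⁻¹ • w₀ with hy₀
  have hy₀W : InW q e f y₀ := hw₀W.smul _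
  have h00 : ⟪y₀, y₀'⟫ = 1 := by rw [hy₀, hermForm_smul_left, inv_mul_cancel₀ hne]
  set h₀ : F := ⟪phi β e f y₀, phi β e f y₀'⟫ with hh₀
  have hq := H.two_le_q
  have k0 : ∀ x : F, phit β e e (x - x ^ q) = σ x * h₀ - (σ x * h₀) ^ q := by
    intro x
    have := key y₀ y₀' hy₀W hy₀'W x
    rwa [h00, mul_one] at this
  have hh₀q : h₀ ^ q = h₀ := by
    have := k0 1
    rw [one_pow, sub_self, phit_zero H β P.hee P.hee P.e_ne P.e_ne hβe, map_one, one_mul] at this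
    exact (sub_eq_zero.mp this.symm).symm
  set ν : F := σ.symm h₀ with hν
  have hσν : σ ν = h₀ := by rw [hν, RingEquiv.apply_symm_apply]
  have hνq : ν ^ q = ν := by
    apply σ.injective
    rw [map_pow, hσν, hh₀q]
  have hphit : ∀ κ : F, κ + κ ^ q = 0 → phit β e e κ = σ (ν * κ) := by
    intro κ hκ
    obtain ⟨μ, hμ⟩ := exists_frob_sub_eq H.hF hκ
    have h1 := k0 (-μ)
    have e1 : -μ - (-μ) ^ q = κ := by
      rw [frob_neg' H.hF, ← hμ]
      ring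
    rw [e1] at h1
    rw [h1, map_mul, hσν, mul_pow, hh₀q, ← map_pow, ← hμ]
    simp only [map_neg, map_sub, map_pow]
    rw [frob_neg' H.hF]
    ring
  have hν0 : ν ≠ 0 := by
    intro h0
    obtain ⟨κ, hκ0, hκ⟩ := Cfsg.Agent.Helper5.exists_trace_zero H.hF
    have hκ' : κ + κ ^ q = 0 := by rw [hκ]; ring
    have h1 := hphit κ hκ'
    rw [h0, zero_mul, map_zero] at h1
    exact hκ0 (phit_inj H β P.hee P.hee P.e_ne P.e_ne hβe hκ' h1)
  refine ⟨ν, hν0, hνq, ?_, hphit⟩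
  intro y y' hy hy'
  -- `d = σ⁻¹ h'' - ν h` satisfies `x d = (x d)^q` for all `x`
  have hd : ∀ x : F, x * (σ.symm ⟪phi β e f y, phi β e f y'⟫ - ν * ⟪y, y'⟫) =
      (x * (σ.symm ⟪phi β e f y, phi β e f y'⟫ - ν * ⟪y, y'⟫)) ^ q := by
    intro x
    have h1 := key y y' hy hy' x
    have htr : (x * ⟪y, y'⟫ - (x * ⟪y, y'⟫) ^ q) + (x * ⟪y, y'⟫ - (x * ⟪y, y'⟫) ^ q) ^ q = 0 := by
      rw [frob_sub' H.hF, frob_frob H.hF]
      ring
    rw [hphit _ htr] at h1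
    have h2 := congrArg σ.symm h1
    simp only [map_sub, map_mul, map_pow, RingEquiv.symm_apply_apply] at h2
    have e3 : (x * (σ.symm ⟪phi β e f y, phi β e f y'⟫ - ν * ⟪y, y'⟫)) ^ q =
        (x * σ.symm ⟪phi β e f y, phi β e f y'⟫) ^ q - ν * (x * ⟪y, y'⟫) ^ q := by
      rw [mul_sub, frob_sub' H.hF]
      congr 1
      rw [← mul_assoc, mul_comm x ν, mul_assoc, mul_pow ν, hνq]
    rw [e3]
    linear_combination -h2
  obtain ⟨θ, hθ⟩ := exists_theta H.hF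
  have hd0 : σ.symm ⟪phi β e f y, phi β e f y'⟫ - ν * ⟪y, y'⟫ = 0 := by
    by_contra hne0
    have := hd (θ * (σ.symm ⟪phi β e f y, phi β e f y'⟫ - ν * ⟪y, y'⟫)⁻¹)
    rw [mul_assoc, inv_mul_cancel₀ hne0, mul_one] at this
    exact hθ this.symm
  have : σ.symm ⟪phi β e f y, phi β e f y'⟫ = ν * ⟪y, y'⟫ := sub_eq_zero.mp hd0
  rw [← this, RingEquiv.apply_symm_apply]

end Simil

end Cfsg.Agent.Helper37.AutU
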