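import Mathlib
import Cfsg.Agent.Helper37.AutUN

/-!
Helper37: automorphisms of `PSU_n(q)`.  Part O: construction of a semilinear unitary map inducing
the same maps as a normalised automorphism.
-/

set_option autoImplicit false
set_option linter.unusedSectionVars false
set_option linter.unusedVariables false
set_option linter.style.haveILetI false

namespace Cfsg.Agent.Helper37.AutU

open Matrix Cfsg.Agent.Helper13

variable {F : Type*} [Field F] [Fintype F] {p r q n : ℕ}

local notation "⟪" x ", " y "⟫" => Cfsg.hermForm n F q x y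
local notation:73 A:74 " ▹ " x:73 => (suMat A) *ᵥ x

variable {e f : Fin n → F}

theorem herm_of_decomp (hF : Fintype.card F = q ^ 2) (P : HypPair q e f) (a b a' b' : F)
    {w w' : Fin n → F} (hw : InW q e f w) (hw' : InW q e f w') :
    ⟪a • e + b • f + w, a' • e + b' • f + w'⟫ = a * b' ^ q + b * a' ^ q + ⟪w, w'⟫ := by
  simp only [hermForm_add_left, hermForm_add_right hF, hermForm_smul_left, hermForm_smul_right,
    P.hee, P.hff, P.hef, P.hfe hF, hw.1, hw.2, hw'.eh hF, hw'.fh hF]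
  ring

theorem herm_decomp (hF : Fintype.card F = q ^ 2) (P : HypPair q e f) (x x' : Fin n → F) :
    ⟪x, x'⟫ = ⟪x, f⟫ * ⟪x', e⟫ ^ q + ⟪x, e⟫ * ⟪x', f⟫ ^ q +
      ⟪hypProj q e f x, hypProj q e f x'⟫ := by
  have h := herm_of_decomp hF P ⟪x, f⟫ ⟪x, e⟫ ⟪x', f⟫ ⟪x', e⟫ (hypProj_inW hF P x)
    (hypProj_inW hF P x')
  rw [← hypProj_decomp (q := q) e f x, ← hypProj_decomp (q := q) e f x'] at h
  exact h

theorem par_of_isEi (hF : Fintype.card F = q ^ 2) (P : HypPair q e f) {A : Cfsg.SU n F q}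
    {y : Fin n → F} {c : F} (hy : InW q e f y) (h : IsEi A e y c) : Par q e f A y c := by
  refine ⟨hy, ?_, h⟩
  have h1 : (A ▹ f) = c • e + (1 : F) • f + y := by
    rw [h.smv, P.hfe hF, hy.fh hF]
    simp only [one_smul, zero_smul, sub_zero, mul_one]
    abel
  have h2 : ⟪A ▹ f, A ▹ f⟫ = 0 := by rw [herm_smv, P.hff]
  rw [h1, herm_of_decomp hF P c 1 c 1 hy hy] at h2
  linear_combination h2

/-- a one-sided version of `MapsX` suffices -/
theorem mapsX_of_forall (H : Hyp F p r q n) (β : Cfsg.PSU n F q ≃* Cfsg.PSU n F q)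
    {v v'' : Fin n → F} (hv0 : v ≠ 0) (hv : ⟪v, v⟫ = 0) (hv''0 : v'' ≠ 0) (hv'' : ⟪v'', v''⟫ = 0)
    (h : ∀ x, InX q v x → InX q v'' (β x)) : MapsX β v v'' := by
  obtain ⟨v', hv'0, hv', hm⟩ := exists_mapsX H β hv0 hv
  obtain ⟨κ, hκ0, hκ⟩ := Cfsg.Agent.Helper5.exists_trace_zero H.hF
  have hκ' : κ + κ ^ q = 0 := by rw [hκ]; ring
  have hT : IsTv (tvElt H.hF v κ hv hκ') v κ := rfl
  have hx : InX q v (pr (tvElt H.hF v κ hv hκ') : Cfsg.PSU n F q) := ⟨_, κ, hκ', hT, rfl⟩
  have h1 := (hm _).mp hx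
  have h2 := h _ hx
  have hne : β (pr (tvElt H.hF v κ hv hκ')) ≠ 1 := by
    intro h3
    have h4 : (pr (tvElt H.hF v κ hv hκ') : Cfsg.PSU n F q) = 1 := by
      have := congrArg β.symm h3
      rwa [β.symm_apply_apply, map_one] at this
    exact pr_tv_ne_one H hT hv hv0 hκ0 h4
  obtain ⟨a, ha0, hav⟩ := InX.center H hv' hv'' hv'0 h1 h2 hne
  rw [hav]
  exact hm.smul_right H.hF ha0

/-- the semilinear map built from the induced maps -/
noncomputable def Tmap (β : Cfsg.PSU n F q ≃* Cfsg.PSU n F q) (e f : Fin n → F) (σ : F ≃+* F)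
    (η : F) (x : Fin n → F) : Fin n → F :=
  (σ (Cfsg.hermForm n F q x f) * (η ^ q)⁻¹) • e + (σ (Cfsg.hermForm n F q x e) * η) • f +
    η • phi β e f (hypProj q e f x)

section Build

variable (H : Hyp F p r q n) (P : HypPair q e f) (β : Cfsg.PSU n F q ≃* Cfsg.PSU n F q)
  (hβe : MapsX β e e) (hβf : MapsX β f f) (σ : F ≃+* F)
  (hσ : ∀ y, InW q e f y → ∀ x : F, phi β e f (x • y) = σ x • phi β e f y)
  (ν : F) (hν0 : ν ≠ 0) (hνq : ν ^ q = ν)
  (hsim : ∀ y y', InW q e f y → InW q e f y' →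
    Cfsg.hermForm n F q (phi β e f y) (phi β e f y') = σ (ν * Cfsg.hermForm n F q y y'))
  (η : F) (hη : η * η ^ q = (σ ν)⁻¹)
include H P hβe hβf hσ

theorem Tmap_add (x x' : Fin n → F) :
    Tmap β e f σ η (x + x') = Tmap β e f σ η x + Tmap β e f σ η x' := by
  unfold Tmap
  rw [hermForm_add_left, hermForm_add_left, map_add, map_add, hypProj_add,
    phi_add H P β hβe (hypProj_inW H.hF P x) (hypProj_inW H.hF P x')]
  module

theorem Tmap_smul (c : F) (x : Fin n → F) :
    Tmap β e f σ η (c • x) = σ c • Tmap β e f σ η x := by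
  unfold Tmap
  rw [hermForm_smul_left, hermForm_smul_left, map_mul, map_mul, hypProj_smul,
    hσ _ (hypProj_inW H.hF P x)]
  module

theorem Tmap_e : Tmap β e f σ η e = (η ^ q)⁻¹ • e := by
  unfold Tmap
  rw [P.hef, P.hee, hypProj_left H.hF P, phi_zero H P β hβe, map_one, map_zero]
  module

theorem Tmap_f : Tmap β e f σ η f = η • f := by
  unfold Tmap
  rw [P.hff, P.hfe H.hF, hypProj_right H.hF P, phi_zero H P β hβe, map_one, map_zero]
  module

theorem Tmap_W {y : Fin n → F} (hy : InW q e f y) : Tmap β e f σ η y = η • phi β e f y := by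
  unfold Tmap
  rw [hy.1, hy.2, hypProj_of_inW hy, map_zero]
  module

include hν0 hνq hsim hη

theorem eta_ne : η ≠ 0 := by
  intro h0
  rw [h0, zero_mul] at hη
  have : σ ν ≠ 0 := by
    intro h1
    exact hν0 (σ.injective (by rw [h1, map_zero]))
  exact inv_ne_zero this hη.symm

theorem Tmap_herm (x x' : Fin n → F) :
    ⟪Tmap β e f σ η x, Tmap β e f σ η x'⟫ = σ ⟪x, x'⟫ := by
  have hη0 : η ≠ 0 := eta_ne H P β hβe hβf σ hσ ν hν0 hνq hsim η hη
  have hηq0 : η ^ q ≠ 0 := pow_ne_zero q hη0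
  have hσν0 : σ ν ≠ 0 := by
    intro h1
    exact hν0 (σ.injective (by rw [h1, map_zero]))
  have hW : InW q e f (η • phi β e f (hypProj q e f x)) :=
    (phi_inW H P β hβe (hypProj_inW H.hF P x)).smul η
  have hW' : InW q e f (η • phi β e f (hypProj q e f x')) :=
    (phi_inW H P β hβe (hypProj_inW H.hF P x')).smul η
  unfold Tmap
  rw [herm_of_decomp H.hF P _ _ _ _ hW hW', hermForm_smul_left, hermForm_smul_right,
    hsim _ _ (hypProj_inW H.hF P x) (hypProj_inW H.hF P x'), herm_decomp H.hF P x x']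
  simp only [map_add, map_mul, map_pow, mul_pow, inv_pow, frob_frob H.hF]
  have h1 : η * η ^ q * σ ν = 1 := by rw [hη, inv_mul_cancel₀ hσν0]
  have t1 : σ ⟪x, f⟫ * (η ^ q)⁻¹ * (σ ⟪x', e⟫ ^ q * η ^ q) = σ ⟪x, f⟫ * σ ⟪x', e⟫ ^ q := by
    field_simp
  have t2 : σ ⟪x, e⟫ * η * (σ ⟪x', f⟫ ^ q * η⁻¹) = σ ⟪x, e⟫ * σ ⟪x', f⟫ ^ q := by
    field_simp
  have t3 : η * (η ^ q * (σ ν * σ ⟪hypProj q e f x, hypProj q e f x'⟫)) =
      σ ⟪hypProj q e f x, hypProj q e f x'⟫ := by
    linear_combination (σ ⟪hypProj q e f x, hypProj q e f x'⟫) * h1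
  rw [t1, t2, t3]

/-- the semilinear map comes from an element of `GU` -/
theorem exists_g : ∃ g : Cfsg.GU n F q, ∀ x, semi (gm g) σ x = Tmap β e f σ η x := by
  classical
  set M : Matrix (Fin n) (Fin n) F :=
    Matrix.of (fun i j => Tmap β e f σ η (Pi.single j 1) i) with hMdef
  have hT0 : Tmap β e f σ η 0 = 0 := by
    have := Tmap_smul H P β hβe hβf σ hσ η 0 0
    rwa [zero_smul, map_zero, zero_smul] at this
  let Ta : (Fin n → F) →+ (Fin n → F) :=
    { toFun := Tmap β e f σ η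
      map_zero' := hT0
      map_add' := Tmap_add H P β hβe hβf σ hσ η }
  have hM : ∀ x : Fin n → F, M *ᵥ (fun i => σ (x i)) = Tmap β e f σ η x := by
    intro x
    have h1 : x = ∑ j, x j • (Pi.single j (1 : F) : Fin n → F) := by
      ext i
      simp [Finset.sum_apply, Pi.single_apply]
    have h2 : Tmap β e f σ η x = ∑ j, σ (x j) • Tmap β e f σ η (Pi.single j 1) := by
      have h3 : Ta x = ∑ j, Ta (x j • (Pi.single j (1 : F) : Fin n → F)) := by
        conv_lhs => rw [h1]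
        exact map_sum Ta _ _
      show Ta x = _
      rw [h3]
      apply Finset.sum_congr rfl
      intro j _
      exact Tmap_smul H P β hβe hβf σ hσ η _ _
    rw [h2]
    ext i
    simp only [Matrix.mulVec, dotProduct, hMdef, Matrix.of_apply, Finset.sum_apply, Pi.smul_apply,
      smul_eq_mul]
    apply Finset.sum_congr rfl
    intro j _
    ring
  have hMU : ∀ u v, ⟪M *ᵥ u, M *ᵥ v⟫ = ⟪u, v⟫ := by
    intro u v
    have hu : u = fun i => σ (σ.symm (u i)) := by ext i; simp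
    have hv : v = fun i => σ (σ.symm (v i)) := by ext i; simp
    have e1 : M *ᵥ u = Tmap β e f σ η (fun i => σ.symm (u i)) := by
      conv_lhs => rw [hu]
      exact hM _
    have e2 : M *ᵥ v = Tmap β e f σ η (fun i => σ.symm (v i)) := by
      conv_lhs => rw [hv]
      exact hM _
    rw [e1, e2, Tmap_herm H P β hβe hβf σ hσ ν hν0 hνq hsim η hη, ← herm_map, ← hu, ← hv]
  obtain ⟨g, hg⟩ := exists_GU_of_preserves' H.hF M hMU
  refine ⟨g, fun x => ?_⟩
  have hg' : gm g = M := hg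
  unfold semi
  rw [hg']
  exact hM x

end Build

end Cfsg.Agent.Helper37.AutU
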