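import Mathlib
import Cfsg.Agent.Helper37.AutUO

/-!
Helper37: automorphisms of `PSU_n(q)`.  Part P: a standard automorphism inducing the same maps as
a given normalised automorphism.
-/

set_option autoImplicit false
set_option linter.unusedSectionVars false
set_option linter.unusedVariables false
set_option linter.style.haveILetI false

namespace Cfsg.Agent.Helper37.AutU

open Matrix Cfsg.Agent.Helper13

variable {F : Type*} [Field F] [Fintype F] {p r q n : ℕ}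

local notation "⟪" x ", " y "⟫" => Cfsg.hermForm n F q x y
local notation:73 A:74 " ▹ " x:73 => (suMat A) *ᵥ x

variable {e f : Fin n → F}

/-! ### composition -/

theorem MapsX.trans {β γ : Cfsg.PSU n F q ≃* Cfsg.PSU n F q} {v v' v'' : Fin n → F}
    (h1 : MapsX β v v') (h2 : MapsX γ v' v'') : MapsX (β.trans γ) v v'' :=
  fun x => (h1 x).trans (h2 (β x))

theorem Rl.trans (H : Hyp F p r q n) (P : HypPair q e f)
    {β γ : Cfsg.PSU n F q ≃* Cfsg.PSU n F q} (hγ : MapsX γ e e) {y z w : Fin n → F}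
    (h1 : Rl β e f y z) (h2 : Rl γ e f z w) : Rl (β.trans γ) e f y w := by
  obtain ⟨B, c, B', c', hB, hB', h⟩ := h1
  obtain ⟨B'', c'', hB'', h'⟩ := h2.spec H P γ hγ hB'
  exact ⟨B, c, B'', c'', hB, hB'', by rw [MulEquiv.trans_apply, h, h']⟩

theorem Rt.trans (H : Hyp F p r q n) {β γ : Cfsg.PSU n F q ≃* Cfsg.PSU n F q}
    {v' v'' : Fin n → F} (hv' : ⟪v', v'⟫ = 0) (hv'' : ⟪v'', v''⟫ = 0) (hv'0 : v' ≠ 0)
    (hv''0 : v'' ≠ 0) (hγ : MapsX γ v' v'') {v : Fin n → F} {κ κ' κ'' : F}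
    (h1 : Rt β v v' κ κ') (h2 : Rt γ v' v'' κ' κ'') : Rt (β.trans γ) v v'' κ κ'' := by
  obtain ⟨T, T', hT, hT', hκ, hκ', h⟩ := h1
  obtain ⟨T'', hT'', h'⟩ := h2.spec H γ hv' hv'' hv'0 hv''0 hγ hT'
  obtain ⟨_, _, _, _, _, hκ'', _⟩ := h2
  exact ⟨T, T'', hT, hT'', hκ, hκ'', by rw [MulEquiv.trans_apply, h, h']⟩

/-! ### the maps induced by a standard automorphism -/

section Std

variable (H : Hyp F p r q n) (P : HypPair q e f) (g : Cfsg.GU n F q) (σ : F ≃+* F)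
include H

theorem pstd_mapsX {v : Fin n → F} {c₀ : F} (hc₀ : c₀ ≠ 0) (hv0 : v ≠ 0) (hv : ⟪v, v⟫ = 0)
    (hgv : semi (gm g) σ v = c₀ • v) : MapsX (pstd g σ) v v := by
  apply mapsX_of_forall H (pstd g σ) hv0 hv hv0 hv
  rintro x ⟨T, c, hc, hT, rfl⟩
  rw [pstd_pr]
  have h1 := hT.std g σ
  rw [hgv] at h1
  have hc' : σ c + σ c ^ q = 0 := by rw [← map_pow, ← map_add, hc, map_zero]
  exact (InX.smul_iff H.hF hc₀).mp ⟨_, σ c, hc', h1, rfl⟩

include P

theorem pstd_rl {a₀ : F} (hge : semi (gm g) σ e = a₀ • e) {y y' : Fin n → F}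
    (hy : InW q e f y) (hy' : InW q e f y') (hyy' : a₀ ^ q • semi (gm g) σ y = y') :
    Rl (pstd g σ) e f y y' := by
  obtain ⟨B, c, hB⟩ := exists_Par' H.hF P hy
  have h1 := hB.2.2.std g σ
  rw [hge] at h1
  unfold IsEi at h1
  rw [eichler_smul_left H.hF, hyy'] at h1
  exact ⟨B, c, stdSU g σ B, _, hB, par_of_isEi H.hF P hy' h1, pstd_pr g σ B⟩

theorem pstd_rt {a₀ : F} (hge : semi (gm g) σ e = a₀ • e) {κ : F} (hκ : κ + κ ^ q = 0) :
    Rt (pstd g σ) e e κ (σ κ * a₀ * a₀ ^ q) := by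
  have hT : IsTv (tvElt H.hF e κ P.hee hκ) e κ := rfl
  have h1 := hT.std g σ
  rw [hge, IsTv.smul_iff] at h1
  refine ⟨_, _, hT, h1, hκ, ?_, pstd_pr g σ _⟩
  have hc' : σ κ + σ κ ^ q = 0 := by rw [← map_pow, ← map_add, hκ, map_zero]
  rw [mul_pow, mul_pow, frob_frob H.hF]
  linear_combination (a₀ * a₀ ^ q) * hc'

end Std

/-- a standard automorphism inducing the same maps -/
theorem exists_std_agree (H : Hyp F p r q n) (P : HypPair q e f)
    (β : Cfsg.PSU n F q ≃* Cfsg.PSU n F q) (hβe : MapsX β e e) (hβf : MapsX β f f) :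
    ∃ (g : Cfsg.GU n F q) (σ : F ≃+* F), MapsX (pstd g σ) e e ∧ MapsX (pstd g σ) f f ∧
      (∀ y, InW q e f y → Rl (pstd g σ) e f y (phi β e f y)) ∧
      (∀ κ : F, κ + κ ^ q = 0 → Rt (pstd g σ) e e κ (phit β e e κ)) := by
  obtain ⟨σ, hσ⟩ := exists_sigma H P β hβe hβf
  obtain ⟨ν, hν0, hνq, hsim, hphit⟩ := exists_nu H P β hβe hβf σ hσ
  have hσν0 : σ ν ≠ 0 := by
    intro h1
    exact hν0 (σ.injective (by rw [h1, map_zero]))
  obtain ⟨η, hη⟩ := exists_norm_eq_of_fixed H.hF (a := (σ ν)⁻¹)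
    (by rw [inv_pow, ← map_pow, hνq])
  have hη0 : η ≠ 0 := eta_ne H P β hβe hβf σ hσ ν hν0 hνq hsim η hη
  have hηq0 : η ^ q ≠ 0 := pow_ne_zero q hη0
  obtain ⟨g, hg⟩ := exists_g H P β hβe hβf σ hσ ν hν0 hνq hsim η hη
  have hge : semi (gm g) σ e = (η ^ q)⁻¹ • e := by
    rw [hg, Tmap_e H P β hβe hβf σ hσ η]
  have hgf : semi (gm g) σ f = η • f := by
    rw [hg, Tmap_f H P β hβe hβf σ hσ η]
  refine ⟨g, σ, pstd_mapsX H g σ (inv_ne_zero hηq0) P.e_ne P.hee hge,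
    pstd_mapsX H g σ hη0 (P.f_ne H.hF) P.hff hgf, ?_, ?_⟩
  · intro y hy
    apply pstd_rl H P g σ hge hy (phi_inW H P β hβe hy)
    rw [hg, Tmap_W H P β hβe hβf σ hσ η hy, inv_pow, frob_frob H.hF, smul_smul,
      inv_mul_cancel₀ hη0, one_smul]
  · intro κ hκ
    have h1 := pstd_rt H P g σ hge hκ
    have h2 : σ κ * (η ^ q)⁻¹ * ((η ^ q)⁻¹) ^ q = phit β e e κ := by
      rw [hphit κ hκ, map_mul, inv_pow, frob_frob H.hF]
      have h3 : (η ^ q)⁻¹ * η⁻¹ = σ ν := by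
        rw [← mul_inv, mul_comm, hη, inv_inv]
      rw [mul_assoc, h3, mul_comm]
    rw [h2] at h1
    exact h1

/-- the hypotheses of the rigidity theorem for the quotient of two automorphisms inducing the same
maps -/
theorem quotient_hyps (H : Hyp F p r q n) (P : HypPair q e f)
    (β γ : Cfsg.PSU n F q ≃* Cfsg.PSU n F q) (hβe : MapsX β e e) (hβf : MapsX β f f)
    (hγe : MapsX γ e e) (hγf : MapsX γ f f)
    (hrl : ∀ y, InW q e f y → Rl γ e f y (phi β e f y))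
    (hrt : ∀ κ : F, κ + κ ^ q = 0 → Rt γ e e κ (phit β e e κ)) :
    MapsX (β.trans γ.symm) e e ∧ MapsX (β.trans γ.symm) f f ∧
      (∀ y, InW q e f y → phi (β.trans γ.symm) e f y = y) ∧
      (∀ κ : F, κ + κ ^ q = 0 → phit (β.trans γ.symm) e e κ = κ) := by
  have h1 : MapsX (β.trans γ.symm) e e := hβe.trans hγe.symm
  have h2 : MapsX (β.trans γ.symm) f f := hβf.trans hγf.symm
  refine ⟨h1, h2, ?_, ?_⟩
  · intro y hy
    apply phi_eq H P _ h1
    exact Rl.trans H P hγe.symm (phi_rl H P β hβe hy) (hrl y hy).symm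
  · intro κ hκ
    apply phit_eq H _ P.hee P.hee P.e_ne P.e_ne h1
    exact Rt.trans H P.hee P.hee P.e_ne P.e_ne hγe.symm
      (phit_rt H β P.hee P.hee P.e_ne P.e_ne hβe hκ) (hrt κ hκ).symm

end Cfsg.Agent.Helper37.AutU
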