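import Mathlib
import Cfsg.Agent.Helper37.AutUP

/-!
Helper37: automorphisms of `PSU_n(q)`.  Part Q: rigidity, first half.  An automorphism fixing the
root subgroups of `e` and `f` and inducing the identity on the root subgroup of `e` and on
`Q(e)` modulo that root subgroup fixes the parabolic subgroup of `e` pointwise.
-/

set_option autoImplicit false
set_option linter.unusedSectionVars false
set_option linter.unusedVariables false
set_option linter.style.haveILetI false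

namespace Cfsg.Agent.Helper37.AutU

open Matrix Cfsg.Agent.Helper13

variable {F : Type*} [Field F] [Fintype F] {p r q n : ℕ}

local notation "⟪" x ", " y "⟫" => Cfsg.hermForm n F q x y
local notation:73 A:74 " ▹ " x:73 => (suMat A) *ᵥ x

variable {e f : Fin n → F}

/-- the vectors `y` of `W` such that every element of `Q(e)` with parameter `y` is fixed -/
def KW (β : Cfsg.PSU n F q ≃* Cfsg.PSU n F q) (e f y : Fin n → F) : Prop :=
  InW q e f y ∧ ∀ (B : Cfsg.SU n F q) (c : F), Par q e f B y c → β (pr B) = pr B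

section Rigid

variable (H : Hyp F p r q n) (P : HypPair q e f) (β : Cfsg.PSU n F q ≃* Cfsg.PSU n F q)
  (hβe : MapsX β e e) (hβf : MapsX β f f)
  (hphi : ∀ y, InW q e f y → phi β e f y = y)
  (hphit : ∀ κ : F, κ + κ ^ q = 0 → phit β e e κ = κ)
include H P hβe hβf hphi hphit

theorem rig_tv {T : Cfsg.SU n F q} {κ : F} (hT : IsTv T e κ) (hκ : κ + κ ^ q = 0) :
    β (pr T) = pr T := by
  obtain ⟨T', hT', h⟩ := phit_spec H β P.hee P.hee P.e_ne P.e_ne hβe hκ hT
  rw [hphit κ hκ] at hT'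
  rw [h, hT'.eq hT]

theorem rig_Q {B : Cfsg.SU n F q} {y : Fin n → F} {c : F} (hB : Par q e f B y c) :
    ∃ (T : Cfsg.SU n F q) (κ : F), IsTv T e κ ∧ κ + κ ^ q = 0 ∧ β (pr B) = pr (B * T) := by
  obtain ⟨B', c', hB', h⟩ := phi_spec H P β hβe hB
  rw [hphi y hB.1] at hB'
  obtain ⟨T, κ, hT, hκ, -, hBT⟩ := hB.change H.hF P hB'.2.1
  refine ⟨T, κ, hT, hκ, ?_⟩
  rw [h, hB'.2.2.eq hBT.2.2]

/-- the elements normalising the root subgroups of `e` and `f` are fixed -/
theorem rig_L {l : Cfsg.SU n F q} {a b : F} (ha : a ≠ 0) (hb : b ≠ 0) (hle : (l ▹ e) = a • e)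
    (hlf : (l ▹ f) = b • f) : β (pr l) = pr l := by
  obtain ⟨l', hl'⟩ := pr_surjective (β (pr l))
  have h1 : InP q e (pr l') := by
    rw [hl']
    exact InP.map' hβe (inP_pr_of_eigen H.hF ha hle)
  have h2 : InP q f (pr l') := by
    rw [hl']
    exact InP.map' hβf (inP_pr_of_eigen H.hF hb hlf)
  obtain ⟨a₁, ha₁, hl'e⟩ := eigen_of_inP_pr H P.e_ne P.hee h1
  obtain ⟨b₁, hb₁, hl'f⟩ := eigen_of_inP_pr H (P.f_ne H.hF) P.hff h2
  have haq : a ^ q ≠ 0 := pow_ne_zero q ha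
  have ha₁q : a₁ ^ q ≠ 0 := pow_ne_zero q ha₁
  -- action on `W`
  have hW : ∀ y, InW q e f y → a ^ q • (l ▹ y) = a₁ ^ q • (l' ▹ y) := by
    intro y hy
    have h3 := phi_conjL H P β hβe hy ha hb ha₁ hb₁ hle hlf hl'e hl'f hl'.symm
    rw [hphi y hy, hphi _ ((inW_smv H.hF ha hb hle hlf hy).smul _)] at h3
    exact h3
  -- norms
  have hnorm : a * a ^ q = a₁ * a₁ ^ q := by
    obtain ⟨κ, hκ0, hκ⟩ := Cfsg.Agent.Helper5.exists_trace_zero H.hF
    have hκ' : κ + κ ^ q = 0 := by rw [hκ]; ring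
    have hT : IsTv (tvElt H.hF e κ P.hee hκ') e κ := rfl
    set T := tvElt H.hF e κ P.hee hκ' with hTdef
    have c1 := hT.conj l
    rw [hle, IsTv.smul_iff] at c1
    have c2 := hT.conj l'
    rw [hl'e, IsTv.smul_iff] at c2
    have hκ1 : (κ * a * a ^ q) + (κ * a * a ^ q) ^ q = 0 := by
      rw [mul_pow, mul_pow, frob_frob H.hF]
      linear_combination (a * a ^ q) * hκ'
    have h3 := rig_tv H P β hβe hβf hphi hphit c1 hκ1
    have h4 : β (pr (l * T * l⁻¹)) = pr (l' * T * l'⁻¹) := by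
      simp only [map_mul, map_inv, rig_tv H P β hβe hβf hphi hphit hT hκ', hl']
    have h5 := InX.lift_unique H P.hee P.hee c1 c2 (h3.symm.trans h4)
    rw [h5] at c1
    have h6 := c1.param_eq H.hF c2 P.e_ne
    have h7 : κ * (a * a ^ q - a₁ * a₁ ^ q) = 0 := by linear_combination h6
    rcases mul_eq_zero.mp h7 with h8 | h8
    · exact absurd h8 hκ0
    · exact sub_eq_zero.mp h8
  have hab : a * b ^ q = 1 := by
    have := herm_smv l e f
    rw [hle, hlf, hermForm_smul_left, hermForm_smul_right, P.hef, mul_one] at this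
    exact this
  have hab₁ : a₁ * b₁ ^ q = 1 := by
    have := herm_smv l' e f
    rw [hl'e, hl'f, hermForm_smul_left, hermForm_smul_right, P.hef, mul_one] at this
    exact this
  have hb_eq : b = (a ^ q)⁻¹ := by
    have h3 : b ^ q = a⁻¹ := eq_inv_of_mul_eq_one_right hab
    have h4 := congrArg (fun z => z ^ q) h3
    simp only [frob_frob H.hF, inv_pow] at h4
    exact h4
  have hb₁_eq : b₁ = (a₁ ^ q)⁻¹ := by
    have h3 : b₁ ^ q = a₁⁻¹ := eq_inv_of_mul_eq_one_right hab₁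
    have h4 := congrArg (fun z => z ^ q) h3
    simp only [frob_frob H.hF, inv_pow] at h4
    exact h4
  -- the scalar
  set ξ : F := a₁ * a⁻¹ with hξ
  have hξe : (l' ▹ e) = ξ • (l ▹ e) := by
    rw [hl'e, hle, smul_smul, hξ, mul_assoc, inv_mul_cancel₀ ha, mul_one]
  have hξf : (l' ▹ f) = ξ • (l ▹ f) := by
    rw [hl'f, hlf, smul_smul, hb_eq, hb₁_eq, hξ]
    congr 1
    field_simp
    linear_combination hnorm
  have hξW : ∀ y, InW q e f y → (l' ▹ y) = ξ • (l ▹ y) := by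
    intro y hy
    have h3 := hW y hy
    have h4 : (l' ▹ y) = (a₁ ^ q)⁻¹ • (a₁ ^ q • (l' ▹ y)) := by
      rw [smul_smul, inv_mul_cancel₀ ha₁q, one_smul]
    rw [h4, ← h3, smul_smul, hξ]
    congr 1
    field_simp
    linear_combination hnorm
  have hall : ∀ x, (l' ▹ x) = ξ • (l ▹ x) := by
    intro x
    have hx := hypProj_decomp (q := q) e f x
    have e1 : (l' ▹ x) = (l' ▹ (⟪x, f⟫ • e + ⟪x, e⟫ • f + hypProj q e f x)) :=
      congrArg (fun z => l' ▹ z) hx
    have e2 : (l ▹ x) = (l ▹ (⟪x, f⟫ • e + ⟪x, e⟫ • f + hypProj q e f x)) :=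
      congrArg (fun z => l ▹ z) hx
    rw [e1, e2, smv_add, smv_add, smv_smul, smv_smul, smv_add, smv_add, smv_smul, smv_smul,
      hξe, hξf, hξW _ (hypProj_inW H.hF P x)]
    module
  have hcen : l⁻¹ * l' ∈ Subgroup.center (Cfsg.SU n F q) := by
    apply mem_center_of_smv (ζ := ξ)
    intro x
    rw [smv_mul, hall, smv_smul, smv_inv_smv]
  rw [← hl']
  exact (pr_eq_iff.mpr hcen).symm

/-- an element of `Q(e)` fixed by `β` makes its whole coset fixed -/
theorem kw_of_one {C : Cfsg.SU n F q} {y : Fin n → F} {c : F} (hC : Par q e f C y c)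
    (h : β (pr C) = pr C) : KW β e f y := by
  refine ⟨hC.1, fun B c' hB => ?_⟩
  obtain ⟨T, κ, hT, hκ, -, hCT⟩ := hC.change H.hF P hB.2.1
  rw [hB.2.2.eq hCT.2.2, map_mul, map_mul, h, rig_tv H P β hβe hβf hphi hphit hT hκ]

theorem kw_zero : KW β e f 0 :=
  kw_of_one H P β hβe hβf hphi hphit (par_one H.hF P) (by rw [map_one, map_one])

theorem kw_add {y₁ y₂ : Fin n → F} (h₁ : KW β e f y₁) (h₂ : KW β e f y₂) :
    KW β e f (y₁ + y₂) := by
  obtain ⟨B₁, c₁, hB₁⟩ := exists_Par' H.hF P h₁.1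
  obtain ⟨B₂, c₂, hB₂⟩ := exists_Par' H.hF P h₂.1
  apply kw_of_one H P β hβe hβf hphi hphit (hB₁.mul H.hF P hB₂)
  rw [map_mul, map_mul, h₁.2 _ _ hB₁, h₂.2 _ _ hB₂]

/-- commutators with elements of the Levi complement centralising the root subgroup -/
theorem kw_comm {l : Cfsg.SU n F q} {a b : F} (ha : a * a ^ q = 1) (hb : b ≠ 0)
    (hle : (l ▹ e) = a • e) (hlf : (l ▹ f) = b • f) {y : Fin n → F} (hy : InW q e f y) :
    KW β e f (a ^ q • (l ▹ y) - y) := by
  have ha0 : a ≠ 0 := by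
    intro h0
    rw [h0, zero_mul] at ha
    exact zero_ne_one ha
  obtain ⟨B, c, hB⟩ := exists_Par' H.hF P hy
  have hconj := hB.conjL H.hF P ha0 hb hle hlf
  obtain ⟨c', hinv⟩ := hB.inv H.hF P
  have hC := hconj.mul H.hF P hinv
  rw [← sub_eq_add_neg] at hC
  apply kw_of_one H P β hβe hβf hphi hphit hC
  obtain ⟨T, κ, hT, hκ, hBT⟩ := rig_Q H P β hβe hβf hphi hphit hB
  have hl := rig_L H P β hβe hβf hphi hphit ha0 hb hle hlf
  have h1 : l * T * l⁻¹ = T := conj_eq_of_smv hT ha hle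
  have h2 : Commute l T := by
    show l * T = T * l
    calc l * T = l * T * l⁻¹ * l := by group
      _ = T * l := by rw [h1]
  have h3 : T * l⁻¹ = l⁻¹ * T := (h2.inv_left).eq.symm
  have h4 : l * (B * T) * l⁻¹ * (B * T)⁻¹ = l * B * l⁻¹ * B⁻¹ := by
    calc l * (B * T) * l⁻¹ * (B * T)⁻¹ = l * B * (T * l⁻¹) * T⁻¹ * B⁻¹ := by group
      _ = l * B * (l⁻¹ * T) * T⁻¹ * B⁻¹ := by rw [h3]
      _ = l * B * l⁻¹ * B⁻¹ := by group
  have h5 : β (pr (l * B * l⁻¹ * B⁻¹)) = pr (l * (B * T) * l⁻¹ * (B * T)⁻¹) := by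
    simp only [map_mul, map_inv, hBT, hl]
  rw [h5, h4]

end Rigid

end Cfsg.Agent.Helper37.AutU
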