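import Mathlib
import Cfsg.Agent.Helper37.AutUQ

/-!
Helper37: automorphisms of `PSU_n(q)`.  Part R: rigidity, second half, and the main theorem:
every automorphism of `PSU_n(q)` is standard.
-/

set_option autoImplicit false
set_option linter.unusedSectionVars false
set_option linter.unusedVariables false
set_option linter.style.haveILetI false

namespace Cfsg.Agent.Helper37.AutU

open Matrix Cfsg.Agent.Helper13

variable {F : Type*} [Field F] [Fintype F] {p r q n : ℕ}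

local notation "⟪" x ", " y "⟫" => Cfsg.hermForm n F q x y
local notation:73 A:74 " ▹ " x:73 => (suMat A) *ᵥ x

variable {e f : Fin n → F}

section Rigid

variable (H : Hyp F p r q n) (P : HypPair q e f) (β : Cfsg.PSU n F q ≃* Cfsg.PSU n F q)
  (hβe : MapsX β e e) (hβf : MapsX β f f)
  (hphi : ∀ y, InW q e f y → phi β e f y = y)
  (hphit : ∀ κ : F, κ + κ ^ q = 0 → phit β e e κ = κ)
include H P hβe hβf hphi hphit

/-- all of `Q(e)` is fixed -/
theorem kw_all : ∀ y, InW q e f y → KW β e f y := by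
  by_cases hiso : ∃ a, InW q e f a ∧ a ≠ 0 ∧ ⟪a, a⟫ = 0
  · obtain ⟨u, huW, hu0, huu⟩ := hiso
    intro y hy
    refine isotropic_span_induction H.hF _ (nonDegW H.hF P) (inW_iff.mp huW) hu0 huu
      (KW β e f) (fun a b => kw_add H P β hβe hβf hphi hphit) ?_ y (inW_iff.mp hy)
    intro a haW haa
    have haW' : InW q e f a := inW_iff.mpr haW
    by_cases ha0 : a = 0
    · rw [ha0]
      exact kw_zero H P β hβe hβf hphi hphit
    obtain ⟨b, hbW, hbb, hab⟩ := exists_hyperbolic_partner_in H.hF _ (nonDegW H.hF P) haW ha0 haa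
    have hbW' : InW q e f b := inW_iff.mpr hbW
    have hba : ⟪b, a⟫ = 1 := by rw [← hermForm_conj H.hF, hab, one_pow]
    obtain ⟨κ, hκ0, hκ⟩ := Cfsg.Agent.Helper5.exists_trace_zero H.hF
    have hκ' : κ + κ ^ q = 0 := by rw [hκ]; ring
    have ht : IsTv (tvElt H.hF a κ haa hκ') a κ := rfl
    have h1 := kw_comm H P β hβe hβf hphi hphit (a := 1) (b := 1) (by rw [one_pow, one_mul])
      one_ne_zero (tvW_smv_e H P β hβe hβf haW' ht) (tvW_smv_f H P β hβe hβf haW' ht)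
      (hbW'.smul κ⁻¹)
    have h2 : (1 : F) ^ q • ((tvElt H.hF a κ haa hκ') ▹ (κ⁻¹ • b)) - κ⁻¹ • b = a := by
      rw [one_pow, one_smul, ht.smv, hermForm_smul_left, hba, mul_one, mul_inv_cancel₀ hκ0,
        one_smul]
      abel
    rw [h2] at h1
    exact h1
  · push Not at hiso
    have hani : ∀ x, InW q e f x → ⟪x, x⟫ = 0 → x = 0 := by
      intro x hx hxx
      by_contra hx0
      exact hiso x hx hx0 hxx
    have hn3 := n_eq_three_of_aniso H P hani
    have hq2 : 2 < q := by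
      have h1 := H.two_le_q
      have h2 := H.h32
      by_contra hcon
      exact h2 ⟨hn3, by omega⟩
    have hani' : ∀ x ∈ hypCompl q (⊤ : Submodule F (Fin n → F)) e f, ⟪x, x⟫ = 0 → x = 0 :=
      fun x hx hxx => hani x (inW_iff.mpr hx) hxx
    obtain ⟨w₀, hw₀W, hw₀0⟩ := exists_inW_ne_zero H P
    obtain ⟨w, hwW, hww⟩ := exists_norm_eq_in H.hF _ (nonDegW H.hF P) (inW_iff.mp hw₀W) hw₀0
      (ν := 1) (one_pow q)
    have hwW' : InW q e f w := inW_iff.mpr hwW
    have hw0 : w ≠ 0 := by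
      intro h0
      rw [h0, hermForm_zero_left] at hww
      exact zero_ne_one hww
    obtain ⟨ζ, hζ, hζ3⟩ := exists_U1_cube_ne H.hF hq2
    have hζ0 : ζ ≠ 0 := by
      intro h0
      rw [h0, zero_mul] at hζ
      exact zero_ne_one hζ
    obtain ⟨l, hle, hlf, hlw⟩ := exists_torusA H.hF P hwW' hww hζ0
    have hζq : ζ ^ q = ζ⁻¹ := eq_inv_of_mul_eq_one_right hζ
    set ρ : F := ζ ^ q * (ζ ^ q * ζ⁻¹) - 1 with hρ
    have hρ0 : ρ ≠ 0 := by
      intro h0
      apply hζ3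
      have h1 : ζ ^ q * (ζ ^ q * ζ⁻¹) = 1 := sub_eq_zero.mp h0
      rw [hζq] at h1
      have h2 : ζ ^ 3 * (ζ⁻¹ * (ζ⁻¹ * ζ⁻¹)) = 1 := by field_simp
      rw [h1, mul_one] at h2
      exact h2
    intro y hy
    obtain ⟨c, hc⟩ := eq_smul_of_anisotropic H.hF _ hani' hwW hw0 (inW_iff.mp hy)
    have h1 := kw_comm H P β hβe hβf hphi hphit hζ (inv_ne_zero (pow_ne_zero q hζ0)) hle hlf
      (hwW'.smul (c * ρ⁻¹))
    have h2 : ζ ^ q • (l ▹ ((c * ρ⁻¹) • w)) - (c * ρ⁻¹) • w = y := by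
      rw [smv_smul, hlw, smul_smul, smul_smul, ← sub_smul, hc]
      congr 1
      have hρ' : ρ⁻¹ * ρ = 1 := inv_mul_cancel₀ hρ0
      linear_combination c * hρ' - (c * ρ⁻¹) * hρ
    rw [h2] at h1
    exact h1

theorem rig_Qg {B : Cfsg.SU n F q} (hB : B ∈ Qg q e) : β (pr B) = pr B := by
  obtain ⟨y, c, hB'⟩ := exists_par_of_mem H.hF P hB
  exact (kw_all H P β hβe hβf hphi hphit y hB'.1).2 B c hB'

/-- the root subgroup of `f` is fixed -/
theorem rig_f {T : Cfsg.SU n F q} {κ : F} (hT : IsTv T f κ) (hκ : κ + κ ^ q = 0) :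
    β (pr T) = pr T := by
  by_cases hκ0 : κ = 0
  · rw [hκ0] at hT
    rw [hT.eq (isTv_one f), map_one, map_one]
  have hf0 := P.f_ne H.hF
  obtain ⟨T', hT', hTT'⟩ := phit_spec H β P.hff P.hff hf0 hf0 hβf hκ hT
  set κ' := phit β f f κ with hκ'def
  have hκq0 : κ ^ q ≠ 0 := pow_ne_zero q hκ0
  have hc : (-κ⁻¹) + (-κ⁻¹) ^ q = 0 := by
    rw [frob_neg' H.hF, inv_pow]
    field_simp
    linear_combination -hκ
  have hU : IsTv (tvElt H.hF e (-κ⁻¹) P.hee hc) e (-κ⁻¹) := rfl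
  set U := tvElt H.hF e (-κ⁻¹) P.hee hc with hUdef
  have hUfix := rig_tv H P β hβe hβf hphi hphit hU hc
  -- `U * T` maps `e` to `κ f`
  have hme : ((U * T) ▹ e) = κ • f := by
    rw [smv_mul, hT.smv, P.hef, mul_one, smv_add, smv_smul, hU.smv, hU.smv, P.hee, P.hfe H.hF]
    simp only [mul_zero, zero_smul, add_zero, mul_one]
    rw [smul_add, smul_smul, mul_neg, mul_inv_cancel₀ hκ0]
    module
  have hm'e : ((U * T') ▹ e) = (1 - κ' * κ⁻¹) • e + κ' • f := by
    rw [smv_mul, hT'.smv, P.hef, mul_one, smv_add, smv_smul, hU.smv, hU.smv, P.hee, P.hfe H.hF]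
    simp only [mul_zero, zero_smul, add_zero, mul_one]
    module
  -- a non-trivial element of the root subgroup of `e`
  obtain ⟨κ₀, hκ₀0, hκ₀⟩ := Cfsg.Agent.Helper5.exists_trace_zero H.hF
  have hκ₀' : κ₀ + κ₀ ^ q = 0 := by rw [hκ₀]; ring
  have hS : IsTv (tvElt H.hF e κ₀ P.hee hκ₀') e κ₀ := rfl
  set S := tvElt H.hF e κ₀ P.hee hκ₀' with hSdef
  have hSfix := rig_tv H P β hβe hβf hphi hphit hS hκ₀'
  have hsX : InX q e (pr S : Cfsg.PSU n F q) := ⟨S, κ₀, hκ₀', hS, rfl⟩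
  have h1 : InX q f (pr (U * T) * pr S * (pr (U * T))⁻¹ : Cfsg.PSU n F q) := by
    have := hsX.conj (U * T)
    rwa [hme, InX.smul_iff H.hF hκ0] at this
  have h2 := (hβf _).mp h1
  have h3 : β (pr (U * T) * pr S * (pr (U * T))⁻¹) =
      pr (U * T') * pr S * (pr (U * T'))⁻¹ := by
    simp only [map_mul, map_inv, hUfix, hSfix, hTT']
  rw [h3] at h2
  have h4 := hsX.conj (U * T')
  have hne : (pr (U * T') * pr S * (pr (U * T'))⁻¹ : Cfsg.PSU n F q) ≠ 1 := by
    intro h5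
    have h6 : (pr S : Cfsg.PSU n F q) = 1 := by
      have h7 : (pr (U * T') : Cfsg.PSU n F q)⁻¹ *
          (pr (U * T') * pr S * (pr (U * T'))⁻¹) * pr (U * T') = 1 := by
        rw [h5, mul_one, inv_mul_cancel]
      rw [← h7]
      group
    exact pr_tv_ne_one H hS P.hee P.e_ne hκ₀0 h6
  have hiso : ⟪(U * T') ▹ e, (U * T') ▹ e⟫ = 0 := by rw [herm_smv, P.hee]
  obtain ⟨a', ha'0, ha'⟩ := InX.center H P.hff hiso hf0 h2 h4 hne
  have h5 : ⟪(U * T') ▹ e, f⟫ = 0 := by
    rw [ha', hermForm_smul_left, P.hff, mul_zero]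
  rw [hm'e, hermForm_add_left, hermForm_smul_left, hermForm_smul_left, P.hef, P.hff, mul_one,
    mul_zero, add_zero] at h5
  have h6 : κ' = κ := by
    have h7 : κ' * κ⁻¹ = 1 := by linear_combination -h5
    have h8 := congrArg (fun z => z * κ) h7
    simp only [mul_assoc, inv_mul_cancel₀ hκ0, mul_one, one_mul] at h8
    exact h8
  rw [h6] at hT'
  rw [hTT', hT'.eq hT]

/-- transvections whose centre is not orthogonal to `e` are fixed -/
theorem rig_tv_ne {A : Cfsg.SU n F q} {v : Fin n → F} {c : F} (hA : IsTv A v c)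
    (hv : ⟪v, v⟫ = 0) (hve : ⟪v, e⟫ ≠ 0) : β (pr A) = pr A := by
  have hv0 : v ≠ 0 := by
    intro h0
    rw [h0, hermForm_zero_left] at hve
    exact hve rfl
  have hc : c + c ^ q = 0 := by
    apply trace_zero_of_isU_tv H.hF hv0 hv
    have := isU_suMat A
    rwa [hA] at this
  set s : F := ⟪v, e⟫ with hs
  set v₁ : Fin n → F := s⁻¹ • v with hv₁
  have hv₁e : ⟪v₁, e⟫ = 1 := by rw [hv₁, hermForm_smul_left, inv_mul_cancel₀ hve]
  have hv₁v₁ : ⟪v₁, v₁⟫ = 0 := by
    rw [hv₁, hermForm_smul_left, hermForm_smul_right, hv, mul_zero, mul_zero]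
  have hyW : InW q e f (hypProj q e f v₁) := hypProj_inW H.hF P v₁
  have hdec : v₁ = ⟪v₁, f⟫ • e + (1 : F) • f + hypProj q e f v₁ := by
    have := hypProj_decomp (q := q) e f v₁
    rwa [hv₁e] at this
  have hnorm : ⟪v₁, f⟫ + ⟪v₁, f⟫ ^ q + ⟪hypProj q e f v₁, hypProj q e f v₁⟫ = 0 := by
    have h1 := hv₁v₁
    rw [herm_decomp H.hF P v₁ v₁, hv₁e] at h1
    linear_combination h1
  obtain ⟨B, hB⟩ := exists_Par H.hF P hyW hnorm
  have hBf : (B ▹ f) = v₁ := by
    rw [hB.smv_f H.hF P]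
    conv_rhs => rw [hdec]
    module
  have hBv : (B⁻¹ ▹ v) = s • f := by
    have h1 : v = s • v₁ := by rw [hv₁, smul_smul, mul_inv_cancel₀ hve, one_smul]
    rw [h1, smv_smul, ← hBf, smv_inv_smv]
  have hT := hA.conj B⁻¹
  rw [hBv, inv_inv, IsTv.smul_iff] at hT
  have hc' : (c * s * s ^ q) + (c * s * s ^ q) ^ q = 0 := by
    rw [mul_pow, mul_pow, frob_frob H.hF]
    linear_combination (s * s ^ q) * hc
  have h1 := rig_f H P β hβe hβf hphi hphit hT hc'
  have h2 := rig_Qg H P β hβe hβf hphi hphit (hB.mem H.hF P)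
  have h4 : (pr A : Cfsg.PSU n F q) = pr B * pr (B⁻¹ * A * B) * (pr B)⁻¹ := by
    rw [← map_inv, ← map_mul, ← map_mul]
    congr 1
    group
  rw [h4, map_mul, map_mul, map_inv, h1, h2]

/-- all transvections are fixed -/
theorem rig_all_tv {A : Cfsg.SU n F q} {v : Fin n → F} {c : F} (hA : IsTv A v c)
    (hv : ⟪v, v⟫ = 0) : β (pr A) = pr A := by
  by_cases hve : ⟪v, e⟫ = 0
  · by_cases hvf : ⟪v, f⟫ = 0
    · have hev : ⟪e, v⟫ = 0 := hermForm_eq_zero_symm H.hF hve
      have hfv : ⟪f, v⟫ = 0 := hermForm_eq_zero_symm H.hF hvf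
      apply rig_L H P β hβe hβf hphi hphit (a := 1) (b := 1) one_ne_zero one_ne_zero
      · rw [hA.smv, hev, mul_zero, zero_smul, add_zero, one_smul]
      · rw [hA.smv, hfv, mul_zero, zero_smul, add_zero, one_smul]
    · obtain ⟨κ, hκ0, hκ⟩ := Cfsg.Agent.Helper5.exists_trace_zero H.hF
      have hκ' : κ + κ ^ q = 0 := by rw [hκ]; ring
      have hU : IsTv (tvElt H.hF f κ P.hff hκ') f κ := rfl
      set U := tvElt H.hF f κ P.hff hκ' with hUdef
      have hUfix := rig_f H P β hβe hβf hphi hphit hU hκ'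
      have hA₁ := hA.conj U
      have hv₁ : ⟪U ▹ v, U ▹ v⟫ = 0 := by rw [herm_smv, hv]
      have hv₁e : ⟪U ▹ v, e⟫ ≠ 0 := by
        rw [hU.smv, hermForm_add_left, hermForm_smul_left, hve, P.hfe H.hF, zero_add, mul_one]
        exact mul_ne_zero hκ0 hvf
      have h1 := rig_tv_ne H P β hβe hβf hphi hphit hA₁ hv₁ hv₁e
      have h4 : (pr A : Cfsg.PSU n F q) = (pr U)⁻¹ * pr (U * A * U⁻¹) * pr U := by
        rw [← map_inv, ← map_mul, ← map_mul]
        congr 1
        group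
      rw [h4, map_mul, map_mul, map_inv, h1, hUfix]
  · exact rig_tv_ne H P β hβe hβf hphi hphit hA hv hve

/-- rigidity -/
theorem rig (x : Cfsg.PSU n F q) : β x = x := by
  obtain ⟨A, rfl⟩ := pr_surjective x
  let Fx : Subgroup (Cfsg.SU n F q) :=
    { carrier := {A | β (pr A) = pr A}
      mul_mem' := by
        intro a b ha hb
        show β (pr (a * b)) = pr (a * b)
        rw [map_mul, map_mul, ha, hb]
      one_mem' := by
        show β (pr 1) = pr 1
        rw [map_one, map_one]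
      inv_mem' := by
        intro a ha
        show β (pr a⁻¹) = pr a⁻¹
        rw [map_inv, map_inv, ha] }
  have hle : Subgroup.closure (tvSet n F q) ≤ Fx := by
    rw [Subgroup.closure_le]
    rintro A ⟨v, c, hv, hA⟩
    exact rig_all_tv H P β hβe hβf hphi hphit (v := v) (c := c) hA hv
  have hA : A ∈ Subgroup.closure (tvSet n F q) := by
    rw [closure_tvSet_eq_top H.hF H.h32]
    exact Subgroup.mem_top A
  exact hle hA

end Rigid

/-- every automorphism of `PSU_n(q)` is standard -/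
theorem aut_is_standard (H : Hyp F p r q n) (β : Cfsg.PSU n F q ≃* Cfsg.PSU n F q) :
    ∃ (g : Cfsg.GU n F q) (σ : F ≃+* F), ∀ x, β x = pstd g σ x := by
  obtain ⟨e, he0, hee⟩ := exists_isotropic_ne_zero H.hF (n := n) (by have := H.hn; omega)
  obtain ⟨f, hff, hef⟩ := exists_hyperbolic_partner H.hF e he0 hee
  have P : HypPair q e f := ⟨hee, hff, hef⟩
  obtain ⟨A, hβe, hβf⟩ := exists_normalize H P β
  obtain ⟨g, σ, hγe, hγf, hrl, hrt⟩ := exists_std_agree H P (innerComp A β) hβe hβf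
  obtain ⟨h1, h2, h3, h4⟩ := quotient_hyps H P (innerComp A β) (pstd g σ) hβe hβf hγe hγf hrl hrt
  have h5 := rig H P _ h1 h2 h3 h4
  refine ⟨suGU A⁻¹ * g, σ, fun x => ?_⟩
  have h6 := h5 x
  rw [MulEquiv.trans_apply] at h6
  have h7 : innerComp A β x = pstd g σ x := by
    have := congrArg (pstd g σ) h6
    rwa [MulEquiv.apply_symm_apply] at this
  rw [← pstd_comp, ← h7, pstd_suGU, innerComp_apply, map_inv]
  group

end Cfsg.Agent.Helper37.AutU
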