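import Mathlib
import Cfsg.Agent.Helper37.AutUR
import Cfsg.Prelude.Def_LieTypeDatum

/-!
Helper37: automorphisms of `PSU_n(q)`.  Part S: the standard automorphisms in the language of the
statements.
-/

set_option autoImplicit false
set_option linter.unusedSectionVars false
set_option linter.unusedVariables false

namespace Cfsg.Agent.Helper37.AutU

open Matrix Cfsg.Agent.Helper13

variable {F : Type*} [Field F] [Fintype F] {p r q n : ℕ}

theorem pstd_isInduced (g : Cfsg.GU n F q) (σ : F ≃+* F) :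
    Cfsg.IsInducedBySemilinearPSU (g : GL (Fin n) F) σ (pstd g σ) := by
  intro s s' h
  have h1 : pstd g σ (pr s) = pr (stdSU g σ s) := pstd_pr g σ s
  have h2 : s' = stdSU g σ s := by
    apply suMat_injective
    rw [suMat_stdSU]
    exact h
  rw [h2]
  exact h1

theorem pstd_isInnerDiagonal (g : Cfsg.GU n F q) :
    Cfsg.IsInnerDiagonalAutPSU (pstd g (RingEquiv.refl F)) := by
  refine ⟨(g : GL (Fin n) F), g.2, ?_⟩
  intro s s' h
  have h1 : pstd g (RingEquiv.refl F) (pr s) = pr (stdSU g (RingEquiv.refl F) s) := pstd_pr g _ s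
  have h2 : s' = stdSU g (RingEquiv.refl F) s := by
    apply suMat_injective
    rw [suMat_stdSU, map_refl]
    exact h
  rw [h2]
  exact h1

theorem pstd_isFieldAut (σ : F ≃+* F) :
    Cfsg.IsFieldAutPSUOf σ (pstd (1 : Cfsg.GU n F q) σ) := by
  intro s s' h
  have h1 : pstd (1 : Cfsg.GU n F q) σ (pr s) = pr (stdSU 1 σ s) := pstd_pr 1 σ s
  have h2 : s' = stdSU (1 : Cfsg.GU n F q) σ s := by
    apply suMat_injective
    rw [suMat_stdSU, inv_one, gm_one, Matrix.one_mul, Matrix.mul_one]
    exact h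
  rw [h2]
  exact h1

/-- every automorphism of `PSU_n(q)` is a standard one, as an equality of automorphisms -/
theorem aut_eq_pstd (H : Hyp F p r q n) (β : Cfsg.PSU n F q ≃* Cfsg.PSU n F q) :
    ∃ (g : Cfsg.GU n F q) (σ : F ≃+* F), β = pstd g σ := by
  obtain ⟨g, σ, h⟩ := aut_is_standard H β
  exact ⟨g, σ, MulEquiv.ext h⟩

end Cfsg.Agent.Helper37.AutU
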