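import Mathlib
import Cfsg.Agent.Helper37.AutUS

/-!
Helper37: automorphisms of `PSU_n(q)`.  Part T: the composition law of the standard
automorphisms and the kernel of `(g, σ) ↦ pstd g σ`.
-/

set_option autoImplicit false
set_option linter.unusedSectionVars false
set_option linter.unusedVariables false
set_option linter.style.haveILetI false

namespace Cfsg.Agent.Helper37.AutU

open Matrix Cfsg.Agent.Helper13

variable {F : Type*} [Field F] [Fintype F] {p r q n : ℕ}

local notation "⟪" x ", " y "⟫" => Cfsg.hermForm n F q x y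
local notation:73 A:74 " ▹ " x:73 => (suMat A) *ᵥ x

theorem gm_inv_eq_of_mul_eq_one {g : Cfsg.GU n F q} {N : Matrix (Fin n) (Fin n) F}
    (h : gm g * N = 1) : gm g⁻¹ = N := by
  calc gm g⁻¹ = gm g⁻¹ * (gm g * N) := by rw [h, Matrix.mul_one]
    _ = N := by rw [← Matrix.mul_assoc, gm_inv_mul, Matrix.one_mul]

theorem suMat_inv_eq_of_mul_eq_one {A : Cfsg.SU n F q} {N : Matrix (Fin n) (Fin n) F}
    (h : suMat A * N = 1) : suMat A⁻¹ = N := by
  calc suMat A⁻¹ = suMat A⁻¹ * (suMat A * N) := by rw [h, Matrix.mul_one]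
    _ = N := by rw [← Matrix.mul_assoc, suMat_inv_mul, Matrix.one_mul]

/-- the composition law of standard automorphisms -/
theorem pstd_mul (hF : Fintype.card F = q ^ 2) (g g' : Cfsg.GU n F q) (σ σ' : F ≃+* F) :
    ∃ g'' : Cfsg.GU n F q, ∀ x, pstd g σ (pstd g' σ' x) = pstd g'' (σ'.trans σ) x := by
  have hMU : IsU q (gm g * (gm g').map σ) := (isU_gm g).mul (isU_map (isU_gm g') σ)
  obtain ⟨g'', hg''⟩ := exists_GU_of_preserves' hF (gm g * (gm g').map σ) hMU
  have hg''' : gm g'' = gm g * (gm g').map σ := hg''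
  have hone : (1 : Matrix (Fin n) (Fin n) F).map σ = 1 :=
    Matrix.map_one _ (map_zero σ) (map_one σ)
  have hinv : gm g''⁻¹ = (gm g'⁻¹).map σ * gm g⁻¹ := by
    apply gm_inv_eq_of_mul_eq_one
    rw [hg''']
    calc gm g * (gm g').map σ * ((gm g'⁻¹).map σ * gm g⁻¹)
        = gm g * ((gm g').map σ * (gm g'⁻¹).map σ) * gm g⁻¹ := by simp only [Matrix.mul_assoc]
      _ = 1 := by rw [← Matrix.map_mul, gm_mul_inv, hone, Matrix.mul_one, gm_mul_inv]
  refine ⟨g'', fun x => ?_⟩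
  obtain ⟨A, rfl⟩ := pr_surjective x
  rw [pstd_pr, pstd_pr, pstd_pr]
  congr 1
  apply suMat_injective
  rw [suMat_stdSU, suMat_stdSU, suMat_stdSU, hinv, hg''', Matrix.map_mul, Matrix.map_mul,
    Matrix.map_map]
  have : ((suMat A).map (⇑σ ∘ ⇑σ')) = (suMat A).map ⇑(σ'.trans σ) := rfl
  rw [this]
  simp only [Matrix.mul_assoc]

/-- conjugation by a scalar multiple of an element of `SU` -/
theorem pstd_conj_of_smul (g : Cfsg.GU n F q) (A : Cfsg.SU n F q) {ζ : F} (hζ : ζ ≠ 0)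
    (hA : suMat A = ζ • gm g) (x : Cfsg.PSU n F q) :
    pstd g (RingEquiv.refl F) x = pr A * x * (pr A)⁻¹ := by
  obtain ⟨B, rfl⟩ := pr_surjective x
  rw [pstd_pr, ← map_inv, ← map_mul, ← map_mul]
  congr 1
  apply suMat_injective
  have hinv : suMat A⁻¹ = ζ⁻¹ • gm g⁻¹ := by
    apply suMat_inv_eq_of_mul_eq_one
    rw [hA, Matrix.smul_mul, Matrix.mul_smul, smul_smul, mul_inv_cancel₀ hζ, one_smul, gm_mul_inv]
  rw [suMat_stdSU, map_refl, suMat_mul, suMat_mul, hinv, hA, Matrix.smul_mul, Matrix.smul_mul,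
    Matrix.mul_smul, smul_smul, mul_inv_cancel₀ hζ, one_smul]

theorem pstd_one_refl (x : Cfsg.PSU n F q) :
    pstd (1 : Cfsg.GU n F q) (RingEquiv.refl F) x = x := by
  obtain ⟨B, rfl⟩ := pr_surjective x
  rw [pstd_pr]
  congr 1
  apply suMat_injective
  rw [suMat_stdSU, map_refl, inv_one, gm_one, Matrix.one_mul, Matrix.mul_one]

/-- the kernel of `(g, σ) ↦ pstd g σ` -/
theorem pstd_eq_id (H : Hyp F p r q n) (h : Cfsg.GU n F q) (τ : F ≃+* F)
    (hid : ∀ x, pstd h τ x = x) :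
    τ = RingEquiv.refl F ∧ ∃ ζ : F, ζ * ζ ^ q = 1 ∧ ∀ x, gm h *ᵥ x = ζ • x := by
  obtain ⟨e, he0, hee⟩ := exists_isotropic_ne_zero H.hF (n := n) (by have := H.hn; omega)
  obtain ⟨f, hff, hef⟩ := exists_hyperbolic_partner H.hF e he0 hee
  have P : HypPair q e f := ⟨hee, hff, hef⟩
  obtain ⟨κ, hκ0, hκ⟩ := Cfsg.Agent.Helper5.exists_trace_zero H.hF
  have hκ' : κ + κ ^ q = 0 := by rw [hκ]; ring
  -- isotropic vectors are eigenvectors
  have heig : ∀ v : Fin n → F, v ≠ 0 → ⟪v, v⟫ = 0 →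
      ∃ a : F, a ≠ 0 ∧ semi (gm h) τ v = a • v := by
    intro v hv0 hv
    have hT : IsTv (tvElt H.hF v κ hv hκ') v κ := rfl
    have h1 := hT.std h τ
    have h2 : (pr (stdSU h τ (tvElt H.hF v κ hv hκ')) : Cfsg.PSU n F q) =
        pr (tvElt H.hF v κ hv hκ') := by rw [← pstd_pr, hid]
    have hv' : ⟪semi (gm h) τ v, semi (gm h) τ v⟫ = 0 := by
      rw [herm_semi (isU_gm h), hv, map_zero]
    have h3 := InX.lift_unique H hv' hv h1 hT h2
    rw [h3] at h1
    exact hT.center_eq H.hF h1 hv0 hκ0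
  obtain ⟨a, ha0, hSe⟩ := heig e he0 hee
  obtain ⟨b, hb0, hSf⟩ := heig f (P.f_ne H.hF) hff
  have haq : a ^ q ≠ 0 := pow_ne_zero q ha0
  have hβe : MapsX (pstd h τ) e e := pstd_mapsX H h τ ha0 he0 hee hSe
  have hRid : ∀ y, InW q e f y → Rl (pstd h τ) e f y y := by
    intro y hy
    obtain ⟨B, c, hB⟩ := exists_Par' H.hF P hy
    exact ⟨B, c, B, c, hB, hB, hid _⟩
  have hSinW : ∀ y, InW q e f y → InW q e f (semi (gm h) τ y) := by
    intro y hy
    constructor
    · have h1 : ⟪semi (gm h) τ y, semi (gm h) τ e⟫ = 0 := by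
        rw [herm_semi (isU_gm h), hy.1, map_zero]
      rw [hSe, hermForm_smul_right] at h1
      rcases mul_eq_zero.mp h1 with h2 | h2
      · exact absurd h2 haq
      · exact h2
    · have h1 : ⟪semi (gm h) τ y, semi (gm h) τ f⟫ = 0 := by
        rw [herm_semi (isU_gm h), hy.2, map_zero]
      rw [hSf, hermForm_smul_right] at h1
      rcases mul_eq_zero.mp h1 with h2 | h2
      · exact absurd h2 (pow_ne_zero q hb0)
      · exact h2
  have hSW : ∀ y, InW q e f y → a ^ q • semi (gm h) τ y = y := by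
    intro y hy
    exact Rl.func H P (pstd h τ) hβe
      (pstd_rl H P h τ hSe hy ((hSinW y hy).smul _) rfl) (hRid y hy)
  -- `τ` is trivial
  obtain ⟨w, hwW, hw0⟩ := exists_inW_ne_zero H P
  have hτ : τ = RingEquiv.refl F := by
    apply RingEquiv.ext
    intro l
    have h1 := hSW (l • w) (hwW.smul l)
    have h2 := hSW w hwW
    rw [semi_smul, smul_comm, h2] at h1
    have h3 : (τ l - l) • w = 0 := by rw [sub_smul, h1, sub_self]
    rcases smul_eq_zero.mp h3 with h4 | h4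
    · exact sub_eq_zero.mp h4
    · exact absurd h4 hw0
  subst hτ
  refine ⟨rfl, ?_⟩
  -- the norm of `a`
  have hnorm : a * a ^ q = 1 := by
    have hT : IsTv (tvElt H.hF e κ hee hκ') e κ := rfl
    have h1 := pstd_rt H P h (RingEquiv.refl F) hSe hκ'
    have h2 : Rt (pstd h (RingEquiv.refl F)) e e κ κ := ⟨_, _, hT, hT, hκ', hκ', hid _⟩
    have h3 := Rt.func H _ hee hee he0 he0 hβe h1 h2
    have h4 : κ * (a * a ^ q - 1) = 0 := by
      have : (RingEquiv.refl F) κ = κ := rfl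
      rw [this] at h3
      linear_combination h3
    rcases mul_eq_zero.mp h4 with h5 | h5
    · exact absurd h5 hκ0
    · exact sub_eq_zero.mp h5
  have hab : a * b ^ q = 1 := by
    have h1 := herm_semi (isU_gm h) (RingEquiv.refl F) e f
    rw [hSe, hSf, hermForm_smul_left, hermForm_smul_right, hef, mul_one] at h1
    exact h1
  have hba : b = a := by
    have h1 : b ^ q = a ^ q := by
      have : a * (b ^ q - a ^ q) = 0 := by linear_combination hab - hnorm
      rcases mul_eq_zero.mp this with h5 | h5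
      · exact absurd h5 ha0
      · exact sub_eq_zero.mp h5
    have h2 := congrArg (fun z => z ^ q) h1
    simp only [frob_frob H.hF] at h2
    exact h2
  have hainv : (a ^ q)⁻¹ = a := by
    rw [inv_eq_iff_eq_inv]
    exact eq_inv_of_mul_eq_one_right hnorm
  refine ⟨a, hnorm, fun x => ?_⟩
  have hsemi : ∀ z, semi (gm h) (RingEquiv.refl F) z = gm h *ᵥ z := fun z => rfl
  have hx := hypProj_decomp (q := q) e f x
  have hW := hSW _ (hypProj_inW H.hF P x)
  have hW' : gm h *ᵥ hypProj q e f x = a • hypProj q e f x := by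
    rw [hsemi] at hW
    have : gm h *ᵥ hypProj q e f x = (a ^ q)⁻¹ • (a ^ q • (gm h *ᵥ hypProj q e f x)) := by
      rw [smul_smul, inv_mul_cancel₀ haq, one_smul]
    rw [this, hW, hainv]
  rw [hsemi] at hSe hSf
  have e1 : gm h *ᵥ x = gm h *ᵥ (⟪x, f⟫ • e + ⟪x, e⟫ • f + hypProj q e f x) :=
    congrArg (fun z => gm h *ᵥ z) hx
  rw [e1, Matrix.mulVec_add, Matrix.mulVec_add, Matrix.mulVec_smul, Matrix.mulVec_smul, hSe, hSf,
    hW', hba]
  have e2 : a • x = a • (⟪x, f⟫ • e + ⟪x, e⟫ • f + hypProj q e f x) :=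
    congrArg (fun z => a • z) hx
  rw [e2]
  module

end Cfsg.Agent.Helper37.AutU
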