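import Mathlib
import Cfsg.Agent.Helper37.AutUT
import Cfsg.Agent.Helper37.OutPslD

/-!
Helper37: automorphisms of `PSU_n(q)`.  Part U: the structure of `Out(PSU_n(q))` and the order of
`Aut(PSU_n(q))`.
-/

set_option autoImplicit false
set_option linter.unusedSectionVars false
set_option linter.unusedVariables false
set_option linter.style.haveILetI false

namespace Cfsg.Agent.Helper37.AutU

open Matrix Cfsg.Agent.Helper13

variable {F : Type*} [Field F] [Fintype F] {p r q n : ℕ}

local notation "⟪" x ", " y "⟫" => Cfsg.hermForm n F q x y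
local notation:73 A:74 " ▹ " x:73 => (suMat A) *ᵥ x

/-- the norm one group -/
abbrev U1 (F : Type*) [Field F] (q : ℕ) : Subgroup Fˣ := (powMonoidHom (q + 1) : Fˣ →* Fˣ).ker

theorem U1_val {c : Fˣ} (hc : c ∈ U1 F q) : (c : F) * (c : F) ^ q = 1 := by
  rw [MonoidHom.mem_ker, powMonoidHom_apply] at hc
  have := congrArg Units.val hc
  rw [Units.val_pow_eq_pow_val, Units.val_one, pow_succ'] at this
  exact this

theorem dg_mem_GU (i0 : Fin n) {c : Fˣ} (hc : c ∈ U1 F q) :
    Cfsg.Agent.Helper37.OutPsl.dg i0 c ∈ Cfsg.GU n F q := by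
  intro u v
  show Cfsg.hermForm n F q ((Matrix.diagonal (Pi.mulSingle i0 (c : F))) *ᵥ u)
    ((Matrix.diagonal (Pi.mulSingle i0 (c : F))) *ᵥ v) = _
  unfold Cfsg.hermForm
  apply Finset.sum_congr rfl
  intro i _
  rw [Matrix.mulVec_diagonal, Matrix.mulVec_diagonal, mul_pow]
  by_cases h : i = i0
  · subst h
    rw [Pi.mulSingle_eq_same]
    linear_combination (u i * v i ^ q) * U1_val hc
  · rw [Pi.mulSingle_eq_of_ne h, one_pow, one_mul, one_mul]

/-- `diag(c, 1, …, 1)` as an element of `GU` -/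
def dgU (i0 : Fin n) : U1 F q →* Cfsg.GU n F q :=
  ((Cfsg.Agent.Helper37.OutPsl.dg i0).comp (U1 F q).subtype).codRestrict (Cfsg.GU n F q)
    (fun c => dg_mem_GU i0 c.2)

theorem gm_dgU (i0 : Fin n) (c : U1 F q) :
    gm (dgU i0 c) = Matrix.diagonal (Pi.mulSingle i0 ((c : Fˣ) : F)) := rfl

theorem det_gm_dgU (i0 : Fin n) (c : U1 F q) : (gm (dgU i0 c)).det = ((c : Fˣ) : F) := by
  rw [gm_dgU, Matrix.det_diagonal, Finset.prod_pi_mulSingle', if_pos (Finset.mem_univ _)]

theorem det_gm_mem_U1 (hF : Fintype.card F = q ^ 2) (g : Cfsg.GU n F q) :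
    ∃ c : U1 F q, ((c : Fˣ) : F) = (gm g).det := by
  have h := Cfsg.Agent.Helper5.det_pow_eq_one hF g.1 g.2
  have h0 : (gm g).det ≠ 0 := by
    intro h1
    have : (gm g).det ^ (q + 1) = 1 := h
    rw [h1, zero_pow (by omega)] at this
    exact zero_ne_one this
  refine ⟨⟨Units.mk0 _ h0, ?_⟩, rfl⟩
  rw [MonoidHom.mem_ker, powMonoidHom_apply]
  apply Units.ext
  rw [Units.val_pow_eq_pow_val, Units.val_mk0, Units.val_one]
  exact h

/-- the diagonal automorphisms -/
noncomputable def eta (i0 : Fin n) : U1 F q →* MulAut (Cfsg.PSU n F q) :=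
  MonoidHom.mk' (fun c => pstd (dgU i0 c) (RingEquiv.refl F)) (by
    intro c c'
    apply MulEquiv.ext
    intro x
    rw [map_mul, MulAut.mul_apply, pstd_comp])

theorem eta_apply (i0 : Fin n) (c : U1 F q) :
    eta i0 c = pstd (dgU i0 c) (RingEquiv.refl F) := rfl

section Main

variable (H : Hyp F p r q n)
include H

theorem sigma_unique {β : MulAut (Cfsg.PSU n F q)} {g g' : Cfsg.GU n F q} {σ σ' : F ≃+* F}
    (h : β = pstd g σ) (h' : β = pstd g' σ') : σ = σ' := by
  obtain ⟨g₂, σ₂, h2⟩ := aut_eq_pstd H (β⁻¹ : MulAut (Cfsg.PSU n F q))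
  have key : ∀ (g : Cfsg.GU n F q) (σ : F ≃+* F), β = pstd g σ → ∀ x, σ x = σ₂.symm x := by
    intro g σ hβ
    obtain ⟨g'', hg''⟩ := pstd_mul H.hF g g₂ σ σ₂
    have h3 : ∀ x, pstd g'' (σ₂.trans σ) x = x := by
      intro x
      rw [← hg'', ← hβ, ← h2]
      show β (β⁻¹ x) = x
      rw [← MulAut.mul_apply, mul_inv_cancel, MulAut.one_apply]
    have h4 := (pstd_eq_id H g'' _ h3).1
    intro x
    have h5 := congrArg (fun τ : F ≃+* F => τ (σ₂.symm x)) h4
    simp only [RingEquiv.trans_apply, RingEquiv.apply_symm_apply, RingEquiv.refl_apply] at h5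
    exact h5
  apply RingEquiv.ext
  intro x
  rw [key g σ h x, key g' σ' h' x]

theorem center_psu_eq_bot : Subgroup.center (Cfsg.PSU n F q) = ⊥ := by
  haveI := isSimpleGroup_PSU H.hF H.hn H.h32
  rcases (Subgroup.Normal.eq_bot_or_eq_top (inferInstance :
    (Subgroup.center (Cfsg.PSU n F q)).Normal)) with h | h
  · exact h
  · exfalso
    obtain ⟨e, he0, hee⟩ := exists_isotropic_ne_zero H.hF (n := n) (by have := H.hn; omega)
    obtain ⟨f, hff, hef⟩ := exists_hyperbolic_partner H.hF e he0 hee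
    have P : HypPair q e f := ⟨hee, hff, hef⟩
    have hc : CommX (InX q e) (InX q f) := by
      intro x y _ _
      have hx : x ∈ Subgroup.center (Cfsg.PSU n F q) := by rw [h]; exact Subgroup.mem_top x
      exact (Subgroup.mem_center_iff.mp hx y).symm
    have := (commX_iff_orth H hee hff (P.f_ne H.hF)).mp hc
    rw [hef] at this
    exact one_ne_zero this

/-- the structure of the outer automorphism group -/
theorem out_psu :
    ∃ φ : Cfsg.Out (Cfsg.PSU n F q) →* Multiplicative (ZMod (2 * r)),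
      Function.Surjective φ ∧ IsCyclic φ.ker ∧ Nat.card φ.ker = Nat.gcd n (q + 1) := by
  haveI := Fact.mk H.hp
  have hcardF : Fintype.card F = p ^ (2 * r) := by
    rw [H.hF, H.hq, ← pow_mul, mul_comm]
  have h2r : 1 ≤ 2 * r := by have := H.hf; omega
  obtain ⟨e⟩ := Cfsg.Agent.Helper37.OutPsl.nonempty_galIso hcardF h2r
  let P : MulAut (Cfsg.PSU n F q) → (F ≃+* F) → Prop := fun β σ => ∃ g, β = pstd g σ
  have hex : ∀ β, ∃ s, P β s := by
    intro β
    obtain ⟨g, σ, h⟩ := aut_eq_pstd H β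
    exact ⟨σ, g, h⟩
  have hmul : ∀ β β' s s', P β s → P β' s' → P (β * β') (s * s') := by
    rintro β β' s s' ⟨g, rfl⟩ ⟨g', rfl⟩
    obtain ⟨g'', hg''⟩ := pstd_mul H.hF g g' s s'
    refine ⟨g'', ?_⟩
    apply MulEquiv.ext
    intro x
    rw [MulAut.mul_apply, hg'']
    rfl
  have huniq : ∀ β s s', P β s → P β s' → s = s' := by
    rintro β s s' ⟨g, h⟩ ⟨g', h'⟩
    exact sigma_unique H h h'
  obtain ⟨h, hh⟩ := Cfsg.Agent.Helper37.OutPsl.exists_hom_of_rel P hex hmul huniq
  have hone : ∀ β, P β 1 → h β = 1 := fun β hβ => huniq β _ _ (hh β) hβ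
  have hone' : ∀ β, h β = 1 → P β 1 := by
    intro β hβ
    have := hh β
    rwa [hβ] at this
  let ψ : MulAut (Cfsg.PSU n F q) →* Multiplicative (ZMod (2 * r)) := e.toMonoidHom.comp h
  have hψ : ∀ β, ψ β = 1 ↔ h β = 1 := by
    intro β
    show e (h β) = 1 ↔ _
    exact EmbeddingLike.map_eq_one_iff
  have hsurj : Function.Surjective ψ := by
    apply e.surjective.comp
    intro s
    exact ⟨pstd 1 s, huniq _ _ _ (hh _) ⟨1, rfl⟩⟩
  have hn1 : 1 ≤ n := H.one_le_n
  let i0 : Fin n := ⟨0, hn1⟩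
  have hInn : ∀ A : Cfsg.SU n F q, (MulAut.conj (pr A) : MulAut (Cfsg.PSU n F q)) =
      pstd (suGU A) (RingEquiv.refl F) := by
    intro A
    apply MulEquiv.ext
    intro x
    rw [pstd_suGU, MulAut.conj_apply]
  have key := Cfsg.Agent.Helper37.OutPsl.abstract_out (Cfsg.Inn (Cfsg.PSU n F q)) ψ hsurj
    (by
      rintro β ⟨x, rfl⟩
      obtain ⟨A, rfl⟩ := pr_surjective x
      rw [MonoidHom.mem_ker, hψ]
      exact hone _ ⟨suGU A, hInn A⟩)
    (eta i0) n
    (by
      intro c
      rw [hψ]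
      exact hone _ ⟨dgU i0 c, rfl⟩)
    (by
      intro β hβ
      rw [hψ] at hβ
      obtain ⟨g, rfl⟩ := hone' β hβ
      obtain ⟨c, hc⟩ := det_gm_mem_U1 H.hF g
      refine ⟨c, ?_⟩
      rw [← map_inv, eta_apply]
      have h1 : (gm (dgU i0 c⁻¹ * g)).det = 1 := by
        rw [gm_mul, Matrix.det_mul, det_gm_dgU, ← hc]
        simp
      obtain ⟨A, hA⟩ := exists_su_of h1 (isU_gm _)
      refine ⟨pr A, ?_⟩
      apply MulEquiv.ext
      intro x
      rw [MulAut.conj_apply, MulAut.mul_apply]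
      have h2 := pstd_conj_of_smul (dgU i0 c⁻¹ * g) A one_ne_zero (by rw [one_smul]; exact hA) x
      rw [← h2]
      exact (pstd_comp _ _ _ _).symm)
    (by
      intro c
      constructor
      · rintro ⟨x, hx⟩
        obtain ⟨A, rfl⟩ := pr_surjective x
        rw [hInn A, eta_apply] at hx
        have h1 : ∀ x, pstd ((suGU A)⁻¹ * dgU i0 c) (RingEquiv.refl F) x = x := by
          intro x
          rw [← pstd_comp, ← hx, pstd_comp, inv_mul_cancel, pstd_one_refl]
        obtain ⟨-, ζ, hζ, hsm⟩ := pstd_eq_id H _ _ h1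
        have hmat : gm ((suGU A)⁻¹ * dgU i0 c) = ζ • (1 : Matrix (Fin n) (Fin n) F) := by
          apply mat_ext_mulVec
          intro x
          rw [hsm, Matrix.smul_mulVec, Matrix.one_mulVec]
        have hdet := congrArg Matrix.det hmat
        rw [gm_mul, Matrix.det_mul, det_gm_dgU, gm_suGU_inv, det_suMat, one_mul, Matrix.det_smul,
          Matrix.det_one, mul_one, Fintype.card_fin] at hdet
        have hζ0 : ζ ≠ 0 := by
          intro h0
          rw [h0, zero_mul] at hζ
          exact zero_ne_one hζ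
        refine ⟨⟨Units.mk0 ζ hζ0, ?_⟩, ?_⟩
        · rw [MonoidHom.mem_ker, powMonoidHom_apply]
          apply Units.ext
          rw [Units.val_pow_eq_pow_val, Units.val_mk0, Units.val_one, pow_succ']
          exact hζ
        · apply Subtype.ext
          apply Units.ext
          rw [powMonoidHom_apply]
          show ((Units.mk0 ζ hζ0) ^ n : Fˣ).val = _
          rw [Units.val_pow_eq_pow_val, Units.val_mk0]
          exact hdet.symm
      · rintro ⟨z, rfl⟩
        rw [powMonoidHom_apply]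
        have hz := U1_val z.2
        set ζ : F := ((z : Fˣ) : F) with hζ
        have hζ0 : ζ ≠ 0 := (z : Fˣ).ne_zero
        have hU : IsU q (ζ⁻¹ • gm (dgU i0 (z ^ n))) := by
          intro x y
          rw [Matrix.smul_mulVec, Matrix.smul_mulVec, hermForm_smul_left, hermForm_smul_right,
            isU_gm _ x y, ← mul_assoc, inv_pow]
          have : ζ⁻¹ * (ζ ^ q)⁻¹ = 1 := by
            rw [← mul_inv, hz, inv_one]
          rw [this, one_mul]
        have hdet : (ζ⁻¹ • gm (dgU i0 (z ^ n))).det = 1 := by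
          rw [Matrix.det_smul, det_gm_dgU, Fintype.card_fin]
          show ζ⁻¹ ^ n * (((z ^ n : U1 F q) : Fˣ) : F) = 1
          rw [Subgroup.coe_pow, Units.val_pow_eq_pow_val, ← hζ, inv_pow,
            inv_mul_cancel₀ (pow_ne_zero n hζ0)]
        obtain ⟨A, hA⟩ := exists_su_of hdet hU
        refine ⟨pr A, ?_⟩
        apply MulEquiv.ext
        intro x
        rw [MulAut.conj_apply, eta_apply]
        exact (pstd_conj_of_smul _ A (inv_ne_zero hζ0) hA x).symm)
  obtain ⟨φ, h1, h2, h3⟩ := key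
  refine ⟨φ, h1, h2, ?_⟩
  rw [h3, Cfsg.Agent.Helper5.card_norm_one_units H.hF, Nat.gcd_comm]

/-- the order of the automorphism group -/
theorem card_aut_psu :
    Nat.card (MulAut (Cfsg.PSU n F q)) =
      Nat.gcd n (q + 1) * (2 * r) * Nat.card (Cfsg.PSU n F q) := by
  obtain ⟨φ, h1, -, h3⟩ := out_psu H
  have hInn : Nat.card (Cfsg.Inn (Cfsg.PSU n F q)) = Nat.card (Cfsg.PSU n F q) := by
    have hinj : Function.Injective (MulAut.conj : Cfsg.PSU n F q →* MulAut (Cfsg.PSU n F q)) := by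
      rw [injective_iff_map_eq_one]
      intro x hx
      have hxc : x ∈ Subgroup.center (Cfsg.PSU n F q) := by
        rw [Subgroup.mem_center_iff]
        intro y
        have := congrArg (fun β : MulAut (Cfsg.PSU n F q) => β y) hx
        simp only [MulAut.conj_apply, MulAut.one_apply] at this
        calc y * x = x * y * x⁻¹ * x := by rw [this]
          _ = x * y := by group
      rw [center_psu_eq_bot H, Subgroup.mem_bot] at hxc
      exact hxc
    exact (Nat.card_congr (MonoidHom.ofInjective hinj).toEquiv).symm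
  have hOut : Nat.card (Cfsg.Out (Cfsg.PSU n F q)) = Nat.gcd n (q + 1) * (2 * r) := by
    rw [Subgroup.card_eq_card_quotient_mul_card_subgroup φ.ker, h3,
      Nat.card_congr (QuotientGroup.quotientKerEquivOfSurjective φ h1).toEquiv,
      Nat.card_congr (Multiplicative.toAdd : Multiplicative (ZMod (2 * r)) ≃ ZMod (2 * r)),
      Nat.card_zmod, mul_comm]
  rw [Subgroup.card_eq_card_quotient_mul_card_subgroup (Cfsg.Inn (Cfsg.PSU n F q)), hInn]
  show Nat.card (Cfsg.Out (Cfsg.PSU n F q)) * _ = _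
  rw [hOut]

end Main

end Cfsg.Agent.Helper37.AutU
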