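import Mathlib
import Cfsg.Prelude.Def_KGroupFacts
import Cfsg.Agent.Lib.Cores
import Cfsg.Agent.Helper11.PLength
import Cfsg.Agent.Helper14.AutFix
import Cfsg.Agent.Helper37.EvFD

/-!
Helper37: form-independent glue for the local-balance criteria (S2730–S2733): the `p'`-core of
`C_A(φ)` for `Inn K ≤ A ≤ Aut K` in terms of `I_φ = Inn K ∩ C(φ)`, transport along conjugation,
and two facts on automorphisms of finite fields.
-/

set_option autoImplicit false
set_option linter.unusedSectionVars false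

namespace Cfsg.Agent.Helper37.Bal

open Cfsg.Agent.Lib Cfsg.Agent.Helper14.AutPSL

/-! ### automorphisms of finite fields -/

section field

variable {F : Type*} [Field F] [Finite F]

/-- the automorphism group of a finite field is commutative -/
theorem ringAut_comm (ρ τ : F ≃+* F) : ρ * τ = τ * ρ := by
  classical
  haveI : Fintype F := Fintype.ofFinite F
  obtain ⟨ζ, hζ⟩ := IsCyclic.exists_generator (α := Fˣ)
  have key : ∀ σ : F ≃+* F, ∃ a : ℕ, σ (ζ : F) = (ζ : F) ^ a := by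
    intro σ
    have h1 : Units.map (σ : F →* F) ζ ∈ Subgroup.zpowers ζ := hζ _
    obtain ⟨a, ha⟩ := (mem_powers_iff_mem_zpowers.2 h1)
    refine ⟨a, ?_⟩
    have h2 := congrArg (fun u : Fˣ => (u : F)) ha
    simp only [Units.val_pow_eq_pow_val] at h2
    rw [h2]
    rfl
  obtain ⟨a, ha⟩ := key ρ
  obtain ⟨b, hb⟩ := key τ
  have hgen : ∀ σ σ' : F ≃+* F, σ (ζ : F) = σ' (ζ : F) → σ = σ' := by
    intro σ σ' h
    ext x
    by_cases hx : x = 0
    · rw [hx, map_zero, map_zero]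
    · have h1 : Units.mk0 x hx ∈ Subgroup.zpowers ζ := hζ _
      obtain ⟨n, hn⟩ := (mem_powers_iff_mem_zpowers.2 h1)
      have h2 : x = (ζ : F) ^ n := by
        have := congrArg (fun u : Fˣ => (u : F)) hn
        simp only [Units.val_pow_eq_pow_val, Units.val_mk0] at this
        exact this.symm
      rw [h2, map_pow, map_pow, h]
  apply hgen
  show ρ (τ (ζ : F)) = τ (ρ (ζ : F))
  rw [ha, hb, map_pow, map_pow, ha, hb, ← pow_mul, ← pow_mul, mul_comm]

/-- an automorphism fixing the fixed field of `τ` pointwise is a power of `τ` -/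
theorem mem_zpowers_of_fixF (τ ρ : F ≃+* F) (h : ∀ c : F, τ c = c → ρ c = c) :
    ρ ∈ Subgroup.zpowers τ := by
  haveI : Finite (F ≃+* F) := DFunLike.finite _
  let f : F →ₐ[FixedPoints.subfield (Subgroup.zpowers τ) F] F :=
    { (ρ : F →+* F) with
      commutes' := fun c => h c.1 ((mem_fixF τ).1 c.2) }
  obtain ⟨g, hg⟩ := (FixedPoints.toAlgHom_bijective (Subgroup.zpowers τ) F).2 f
  have : (g : F ≃+* F) = ρ := by
    ext x
    have := congrArg (fun k : F →ₐ[FixedPoints.subfield (Subgroup.zpowers τ) F] F => k x) hg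
    exact this
  rw [← this]
  exact g.2

end field

/-! ### abstract group theory -/

section abstract

variable {K : Type*} [Group K]

/-- `I_φ = Inn K ∩ C(φ)` -/
abbrev innCent (φ : MulAut K) : Subgroup (MulAut K) := Cfsg.Inn K ⊓ Subgroup.centralizer {φ}

theorem innCent_le (A : Subgroup (MulAut K)) (hinn : ∀ k : K, MulAut.conj k ∈ A) (φ : MulAut K) :
    innCent φ ≤ A ⊓ Subgroup.centralizer {φ} := by
  intro z hz
  obtain ⟨⟨k, rfl⟩, hz2⟩ := Subgroup.mem_inf.1 hz
  exact Subgroup.mem_inf.2 ⟨hinn k, hz2⟩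

/-- conjugation by an element of `C(φ)` preserves `I_φ` -/
theorem conj_mem_innCent (φ : MulAut K) {c z : MulAut K} (hc : c ∈ Subgroup.centralizer {φ})
    (hz : z ∈ innCent φ) : c * z * c⁻¹ ∈ innCent φ := by
  obtain ⟨hz1, hz2⟩ := Subgroup.mem_inf.1 hz
  refine Subgroup.mem_inf.2 ⟨(Cfsg.innNormal K).conj_mem z hz1 c, ?_⟩
  exact Subgroup.mul_mem _ (Subgroup.mul_mem _ hc hz2) (Subgroup.inv_mem _ hc)

/-- the fixed points of `φ` correspond to `I_φ` when the centre is trivial -/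
theorem card_eqLocus_eq (hZ : Subgroup.center K = ⊥) (φ : MulAut K) :
    Nat.card ↥(MonoidHom.eqLocus φ.toMonoidHom (MonoidHom.id K)) = Nat.card ↥(innCent φ) := by
  have hinj : Function.Injective (MulAut.conj : K →* MulAut K) := by
    rw [injective_iff_map_eq_one]
    intro x hx
    have : x ∈ Subgroup.center K := by
      rw [Subgroup.mem_center_iff]
      intro g
      have h1 := congrArg (fun ψ : MulAut K => ψ g) hx
      simp only [MulAut.conj_apply, MulAut.one_apply] at h1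
      calc g * x = (x * g * x⁻¹) * x := by rw [h1]
        _ = x * g := by group
    rw [hZ, Subgroup.mem_bot] at this
    exact this
  have hcomm : ∀ k : K, MulAut.conj k ∈ Subgroup.centralizer {φ} ↔ φ k = k := by
    intro k
    rw [Subgroup.mem_centralizer_singleton_iff]
    have h1 : φ * MulAut.conj k = MulAut.conj (φ k) * φ := by
      ext y
      simp [MulAut.mul_apply, MulAut.conj_apply]
    constructor
    · intro h
      apply hinj
      have : MulAut.conj (φ k) * φ = MulAut.conj k * φ := by rw [← h1, h]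
      exact mul_right_cancel this
    · intro h
      rw [h1, h]
  apply Nat.card_congr
  refine Equiv.ofBijective (fun k => ⟨MulAut.conj k.1, Subgroup.mem_inf.2 ⟨⟨k.1, rfl⟩,
    (hcomm k.1).2 k.2⟩⟩) ⟨?_, ?_⟩
  · intro k k' h
    apply Subtype.ext
    apply hinj
    exact congrArg Subtype.val h
  · rintro ⟨z, hz⟩
    obtain ⟨⟨k, rfl⟩, hz2⟩ := Subgroup.mem_inf.1 hz
    exact ⟨⟨k, (hcomm k).1 hz2⟩, rfl⟩

variable [Finite K]

instance finite_mulAut : Finite (MulAut K) := DFunLike.finite _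

/-- if `I_φ` is a nontrivial `p'`-group the `p'`-core of `C_A(φ)` is nontrivial -/
theorem pPrimeCore_ne_bot_of_coprime {p : ℕ} (A : Subgroup (MulAut K))
    (hinn : ∀ k : K, MulAut.conj k ∈ A) (φ : MulAut K) (hI : innCent φ ≠ ⊥)
    (hcop : (Nat.card ↥(innCent φ)).Coprime p) :
    Cfsg.pPrimeCore p ↥(A ⊓ Subgroup.centralizer {φ}) ≠ ⊥ := by
  have hle := innCent_le A hinn φ
  have hnorm : ((innCent φ).subgroupOf (A ⊓ Subgroup.centralizer {φ})).Normal := by
    constructor
    intro z hz c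
    rw [Subgroup.mem_subgroupOf] at hz ⊢
    exact conj_mem_innCent φ (Subgroup.mem_inf.1 c.2).2 hz
  have hcard : Nat.card ↥((innCent φ).subgroupOf (A ⊓ Subgroup.centralizer {φ}))
      = Nat.card ↥(innCent φ) :=
    Nat.card_congr (Subgroup.subgroupOfEquivOfLe hle).toEquiv
  have h1 := le_pPrimeCore hnorm (by rw [hcard]; exact hcop)
  intro hbot
  rw [hbot, le_bot_iff, Subgroup.subgroupOf_eq_bot, disjoint_iff, inf_eq_left.2 hle] at h1
  exact hI h1

/-- if the automorphisms commuting with `φ` and centralising `I_φ` are the powers of `φ`, of order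
`p`, and `I_φ` has no nontrivial normal `p'`-subgroup, then the `p'`-core of `C_A(φ)` is trivial -/
theorem pPrimeCore_eq_bot_of {p : ℕ} [hp : Fact p.Prime] (A : Subgroup (MulAut K))
    (hinn : ∀ k : K, MulAut.conj k ∈ A) (φ : MulAut K) (hord : orderOf φ = p)
    (ha : ∀ y : MulAut K, y * φ = φ * y → (∀ z ∈ innCent φ, y * z = z * y) →
      y ∈ Subgroup.zpowers φ)
    (hb : ∀ M : Subgroup ↥(innCent φ), M.Normal → (Nat.card ↥M).Coprime p → M = ⊥) :
    Cfsg.pPrimeCore p ↥(A ⊓ Subgroup.centralizer {φ}) = ⊥ := by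
  have hle := innCent_le A hinn φ
  have hNn : (Cfsg.pPrimeCore p ↥(A ⊓ Subgroup.centralizer {φ})).Normal :=
    Cfsg.pPrimeCore_normal p _
  have hNc := card_pPrimeCore_coprime (G := ↥(A ⊓ Subgroup.centralizer {φ})) p
  -- the intersection with `I_φ`
  let M : Subgroup ↥(innCent φ) :=
    ((Cfsg.pPrimeCore p ↥(A ⊓ Subgroup.centralizer {φ})).map
      (A ⊓ Subgroup.centralizer {φ}).subtype).subgroupOf (innCent φ)
  have hMmem : ∀ z : ↥(innCent φ), z ∈ M ↔
      (⟨z.1, hle z.2⟩ : ↥(A ⊓ Subgroup.centralizer {φ}))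
        ∈ Cfsg.pPrimeCore p ↥(A ⊓ Subgroup.centralizer {φ}) := by
    intro z
    constructor
    · rintro ⟨w, hw, hwz⟩
      have : w = ⟨z.1, hle z.2⟩ := Subtype.ext hwz
      rw [← this]
      exact hw
    · intro h
      exact ⟨_, h, rfl⟩
  have hMn : M.Normal := by
    constructor
    intro z hz c
    rw [hMmem] at hz ⊢
    have := hNn.conj_mem _ hz ⟨c.1, hle c.2⟩
    exact this
  have hMc : (Nat.card ↥M).Coprime p := by
    have hinj : Function.Injective (fun z : ↥M =>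
        (⟨⟨z.1.1, hle z.1.2⟩, (hMmem z.1).1 z.2⟩ :
          ↥(Cfsg.pPrimeCore p ↥(A ⊓ Subgroup.centralizer {φ})))) := by
      intro z z' h
      apply Subtype.ext
      apply Subtype.ext
      exact congrArg (fun w : ↥(Cfsg.pPrimeCore p ↥(A ⊓ Subgroup.centralizer {φ})) => w.1.1) h
    -- `|M|` divides `|N|`
    let f : ↥M →* ↥(Cfsg.pPrimeCore p ↥(A ⊓ Subgroup.centralizer {φ})) :=
      { toFun := fun z => ⟨⟨z.1.1, hle z.1.2⟩, (hMmem z.1).1 z.2⟩
        map_one' := rfl
        map_mul' := fun _ _ => rfl }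
    have hdvd : Nat.card ↥M ∣ Nat.card ↥(Cfsg.pPrimeCore p ↥(A ⊓ Subgroup.centralizer {φ})) :=
      Subgroup.card_dvd_of_injective f hinj
    exact Nat.Coprime.coprime_dvd_left hdvd hNc
  have hM := hb M hMn hMc
  rw [eq_bot_iff]
  intro y hy
  rw [Subgroup.mem_bot]
  -- `y` centralises `I_φ`
  have hcent : ∀ z ∈ innCent φ, y.1 * z = z * y.1 := by
    intro z hz
    have hz' : z ∈ A ⊓ Subgroup.centralizer {φ} := hle hz
    have hyc : y.1 ∈ Subgroup.centralizer {φ} := (Subgroup.mem_inf.1 y.2).2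
    have hw1 : y.1 * z * y.1⁻¹ * z⁻¹ ∈ innCent φ :=
      Subgroup.mul_mem _ (conj_mem_innCent φ hyc hz) (Subgroup.inv_mem _ hz)
    have hw2 : (⟨y.1 * z * y.1⁻¹ * z⁻¹, hle hw1⟩ : ↥(A ⊓ Subgroup.centralizer {φ}))
        ∈ Cfsg.pPrimeCore p ↥(A ⊓ Subgroup.centralizer {φ}) := by
      have h1 := hNn.conj_mem _ (Subgroup.inv_mem _ hy) ⟨z, hz'⟩
      have h2 := Subgroup.mul_mem _ hy h1
      have h3 : y * (⟨z, hz'⟩ * y⁻¹ * (⟨z, hz'⟩ : ↥(A ⊓ Subgroup.centralizer {φ}))⁻¹)
          = ⟨y.1 * z * y.1⁻¹ * z⁻¹, hle hw1⟩ := by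
        apply Subtype.ext
        show y.1 * (z * y.1⁻¹ * z⁻¹) = y.1 * z * y.1⁻¹ * z⁻¹
        group
      rw [h3] at h2
      exact h2
    have hw3 : (⟨y.1 * z * y.1⁻¹ * z⁻¹, hw1⟩ : ↥(innCent φ)) ∈ M := (hMmem _).2 hw2
    rw [hM, Subgroup.mem_bot] at hw3
    have hw4 : y.1 * z * y.1⁻¹ * z⁻¹ = 1 := congrArg Subtype.val hw3
    calc y.1 * z = (y.1 * z * y.1⁻¹ * z⁻¹) * z * y.1 := by group
      _ = z * y.1 := by rw [hw4, one_mul]
  have hyφ : y.1 * φ = φ * y.1 := by
    have := (Subgroup.mem_inf.1 y.2).2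
    rw [Subgroup.mem_centralizer_singleton_iff] at this
    exact this
  have hz := ha y.1 hyφ hcent
  -- order considerations
  have ho1 : orderOf y.1 ∣ p := by
    rw [← hord]
    exact orderOf_dvd_of_mem_zpowers hz
  have ho2 : orderOf y ∣ Nat.card ↥(Cfsg.pPrimeCore p ↥(A ⊓ Subgroup.centralizer {φ})) := by
    have h1 : orderOf (⟨y, hy⟩ : ↥(Cfsg.pPrimeCore p ↥(A ⊓ Subgroup.centralizer {φ})))
        = orderOf y := Subgroup.orderOf_mk y hy
    rw [← h1]
    exact orderOf_dvd_natCard _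
  have ho3 : orderOf y = orderOf y.1 := (Subgroup.orderOf_coe y).symm
  have ho4 : orderOf y ∣ 1 := by
    have := Nat.dvd_gcd ho2 (ho3 ▸ ho1)
    rwa [Nat.Coprime.gcd_eq_one hNc] at this
  exact orderOf_eq_one_iff.1 (Nat.dvd_one.1 ho4)

/-- a finite group with a normal simple subgroup of order divisible by `p` and trivial
centraliser has no nontrivial normal `p'`-subgroup -/
theorem eq_bot_of_normal_coprime {X : Type*} [Group X] [Finite X] {p : ℕ} (hp1 : p ≠ 1)
    (L : Subgroup X) [hLn : L.Normal] (hL : IsSimpleGroup ↥L) (hpL : p ∣ Nat.card ↥L)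
    (hc : ∀ x : X, (∀ l ∈ L, x * l = l * x) → x = 1) (M : Subgroup X) [hMn : M.Normal]
    (hM : (Nat.card ↥M).Coprime p) : M = ⊥ := by
  have hn : ((M ⊓ L).subgroupOf L).Normal := by
    constructor
    intro z hz c
    rw [Subgroup.mem_subgroupOf] at hz ⊢
    have hz' := Subgroup.mem_inf.1 hz
    exact Subgroup.mem_inf.2 ⟨hMn.conj_mem _ hz'.1 _, hLn.conj_mem _ hz'.2 _⟩
  rcases hL.eq_bot_or_eq_top_of_normal _ hn with h | h
  · rw [Subgroup.subgroupOf_eq_bot, disjoint_iff, inf_assoc, inf_idem] at h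
    rw [eq_bot_iff]
    intro x hx
    rw [Subgroup.mem_bot]
    apply hc
    intro l hl
    have h1 : x * l * x⁻¹ * l⁻¹ ∈ M ⊓ L := by
      refine Subgroup.mem_inf.2 ⟨?_, ?_⟩
      · have := hMn.conj_mem _ (Subgroup.inv_mem _ hx) l
        have h2 := Subgroup.mul_mem _ hx this
        have h3 : x * (l * x⁻¹ * l⁻¹) = x * l * x⁻¹ * l⁻¹ := by group
        rwa [h3] at h2
      · exact Subgroup.mul_mem _ (hLn.conj_mem _ hl x) (Subgroup.inv_mem _ hl)
    rw [h, Subgroup.mem_bot] at h1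
    calc x * l = (x * l * x⁻¹ * l⁻¹) * l * x := by group
      _ = l * x := by rw [h1, one_mul]
  · exfalso
    rw [Subgroup.subgroupOf_eq_top] at h
    have hLM : L ≤ M := (le_inf_iff.1 h).1
    have h1 : p ∣ Nat.card ↥M := hpL.trans (Subgroup.card_dvd_of_le hLM)
    have h2 : p ∣ 1 := by
      have := Nat.dvd_gcd h1 (dvd_refl p)
      rwa [Nat.Coprime.gcd_eq_one hM] at this
    exact hp1 (Nat.dvd_one.1 h2)

/-! ### transport along conjugation -/

open Cfsg.Agent.Helper37.OddF in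
/-- the `p'`-core condition is invariant under conjugation -/
theorem pPrimeCore_ne_bot_conj_iff {p : ℕ} (A : Subgroup (MulAut K)) (x h : MulAut K) :
    Cfsg.pPrimeCore p ↥(A ⊓ Subgroup.centralizer {x}) ≠ ⊥ ↔
      Cfsg.pPrimeCore p ↥(A.map (MulAut.conj h).toMonoidHom
        ⊓ Subgroup.centralizer {h * x * h⁻¹}) ≠ ⊥ := by
  have e := centralizerMapEquiv (MulAut.conj h) A x
  have h1 : (MulAut.conj h) x = h * x * h⁻¹ := rfl
  rw [h1] at e
  rw [← Cfsg.Agent.Helper11.pPrimeCore_map_mulEquiv p e, Ne, Ne,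
    Subgroup.map_eq_bot_iff_of_injective _ e.injective]

open Cfsg.Agent.Helper37.OddF in
theorem card_innCent_conj (x h : MulAut K) :
    Nat.card ↥(innCent (h * x * h⁻¹)) = Nat.card ↥(innCent x) := by
  have e := centralizerMapEquiv (MulAut.conj h) (Cfsg.Inn K) x
  have h1 : (MulAut.conj h) x = h * x * h⁻¹ := rfl
  have h2 : (Cfsg.Inn K).map (MulAut.conj h).toMonoidHom = Cfsg.Inn K := by
    ext z
    constructor
    · rintro ⟨w, hw, rfl⟩
      exact (Cfsg.innNormal K).conj_mem w hw h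
    · intro hz
      refine ⟨h⁻¹ * z * h, ?_, ?_⟩
      · have := (Cfsg.innNormal K).conj_mem z hz h⁻¹
        rwa [inv_inv] at this
      · show h * (h⁻¹ * z * h) * h⁻¹ = z
        group
  rw [h1, h2] at e
  exact (Nat.card_congr e.toEquiv).symm

theorem conj_mem_map_conj (A : Subgroup (MulAut K)) (hinn : ∀ k : K, MulAut.conj k ∈ A)
    (h : MulAut K) (k : K) : MulAut.conj k ∈ A.map (MulAut.conj h).toMonoidHom := by
  refine ⟨MulAut.conj (h⁻¹ k), hinn _, ?_⟩
  show h * MulAut.conj (h⁻¹ k) * h⁻¹ = MulAut.conj k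
  ext y
  simp [MulAut.mul_apply, MulAut.conj_apply]

end abstract

end Cfsg.Agent.Helper37.Bal
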