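import Mathlib
import Cfsg.Agent.Helper5.AutSpE

/-!
# The exceptional automorphism of `Sp_4(F)` in characteristic two, part A

`tauM g` is the `4 × 4` matrix of those `2 × 2` minors of `g` that sit on the four isotropic
coordinate pairs `e₁e₂, e₁f₂, f₁f₂, e₂f₁`.  On the symplectic group over a field of
characteristic two it is multiplicative, symplectic, and its square is the entrywise Frobenius.
-/

set_option autoImplicit false
set_option linter.unusedSectionVars false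
set_option linter.unusedVariables false
set_option linter.unusedSimpArgs false

namespace Cfsg.Agent.Helper37.SpFour

open Matrix Cfsg.Agent.Helper13 Cfsg.Agent.Helper94.SpRoot Cfsg.Agent.Helper5.AutSp

variable {F : Type*} [Field F]

local notation "I4" => (Fin 2 ⊕ Fin 2)
local notation "Vec" => (Fin 2 ⊕ Fin 2 → F)
local notation "Mat" => Matrix (Fin 2 ⊕ Fin 2) (Fin 2 ⊕ Fin 2) F
local notation "Sp" => Matrix.symplecticGroup (Fin 2) F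
local notation "B" => Cfsg.sympForm 2 F

/-- first member of the isotropic coordinate pair attached to an index -/
def p1 : I4 → I4
  | Sum.inl 0 => Sum.inl 0
  | Sum.inl 1 => Sum.inl 0
  | Sum.inr 0 => Sum.inr 0
  | Sum.inr 1 => Sum.inl 1

/-- second member of the isotropic coordinate pair attached to an index -/
def p2 : I4 → I4
  | Sum.inl 0 => Sum.inl 1
  | Sum.inl 1 => Sum.inr 1
  | Sum.inr 0 => Sum.inr 1
  | Sum.inr 1 => Sum.inr 0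

/-- the class of `u ∧ v` in the four-dimensional quotient of the exterior square -/
def W (u v : Vec) : Vec := fun I => u (p1 I) * v (p2 I) + u (p2 I) * v (p1 I)

/-- the matrix of `2 × 2` minors -/
def tauM (g : Mat) : Mat :=
  Matrix.of fun I K => g (p1 I) (p1 K) * g (p2 I) (p2 K) + g (p1 I) (p2 K) * g (p2 I) (p1 K)

theorem tauM_row (g : Mat) (I : I4) :
    (fun K => tauM g I K) = W (fun a => g (p1 I) a) (fun a => g (p2 I) a) := rfl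

theorem W_dot [CharP F 2] {r s c d : Vec} (hrs : B r s = 0) (hcd : B c d = 0) :
    W r s ⬝ᵥ W c d = (r ⬝ᵥ c) * (s ⬝ᵥ d) + (r ⬝ᵥ d) * (s ⬝ᵥ c) := by
  have h2 : (2 : F) = 0 := CharTwo.two_eq_zero
  rw [sympForm_eq_sum, Fin.sum_univ_two] at hrs hcd
  simp only [dotProduct, Fintype.sum_sum_type, Fin.sum_univ_two, W, p1, p2]
  linear_combination (c (Sum.inl 0) * d (Sum.inr 0) + c (Sum.inr 0) * d (Sum.inl 0)) * hrs + (r (Sum.inl 1) * s (Sum.inr 1) + r (Sum.inr 1) * s (Sum.inl 1)) * hcd + (-c (Sum.inl 0) * d (Sum.inl 0) * r (Sum.inl 0) * s (Sum.inl 0) + c (Sum.inl 0) * d (Sum.inr 0) * r (Sum.inl 1) * s (Sum.inr 1) - c (Sum.inl 0) * d (Sum.inr 0) * r (Sum.inr 0) * s (Sum.inl 0) - c (Sum.inl 1) * d (Sum.inl 1) * r (Sum.inl 1) * s (Sum.inl 1) - c (Sum.inr 0) * d (Sum.inl 0) * r (Sum.inr 0) * s (Sum.inl 0) - c (Sum.inr 0) * d (Sum.inl 0) * r (Sum.inr 1) * s (Sum.inl 1)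 - c (Sum.inr 0) * d (Sum.inr 0) * r (Sum.inr 0) * s (Sum.inr 0) - c (Sum.inr 1) * d (Sum.inl 1) * r (Sum.inl 1) * s (Sum.inr 1) - c (Sum.inr 1) * d (Sum.inl 1) * r (Sum.inr 1) * s (Sum.inl 1) - c (Sum.inr 1) * d (Sum.inr 1) * r (Sum.inr 1) * s (Sum.inr 1)) * h2

theorem B_W [CharP F 2] {u v u' v' : Vec} (h1 : B u v = 0) (h2' : B u' v' = 0) :
    B (W u v) (W u' v') = B u u' * B v v' + B u v' * B v u' := by
  have h2 : (2 : F) = 0 := CharTwo.two_eq_zero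
  rw [sympForm_eq_sum, Fin.sum_univ_two] at h1 h2'
  simp only [sympForm_eq_sum, Fin.sum_univ_two, W, p1, p2]
  linear_combination (u' (Sum.inl 0) * v' (Sum.inr 0) + u' (Sum.inr 0) * v' (Sum.inl 0)) * h1 + (u (Sum.inl 1) * v (Sum.inr 1) + u (Sum.inr 1) * v (Sum.inl 1)) * h2' + (u (Sum.inl 0) * u' (Sum.inl 0) * v (Sum.inr 0) * v' (Sum.inr 0) - u (Sum.inl 0) * u' (Sum.inr 0) * v (Sum.inl 0) * v' (Sum.inr 0) - u (Sum.inl 0) * u' (Sum.inr 0) * v (Sum.inl 1) * v' (Sum.inr 1) + u (Sum.inl 0) * u' (Sum.inr 0) * v (Sum.inr 0) * v' (Sum.inl 0) - u (Sum.inl 0) * u' (Sum.inr 1) * v (Sum.inl 1) * v' (Sum.inr 0) + u (Sum.inl 1) * u' (Sum.inl 0) * v (Sum.inr 0) * v' (Sum.inr 1) + u (Sum.inl 1) * u' (Sum.inl 0) * v (Sum.inr 1) * v' (Sum.inr 0) + u (Sum.inl 1) * u' (Sum.inl 1) * v (Sum.inr 1) * v' (Sum.inr 1) - u (Sum.inl 1) * u' (Sum.inr 0) * v (Sum.inl 0) * v' (Sum.inr 1) -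 u (Sum.inl 1) * u' (Sum.inr 1) * v (Sum.inl 0) * v' (Sum.inr 0) - u (Sum.inl 1) * u' (Sum.inr 1) * v (Sum.inl 1) * v' (Sum.inr 1) + u (Sum.inl 1) * u' (Sum.inr 1) * v (Sum.inr 0) * v' (Sum.inl 0) + u (Sum.inr 0) * u' (Sum.inl 0) * v (Sum.inl 1) * v' (Sum.inr 1) - u (Sum.inr 0) * u' (Sum.inl 0) * v (Sum.inr 0) * v' (Sum.inl 0) + u (Sum.inr 0) * u' (Sum.inr 1) * v (Sum.inl 1) * v' (Sum.inl 0) + u (Sum.inr 1) * u' (Sum.inl 1) * v (Sum.inl 1) * v' (Sum.inr 1) - u (Sum.inr 1) * u' (Sum.inl 1) * v (Sum.inr 1) * v' (Sum.inl 1) - u (Sum.inr 1) * u' (Sum.inr 0) * v (Sum.inl 1) * v' (Sum.inl 0)) * h2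

theorem W_W [CharP F 2] {u v v' : Vec} (h1 : B u v = 0) (h2' : B u v' = 0) :
    W (W u v) (W u v') = fun I => B v v' * (u I * u I) := by
  have h2 : (2 : F) = 0 := CharTwo.two_eq_zero
  rw [sympForm_eq_sum, Fin.sum_univ_two] at h1 h2'
  rw [funext_iff]
  simp only [Sum.forall, Fin.forall_fin_two, sympForm_eq_sum, Fin.sum_univ_two, W, p1, p2]
  refine ⟨⟨?_, ?_⟩, ⟨?_, ?_⟩⟩
  · linear_combination (u (Sum.inl 0) * v' (Sum.inl 0)) * h1 + (u (Sum.inl 0) * v (Sum.inl 0)) * h2' + (u (Sum.inl 0) * u (Sum.inl 1) * v (Sum.inl 0) * v' (Sum.inr 1) + u (Sum.inl 0) * u (Sum.inl 1) * v (Sum.inr 1) * v' (Sum.inl 0) - u (Sum.inl 0) * u (Sum.inr 0) * v (Sum.inl 0) * v' (Sum.inl 0) + u (Sum.inl 0) * u (Sum.inl 0) * v (Sum.inl 0) * v' (Sum.inr 0) + u (Sum.inl 0) * u (Sum.inl 0) * v (Sum.inl 1) * v' (Sum.inr 1) + u (Sum.inl 1) * u (Sum.inr 1) * v (Sum.inl 0) * v' (Sum.inl 0)) * h2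
  · linear_combination (u (Sum.inl 1) * v' (Sum.inl 1)) * h1 + (u (Sum.inl 1) * v (Sum.inl 1)) * h2' + (u (Sum.inl 0) * u (Sum.inl 1) * v (Sum.inl 1) * v' (Sum.inr 0) + u (Sum.inl 0) * u (Sum.inl 1) * v (Sum.inr 0) * v' (Sum.inl 1) + u (Sum.inl 0) * u (Sum.inr 0) * v (Sum.inl 1) * v' (Sum.inl 1) - u (Sum.inl 1) * u (Sum.inr 1) * v (Sum.inl 1) * v' (Sum.inl 1) + u (Sum.inl 1) * u (Sum.inl 1) * v (Sum.inl 0) * v' (Sum.inr 0) + u (Sum.inl 1) * u (Sum.inl 1) * v (Sum.inl 1) * v' (Sum.inr 1)) * h2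
  · linear_combination (u (Sum.inr 0) * v' (Sum.inr 0)) * h1 + (u (Sum.inr 0) * v (Sum.inr 0)) * h2' + (u (Sum.inl 0) * u (Sum.inr 0) * v (Sum.inr 0) * v' (Sum.inr 0) + u (Sum.inl 1) * u (Sum.inr 0) * v (Sum.inr 0) * v' (Sum.inr 1) + u (Sum.inl 1) * u (Sum.inr 0) * v (Sum.inr 1) * v' (Sum.inr 0) + u (Sum.inl 1) * u (Sum.inr 1) * v (Sum.inr 0) * v' (Sum.inr 0) + u (Sum.inr 0) * u (Sum.inr 0) * v (Sum.inl 1) * v' (Sum.inr 1) - u (Sum.inr 0) * u (Sum.inr 0) * v (Sum.inr 0) * v' (Sum.inl 0)) * h2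
  · linear_combination (u (Sum.inr 1) * v' (Sum.inr 1)) * h1 + (u (Sum.inr 1) * v (Sum.inr 1)) * h2' + (u (Sum.inl 0) * u (Sum.inr 0) * v (Sum.inr 1) * v' (Sum.inr 1) + u (Sum.inl 0) * u (Sum.inr 1) * v (Sum.inr 0) * v' (Sum.inr 1) + u (Sum.inl 0) * u (Sum.inr 1) * v (Sum.inr 1) * v' (Sum.inr 0) + u (Sum.inl 1) * u (Sum.inr 1) * v (Sum.inr 1) * v' (Sum.inr 1) + u (Sum.inr 1) * u (Sum.inr 1) * v (Sum.inl 0) * v' (Sum.inr 0) - u (Sum.inr 1) * u (Sum.inr 1) * v (Sum.inr 1) * v' (Sum.inl 1)) * h2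

end Cfsg.Agent.Helper37.SpFour
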