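import Mathlib
import Cfsg.Agent.Helper37.SpFourA

/-!
# The exceptional automorphism of `Sp_4(F)` in characteristic two, part B

`tauM` is multiplicative on the symplectic group, has symplectic values, and squares to the
entrywise Frobenius.
-/

set_option autoImplicit false
set_option linter.unusedSectionVars false
set_option linter.unusedVariables false
set_option linter.unusedSimpArgs false

namespace Cfsg.Agent.Helper37.SpFour

open Matrix Cfsg.Agent.Helper13 Cfsg.Agent.Helper94.SpRoot Cfsg.Agent.Helper5.AutSp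

variable {F : Type*} [Field F]

local notation "I4" => (Fin 2 ⊕ Fin 2)
local notation "Vec" => (Fin 2 ⊕ Fin 2 → F)
local notation "Mat" => Matrix (Fin 2 ⊕ Fin 2) (Fin 2 ⊕ Fin 2) F
local notation "Sp" => Matrix.symplecticGroup (Fin 2) F
local notation "B" => Cfsg.sympForm 2 F

theorem B_rows (g : Sp) (i j : I4) :
    B (fun a => (g : Mat) i a) (fun a => (g : Mat) j a) = Matrix.J (Fin 2) F i j := by
  have h := SymplecticGroup.mem_iff.1 g.2
  have h' := congrFun (congrFun h i) j
  rw [← h', sympForm_def, Matrix.dotProduct_mulVec, Matrix.mul_apply']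
  rfl

theorem J_p1_p2 (I : I4) : Matrix.J (Fin 2) F (p1 I) (p2 I) = 0 := by
  revert I
  simp only [Sum.forall, Fin.forall_fin_two]
  refine ⟨⟨?_, ?_⟩, ⟨?_, ?_⟩⟩ <;> simp [p1, p2, Matrix.J]

theorem tauM_mulVec_W [CharP F 2] (g : Sp) {u v : Vec} (huv : B u v = 0) :
    tauM (g : Mat) *ᵥ W u v = W (g • u) (g • v) := by
  funext I
  have hrow : B (fun a => (g : Mat) (p1 I) a) (fun a => (g : Mat) (p2 I) a) = 0 := by
    rw [B_rows, J_p1_p2]
  show (fun K => tauM (g : Mat) I K) ⬝ᵥ W u v = _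
  rw [tauM_row, W_dot hrow huv]
  show _ = (g • u) (p1 I) * (g • v) (p2 I) + (g • u) (p2 I) * (g • v) (p1 I)
  simp only [smul_def, Matrix.mulVec]
  ring

theorem single_eq_W (K : I4) :
    (Pi.single K 1 : Vec) = W (Pi.single (p1 K) 1) (Pi.single (p2 K) 1) := by
  funext I
  rcases K with (k | k) <;> rcases I with (i | i) <;> fin_cases k <;> fin_cases i <;>
    simp [W, p1, p2, Pi.single_apply]

theorem B_single_p1_p2 (K : I4) : B (Pi.single (p1 K) 1) (Pi.single (p2 K) 1) = 0 := by
  rcases K with (k | k) <;> fin_cases k <;>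
    simp [sympForm_eq_sum, Fin.sum_univ_two, p1, p2, Pi.single_apply]

theorem tauM_mulVec_single [CharP F 2] (g : Sp) (K : I4) :
    tauM (g : Mat) *ᵥ (Pi.single K 1 : Vec)
      = W (g • (Pi.single (p1 K) 1 : Vec)) (g • (Pi.single (p2 K) 1 : Vec)) := by
  conv_lhs => rw [single_eq_W K]
  exact tauM_mulVec_W g (B_single_p1_p2 K)

theorem B_smul_single_p1_p2 (g : Sp) (K : I4) :
    B (g • (Pi.single (p1 K) 1 : Vec)) (g • (Pi.single (p2 K) 1 : Vec)) = 0 := by
  rw [B_smul, B_single_p1_p2]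

theorem tauM_mem [CharP F 2] (g : Sp) : tauM (g : Mat) ∈ Matrix.symplecticGroup (Fin 2) F := by
  rw [SymplecticGroup.mem_iff']
  ext K L
  have h := sympForm_mulVec (tauM (g : Mat)) (Pi.single K 1) (Pi.single L 1)
  have h' : (Pi.single K 1 : Vec) ⬝ᵥ (((tauM (g : Mat))ᵀ * Matrix.J (Fin 2) F * tauM (g : Mat))
      *ᵥ (Pi.single L 1 : Vec)) = ((tauM (g : Mat))ᵀ * Matrix.J (Fin 2) F * tauM (g : Mat)) K L := by
    simp
  have h'' : (Pi.single K 1 : Vec) ⬝ᵥ (Matrix.J (Fin 2) F *ᵥ (Pi.single L 1 : Vec))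
      = Matrix.J (Fin 2) F K L := by
    simp
  rw [← h', ← h, tauM_mulVec_single, tauM_mulVec_single,
    B_W (B_smul_single_p1_p2 g K) (B_smul_single_p1_p2 g L), B_smul, B_smul, B_smul, B_smul,
    ← B_W (B_single_p1_p2 K) (B_single_p1_p2 L), ← single_eq_W, ← single_eq_W, sympForm_def, h'']

theorem mat_eq_of_mulVec_single {M N : Mat}
    (h : ∀ K : I4, M *ᵥ (Pi.single K 1 : Vec) = N *ᵥ (Pi.single K 1 : Vec)) : M = N := by
  ext I K
  have := congrFun (h K) I
  simpa using this

theorem tauM_mul [CharP F 2] (g h : Sp) :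
    tauM ((g * h : Sp) : Mat) = tauM (g : Mat) * tauM (h : Mat) := by
  apply mat_eq_of_mulVec_single
  intro K
  rw [tauM_mulVec_single, mul_smul, mul_smul, ← Matrix.mulVec_mulVec, tauM_mulVec_single,
    tauM_mulVec_W g (B_smul_single_p1_p2 h K)]

theorem tauM_one : tauM (1 : Mat) = 1 := by
  ext I K
  rcases K with (k | k) <;> rcases I with (i | i) <;> fin_cases k <;> fin_cases i <;>
    simp [tauM, p1, p2, Matrix.one_apply]

/-- the exceptional endomorphism of `Sp_4(F)`, characteristic two -/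
def tauSp [CharP F 2] : Sp →* Sp where
  toFun g := ⟨tauM (g : Mat), tauM_mem g⟩
  map_one' := Subtype.ext tauM_one
  map_mul' g h := Subtype.ext (tauM_mul g h)

theorem tauSp_coe [CharP F 2] (g : Sp) : ((tauSp g : Sp) : Mat) = tauM (g : Mat) := rfl

theorem tauSp_smul_W [CharP F 2] (g : Sp) {u v : Vec} (huv : B u v = 0) :
    tauSp g • W u v = W (g • u) (g • v) := tauM_mulVec_W g huv

/-- auxiliary basis vectors orthogonal to `e_K` with form value one -/
def q1 : I4 → I4
  | Sum.inl 0 => Sum.inr 1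
  | Sum.inl 1 => Sum.inr 0
  | Sum.inr 0 => Sum.inr 1
  | Sum.inr 1 => Sum.inr 0

def q2 : I4 → I4
  | Sum.inl 0 => Sum.inl 1
  | Sum.inl 1 => Sum.inl 0
  | Sum.inr 0 => Sum.inl 1
  | Sum.inr 1 => Sum.inl 0

theorem B_single_q1 (K : I4) : B (Pi.single K 1) (Pi.single (q1 K) 1) = 0 := by
  rcases K with (k | k) <;> fin_cases k <;>
    simp [sympForm_eq_sum, Fin.sum_univ_two, q1, Pi.single_apply]

theorem B_single_q2 (K : I4) : B (Pi.single K 1) (Pi.single (q2 K) 1) = 0 := by
  rcases K with (k | k) <;> fin_cases k <;>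
    simp [sympForm_eq_sum, Fin.sum_univ_two, q2, Pi.single_apply]

theorem B_single_q1_q2 (K : I4) : B (Pi.single (q1 K) 1) (Pi.single (q2 K) 1) = 1 := by
  rcases K with (k | k) <;> fin_cases k <;>
    simp [sympForm_eq_sum, Fin.sum_univ_two, q1, q2, Pi.single_apply]

/-- the square of `tauSp` is the entrywise Frobenius -/
theorem tauSp_tauSp [CharP F 2] (g : Sp) (I K : I4) :
    ((tauSp (tauSp g) : Sp) : Mat) I K = (g : Mat) I K * (g : Mat) I K := by
  have hK : (Pi.single K 1 : Vec)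
      = W (W (Pi.single K 1) (Pi.single (q1 K) 1)) (W (Pi.single K 1) (Pi.single (q2 K) 1)) := by
    rw [W_W (B_single_q1 K) (B_single_q2 K), B_single_q1_q2]
    funext J
    by_cases hJ : J = K
    · subst hJ; simp
    · simp [Pi.single_apply, hJ]
  have h0 : B (W (Pi.single K 1) (Pi.single (q1 K) 1)) (W (Pi.single K 1) (Pi.single (q2 K) 1))
      = 0 := by
    rw [B_W (B_single_q1 K) (B_single_q2 K), sympForm_self, zero_mul, zero_add, B_single_q2,
      zero_mul]
  have h1 : tauSp (tauSp g) • (Pi.single K 1 : Vec)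
      = fun J => (g • (Pi.single K 1 : Vec)) J * (g • (Pi.single K 1 : Vec)) J := by
    conv_lhs => rw [hK]
    rw [tauSp_smul_W _ h0, tauSp_smul_W _ (B_single_q1 K), tauSp_smul_W _ (B_single_q2 K),
      W_W (by rw [B_smul, B_single_q1]) (by rw [B_smul, B_single_q2]), B_smul, B_single_q1_q2]
    funext J
    rw [one_mul]
  have h2 := congrFun h1 I
  simp only [smul_def, Matrix.mulVec_single_one, Matrix.col_apply] at h2
  exact h2

end Cfsg.Agent.Helper37.SpFour
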