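import Mathlib
import Cfsg.Agent.Helper5.AutSpP

/-!
# Automorphisms of `PSp_{2m}(q)` that preserve transvections are semilinear

This is Helper5's normal form theorem with the hypothesis `(2m, p) ≠ (4, 2)` replaced by the
hypothesis that the automorphism preserves the set of transvections (`TvPres`).
-/

set_option autoImplicit false
set_option linter.unusedSectionVars false
set_option linter.unusedVariables false
set_option linter.unusedSimpArgs false

namespace Cfsg.Agent.Helper37.SpFour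

open Matrix Cfsg.Agent.Helper13 Cfsg.Agent.Helper94.SpRoot Cfsg.Agent.Helper5.AutSp

variable {F : Type*} [Field F] {m : ℕ}

local notation "Vec" => (Fin m ⊕ Fin m → F)
local notation "Mat" => Matrix (Fin m ⊕ Fin m) (Fin m ⊕ Fin m) F
local notation "Sp" => Matrix.symplecticGroup (Fin m) F
local notation "B" => Cfsg.sympForm m F

/-- over a finite field, mapping transvections to transvections is enough -/
theorem tvPres_of_forall [Finite F] {β : Cfsg.PSp m F ≃* Cfsg.PSp m F}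
    (h : ∀ x, IsTv x → IsTv (β x)) : TvPres β := by
  intro x
  refine ⟨h x, ?_⟩
  intro hx
  have : Finite Mat := by
    unfold Matrix
    infer_instance
  have : Finite Sp := Finite.of_injective (fun s : Sp => (s : Mat)) Subtype.val_injective
  have : Finite (Cfsg.PSp m F) := Finite.of_surjective _ (prj_surjective (F := F) (m := m))
  let f : {y : Cfsg.PSp m F // IsTv y} → {y : Cfsg.PSp m F // IsTv y} :=
    fun y => ⟨β y.1, h y.1 y.2⟩
  have hf : Function.Injective f := by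
    intro y y' hyy
    apply Subtype.ext
    exact β.injective (congrArg Subtype.val hyy)
  obtain ⟨y, hy⟩ := (Finite.injective_iff_surjective.1 hf) ⟨β x, hx⟩
  have h1 : β y.1 = β x := congrArg Subtype.val hy
  rw [← β.injective h1]
  exact y.2

theorem isTv_conj {x : Cfsg.PSp m F} (hx : IsTv x) (g : Cfsg.PSp m F) : IsTv (g * x * g⁻¹) := by
  obtain ⟨a, c, ha, hc, rfl⟩ := hx
  obtain ⟨A, rfl⟩ := prj_surjective g
  refine ⟨A • a, c, ?_, hc, ?_⟩
  · intro h0
    apply ha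
    have := congrArg (fun v => A⁻¹ • v) h0
    simpa using this
  · rw [← map_inv, ← map_mul, ← map_mul, conj_tE]

theorem tvPres_conj (g : Cfsg.PSp m F) :
    TvPres (MulAut.conj g : Cfsg.PSp m F ≃* Cfsg.PSp m F) := by
  intro x
  constructor
  · intro hx
    exact isTv_conj hx g
  · intro hx
    have h1 : IsTv (g⁻¹ * (g * x * g⁻¹) * g⁻¹⁻¹) := isTv_conj hx g⁻¹
    have h2 : g⁻¹ * (g * x * g⁻¹) * g⁻¹⁻¹ = x := by group
    rwa [h2] at h1

theorem tvPres_semiSim [Finite F] {σ : F ≃+* F} {lam : F} {G : Vec → Vec} (hS : SemiSim σ lam G) :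
    TvPres (semiAut hS.gl hS.gl_mem σ) := by
  apply tvPres_of_forall
  intro x hx
  obtain ⟨a, c, ha, hc, rfl⟩ := hx
  rw [hS.semiAut_tE]
  refine ⟨G a, σ c / lam, ?_, div_ne_zero ((map_ne_zero σ).2 hc) hS.ne, rfl⟩
  intro h0
  rw [← hS.map_zero'] at h0
  exact ha (hS.inj h0)

theorem tvPres_semiAut [Finite F] {M : GL (Fin m ⊕ Fin m) F} (hM : M ∈ Cfsg.GSp m F)
    (σ : F ≃+* F) : TvPres (semiAut M hM σ) := by
  obtain ⟨lam, hS⟩ := semiSim_of_mem hM σ
  have h1 : semiAut hS.gl hS.gl_mem σ = semiAut M hM σ :=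
    semiAut_congr hS.gl_eq_of_mulVec _ _ σ
  rw [← h1]
  exact tvPres_semiSim hS

/-- the semilinear correction, with its explicit form (no restriction on `(m, p)`) -/
theorem exists_semi_correction_tv [Fintype F] {p : ℕ} [hp : Fact p.Prime] [CharP F p] (hm : 2 ≤ m)
    {e f : Vec} (hef : B e f = 1) {β : Cfsg.PSp m F ≃* Cfsg.PSp m F}
    (hβ : TvPres β) (hX : FixX β e) :
    ∃ (σ : F ≃+* F) (lam : F) (G : Vec → Vec) (hS : SemiSim σ lam G),
      FixX (semiAut hS.gl hS.gl_mem σ) f ∧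
      ∀ (w : W0 e f) (c : F), ∃ c' : F,
        β (prj (uE e (w : Vec) c)) = semiAut hS.gl hS.gl_mem σ (prj (uE e (w : Vec) c')) := by
  obtain ⟨σ, κ, hκ0, hsemi, hform⟩ := exists_sigma (p := p) hm hef hβ hX
  have hadd := gFun_add (p := p) hm hef hβ hX
  have hκ : κ * κ⁻¹ = 1 := mul_inv_cancel₀ hκ0
  have hlam : κ⁻¹ ≠ 0 := inv_ne_zero hκ0
  have hS := extG_semiSim hef σ (gFun e f β) hκ hadd hsemi hform
  have hGe := extG_fst hef σ κ⁻¹ (gFun e f β) hadd
  have hGf := extG_snd hef σ κ⁻¹ (gFun e f β) hadd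
  have hGw := extG_W0 hef σ κ⁻¹ (gFun e f β)
  refine ⟨σ, κ⁻¹, _, hS, ?_, ?_⟩
  · intro x
    constructor
    · intro hx
      obtain ⟨c, rfl⟩ := mem_Xb.1 hx
      rw [hS.semiAut_tE, hGf, tE_smul]
      exact mem_Xb.2 ⟨_, rfl⟩
    · intro hx
      obtain ⟨c, hc⟩ := mem_Xb.1 hx
      have h1 : semiAut hS.gl hS.gl_mem σ (prj (tE f (σ.symm (c * κ)))) = prj (tE f c) := by
        rw [hS.semiAut_tE, hGf, tE_smul, σ.apply_symm_apply]
        congr 2
        field_simp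
      rw [← h1] at hc
      rw [(semiAut hS.gl hS.gl_mem σ).injective hc]
      exact mem_Xb.2 ⟨_, rfl⟩
  · intro w c
    obtain ⟨c₁, hc₁⟩ := gFun_spec (p := p) hm hef hβ hX w c
    refine ⟨σ.symm (c₁ * κ⁻¹), ?_⟩
    rw [hc₁, semiAut_uE hS hGe (hGw w) (gFun e f β w).2.1, σ.apply_symm_apply, mul_div_assoc,
      div_self hlam, mul_one]

/-- **normal form**: every automorphism of `PSp_{2m}(q)` preserving the set of transvections is
induced by a semilinear similitude of the underlying space -/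
theorem exists_semiSim_eq_of_tvPres [Fintype F] {p : ℕ} [hp : Fact p.Prime] [CharP F p]
    (hm : 2 ≤ m) {β : Cfsg.PSp m F ≃* Cfsg.PSp m F} (hβ : TvPres β) :
    ∃ (σ : F ≃+* F) (lam : F) (G : Vec → Vec) (hS : SemiSim σ lam G),
      β = semiAut hS.gl hS.gl_mem σ := by
  have hm1 : 1 ≤ m := by omega
  obtain ⟨e, f, hef⟩ := exists_pair (F := F) hm1
  have hfe : B f e = -1 := by rw [B_swap, hef]
  have he0 := ne_zero_of_pair hef
  have hf0 : f ≠ 0 := by
    rintro rfl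
    rw [sympForm_zero_right] at hef
    exact zero_ne_one hef
  obtain ⟨e', d, he', hd, h1⟩ := (hβ _).1 ⟨e, 1, he0, one_ne_zero, rfl⟩
  obtain ⟨f', d', hf', hd', h2⟩ := (hβ _).1 ⟨f, 1, hf0, one_ne_zero, rfl⟩
  have hne : B e' f' ≠ 0 := by
    intro h
    have h3 : Commute (prj (tE e' d)) (prj (tE f' d')) :=
      (commute_tE_iff hm he' hf' hd hd').2 h
    rw [← h1, ← h2, Cfsg.Agent.Helper5.AutSp.commute_map_iff, commute_tE_iff hm he0 hf0 one_ne_zero one_ne_zero, hef] at h3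
    exact one_ne_zero h3
  have hpair : B e' ((B e' f')⁻¹ • f') = 1 := by
    rw [sympForm_smul_right, inv_mul_cancel₀ hne]
  obtain ⟨A, -, hAe, hAf⟩ := exists_transvection_map_pair hpair hef
  have hAe' : A • e' = e := hAe
  have hAf' : A • f' = B e' f' • f := by
    have : A • ((B e' f')⁻¹ • f') = f := hAf
    rw [smul_comm] at this
    rw [← this, smul_smul, mul_inv_cancel₀ hne, one_smul]
  obtain ⟨β₁, hβ₁⟩ : ∃ β₁ : Cfsg.PSp m F ≃* Cfsg.PSp m F,
      β₁ = β.trans (MulAut.conj (prj A : Cfsg.PSp m F)) := ⟨_, rfl⟩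
  have hβ₁a : ∀ x, β₁ x = prj A * β x * (prj A)⁻¹ := by
    intro x
    rw [hβ₁]
    rfl
  have hβ₁T : TvPres β₁ := by
    rw [hβ₁]
    exact hβ.trans (tvPres_conj _)
  have h1' : β₁ (prj (tE e 1)) = prj (tE e d) := by
    rw [hβ₁a, h1, ← map_inv, ← map_mul, ← map_mul, conj_tE, hAe']
  have h2' : β₁ (prj (tE f 1)) = prj (tE f (d' * (B e' f') ^ 2)) := by
    rw [hβ₁a, h2, ← map_inv, ← map_mul, ← map_mul, conj_tE, hAf', tE_smul]
  have hXe : FixX β₁ e := fixX_of_map hm hβ₁T he0 one_ne_zero hd h1'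
  have hXf : FixX β₁ f :=
    fixX_of_map hm hβ₁T hf0 one_ne_zero (mul_ne_zero hd' (pow_ne_zero 2 hne)) h2'
  obtain ⟨σ, lam, G, hS, hψf, hψ⟩ := exists_semi_correction_tv (p := p) hm hef hβ₁T hXe
  obtain ⟨ψ, hψdef⟩ : ∃ ψ : Cfsg.PSp m F ≃* Cfsg.PSp m F, ψ = semiAut hS.gl hS.gl_mem σ :=
    ⟨_, rfl⟩
  rw [← hψdef] at hψf hψ
  obtain ⟨β₂, hβ₂⟩ : ∃ β₂ : Cfsg.PSp m F ≃* Cfsg.PSp m F, β₂ = β₁.trans ψ.symm := ⟨_, rfl⟩
  have hβ₂a : ∀ x, β₂ x = ψ.symm (β₁ x) := by
    intro x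
    rw [hβ₂]
    rfl
  have hXf₂ : FixX β₂ f := by
    rw [hβ₂]
    exact hXf.trans hψf.symm
  have hQ₂ : ∀ (w : W0 e f) (c : F), ∃ c' : F,
      β₂ (prj (uE e (w : Vec) c)) = prj (uE e (w : Vec) c') := by
    intro w c
    obtain ⟨c', hc'⟩ := hψ w c
    exact ⟨c', by rw [hβ₂a, hc', ψ.symm_apply_apply]⟩
  have hfixQ := fix_Qb_of_coord hm hef hXf₂ hQ₂
  have hfixe : ∀ c : F, β₂ (prj (tE e c)) = prj (tE e c) := by
    intro c
    have := hfixQ 0 c
    rwa [show ((0 : W0 e f) : Vec) = 0 from rfl, uE_zero] at this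
  have hfixf := fix_Xf_of_fix hm hef hXf₂ hfixe
  have hid := eq_self_of_fix hef hfixQ hfixf
  have h3 : ∀ x, β₁ x = ψ x := by
    intro x
    have := hid x
    rw [hβ₂a] at this
    rw [← this, ψ.apply_symm_apply, this]
  refine ⟨σ, lam, _, hS.smul_comp A⁻¹, ?_⟩
  apply MulEquiv.ext
  intro x
  rw [hS.semiAut_smul_comp, ← hψdef, ← h3, hβ₁a, map_inv]
  group

/-- normal form, matrix version -/
theorem exists_semiAut_eq_of_tvPres [Fintype F] {p : ℕ} [hp : Fact p.Prime] [CharP F p]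
    (hm : 2 ≤ m) {β : Cfsg.PSp m F ≃* Cfsg.PSp m F} (hβ : TvPres β) :
    ∃ (M : GL (Fin m ⊕ Fin m) F) (hM : M ∈ Cfsg.GSp m F) (σ : F ≃+* F), β = semiAut M hM σ := by
  obtain ⟨σ, lam, G, hS, h⟩ := exists_semiSim_eq_of_tvPres (p := p) hm hβ
  exact ⟨hS.gl, hS.gl_mem, σ, h⟩

/-- the transvection-preserving automorphisms are exactly the semilinear ones -/
theorem tvPres_iff_exists_semiAut [Fintype F] {p : ℕ} [hp : Fact p.Prime] [CharP F p]
    (hm : 2 ≤ m) (β : Cfsg.PSp m F ≃* Cfsg.PSp m F) :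
    TvPres β ↔
      ∃ (M : GL (Fin m ⊕ Fin m) F) (hM : M ∈ Cfsg.GSp m F) (σ : F ≃+* F), β = semiAut M hM σ := by
  constructor
  · exact exists_semiAut_eq_of_tvPres (p := p) hm
  · rintro ⟨M, hM, σ, rfl⟩
    exact tvPres_semiAut hM σ

end Cfsg.Agent.Helper37.SpFour
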