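import Mathlib
import Cfsg.Agent.Helper37.SpFourB
import Cfsg.Agent.Helper37.SpFourC

/-!
# The exceptional automorphism of `PSp_4(F)`, `F` finite of characteristic two

`tauP` is the automorphism of `PSp_4(F)` induced by `tauSp`.  Its square is the Frobenius field
automorphism, it does not preserve transvections, and every automorphism of `PSp_4(F)` either
preserves transvections or does so after composition with `tauP`.
-/

set_option autoImplicit false
set_option linter.unusedSectionVars false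
set_option linter.unusedVariables false
set_option linter.unusedSimpArgs false

namespace Cfsg.Agent.Helper37.SpFour

open Matrix Cfsg.Agent.Helper13 Cfsg.Agent.Helper94.SpRoot Cfsg.Agent.Helper5.AutSp

section general

variable {F : Type*} [Field F] {m : ℕ}

local notation "Vec" => (Fin m ⊕ Fin m → F)
local notation "Mat" => Matrix (Fin m ⊕ Fin m) (Fin m ⊕ Fin m) F
local notation "Sp" => Matrix.symplecticGroup (Fin m) F
local notation "B" => Cfsg.sympForm m F

/-- in characteristic two the elements `uE e w c` with `w ∉ ⟨e⟩` and `c ≠ 0` have a conjugate with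
product of order four (any `m ≥ 1`) -/
theorem not_noOrd4_uE_of_ne [CharP F 2] (hm : 1 ≤ m) {e w : Vec} (he : e ≠ 0)
    (hw : ∀ l : F, w ≠ l • e) (hew : B e w = 0) {c : F} (hc : c ≠ 0) :
    ¬ NoOrd4 (prj (uE e w c)) := by
  have hw0 : w ≠ 0 := by
    intro h
    apply hw 0
    rw [h, zero_smul]
  have he' : ∀ l : F, e ≠ l • w := by
    intro l h
    have hl : l ≠ 0 := by
      rintro rfl
      rw [zero_smul] at h
      exact he h
    apply hw l⁻¹
    rw [h, smul_smul, inv_mul_cancel₀ hl, one_smul]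
  have hwe : B w e = 0 := B_eq_zero_symm hew
  obtain ⟨z₁, hz₁w, hz₁e⟩ := Cfsg.Agent.Helper5.exists_orth_sep hw0 he'
  obtain ⟨f₁, hf₁⟩ : ∃ f₁ : Vec, f₁ = (B z₁ e)⁻¹ • z₁ := ⟨_, rfl⟩
  have hz₁e' : B z₁ e ≠ 0 := by
    rw [B_swap]
    exact neg_ne_zero.2 hz₁e
  have hf₁e : B f₁ e = 1 := by rw [hf₁, sympForm_smul_left, inv_mul_cancel₀ hz₁e']
  have hf₁w : B f₁ w = 0 := by
    rw [hf₁, sympForm_smul_left, B_eq_zero_symm hz₁w, mul_zero]
  have hwf₁ : B w f₁ = 0 := B_eq_zero_symm hf₁w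
  have hf₁0 : ∀ l : F, f₁ ≠ l • w := by
    intro l h
    have : B f₁ e = 0 := by rw [h, sympForm_smul_left, hwe, mul_zero]
    rw [hf₁e] at this
    exact one_ne_zero this
  obtain ⟨g, hge, hgw⟩ := exists_map_orth_pair he hw hew hw0 hf₁0 hwf₁
  intro hno
  have h1 := hno (prj g)
  have h2 : prj (uE e w c) * (prj g * prj (uE e w c) * (prj g)⁻¹)
      = prj (uE e w c * uE w f₁ c) := by
    rw [← map_inv, ← map_mul, ← map_mul, ← map_mul, conj_uE, hge, hgw]
  rw [h2, ← map_pow, ← map_pow] at h1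
  obtain ⟨z, hz⟩ : ∃ z : Sp, z = uE e w c := ⟨_, rfl⟩
  have hzz : z * z = 1 := by rw [hz, uE_sq hew]
  have hzinv : z⁻¹ = z := inv_eq_of_mul_eq_one_left hzz
  have hzw : z • w = w := by
    rw [hz, uE_smul_vec hew, hwe, sympForm_self]
    simp
  have hzf₁ : z • f₁ = f₁ + w + c • e := by
    rw [hz, uE_smul_vec hew, hf₁e, hf₁w]
    simp
  have hζ : (z * uE w f₁ c) ^ 2 = uE w (w + c • e) c := by
    have h3 : (z * uE w f₁ c) ^ 2 = (z * uE w f₁ c * z⁻¹) * uE w f₁ c := by
      rw [hzinv, pow_two]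
      group
    have h4 : B w (f₁ + w + c • e) = 0 := by
      rw [sympForm_add_right, sympForm_add_right, sympForm_smul_right, hwf₁, sympForm_self, hwe]
      simp
    rw [h3, conj_uE, hzw, hzf₁, uE_mul h4 hwf₁]
    congr 1
    · rw [add_assoc, add_comm, add_assoc, add_comm (c • e), ← add_assoc, vec_add_self, zero_add]
    · rw [CharTwo.add_self_eq_zero, zero_add, sympForm_add_right, sympForm_add_right,
        sympForm_smul_right, sympForm_self, hf₁w, hf₁e]
      simp
  rw [← hz] at h1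
  have h5 : B w (w + c • e) = 0 := by
    rw [sympForm_add_right, sympForm_smul_right, sympForm_self, hwe]
    simp
  have h6 : (z * uE w f₁ c) ^ 4 = 1 := by
    rw [show 4 = 2 * 2 from rfl, pow_mul, hζ, pow_two, uE_sq h5]
  have h7 := h1 (by rw [h6, map_one])
  rw [hζ] at h7
  have h8 : uE w (w + c • e) c = 1 := prj_injective_char2 hm (by rw [h7, map_one])
  obtain ⟨l, hl, -⟩ := uE_eq_one hw0 h5 h8
  apply he' (c⁻¹ * (l - 1))
  have h9 : c • e = (l - 1) • w := by
    rw [sub_smul, one_smul, ← hl]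
    abel
  rw [mul_smul, ← h9, smul_smul, inv_mul_cancel₀ hc, one_smul]

end general

section four

variable {F : Type*} [Field F]

local notation "I4" => (Fin 2 ⊕ Fin 2)
local notation "Vec" => (Fin 2 ⊕ Fin 2 → F)
local notation "Mat" => Matrix (Fin 2 ⊕ Fin 2) (Fin 2 ⊕ Fin 2) F
local notation "Sp" => Matrix.symplecticGroup (Fin 2) F
local notation "B" => Cfsg.sympForm 2 F

theorem tauSp_injective [CharP F 2] : Function.Injective (tauSp : Sp →* Sp) := by
  intro g h hgh
  apply Subtype.ext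
  ext I K
  have h1 := tauSp_tauSp g I K
  have h2 := tauSp_tauSp h I K
  rw [hgh, h2] at h1
  rcases mul_self_eq_mul_self_iff.1 h1 with h3 | h3
  · exact h3.symm
  · rw [h3, CharTwo.neg_eq]

variable [Fintype F] [CharP F 2]

instance : Finite Sp :=
  Finite.of_injective (fun s : Sp => (s : Mat)) Subtype.val_injective

/-- `tauSp` as an automorphism of `Sp_4(F)` -/
noncomputable def tauEquiv : Sp ≃* Sp :=
  MulEquiv.ofBijective tauSp
    ⟨tauSp_injective, Finite.injective_iff_surjective.1 tauSp_injective⟩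

theorem tauEquiv_apply (g : Sp) : tauEquiv g = tauSp g := rfl

/-- in characteristic two `Sp → PSp` is an isomorphism -/
noncomputable def prjEquiv : Sp ≃* Cfsg.PSp 2 F :=
  MulEquiv.ofBijective prj ⟨prj_injective_char2 (by norm_num), prj_surjective⟩

theorem prjEquiv_apply (g : Sp) : prjEquiv g = prj g := rfl

/-- the exceptional automorphism of `PSp_4(F)` -/
noncomputable def tauP : Cfsg.PSp 2 F ≃* Cfsg.PSp 2 F :=
  (prjEquiv.symm.trans tauEquiv).trans prjEquiv

theorem tauP_prj (g : Sp) : tauP (prj g) = prj (tauSp g) := by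
  show prjEquiv (tauEquiv (prjEquiv.symm (prj g))) = _
  rw [← prjEquiv_apply g, MulEquiv.symm_apply_apply]
  rfl

/-- the Frobenius of `F` -/
noncomputable def frob2 : F ≃+* F :=
  RingEquiv.ofBijective (frobenius F 2)
    ⟨frobenius_inj F 2, Finite.injective_iff_surjective.1 (frobenius_inj F 2)⟩

theorem frob2_apply (x : F) : frob2 x = x * x := by
  show frobenius F 2 x = _
  rw [frobenius_def, pow_two]

/-- the square of the exceptional automorphism is the Frobenius field automorphism -/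
theorem tauP_tauP (x : Cfsg.PSp 2 F) :
    tauP (tauP x) = semiAut (1 : GL (Fin 2 ⊕ Fin 2) F) (one_mem _) frob2 x := by
  obtain ⟨g, rfl⟩ := prj_surjective x
  rw [tauP_prj, tauP_prj, semiAut_prj]
  congr 1
  apply Subtype.ext
  ext I K
  rw [tauSp_tauSp, semiSpEquiv_coe]
  simp [frob2_apply]

/-- the reference transvection -/
noncomputable def t0 : Cfsg.PSp 2 F := prj (tE (Pi.single (Sum.inl 0) 1 : Vec) 1)

theorem single_ne_zero' (K : I4) : (Pi.single K 1 : Vec) ≠ 0 := by
  intro h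
  have := congrFun h K
  simp at this

theorem isTv_t0 : IsTv (t0 : Cfsg.PSp 2 F) :=
  ⟨_, 1, single_ne_zero' _, one_ne_zero, rfl⟩

/-- every transvection is conjugate to `t0` -/
theorem exists_conj_t0 {x : Cfsg.PSp 2 F} (hx : IsTv x) : ∃ g : Cfsg.PSp 2 F, x = g * t0 * g⁻¹ := by
  obtain ⟨a, c, ha, hc, rfl⟩ := hx
  obtain ⟨s, hs⟩ : ∃ s : F, s * s = c := by
    obtain ⟨s, hs⟩ := (frob2 (F := F)).surjective c
    exact ⟨s, by rw [← frob2_apply, hs]⟩
  have hs0 : s ≠ 0 := by
    rintro rfl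
    rw [mul_zero] at hs
    exact hc hs.symm
  have hsa : s • a ≠ 0 := smul_ne_zero hs0 ha
  obtain ⟨A, -, hA⟩ := exists_transvection_map_of_ne_zero (single_ne_zero' (F := F) (Sum.inl 0)) hsa
  have hA' : A • (Pi.single (Sum.inl 0) 1 : Vec) = s • a := hA
  refine ⟨prj A, ?_⟩
  rw [t0, ← map_inv, ← map_mul, ← map_mul, conj_tE, hA', tE_smul, one_mul, pow_two, hs]

theorem tvPres_of_isTv_map_t0 {β : Cfsg.PSp 2 F ≃* Cfsg.PSp 2 F} (h : IsTv (β t0)) : TvPres β := by
  apply tvPres_of_forall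
  intro x hx
  obtain ⟨g, rfl⟩ := exists_conj_t0 hx
  rw [map_mul, map_mul, map_inv]
  exact isTv_conj h _

/-- the image of a transvection under an automorphism: a transvection or a short root element -/
theorem map_tv_cases (β : Cfsg.PSp 2 F ≃* Cfsg.PSp 2 F) {a : Vec} {c : F} (ha : a ≠ 0)
    (hc : c ≠ 0) :
    IsTv (β (prj (tE a c))) ∨
      ∃ e w : Vec, e ≠ 0 ∧ (∀ l : F, w ≠ l • e) ∧ B e w = 0 ∧ β (prj (tE a c)) = prj (uE e w 0) := by
  have hm1 : 1 ≤ 2 := by norm_num
  have hx1 : β (prj (tE a c)) ≠ 1 := by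
    intro h
    apply prj_tE_ne_one hm1 ha hc
    apply β.injective
    rw [h, map_one]
  have hsc : Cfsg.Agent.Helper14.AutPSL.IsSylCentral 2 (β (prj (tE a c))) :=
    (isSylCentral_tE (p := 2) hm1 ha c).map β
  have hno : NoOrd4 (β (prj (tE a c))) := (noOrd4_tE hm1 a c).map β
  obtain ⟨e, w, c', he, hew, hβ⟩ := exists_uE_of_isSylCentral (p := 2) hm1 hsc
  by_cases hw : ∃ l : F, w = l • e
  · left
    obtain ⟨l, rfl⟩ := hw
    have h0 : B e (0 : Vec) = 0 := sympForm_zero_right e
    have h1 : uE e (l • e) c' = tE e (c' + 2 * l) := by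
      rw [← zero_add (l • e), uE_add_smul h0, uE_zero]
    rw [h1] at hβ
    refine ⟨e, c' + 2 * l, he, ?_, hβ⟩
    intro h0'
    rw [h0', tE_zero, map_one] at hβ
    exact hx1 hβ
  · push Not at hw
    by_cases hc' : c' = 0
    · right
      subst hc'
      exact ⟨e, w, he, hw, hew, hβ⟩
    · rw [hβ] at hno
      exact absurd hno (not_noOrd4_uE_of_ne hm1 he hw hew hc')

/-- matrix entries of the reference transvection -/
theorem tE_single_apply (i j : I4) :
    ((tE (Pi.single (Sum.inl 0) 1 : Vec) 1 : Sp) : Mat) i j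
      = (if i = j then 1 else 0) + (if j = Sum.inr 0 then 1 else 0) * (if i = Sum.inl 0 then 1 else 0) := by
  have h1 : ((tE (Pi.single (Sum.inl 0) 1 : Vec) 1 : Sp) : Mat) i j
      = (tE (Pi.single (Sum.inl 0) 1 : Vec) 1 • (Pi.single j 1 : Vec)) i := by
    rw [smul_def, Matrix.mulVec_single_one]
    rfl
  rw [h1, tE_smul_vec, sympForm_single_inl_right]
  rcases i with (i | i) <;> rcases j with (j | j) <;> fin_cases i <;> fin_cases j <;>
    simp [Pi.single_apply]

theorem not_isTv_tauP_t0 : ¬ IsTv (tauP (t0 : Cfsg.PSp 2 F)) := by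
  rintro ⟨b, d, hb, hd, h⟩
  rw [t0, tauP_prj] at h
  have h1 : tauSp (tE (Pi.single (Sum.inl 0) 1 : Vec) 1) = tE b d :=
    prj_injective_char2 (by norm_num) h
  -- two values of `tauSp t - 1`
  have e1 : (tauSp (tE (Pi.single (Sum.inl 0) 1 : Vec) 1) • (Pi.single (Sum.inr 0) 1 : Vec))
      (Sum.inl 1) = 1 := by
    rw [smul_def, Matrix.mulVec_single_one]
    show tauM _ (Sum.inl 1) (Sum.inr 0) = 1
    simp [tauM, p1, p2, tE_single_apply]
  have e2 : (tauSp (tE (Pi.single (Sum.inl 0) 1 : Vec) 1) • (Pi.single (Sum.inr 0) 1 : Vec))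
      (Sum.inl 0) = 0 := by
    rw [smul_def, Matrix.mulVec_single_one]
    show tauM _ (Sum.inl 0) (Sum.inr 0) = 0
    simp [tauM, p1, p2, tE_single_apply]
  have e3 : (tauSp (tE (Pi.single (Sum.inl 0) 1 : Vec) 1) • (Pi.single (Sum.inr 1) 1 : Vec))
      (Sum.inl 0) = 1 := by
    rw [smul_def, Matrix.mulVec_single_one]
    show tauM _ (Sum.inl 0) (Sum.inr 1) = 1
    simp [tauM, p1, p2, tE_single_apply]
  rw [h1, tE_smul_vec] at e1 e2 e3
  simp only [Pi.add_apply, Pi.smul_apply, Pi.single_apply, smul_eq_mul] at e1 e2 e3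
  simp at e1 e2 e3
  -- e1 : λ * b (inl 1) = 1, e2 : λ * b (inl 0) = 0, e3 : μ * b (inl 0) = 1
  rcases e2 with e2 | e2
  · rcases e2 with e2 | e2
    · exact hd e2
    · rw [e2] at e1
      simp at e1
  · rw [e2] at e3
    simp at e3

theorem not_tvPres_tauP : ¬ TvPres (tauP : Cfsg.PSp 2 F ≃* Cfsg.PSp 2 F) := by
  intro h
  exact not_isTv_tauP_t0 ((h _).1 isTv_t0)

theorem tvPres_tauP_tauP :
    TvPres ((tauP : Cfsg.PSp 2 F ≃* Cfsg.PSp 2 F).trans tauP) := by
  have h : (tauP : Cfsg.PSp 2 F ≃* Cfsg.PSp 2 F).trans tauP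
      = semiAut (1 : GL (Fin 2 ⊕ Fin 2) F) (one_mem _) frob2 := by
    apply MulEquiv.ext
    intro x
    exact tauP_tauP x
  rw [h]
  exact tvPres_semiAut _ _

/-- **dichotomy**: an automorphism of `PSp_4(2^f)` preserves transvections, or does so after
composition with the exceptional automorphism -/
theorem tvPres_or (β : Cfsg.PSp 2 F ≃* Cfsg.PSp 2 F) : TvPres β ∨ TvPres (β.trans tauP) := by
  rcases map_tv_cases β (single_ne_zero' (F := F) (Sum.inl 0)) one_ne_zero with h | h
  · left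
    exact tvPres_of_isTv_map_t0 h
  · right
    obtain ⟨e, w, he, hw, hew, hβ⟩ := h
    rcases map_tv_cases (tauP : Cfsg.PSp 2 F ≃* Cfsg.PSp 2 F)
      (single_ne_zero' (F := F) (Sum.inl 0)) one_ne_zero with h' | h'
    · exact absurd h' not_isTv_tauP_t0
    · obtain ⟨e', w', he', hw', hew', hτ⟩ := h'
      obtain ⟨g, hge, hgw⟩ := exists_map_orth_pair he' hw' hew' he hw hew
      apply tvPres_of_isTv_map_t0
      have h1 : β t0 = prj g * tauP t0 * (prj g)⁻¹ := by
        show β (prj (tE (Pi.single (Sum.inl 0) 1 : Vec) 1)) = _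
        rw [hβ]
        show _ = prj g * tauP (prj (tE (Pi.single (Sum.inl 0) 1 : Vec) 1)) * (prj g)⁻¹
        rw [hτ, ← map_inv, ← map_mul, ← map_mul, conj_uE, hge, hgw]
      show IsTv (tauP (β t0))
      rw [h1, map_mul, map_mul, map_inv]
      apply isTv_conj
      exact (tvPres_tauP_tauP _).1 isTv_t0

end four

end Cfsg.Agent.Helper37.SpFour
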