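import Mathlib
import Cfsg.Agent.Helper37.SpFourC
import Cfsg.Agent.Helper37.OutPslD
import Cfsg.Agent.Helper14.SpF3

/-!
# The group of transvection-preserving automorphisms of `PSp_{2m}(q)` and its order
-/

set_option autoImplicit false
set_option linter.unusedSectionVars false
set_option linter.unusedVariables false
set_option linter.unusedSimpArgs false

namespace Cfsg.Agent.Helper37.SpFour

open Matrix Cfsg.Agent.Helper13 Cfsg.Agent.Helper94.SpRoot Cfsg.Agent.Helper5.AutSp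
  Cfsg.Agent.Helper14.AutPSp

variable {F : Type*} [Field F] {m : ℕ}

local notation "Vec" => (Fin m ⊕ Fin m → F)
local notation "Mat" => Matrix (Fin m ⊕ Fin m) (Fin m ⊕ Fin m) F
local notation "Sp" => Matrix.symplecticGroup (Fin m) F
local notation "B" => Cfsg.sympForm m F

/-- the subgroup of transvection-preserving automorphisms -/
def tvSub (m : ℕ) (F : Type*) [Field F] : Subgroup (MulAut (Cfsg.PSp m F)) where
  carrier := {β | TvPres β}
  mul_mem' := fun {a b} ha hb => hb.trans ha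
  one_mem' := fun x => Iff.rfl
  inv_mem' := fun {a} ha => ha.symm

theorem mem_tvSub {β : MulAut (Cfsg.PSp m F)} : β ∈ tvSub m F ↔ TvPres β := Iff.rfl

section fin

variable [Fintype F]

theorem mem_tvSub_iff {p : ℕ} [hp : Fact p.Prime] [CharP F p] (hm : 2 ≤ m) {β : MulAut (Cfsg.PSp m F)} :
    β ∈ tvSub m F ↔ ∃ (g : ↥(Cfsg.GSp m F)) (σ : F ≃+* F), β = gspHom m F g * spField σ := by
  rw [mem_tvSub, tvPres_iff_exists_semiAut (p := p) hm]
  constructor
  · rintro ⟨M, hM, σ, h⟩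
    exact ⟨⟨M, hM⟩, σ, by rw [h, gspHom_mul_spField]⟩
  · rintro ⟨g, σ, h⟩
    exact ⟨g.1, g.2, σ, by rw [h, gspHom_mul_spField]⟩

theorem spField_inv (σ : F ≃+* F) :
    (spField σ : MulAut (Cfsg.PSp m F))⁻¹ = spField σ⁻¹ := by
  rw [inv_eq_iff_mul_eq_one, spField_mul, mul_inv_cancel, spField_one]

/-- uniqueness of the field automorphism in the normal form -/
theorem sigma_unique_sp (hm : 2 ≤ m) {g g' : ↥(Cfsg.GSp m F)} {σ σ' : F ≃+* F}
    (h : gspHom m F g * spField σ = gspHom m F g' * spField σ') : σ = σ' := by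
  have h1 : gspHom m F (g'⁻¹ * g) * spField (σ * σ'⁻¹) = 1 := by
    rw [map_mul, map_inv, ← spField_mul, ← spField_inv, mul_assoc, ← mul_assoc (gspHom m F g),
      h, mul_assoc, mul_inv_cancel, mul_one, inv_mul_cancel]
  rw [gspHom_mul_spField] at h1
  obtain ⟨h2, -⟩ := scalar_of_semiAut_eq hm (g'⁻¹ * g).2 (σ := σ * σ'⁻¹) (by
    intro x
    have := DFunLike.congr_fun h1 x
    exact this)
  have h3 : σ * σ'⁻¹ = 1 := h2
  exact mul_inv_eq_one.1 h3

theorem exists_sigmaHom {p : ℕ} [hp : Fact p.Prime] [CharP F p] (hm : 2 ≤ m) :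
    ∃ ψ : ↥(tvSub m F) →* (F ≃+* F),
      ∀ β : ↥(tvSub m F), ∃ g : ↥(Cfsg.GSp m F), (β : MulAut (Cfsg.PSp m F)) = gspHom m F g * spField (ψ β) := by
  apply Cfsg.Agent.Helper37.OutPsl.exists_hom_of_rel
    (fun (β : ↥(tvSub m F)) (σ : F ≃+* F) =>
      ∃ g : ↥(Cfsg.GSp m F), (β : MulAut (Cfsg.PSp m F)) = gspHom m F g * spField σ)
  · intro β
    obtain ⟨g, σ, h⟩ := (mem_tvSub_iff (p := p) hm).1 β.2
    exact ⟨σ, g, h⟩
  · rintro β β' σ σ' ⟨g, h⟩ ⟨g', h'⟩
    refine ⟨g * gspMap σ g', ?_⟩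
    rw [Subgroup.coe_mul, h, h', map_mul, ← spField_mul, mul_assoc, ← mul_assoc (spField σ),
      spField_mul_gspHom]
    simp only [mul_assoc]
  · rintro β σ σ' ⟨g, h⟩ ⟨g', h'⟩
    exact sigma_unique_sp hm (h.symm.trans h')

theorem spField_mem_tvSub {p : ℕ} [hp : Fact p.Prime] [CharP F p] (hm : 2 ≤ m) (σ : F ≃+* F) :
    (spField σ : MulAut (Cfsg.PSp m F)) ∈ tvSub m F :=
  (mem_tvSub_iff (p := p) hm).2 ⟨1, σ, by rw [map_one, one_mul]⟩

theorem gspHom_mem_tvSub {p : ℕ} [hp : Fact p.Prime] [CharP F p] (hm : 2 ≤ m) (g : ↥(Cfsg.GSp m F)) :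
    gspHom m F g ∈ tvSub m F :=
  (mem_tvSub_iff (p := p) hm).2 ⟨g, 1, by rw [spField_one, mul_one]⟩

theorem range_gspHom_le {p : ℕ} [hp : Fact p.Prime] [CharP F p] (hm : 2 ≤ m) : (gspHom m F).range ≤ tvSub m F := by
  rintro _ ⟨g, rfl⟩
  exact gspHom_mem_tvSub (p := p) hm g

end fin

end Cfsg.Agent.Helper37.SpFour
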