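import Mathlib
import Cfsg.Agent.Helper37.SpFourE
import Cfsg.Agent.S0246

/-!
# The order of the group of transvection-preserving automorphisms of `PSp_{2m}(q)`
-/

set_option autoImplicit false
set_option linter.unusedSectionVars false
set_option linter.unusedVariables false
set_option linter.unusedSimpArgs false

namespace Cfsg.Agent.Helper37.SpFour

open Matrix Cfsg.Agent.Helper13 Cfsg.Agent.Helper94.SpRoot Cfsg.Agent.Helper5.AutSp
  Cfsg.Agent.Helper14.AutPSp

variable {F : Type*} [Field F] {m : ℕ}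

local notation "Vec" => (Fin m ⊕ Fin m → F)
local notation "Mat" => Matrix (Fin m ⊕ Fin m) (Fin m ⊕ Fin m) F
local notation "Sp" => Matrix.symplecticGroup (Fin m) F
local notation "B" => Cfsg.sympForm m F

theorem gspScalar_injective (hm : 1 ≤ m) :
    Function.Injective (gspScalar : Fˣ → ↥(Cfsg.GSp m F)) := by
  intro a b hab
  have h1 := congrArg (fun g : ↥(Cfsg.GSp m F) => ((g : GL (Fin m ⊕ Fin m) F) : Mat)
    (Sum.inl ⟨0, by omega⟩) (Sum.inl ⟨0, by omega⟩)) hab
  simp only [gspScalar_coe, Matrix.smul_apply, Matrix.one_apply_eq, smul_eq_mul, mul_one] at h1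
  exact Units.ext h1

theorem spIncl_injective : Function.Injective (spIncl : Sp → ↥(Cfsg.GSp m F)) := by
  intro s t hst
  apply Subtype.ext
  have h1 := congrArg (fun g : ↥(Cfsg.GSp m F) => ((g : GL (Fin m ⊕ Fin m) F) : Mat)) hst
  simpa only [spIncl_coe] using h1

theorem mem_ker_gspMult (hm : 1 ≤ m) (g : ↥(Cfsg.GSp m F)) :
    g ∈ (gspMult hm).ker ↔ ∃ s : Sp, spIncl s = g := by
  rw [MonoidHom.mem_ker]
  constructor
  · intro h1
    have h2 : ((g : GL (Fin m ⊕ Fin m) F) : Mat) ∈ Matrix.symplecticGroup (Fin m) F := by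
      rw [mem_symplecticGroup_iff_preserves]
      intro u v
      have := gspMult_spec hm g u v
      rw [h1, Units.val_one, one_mul] at this
      exact this
    refine ⟨⟨_, h2⟩, ?_⟩
    apply Subtype.ext
    apply Units.ext
    rfl
  · rintro ⟨s, rfl⟩
    exact gspMult_spIncl hm s

section fin

variable [Fintype F]

instance : Finite Sp :=
  Finite.of_injective (fun s : Sp => (s : Mat)) Subtype.val_injective

instance : Finite ↥(Cfsg.GSp m F) :=
  Finite.of_injective (fun g : ↥(Cfsg.GSp m F) => ((g : GL (Fin m ⊕ Fin m) F) : Mat))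
    (fun g h hgh => Subtype.ext (Units.ext hgh))

theorem card_ker_gspMult (hm : 1 ≤ m) :
    Nat.card (gspMult (F := F) hm).ker = Nat.card Sp := by
  symm
  apply Nat.card_congr
  exact Equiv.ofBijective
    (fun s : Sp => (⟨spIncl s, (mem_ker_gspMult hm _).2 ⟨s, rfl⟩⟩ : (gspMult (F := F) hm).ker))
    ⟨fun s t hst => spIncl_injective (congrArg Subtype.val hst),
     fun g => by
      obtain ⟨s, hs⟩ := (mem_ker_gspMult hm g.1).1 g.2
      exact ⟨s, Subtype.ext hs⟩⟩

theorem card_ker_gspHom (hm : 2 ≤ m) :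
    Nat.card (gspHom m F).ker = Nat.card Fˣ := by
  symm
  apply Nat.card_congr
  exact Equiv.ofBijective
    (fun a : Fˣ => (⟨gspScalar a, (mem_ker_gspHom hm _).2 ⟨a, rfl⟩⟩ : (gspHom m F).ker))
    ⟨fun a b hab => gspScalar_injective (by omega) (congrArg Subtype.val hab),
     fun g => by
      obtain ⟨a, ha⟩ := (mem_ker_gspHom hm g.1).1 g.2
      exact ⟨a, Subtype.ext ha.symm⟩⟩

theorem card_GSp (hm : 1 ≤ m) :
    Nat.card ↥(Cfsg.GSp m F) = Nat.card Fˣ * Nat.card Sp := by
  rw [Subgroup.card_eq_card_quotient_mul_card_subgroup (gspMult (F := F) hm).ker,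
    card_ker_gspMult hm,
    Nat.card_congr (QuotientGroup.quotientKerEquivOfSurjective _
      (gspMult_surjective (F := F) hm)).toEquiv]

theorem card_range_gspHom (hm : 2 ≤ m) :
    Nat.card (gspHom m F).range = Nat.card Sp := by
  have h1 := Subgroup.card_eq_card_quotient_mul_card_subgroup (gspHom m F).ker
  rw [card_GSp (by omega), card_ker_gspHom hm,
    Nat.card_congr (QuotientGroup.quotientKerEquivRange (gspHom m F)).toEquiv, mul_comm] at h1
  have h2 : 0 < Nat.card Fˣ := Nat.card_pos
  exact (Nat.eq_of_mul_eq_mul_right h2 h1).symm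

theorem card_tvSub {p f : ℕ} [hp : Fact p.Prime] (hf : 1 ≤ f) (hF : Fintype.card F = p ^ f)
    (hm : 2 ≤ m) :
    Nat.card (tvSub m F) = Nat.gcd 2 (p ^ f - 1) * f * Nat.card (Cfsg.PSp m F) := by
  haveI : CharP F p := charP_of_card_eq_prime_pow hF
  obtain ⟨ψ, hψ⟩ := exists_sigmaHom (p := p) (F := F) hm
  have hsurj : Function.Surjective ψ := by
    intro σ
    refine ⟨⟨spField σ, spField_mem_tvSub (p := p) hm σ⟩, ?_⟩
    obtain ⟨g, hg⟩ := hψ ⟨spField σ, spField_mem_tvSub (p := p) hm σ⟩
    have h1 : gspHom m F 1 * spField σ = gspHom m F g * spField (ψ ⟨spField σ, spField_mem_tvSub (p := p) hm σ⟩) := by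
      rw [map_one, one_mul]
      exact hg
    exact (sigma_unique_sp hm h1).symm
  have hker : ψ.ker = ((gspHom m F).range).subgroupOf (tvSub m F) := by
    ext β
    rw [MonoidHom.mem_ker, Subgroup.mem_subgroupOf]
    constructor
    · intro h
      obtain ⟨g, hg⟩ := hψ β
      rw [h, spField_one, mul_one] at hg
      exact ⟨g, hg.symm⟩
    · rintro ⟨g, hg⟩
      obtain ⟨g', hg'⟩ := hψ β
      have h1 : gspHom m F g * spField 1 = gspHom m F g' * spField (ψ β) := by
        rw [spField_one, mul_one, hg]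
        exact hg'
      exact (sigma_unique_sp hm h1).symm
  have h1 := Subgroup.card_eq_card_quotient_mul_card_subgroup ψ.ker
  rw [Nat.card_congr (QuotientGroup.quotientKerEquivOfSurjective ψ hsurj).toEquiv,
    (Cfsg.Agent.Helper37.OutPsl.card_ringAut hF hf).1, hker,
    Nat.card_congr (Subgroup.subgroupOfEquivOfLe (range_gspHom_le (p := p) hm)).toEquiv,
    card_range_gspHom hm] at h1
  have h2 := Subgroup.card_eq_card_quotient_mul_card_subgroup
    (Subgroup.center (Matrix.symplecticGroup (Fin m) F))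
  rw [Cfsg.Agent.S0246.result hF m (by omega)] at h2
  rw [h1, h2]
  ring

end fin

end Cfsg.Agent.Helper37.SpFour
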