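import Mathlib
import Cfsg.Agent.Helper37.SpFourD
import Cfsg.Agent.Helper37.SpFourF

/-!
# `Aut(PSp_4(2^f))` and `Out(PSp_4(2^f))`
-/

set_option autoImplicit false
set_option linter.unusedSectionVars false
set_option linter.unusedVariables false
set_option linter.unusedSimpArgs false

namespace Cfsg.Agent.Helper37.SpFour

open Matrix Cfsg.Agent.Helper13 Cfsg.Agent.Helper94.SpRoot Cfsg.Agent.Helper5.AutSp
  Cfsg.Agent.Helper14.AutPSp

section general

variable {F : Type*} [Field F] {m : ℕ}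

local notation "Vec" => (Fin m ⊕ Fin m → F)
local notation "Mat" => Matrix (Fin m ⊕ Fin m) (Fin m ⊕ Fin m) F
local notation "Sp" => Matrix.symplecticGroup (Fin m) F
local notation "B" => Cfsg.sympForm m F

theorem inn_le_tvSub : Cfsg.Inn (Cfsg.PSp m F) ≤ tvSub m F := by
  rintro _ ⟨g, rfl⟩
  exact tvPres_conj g

/-- in characteristic two `PSp_{2m}(F)` has trivial centre -/
theorem center_psp_eq_bot [CharP F 2] (hm : 2 ≤ m) : Subgroup.center (Cfsg.PSp m F) = ⊥ := by
  rw [eq_bot_iff]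
  intro x hx
  obtain ⟨g, rfl⟩ := prj_surjective x
  rw [Subgroup.mem_bot]
  have h1 : ∀ b : Vec, g • b = b := by
    intro b
    by_cases hb : b = 0
    · rw [hb, smul_zero]
    have h2 : Commute (prj g) (prj (tE b (1 : F))) := by
      have := Subgroup.mem_center_iff.1 hx (prj (tE b (1 : F)))
      exact this.symm
    rcases (commute_prj_tE_iff hm g hb one_ne_zero).1 h2 with h3 | h3
    · exact h3
    · rw [h3]
      funext i
      exact CharTwo.neg_eq (b i)
  have h4 : g = 1 := by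
    apply ext_smul
    intro b
    rw [h1, one_smul]
  rw [h4, map_one]

theorem card_inn_psp [CharP F 2] (hm : 2 ≤ m) :
    Nat.card (Cfsg.Inn (Cfsg.PSp m F)) = Nat.card (Cfsg.PSp m F) := by
  have hinj : Function.Injective (MulAut.conj : Cfsg.PSp m F →* MulAut (Cfsg.PSp m F)) := by
    rw [injective_iff_map_eq_one]
    intro x hx
    have hxc : x ∈ Subgroup.center (Cfsg.PSp m F) := by
      rw [Subgroup.mem_center_iff]
      intro y
      have := congrArg (fun β : MulAut (Cfsg.PSp m F) => β y) hx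
      simp only [MulAut.conj_apply, MulAut.one_apply] at this
      calc y * x = x * y * x⁻¹ * x := by rw [this]
        _ = x * y := by group
    rw [center_psp_eq_bot hm, Subgroup.mem_bot] at hxc
    exact hxc
  exact (Nat.card_congr (MonoidHom.ofInjective hinj).toEquiv).symm

/-- a standard field automorphism is inner only if it is trivial -/
theorem spField_mem_inn_iff [Fintype F] (hm : 2 ≤ m) (σ : F ≃+* F) :
    (spField σ : MulAut (Cfsg.PSp m F)) ∈ Cfsg.Inn (Cfsg.PSp m F) ↔ σ = 1 := by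
  constructor
  · rintro ⟨x, hx⟩
    obtain ⟨s, rfl⟩ := prj_surjective x
    have h1 : gspHom m F (spIncl s) * spField 1 = gspHom m F 1 * spField σ := by
      rw [spField_one, mul_one, map_one, one_mul, gspHom_spIncl]
      exact hx
    exact (sigma_unique_sp hm h1).symm
  · rintro rfl
    rw [spField_one]
    exact Subgroup.one_mem _

end general

section four

variable {F : Type*} [Field F] [Fintype F] [CharP F 2]

local notation "Vec" => (Fin 2 ⊕ Fin 2 → F)
local notation "Mat" => Matrix (Fin 2 ⊕ Fin 2) (Fin 2 ⊕ Fin 2) F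
local notation "Sp" => Matrix.symplecticGroup (Fin 2) F
local notation "B" => Cfsg.sympForm 2 F

theorem tauP_mul_tauP :
    (tauP : MulAut (Cfsg.PSp 2 F)) * tauP = spField frob2 := by
  apply MulEquiv.ext
  intro x
  exact tauP_tauP x

theorem tauP_not_mem_tvSub : (tauP : MulAut (Cfsg.PSp 2 F)) ∉ tvSub 2 F := not_tvPres_tauP

theorem index_tvSub : (tvSub 2 F).index = 2 := by
  rw [Subgroup.index_eq_two_iff']
  refine ⟨tauP, fun b => ?_⟩
  have h1 : b ∈ tvSub 2 F ∨ (tauP : MulAut (Cfsg.PSp 2 F)) * b ∈ tvSub 2 F := tvPres_or b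
  have h2 : ¬ (b ∈ tvSub 2 F ∧ (tauP : MulAut (Cfsg.PSp 2 F)) * b ∈ tvSub 2 F) := by
    rintro ⟨hb, hab⟩
    apply tauP_not_mem_tvSub (F := F)
    have := Subgroup.mul_mem _ hab (Subgroup.inv_mem _ hb)
    rwa [mul_inv_cancel_right] at this
  rcases h1 with h | h
  · exact Or.inr ⟨h, fun h' => h2 ⟨h, h'⟩⟩
  · exact Or.inl ⟨h, fun h' => h2 ⟨h', h⟩⟩

theorem gcd_two_pow_sub_one {f : ℕ} (hf : 1 ≤ f) : Nat.gcd 2 (2 ^ f - 1) = 1 := by
  have h1 : 2 ^ f = 2 * 2 ^ (f - 1) := by
    rw [← pow_succ']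
    congr 1
    omega
  have h2 : 0 < 2 ^ (f - 1) := Nat.pow_pos (by norm_num)
  have h3 : ¬ 2 ∣ 2 ^ f - 1 := by
    rw [h1]
    omega
  exact (Nat.Prime.coprime_iff_not_dvd Nat.prime_two).2 h3

theorem card_aut_psp_four {f : ℕ} (hf : 1 ≤ f) (hF : Fintype.card F = 2 ^ f) :
    Nat.card (MulAut (Cfsg.PSp 2 F)) = 2 * f * Nat.card (Cfsg.PSp 2 F) := by
  have h1 := Subgroup.index_mul_card (tvSub 2 F)
  rw [index_tvSub, card_tvSub (p := 2) hf hF (le_refl 2), gcd_two_pow_sub_one hf] at h1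
  rw [← h1]
  ring

theorem card_out_psp_four {f : ℕ} (hf : 1 ≤ f) (hF : Fintype.card F = 2 ^ f) :
    Nat.card (Cfsg.Out (Cfsg.PSp 2 F)) = 2 * f := by
  have h1 := Subgroup.card_eq_card_quotient_mul_card_subgroup (Cfsg.Inn (Cfsg.PSp 2 F))
  rw [card_aut_psp_four hf hF, card_inn_psp (le_refl 2)] at h1
  have : Finite (Cfsg.PSp 2 F) := Finite.of_surjective _ (prj_surjective (F := F) (m := 2))
  have h2 : 0 < Nat.card (Cfsg.PSp 2 F) := Nat.card_pos
  exact (Nat.eq_of_mul_eq_mul_right h2 h1).symm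

end four

end Cfsg.Agent.Helper37.SpFour
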