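import Mathlib
import Cfsg.Agent.Helper13.USubDefs
import Cfsg.Agent.Helper13.Herm
import Cfsg.Agent.Helper37.LangF

/-!
# (R0) of S5982: every unitary form over a finite field is equivalent to the standard one
-/

set_option autoImplicit false

namespace Cfsg.Agent.Helper37.USubR0

open Matrix Cfsg Cfsg.Geo
open Cfsg.Agent.Helper13.USub Cfsg.Agent.Helper13 Cfsg.Agent.Helper37.Lang

variable {F : Type*} [Field F] {n : ℕ}

/-- the Frobenius `x ↦ x ^ q₀` of a field with `q₀²` elements, as a ring automorphism -/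
def frobEquiv [Fintype F] (q₀ : ℕ) (hF : Fintype.card F = q₀ ^ 2) : F ≃+* F where
  toFun x := x ^ q₀
  invFun x := x ^ q₀
  left_inv x := frob_frob hF x
  right_inv x := frob_frob hF x
  map_mul' x y := mul_pow x y q₀
  map_add' x y := frob_add hF x y

theorem frobEquiv_apply [Fintype F] (q₀ : ℕ) (hF : Fintype.card F = q₀ ^ 2) (x : F) :
    frobEquiv q₀ hF x = x ^ q₀ := rfl

theorem frobEquiv_ne_one [Fintype F] (q₀ : ℕ) (hF : Fintype.card F = q₀ ^ 2) :
    frobEquiv q₀ hF ≠ 1 := by
  classical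
  intro h
  have hq := two_le_of_card_eq_sq hF
  obtain ⟨ζ, hζ⟩ := IsCyclic.exists_ofOrder_eq_natCard (α := Fˣ)
  rw [Nat.card_units, Nat.card_eq_fintype_card, hF] at hζ
  have h1 : (ζ : F) ^ q₀ = ζ := by
    have := congrArg (fun σ : F ≃+* F => σ (ζ : F)) h
    simpa [frobEquiv_apply] using this
  have h2 : ζ ^ (q₀ - 1) = 1 := by
    apply Units.ext
    rw [Units.val_pow_eq_pow_val, Units.val_one]
    have h3 : (ζ : F) ^ (q₀ - 1) * (ζ : F) = 1 * (ζ : F) := by
      rw [← pow_succ, Nat.sub_add_cancel (by omega), h1, one_mul]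
    exact mul_right_cancel₀ ζ.ne_zero h3
  have h4 := orderOf_dvd_of_pow_eq_one h2
  rw [hζ] at h4
  have h5 : q₀ ^ 2 - 1 ≤ q₀ - 1 := Nat.le_of_dvd (by omega) h4
  have h6 : q₀ < q₀ ^ 2 := by nlinarith
  omega

/-- a unitary form is hermitian for the Frobenius -/
theorem isHerm_of_isUnitaryFormPow [Fintype F] (q₀ : ℕ) (hF : Fintype.card F = q₀ ^ 2)
    (f : (Fin n → F) → (Fin n → F) → F) (hf : Cfsg.Geo.IsUnitaryFormPow q₀ f) :
    IsHerm (frobEquiv q₀ hF) f where
  add_left := hf.add_left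
  add_right u v v' := by
    rw [hf.herm u (v + v'), hf.add_left, frob_add hF, ← hf.herm, ← hf.herm]
  smul_left := hf.smul_left
  smul_right c u v := by
    rw [hf.herm u (c • v), hf.smul_left, mul_pow, ← hf.herm, frobEquiv_apply]
  herm u v := by
    rw [frobEquiv_apply, ← hf.herm]

/-- sesquilinearity for finite sums -/
theorem IsHerm_sum_left {σ : F ≃+* F} {B : (Fin n → F) → (Fin n → F) → F} (h : IsHerm σ B)
    {ι : Type*} (s : Finset ι) (a : ι → F) (w : ι → Fin n → F) (v : Fin n → F) :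
    B (∑ i ∈ s, a i • w i) v = ∑ i ∈ s, a i * B (w i) v := by
  classical
  induction s using Finset.induction_on with
  | empty => simp [h.zero_left]
  | insert j s hj ih =>
    rw [Finset.sum_insert hj, Finset.sum_insert hj, h.add_left, h.smul_left, ih]

theorem IsHerm_zero_right {σ : F ≃+* F} {B : (Fin n → F) → (Fin n → F) → F} (h : IsHerm σ B)
    (u : Fin n → F) : B u 0 = 0 := by
  have := h.smul_right 0 u 0
  rwa [zero_smul, map_zero, zero_mul] at this

theorem IsHerm_sum_right {σ : F ≃+* F} {B : (Fin n → F) → (Fin n → F) → F} (h : IsHerm σ B)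
    {ι : Type*} (s : Finset ι) (a : ι → F) (w : ι → Fin n → F) (u : Fin n → F) :
    B u (∑ i ∈ s, a i • w i) = ∑ i ∈ s, σ (a i) * B u (w i) := by
  classical
  induction s using Finset.induction_on with
  | empty => simp [IsHerm_zero_right h]
  | insert j s hj ih =>
    rw [Finset.sum_insert hj, Finset.sum_insert hj, h.add_right, h.smul_right, ih]

/-- (R0) every unitary form is equivalent to the standard one -/
theorem exists_conj_similarityGroup [Fintype F] (q₀ : ℕ) (hF : Fintype.card F = q₀ ^ 2)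
    (f : (Fin n → F) → (Fin n → F) → F) (hf : Cfsg.Geo.IsUnitaryFormPow q₀ f) :
    ∃ c : GL (Fin n) F, ∀ g : GL (Fin n) F,
      g ∈ Cfsg.Geo.similarityGroup f ↔ c⁻¹ * g * c ∈ SimH n F q₀ := by
  classical
  set σ := frobEquiv q₀ hF with hσdef
  have hB : IsHerm σ f := isHerm_of_isUnitaryFormPow q₀ hF f hf
  have hσ2 : ∀ x, σ (σ x) = x := fun x => frob_frob hF x
  have hσ1 : σ ≠ 1 := frobEquiv_ne_one q₀ hF
  have hfin : Module.finrank F (⊤ : Submodule F (Fin n → F)) = n := by
    rw [finrank_top, Module.finrank_fin_fun]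
  obtain ⟨u, -, hu⟩ := exists_orthonormal hσ2 hσ1 hB n ⊤ hfin
    (fun w _ hw => by
      obtain ⟨x, hx⟩ := (hf.nondegenerate w hw).2
      exact ⟨x, Submodule.mem_top, hx⟩)
  -- the matrix with columns `u j`
  set C : Matrix (Fin n) (Fin n) F := Matrix.of (fun i j => u j i) with hC
  have hCmul : ∀ x : Fin n → F, C *ᵥ x = ∑ j, x j • u j := by
    intro x
    funext i
    simp only [Matrix.mulVec, dotProduct, hC, Matrix.of_apply, Finset.sum_apply, Pi.smul_apply,
      smul_eq_mul]
    exact Finset.sum_congr rfl fun j _ => mul_comm _ _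
  -- the form in the new coordinates
  have hform : ∀ x y : Fin n → F, f (C *ᵥ x) (C *ᵥ y) = Cfsg.hermForm n F q₀ x y := by
    intro x y
    rw [hCmul x, hCmul y, IsHerm_sum_left hB]
    unfold Cfsg.hermForm
    refine Finset.sum_congr rfl fun i _ => ?_
    rw [IsHerm_sum_right hB, Finset.sum_eq_single i]
    · rw [hu i i, if_pos rfl, mul_one]
      rfl
    · intro j _ hji
      rw [hu i j, if_neg (Ne.symm hji), mul_zero]
    · intro hi
      exact absurd (Finset.mem_univ i) hi
  -- `C` is invertible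
  have hinj : Function.Injective C.mulVec := by
    intro x y hxy
    have hxy' : C *ᵥ x = C *ᵥ y := hxy
    funext k
    have h1 := hform x (Pi.single k 1)
    have h2 := hform y (Pi.single k 1)
    rw [hermForm_single_right hF] at h1 h2
    rw [← h1, ← h2, hxy']
  have hunit : IsUnit C := Matrix.mulVec_injective_iff_isUnit.mp hinj
  obtain ⟨c, hc⟩ := hunit
  refine ⟨c, fun g => ?_⟩
  have hcC : ∀ x : Fin n → F, (c : Matrix (Fin n) (Fin n) F) *ᵥ x = C *ᵥ x := by
    intro x; rw [hc]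
  have hconj : ∀ x : Fin n → F,
      C *ᵥ (((c⁻¹ * g * c : GL (Fin n) F) : Matrix (Fin n) (Fin n) F) *ᵥ x) =
        (g : Matrix (Fin n) (Fin n) F) *ᵥ (C *ᵥ x) := by
    intro x
    rw [← hcC, ← hcC, Matrix.mulVec_mulVec, Matrix.mulVec_mulVec, ← Units.val_mul, ← Units.val_mul]
    congr 2
    group
  have hsurj : ∀ v : Fin n → F, ∃ x : Fin n → F, C *ᵥ x = v := by
    intro v
    refine ⟨((c⁻¹ : GL (Fin n) F) : Matrix (Fin n) (Fin n) F) *ᵥ v, ?_⟩
    rw [← hcC, Matrix.mulVec_mulVec, ← Units.val_mul, mul_inv_cancel, Units.val_one,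
      Matrix.one_mulVec]
  constructor
  · rintro ⟨lam, hlam⟩
    refine ⟨lam, fun x y => ?_⟩
    rw [← hform, hconj, hconj, hlam, hform]
  · rintro ⟨lam, hlam⟩
    refine ⟨lam, fun v w => ?_⟩
    obtain ⟨x, rfl⟩ := hsurj v
    obtain ⟨y, rfl⟩ := hsurj w
    rw [← hconj, ← hconj, hform, hlam, hform]

end Cfsg.Agent.Helper37.USubR0
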