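import Mathlib
import Cfsg.Agent.Helper5.OmBN.Defs

/-!
# helper37: piece (R2-V) of helper5's S2549 farm (#11691): a block monomial matrix `n` or `s n`
conjugates the root group `X_k` of kind V (the Siegel elements `E_{e_k, w}`, `k + 1 = m`) into `B`.

`n⁻¹ E_{e,w} n - 1` is supported on the positions `(e', c)`, `(c, rev e')`, `(e', rev e')`, `c` in the
middle, `e' = π⁻¹ e`: block upper triangular iff `e'` is in the left outer part; otherwise replace `n` by
`s n`, whose permutation is `swap (lo k) (hi k) * π`.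
-/

set_option autoImplicit false
set_option linter.unusedVariables false

namespace Cfsg.Agent.Helper37.OmBN

open Matrix Cfsg.Agent.Helper5.OmBN

variable {F : Type*} [Field F] {m : ℕ} {α β : F}

theorem sg_eq_zero_of_row (e : Fin (2 * m + 2)) (w1 w2 : F) (i j : Fin (2 * m + 2)) (hij : i ≠ j)
    (hi : e ≠ i) (hi1 : c1 ≠ i) (hi2 : c2 ≠ i) : sgMat α β e w1 w2 i j = 0 := by
  rw [sgMat_apply]; simp [hij, hi, hi1, hi2]

theorem sg_eq_zero_of_col (e : Fin (2 * m + 2)) (w1 w2 : F) (i j : Fin (2 * m + 2)) (hij : i ≠ j)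
    (hj : Fin.rev e ≠ j) (hj1 : c1 ≠ j) (hj2 : c2 ≠ j) : sgMat α β e w1 w2 i j = 0 := by
  rw [sgMat_apply]; simp [hij, hj, hj1, hj2]

theorem sg_mid (e : Fin (2 * m + 2)) (he1 : e ≠ c1) (he2 : e ≠ c2) (w1 w2 : F)
    (i j : Fin (2 * m + 2)) (hi : i = c1 ∨ i = c2) (hj : j = c1 ∨ j = c2) :
    sgMat α β e w1 w2 i j = if i = j then 1 else 0 := by
  have h1 : ¬ e = i := by
    rcases hi with rfl | rfl
    · exact he1
    · exact he2
  have h2 : ¬ Fin.rev e = j := by
    intro h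
    rcases hj with rfl | rfl
    · apply he2; rw [← Fin.rev_rev e, h, rev_c1]
    · apply he1; rw [← Fin.rev_rev e, h, rev_c2]
  rw [sgMat_apply]; simp [h1, h2]

/-- the core: conjugating a Siegel element at `e` by a block monomial isometry whose permutation sends a
position of the left outer part to `e` -/
theorem siegel_conj_mem_Bsub (n : OG m α β) (π : Equiv.Perm (Fin (2 * m + 2))) (hπ1 : π c1 = c1)
    (hπ2 : π c2 = c2) (hπ : ∀ r s : Fin (2 * m + 2), pos r ≠ pos (π s) → mat n r s = 0)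
    (hπ' : ∀ r s : Fin (2 * m + 2), pos r ≠ pos (π⁻¹ s) → mat n⁻¹ r s = 0)
    (e : Fin (2 * m + 2)) (he1 : e ≠ c1) (he2 : e ≠ c2) (x : OG m α β) (w1 w2 : F)
    (hx : mat x = sgMat α β e w1 w2) (hlt : (π⁻¹ e).val < m) : n⁻¹ * x * n ∈ Bsub m α β := by
  set e' : Fin (2 * m + 2) := π⁻¹ e with he'
  have hpe : π e' = e := by rw [he']; simp
  have hpre : π (Fin.rev e') = Fin.rev e := by rw [mono_perm_rev n π hπ1 hπ2 hπ, hpe]
  have hpos_e' : pos e' < m := by
    unfold pos; rw [if_pos hlt]; exact hlt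
  have hpos_re' : m < pos (Fin.rev e') := by
    have := e'.2
    unfold pos; rw [val_rev]; split_ifs <;> omega
  have outer_of : ∀ r : Fin (2 * m + 2), r ≠ c1 → r ≠ c2 → c1 ≠ π r ∧ c2 ≠ π r := fun r h1 h2 =>
    ⟨(perm_ne_c1 π hπ1 r h1).symm, (perm_ne_c2 π hπ2 r h2).symm⟩
  have hM : mat (n⁻¹ * x * n) = mat n⁻¹ * sgMat α β e w1 w2 * mat n := by
    rw [mat_mul, mat_mul, hx]
  -- the entries of `n⁻¹ X`
  have hL_outer : ∀ r c : Fin (2 * m + 2), r ≠ c1 → r ≠ c2 →
      (mat n⁻¹ * sgMat α β e w1 w2) r c = mat n⁻¹ r (π r) * sgMat α β e w1 w2 (π r) c :=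
    fun r c h1 h2 => inv_mono_mul_apply n π hπ' _ r c h1 h2
  have hL_mid : ∀ r c : Fin (2 * m + 2), (r = c1 ∨ r = c2) →
      (mat n⁻¹ * sgMat α β e w1 w2) r c =
        mat n⁻¹ r c1 * sgMat α β e w1 w2 c1 c + mat n⁻¹ r c2 * sgMat α β e w1 w2 c2 c :=
    fun r c h => inv_mono_mul_apply_mid n π hπ1 hπ2 hπ' _ r c h
  rw [mem_Bsub_iff]
  constructor
  · intro r c hcr
    have hrc : r ≠ c := fun h => by rw [h] at hcr; exact lt_irrefl _ hcr
    rw [hM]
    by_cases hc : c = c1 ∨ c = c2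
    · -- middle column
      have hposc : pos c = m := (pos_eq_m_iff c).2 hc
      have hr : ¬ (r = c1 ∨ r = c2) := by
        intro h
        rw [(pos_eq_m_iff r).2 h, hposc] at hcr
        exact lt_irrefl _ hcr
      rw [not_or] at hr
      obtain ⟨hr1, hr2⟩ := hr
      obtain ⟨ho1, ho2⟩ := outer_of r hr1 hr2
      rw [mul_mono_apply_mid n π hπ1 hπ2 hπ _ r c hc, hL_outer r c1 hr1 hr2, hL_outer r c2 hr1 hr2]
      have hne : e ≠ π r := by
        intro h
        have : r = e' := π.injective (by rw [hpe, h])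
        rw [this, hposc] at hcr
        omega
      rw [sg_eq_zero_of_row e w1 w2 (π r) c1 ho1.symm hne ho1 ho2,
        sg_eq_zero_of_row e w1 w2 (π r) c2 ho2.symm hne ho1 ho2]
      ring
    · -- outer column
      rw [not_or] at hc
      obtain ⟨hc1, hc2⟩ := hc
      obtain ⟨hoc1, hoc2⟩ := outer_of c hc1 hc2
      rw [mul_mono_apply n π hπ1 hπ2 hπ _ r c hc1 hc2]
      by_cases hr : r = c1 ∨ r = c2
      · have hposr : pos r = m := (pos_eq_m_iff r).2 hr
        have hne : Fin.rev e ≠ π c := by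
          intro h
          have : c = Fin.rev e' := π.injective (by rw [hpre, h])
          rw [this, hposr] at hcr
          omega
        rw [hL_mid r (π c) hr, sg_eq_zero_of_col e w1 w2 c1 (π c) hoc1 hne hoc1 hoc2,
          sg_eq_zero_of_col e w1 w2 c2 (π c) hoc2 hne hoc1 hoc2]
        ring
      · rw [not_or] at hr
        obtain ⟨hr1, hr2⟩ := hr
        obtain ⟨ho1, ho2⟩ := outer_of r hr1 hr2
        rw [hL_outer r (π c) hr1 hr2]
        have hpne : π r ≠ π c := fun h => hrc (π.injective h)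
        have hz : sgMat α β e w1 w2 (π r) (π c) = 0 := by
          by_cases hne : e = π r
          · have hr' : r = e' := π.injective (by rw [hpe, hne])
            have hne2 : Fin.rev e ≠ π c := by
              intro h
              have : c = Fin.rev e' := π.injective (by rw [hpre, h])
              rw [this, hr'] at hcr
              omega
            exact sg_eq_zero_of_col e w1 w2 (π r) (π c) hpne hne2 hoc1 hoc2
          · exact sg_eq_zero_of_row e w1 w2 (π r) (π c) hpne hne ho1 ho2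
        rw [hz]; ring
  · -- the middle block is the identity
    have hmid : ∀ c c' : Fin (2 * m + 2), (c = c1 ∨ c = c2) → (c' = c1 ∨ c' = c2) →
        mat (n⁻¹ * x * n) c c' = if c = c' then 1 else 0 := by
      intro c c' hc hc'
      rw [hM, mul_mono_apply_mid n π hπ1 hπ2 hπ _ c c' hc', hL_mid c c1 hc, hL_mid c c2 hc,
        sg_mid e he1 he2 w1 w2 c1 c1 (Or.inl rfl) (Or.inl rfl),
        sg_mid e he1 he2 w1 w2 c2 c1 (Or.inr rfl) (Or.inl rfl),
        sg_mid e he1 he2 w1 w2 c1 c2 (Or.inl rfl) (Or.inr rfl),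
        sg_mid e he1 he2 w1 w2 c2 c2 (Or.inr rfl) (Or.inr rfl),
        if_pos rfl, if_pos rfl, if_neg c1_ne_c2, if_neg c1_ne_c2.symm]
      have h := mul_mono_apply_mid n π hπ1 hπ2 hπ (mat n⁻¹) c c' hc'
      rw [inv_mul_mat, Matrix.one_apply] at h
      rw [h]; ring
    unfold RotM
    rw [hmid c1 c2 (Or.inl rfl) (Or.inr rfl), hmid c2 c1 (Or.inr rfl) (Or.inl rfl),
      hmid c2 c2 (Or.inr rfl) (Or.inr rfl), hmid c1 c1 (Or.inl rfl) (Or.inl rfl),
      if_neg c1_ne_c2, if_neg c1_ne_c2.symm, if_pos rfl, if_pos rfl]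
    constructor <;> ring

/-- the representative of the reflection of kind V is an involution -/
theorem sVMat_mul_self_aux (α : F) (k : Fin m) :
    sVMat α k * sVMat α k = (1 : Matrix (Fin (2 * m + 2)) (Fin (2 * m + 2)) F) := by
  have hσ1 : Equiv.swap (lo k) (hi k) (c1 : Fin (2 * m + 2)) = c1 :=
    Equiv.swap_apply_of_ne_of_ne (lo_ne_c1 k).symm (hi_ne_c1 k).symm
  have hσ2 : Equiv.swap (lo k) (hi k) (c2 : Fin (2 * m + 2)) = c2 :=
    Equiv.swap_apply_of_ne_of_ne (lo_ne_c2 k).symm (hi_ne_c2 k).symm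
  ext r c
  rw [Matrix.mul_apply, Matrix.one_apply]
  by_cases hc : c = c2
  · subst hc
    have h1 : ∀ j : Fin (2 * m + 2), sVMat α k r j * sVMat α k j c2 =
        if j = c1 then sVMat α k r c1 * α else if j = c2 then sVMat α k r c2 * (-1) else 0 := by
      intro j
      rw [sVMat_apply α k j c2, if_pos rfl]
      split_ifs with h h' <;> simp [*]
    simp only [h1]
    rw [Finset.sum_eq_add c1 c2 c1_ne_c2]
    · rw [if_pos rfl, if_neg c1_ne_c2.symm, if_pos rfl, sVMat_apply α k r c1, if_neg c1_ne_c2,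
        hσ1, sVMat_apply α k r c2, if_pos rfl]
      by_cases hr1 : r = c1
      · rw [if_pos hr1, if_pos hr1, hr1, if_neg c1_ne_c2]; ring
      · rw [if_neg hr1, if_neg hr1]
        by_cases hr2 : r = c2
        · rw [if_pos hr2, if_pos hr2]; ring
        · rw [if_neg hr2, if_neg hr2]; ring
    · intro j _ hj
      rw [if_neg hj.1, if_neg hj.2]
    · intro h; exact absurd (Finset.mem_univ _) h
    · intro h; exact absurd (Finset.mem_univ _) h
  · have hσc : Equiv.swap (lo k) (hi k) c ≠ c2 := by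
      intro h
      apply hc
      rw [← hσ2] at h
      exact (Equiv.swap (lo k) (hi k)).injective h
    have h1 : ∀ j : Fin (2 * m + 2), sVMat α k r j * sVMat α k j c =
        if j = Equiv.swap (lo k) (hi k) c then sVMat α k r (Equiv.swap (lo k) (hi k) c) else 0 := by
      intro j
      rw [sVMat_apply α k j c, if_neg hc]
      split_ifs with h
      · rw [h, mul_one]
      · rw [mul_zero]
    simp only [h1]
    rw [Finset.sum_ite_eq' Finset.univ, if_pos (Finset.mem_univ _), sVMat_apply, if_neg hσc,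
      Equiv.swap_apply_self]

/-- the block monomial data of the representative of the reflection of kind V -/
theorem sV_mono (k : Fin m) (hk : k.val + 1 = m) (s : OG m α β) (hs : mat s = sMat α k) :
    Equiv.swap (lo k) (hi k) (c1 : Fin (2 * m + 2)) = c1 ∧
    Equiv.swap (lo k) (hi k) (c2 : Fin (2 * m + 2)) = c2 ∧
    (∀ r c : Fin (2 * m + 2), pos r ≠ pos (Equiv.swap (lo k) (hi k) c) → mat s r c = 0) ∧
    (∀ r c : Fin (2 * m + 2), pos r ≠ pos ((Equiv.swap (lo k) (hi k))⁻¹ c) → mat s⁻¹ r c = 0) := by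
  have hσ1 : Equiv.swap (lo k) (hi k) (c1 : Fin (2 * m + 2)) = c1 :=
    Equiv.swap_apply_of_ne_of_ne (lo_ne_c1 k).symm (hi_ne_c1 k).symm
  have hσ2 : Equiv.swap (lo k) (hi k) (c2 : Fin (2 * m + 2)) = c2 :=
    Equiv.swap_apply_of_ne_of_ne (lo_ne_c2 k).symm (hi_ne_c2 k).symm
  rw [sMat_of_eq α k hk] at hs
  have hsi : mat s⁻¹ = sVMat α k := by
    calc mat s⁻¹ = mat s⁻¹ * (mat s * sVMat α k) := by
          rw [hs, sVMat_mul_self_aux, Matrix.mul_one]
      _ = (mat s⁻¹ * mat s) * sVMat α k := by rw [Matrix.mul_assoc]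
      _ = sVMat α k := by rw [inv_mul_mat, Matrix.one_mul]
  have hz : ∀ r c : Fin (2 * m + 2), pos r ≠ pos (Equiv.swap (lo k) (hi k) c) →
      sVMat α k r c = 0 := by
    intro r c hrc
    rw [sVMat_apply]
    by_cases hc : c = c2
    · rw [if_pos hc]
      rw [hc, hσ2, pos_c2] at hrc
      have h1 : r ≠ c1 := fun h => hrc (by rw [h, pos_c1])
      have h2 : r ≠ c2 := fun h => hrc (by rw [h, pos_c2])
      rw [if_neg h1, if_neg h2]
    · rw [if_neg hc, if_neg]
      intro h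
      exact hrc (by rw [h])
  refine ⟨hσ1, hσ2, fun r c hrc => ?_, fun r c hrc => ?_⟩
  · rw [hs]; exact hz r c hrc
  · rw [hsi]
    apply hz r c
    rw [Equiv.swap_inv] at hrc
    exact hrc

/-- (R2-V) a block monomial matrix `n` or `s n` conjugates `X_k` into `B`, kind V -/
theorem conj_Xset_dichotomy_V (k : Fin m) (hk : k.val + 1 = m) (s : OG m α β)
    (hs : mat s = sMat α k) (n : OG m α β) (hn : n ∈ Mono1 m α β) :
    (∀ x ∈ Xset α β k, n⁻¹ * x * n ∈ Bsub m α β) ∨
      (∀ x ∈ Xset α β k, (s * n)⁻¹ * x * (s * n) ∈ Bsub m α β) := by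
  obtain ⟨π, hπ1, hπ2, hπ, hπ'⟩ := (mem_Mono1_iff n).1 hn
  by_cases hlt : (π⁻¹ (lo k)).val < m
  · left
    intro x hx
    rcases hx with ⟨hk', -⟩ | ⟨-, w1, w2, hx⟩
    · omega
    · exact siegel_conj_mem_Bsub n π hπ1 hπ2 hπ hπ' (lo k) (lo_ne_c1 k) (lo_ne_c2 k) x w1 w2 hx hlt
  · right
    intro x hx
    rcases hx with ⟨hk', -⟩ | ⟨-, w1, w2, hx⟩
    · omega
    obtain ⟨hσ1, hσ2, hσ, hσ'⟩ := sV_mono k hk s hs
    set σ : Equiv.Perm (Fin (2 * m + 2)) := Equiv.swap (lo k) (hi k) with hσdef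
    have hπi1 : π⁻¹ c1 = c1 := by rw [Equiv.Perm.inv_eq_iff_eq, hπ1]
    have hπi2 : π⁻¹ c2 = c2 := by rw [Equiv.Perm.inv_eq_iff_eq, hπ2]
    have hρ1 : (σ * π) c1 = c1 := by rw [Equiv.Perm.mul_apply, hπ1, hσ1]
    have hρ2 : (σ * π) c2 = c2 := by rw [Equiv.Perm.mul_apply, hπ2, hσ2]
    have hρ : ∀ r c : Fin (2 * m + 2), pos r ≠ pos ((σ * π) c) → mat (s * n) r c = 0 := by
      intro r c hrc
      rw [mat_mul]
      exact mono_mul_aux _ _ σ π hσ1 hσ2 hσ hπ r c hrc
    have hρ' : ∀ r c : Fin (2 * m + 2), pos r ≠ pos ((σ * π)⁻¹ c) → mat (s * n)⁻¹ r c = 0 := by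
      intro r c hrc
      rw [_root_.mul_inv_rev, mat_mul]
      apply mono_mul_aux _ _ π⁻¹ σ⁻¹ hπi1 hπi2 hπ' hσ' r c
      rw [_root_.mul_inv_rev] at hrc
      exact hrc
    apply siegel_conj_mem_Bsub (s * n) (σ * π) hρ1 hρ2 hρ hρ' (lo k) (lo_ne_c1 k) (lo_ne_c2 k) x
      w1 w2 hx
    -- the position sent to `lo k` is in the left outer part
    have e1 : (σ * π)⁻¹ (lo k) = π⁻¹ (hi k) := by
      rw [_root_.mul_inv_rev, Equiv.Perm.mul_apply, hσdef, Equiv.swap_inv, Equiv.swap_apply_left]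
    have e2 : π⁻¹ (hi k) = Fin.rev (π⁻¹ (lo k)) := by
      have h0 : π (π⁻¹ (lo k)) = lo k := by simp
      rw [Equiv.Perm.inv_eq_iff_eq, mono_perm_rev n π hπ1 hπ2 hπ, h0, rev_lo]
    rw [e1, e2, val_rev]
    have h1 : π⁻¹ (lo k) ≠ c1 := by
      intro h
      rw [Equiv.Perm.inv_eq_iff_eq, hπ1] at h
      exact lo_ne_c1 k h
    have h2 : π⁻¹ (lo k) ≠ c2 := by
      intro h
      rw [Equiv.Perm.inv_eq_iff_eq, hπ2] at h
      exact lo_ne_c2 k h
    rw [Ne, eq_iff_val_eq, val_c1] at h1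
    rw [Ne, eq_iff_val_eq, val_c2] at h2
    have := (π⁻¹ (lo k)).2
    omega

end Cfsg.Agent.Helper37.OmBN
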