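import Mathlib
import Cfsg.Agent.Helper5.OmBN.Defs

/-!
# helper37: piece (R3-I) of helper5's S2549 farm (#11691): the rank one relation `s x s⁻¹ ∈ B s X_k`
for the simple roots of kind I (`k + 1 < m`): `x = x_k(t)`, `x₂ = x_k(t⁻¹)`.

Port of helper33's `OpBNR3` to the layout with a two-dimensional middle block.
-/

set_option autoImplicit false
set_option linter.unusedVariables false

namespace Cfsg.Agent.Helper37.OmBN

open Matrix Cfsg.Agent.Helper5.OmBN

variable {F : Type*} [Field F] {m : ℕ} {α β : F}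

/-- right multiplication by a root element -/
theorem mul_xMat_apply (Y : Matrix (Fin (2 * m + 2)) (Fin (2 * m + 2)) F) (a b : Fin (2 * m + 2))
    (t : F) (i j : Fin (2 * m + 2)) :
    (Y * xMat a b t) i j = Y i j + (if b = j then Y i a * t else 0)
      - (if Fin.rev a = j then Y i (Fin.rev b) * t else 0) := by
  rw [Matrix.mul_apply]
  simp only [xMat_apply, mul_add, mul_sub, Finset.sum_add_distrib, Finset.sum_sub_distrib]
  congr 1
  · congr 1
    · simp
    · by_cases h : b = j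
      · simp [h]
      · simp [h]
  · by_cases h : Fin.rev a = j
    · simp [h]
    · simp [h]

/-- left multiplication by a permutation matrix -/
theorem pMat_mul_apply (π : Equiv.Perm (Fin (2 * m + 2)))
    (Y : Matrix (Fin (2 * m + 2)) (Fin (2 * m + 2)) F) (i j : Fin (2 * m + 2)) :
    ((pMat π : Matrix _ _ F) * Y) i j = Y (π⁻¹ i) j := by
  rw [Matrix.mul_apply]
  simp only [pMat_apply]
  rw [Finset.sum_eq_single (π⁻¹ i)]
  · rw [if_pos (by simp), one_mul]
  · intro c _ hc
    rw [if_neg, zero_mul]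
    intro h
    apply hc
    rw [h]
    simp
  · intro hh; exact absurd (Finset.mem_univ _) hh

/-- right multiplication by a permutation matrix -/
theorem mul_pMat_apply (π : Equiv.Perm (Fin (2 * m + 2)))
    (Y : Matrix (Fin (2 * m + 2)) (Fin (2 * m + 2)) F) (i j : Fin (2 * m + 2)) :
    (Y * (pMat π : Matrix _ _ F)) i j = Y i (π j) := by
  rw [Matrix.mul_apply]
  simp only [pMat_apply]
  rw [Finset.sum_eq_single (π j)]
  · rw [if_pos rfl, mul_one]
  · intro c _ hc
    rw [if_neg hc, mul_zero]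
  · intro hh; exact absurd (Finset.mem_univ _) hh

theorem rev_ne_self (r : Fin (2 * m + 2)) : Fin.rev r ≠ r := by
  intro h
  have := congrArg Fin.val h
  rw [val_rev] at this
  have := r.2
  omega

/-- `x_{ab}(-t) x_{ab}(t) = 1` -/
theorem xMat_neg_mul_aux (a b : Fin (2 * m + 2)) (hab : a ≠ b) (hab' : a ≠ Fin.rev b) (t : F) :
    xMat a b (-t) * xMat a b t = (1 : Matrix (Fin (2 * m + 2)) (Fin (2 * m + 2)) F) := by
  have h1 : b ≠ a := fun h => hab h.symm
  have h2 : Fin.rev a ≠ a := rev_ne_self a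
  have h3 : b ≠ Fin.rev b := fun h => rev_ne_self b h.symm
  have h4 : Fin.rev a ≠ Fin.rev b := fun h => hab (Fin.rev_injective h)
  set E : Matrix (Fin (2 * m + 2)) (Fin (2 * m + 2)) F := Matrix.single a b (1 : F) with hE
  set E' : Matrix (Fin (2 * m + 2)) (Fin (2 * m + 2)) F :=
    Matrix.single (Fin.rev b) (Fin.rev a) (1 : F) with hE'
  have e1 : E * E = 0 := Matrix.single_mul_single_of_ne (c := (1 : F)) a b a h1 (1 : F)
  have e2 : E * E' = 0 := Matrix.single_mul_single_of_ne (c := (1 : F)) a b (Fin.rev b) h3 (1 : F)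
  have e3 : E' * E = 0 :=
    Matrix.single_mul_single_of_ne (c := (1 : F)) (Fin.rev b) (Fin.rev a) a h2 (1 : F)
  have e4 : E' * E' = 0 :=
    Matrix.single_mul_single_of_ne (c := (1 : F)) (Fin.rev b) (Fin.rev a) (Fin.rev b) h4 (1 : F)
  have hx : ∀ u : F, xMat a b u = 1 + u • E - u • E' := fun u => rfl
  set N : Matrix (Fin (2 * m + 2)) (Fin (2 * m + 2)) F := t • E - t • E' with hN
  have hNN : N * N = 0 := by
    rw [hN]
    simp only [mul_sub, sub_mul, smul_mul_assoc, mul_smul_comm, e1, e2, e3, e4, smul_zero,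
      sub_self]
  have hp : xMat a b t = 1 + N := by rw [hx, hN]; abel
  have hm : xMat a b (-t) = 1 - N := by rw [hx, hN, neg_smul, neg_smul]; abel
  rw [hp, hm]
  calc (1 - N) * (1 + N) = 1 - N * N := by noncomm_ring
    _ = 1 := by rw [hNN, sub_zero]

/-- the inverse of a root element -/
theorem mat_inv_of_xMat (a b : Fin (2 * m + 2)) (hab : a ≠ b) (hab' : a ≠ Fin.rev b) (u : F)
    (x : OG m α β) (hx : mat x = xMat a b u) : mat x⁻¹ = xMat a b (-u) := by
  have h1 : xMat a b (-u) * mat x = 1 := by rw [hx]; exact xMat_neg_mul_aux a b hab hab' u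
  calc mat x⁻¹ = (xMat a b (-u) * mat x) * mat x⁻¹ := by rw [h1, Matrix.one_mul]
    _ = xMat a b (-u) * (mat x * mat x⁻¹) := by rw [Matrix.mul_assoc]
    _ = xMat a b (-u) := by rw [mul_inv_mat, Matrix.mul_one]

theorem sPerm_inv_apply (k : Fin m) (hk : k.val + 1 < m) (j : Fin (2 * m + 2)) :
    (sPerm k)⁻¹ j = sPerm k j := by
  rw [Equiv.Perm.inv_eq_iff_eq, sPerm_sPerm k hk]

/-- the inverse of the representative of a reflection of kind I -/
theorem mat_inv_of_sMat (k : Fin m) (hk : k.val + 1 < m) (s : OG m α β) (hs : mat s = sMat α k) :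
    mat s⁻¹ = pMat (sPerm k) := by
  rw [sMat_of_lt α k hk] at hs
  have hsq : (pMat (sPerm k) : Matrix _ _ F) * pMat (sPerm k) = 1 := by
    rw [pMat_mul]
    have : sPerm k * sPerm k = 1 := by
      ext j
      rw [Equiv.Perm.mul_apply, sPerm_sPerm k hk]
      rfl
    rw [this, pMat_one]
  calc mat s⁻¹ = mat s⁻¹ * (mat s * pMat (sPerm k)) := by rw [hs, hsq, Matrix.mul_one]
    _ = (mat s⁻¹ * mat s) * pMat (sPerm k) := by rw [Matrix.mul_assoc]
    _ = pMat (sPerm k) := by rw [inv_mul_mat, Matrix.one_mul]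

/-- conjugation by `s` permutes the entries -/
theorem s_conj_apply (k : Fin m) (hk : k.val + 1 < m) (s : OG m α β) (hs : mat s = sMat α k)
    (y : OG m α β) (i j : Fin (2 * m + 2)) :
    mat (s * y * s⁻¹) i j = mat y (sPerm k i) (sPerm k j) := by
  rw [mat_mul, mat_mul, mat_inv_of_sMat k hk s hs, hs, sMat_of_lt α k hk, mul_pMat_apply,
    pMat_mul_apply, sPerm_inv_apply k hk]

theorem sPerm_lo (k : Fin m) (hk : k.val + 1 < m) : sPerm k (lo k) = ib k := by
  apply Fin.ext
  rw [val_sPerm k hk, val_lo, val_ib]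
  split_ifs <;> omega

theorem sPerm_rev_ib (k : Fin m) (hk : k.val + 1 < m) :
    sPerm k (Fin.rev (ib k)) = Fin.rev (lo k) := by
  apply Fin.ext
  rw [val_sPerm k hk, val_rev, val_rev, val_lo, val_ib]
  split_ifs <;> omega

/-- (R3-I) the rank one relation `s x s⁻¹ ∈ B s X_k`, kind I: `x = x_k(t)`, `x₂ = x_k(t⁻¹)` -/
theorem rank_one_I (hXI : HasXI m α β) (k : Fin m) (hk : k.val + 1 < m) (s : OG m α β)
    (hs : mat s = sMat α k) (x : OG m α β) (hx : x ∈ Xset α β k) (hx1 : x ≠ 1) :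
    ∃ b₁ ∈ Bsub m α β, ∃ x₂ ∈ Xset α β k, s * x * s⁻¹ = b₁ * s * x₂ := by
  have hkm := k.2
  rcases hx with ⟨-, t, ht⟩ | ⟨hk', -⟩
  swap
  · omega
  have hne1 : lo k ≠ ib k := by
    intro h; have := congrArg Fin.val h; rw [val_lo, val_ib] at this; omega
  have hne2 : lo k ≠ Fin.rev (ib k) := by
    intro h; have := congrArg Fin.val h; rw [val_rev, val_lo, val_ib] at this; omega
  have hb1 : ib k ≠ c1 := by
    intro h; have := congrArg Fin.val h; rw [val_ib, val_c1] at this; omega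
  have hb2 : ib k ≠ c2 := by
    intro h; have := congrArg Fin.val h; rw [val_ib, val_c2] at this; omega
  have ht0 : t ≠ 0 := by
    intro h0
    apply hx1
    apply mat_injective
    rw [ht, h0, mat_one]
    unfold xMat
    simp
  obtain ⟨x₂, hx₂⟩ := hXI (lo k) (ib k) (lo_ne_c1 k) (lo_ne_c2 k) hb1 hb2 hne1 hne2 t⁻¹
  refine ⟨s * x * s⁻¹ * x₂⁻¹ * s⁻¹, ?_, x₂, Or.inl ⟨hk, t⁻¹, hx₂⟩, by group⟩
  have hinv := mat_inv_of_xMat (α := α) (β := β) (lo k) (ib k) hne1 hne2 t⁻¹ x₂ hx₂
  have key : ∀ i j : Fin (2 * m + 2), mat (s * x * s⁻¹ * x₂⁻¹ * s⁻¹) i j =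
      xMat (lo k) (ib k) t (sPerm k i) j
        + (if ib k = sPerm k j then xMat (lo k) (ib k) t (sPerm k i) (ib k) * (-t⁻¹) else 0)
        - (if Fin.rev (lo k) = sPerm k j then
            xMat (lo k) (ib k) t (sPerm k i) (Fin.rev (lo k)) * (-t⁻¹) else 0) := by
    intro i j
    rw [mat_mul _ s⁻¹, mat_inv_of_sMat k hk s hs, mul_pMat_apply, mat_mul _ x₂⁻¹, hinv,
      mul_xMat_apply]
    have hC : ∀ l, mat (s * x * s⁻¹) i l = xMat (lo k) (ib k) t (sPerm k i) (sPerm k l) := by
      intro l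
      rw [s_conj_apply k hk s hs, ht]
    rw [hC, hC, hC, sPerm_sPerm k hk, sPerm_lo k hk, sPerm_rev_ib k hk]
  have htu : t * t⁻¹ = 1 := mul_inv_cancel₀ ht0
  -- the four special positions
  have hab : lo k ≠ ib k := hne1
  have hab' : lo k ≠ Fin.rev (ib k) := hne2
  have haa' : lo k ≠ Fin.rev (lo k) := (rev_ne_self _).symm
  have hbb' : ib k ≠ Fin.rev (ib k) := (rev_ne_self _).symm
  have hba' : ib k ≠ Fin.rev (lo k) := by
    intro h; have := congrArg Fin.val h; rw [val_rev, val_lo, val_ib] at this; omega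
  have hb'a' : Fin.rev (ib k) ≠ Fin.rev (lo k) := by
    intro h; exact hab (Fin.rev_injective h).symm
  have hpb : sPerm k (ib k) = lo k := by
    rw [← sPerm_lo k hk, sPerm_sPerm k hk]
  have hpa' : sPerm k (Fin.rev (lo k)) = Fin.rev (ib k) := by
    rw [← sPerm_rev_ib k hk, sPerm_sPerm k hk]
  have hva : (lo k).val = k.val := val_lo k
  have hvb : (ib k).val = k.val + 1 := val_ib k
  have hvb' : (Fin.rev (ib k)).val = 2 * m - k.val := by rw [val_rev, val_ib]; omega
  have hva' : (Fin.rev (lo k)).val = 2 * m + 1 - k.val := by rw [val_rev, val_lo]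
  have hgen : ∀ l : Fin (2 * m + 2), l ≠ lo k → l ≠ ib k → l ≠ Fin.rev (ib k) →
      l ≠ Fin.rev (lo k) → sPerm k l = l := by
    intro l h1 h2 h3 h4
    have h1' : l.val ≠ k.val := fun h => h1 (Fin.ext (by rw [val_lo]; exact h))
    have h2' : l.val ≠ k.val + 1 := fun h => h2 (Fin.ext (by rw [val_ib]; exact h))
    have h3' : l.val ≠ 2 * m - k.val := fun h => h3 (Fin.ext (by rw [hvb']; exact h))
    have h4' : l.val ≠ 2 * m + 1 - k.val := fun h => h4 (Fin.ext (by rw [hva']; exact h))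
    apply Fin.ext
    rw [val_sPerm k hk, if_neg h1', if_neg h2', if_neg h3', if_neg h4']
  have hcases : ∀ l : Fin (2 * m + 2), l = lo k ∨ l = ib k ∨ l = Fin.rev (ib k) ∨
      l = Fin.rev (lo k) ∨ (l ≠ lo k ∧ l ≠ ib k ∧ l ≠ Fin.rev (ib k) ∧ l ≠ Fin.rev (lo k)) := by
    intro l
    by_cases h1 : l = lo k
    · exact Or.inl h1
    by_cases h2 : l = ib k
    · exact Or.inr (Or.inl h2)
    by_cases h3 : l = Fin.rev (ib k)
    · exact Or.inr (Or.inr (Or.inl h3))
    by_cases h4 : l = Fin.rev (lo k)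
    · exact Or.inr (Or.inr (Or.inr (Or.inl h4)))
    exact Or.inr (Or.inr (Or.inr (Or.inr ⟨h1, h2, h3, h4⟩)))
  -- the blocks of the special positions
  have hpa : pos (lo k) = k.val := pos_lo k
  have hpbk : pos (ib k) = k.val + 1 := by
    unfold pos; rw [hvb, if_pos (by omega)]
  have hpb' : pos (Fin.rev (ib k)) = 2 * m - k.val - 1 := by
    unfold pos; rw [hvb']; split_ifs <;> omega
  have hpa'' : pos (Fin.rev (lo k)) = 2 * m - k.val := by
    unfold pos; rw [hva']; split_ifs <;> omega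
  -- the middle positions are not special
  have hc1 : ∀ c : Fin (2 * m + 2), (c = c1 ∨ c = c2) →
      c ≠ lo k ∧ c ≠ ib k ∧ c ≠ Fin.rev (ib k) ∧ c ≠ Fin.rev (lo k) := by
    intro c hc
    have hv : c.val = m ∨ c.val = m + 1 := by
      rcases hc with rfl | rfl
      · left; exact val_c1
      · right; exact val_c2
    refine ⟨?_, ?_, ?_, ?_⟩ <;> intro h <;> have h' := congrArg Fin.val h
    · rw [hva] at h'; omega
    · rw [hvb] at h'; omega
    · rw [hvb'] at h'; omega
    · rw [hva'] at h'; omega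
  rw [mem_Bsub_iff]
  constructor
  · intro i j hji
    rw [key]
    have hij : i ≠ j := fun h => by rw [h] at hji; exact lt_irrefl _ hji
    rcases hcases i with hi | hi | hi | hi | ⟨hi1, hi2, hi3, hi4⟩ <;>
    rcases hcases j with hj | hj | hj | hj | ⟨hj1, hj2, hj3, hj4⟩
    all_goals first
      | (exfalso; rw [hi, hj] at hji; omega)
      | skip
    all_goals
      try (have hpi := hgen i hi1 hi2 hi3 hi4)
      try (have hpj := hgen j hj1 hj2 hj3 hj4)
      try (have hi1' := hi1.symm; have hi2' := hi2.symm; have hi3' := hi3.symm; have hi4' := hi4.symm)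
      try (have hj1' := hj1.symm; have hj2' := hj2.symm; have hj3' := hj3.symm; have hj4' := hj4.symm)
      try (subst hi)
      try (subst hj)
      simp [xMat_apply, *, sPerm_lo, sPerm_rev_ib, hab.symm, hab'.symm, haa'.symm, hbb'.symm,
        hba'.symm, hb'a'.symm, hij.symm]
  · -- the middle block is the identity
    have hmid : ∀ c c' : Fin (2 * m + 2), (c = c1 ∨ c = c2) → (c' = c1 ∨ c' = c2) →
        mat (s * x * s⁻¹ * x₂⁻¹ * s⁻¹) c c' = if c = c' then 1 else 0 := by
      intro c c' hc hc'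
      obtain ⟨h1, h2, h3, h4⟩ := hc1 c hc
      obtain ⟨h1', h2', h3', h4'⟩ := hc1 c' hc'
      rw [key, hgen c h1 h2 h3 h4, hgen c' h1' h2' h3' h4']
      simp [xMat_apply, h1.symm, h3.symm, h2'.symm, h4'.symm]
    unfold RotM
    rw [hmid c1 c2 (Or.inl rfl) (Or.inr rfl), hmid c2 c1 (Or.inr rfl) (Or.inl rfl),
      hmid c2 c2 (Or.inr rfl) (Or.inr rfl), hmid c1 c1 (Or.inl rfl) (Or.inl rfl),
      if_neg c1_ne_c2, if_neg c1_ne_c2.symm, if_pos rfl, if_pos rfl]
    constructor <;> ring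

end Cfsg.Agent.Helper37.OmBN
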