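import Mathlib
import Cfsg.Agent.Helper13.USubDefs
import Cfsg.Agent.Helper13.Herm
import Cfsg.Agent.Helper13.UGen1

/-!
# (UK2), (UK2c), (UK2d) of S5982: similitudes of the standard hermitian form are scalar multiples of
isometries
-/

set_option autoImplicit false

namespace Cfsg.Agent.Helper37.USubUK2

open Matrix Cfsg Cfsg.Geo
open Cfsg.Agent.Helper13.USub Cfsg.Agent.Helper13

variable {F : Type*} [Field F] {n : ℕ}

theorem mem_GU_iff (q₀ : ℕ) (u : GL (Fin n) F) :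
    u ∈ Cfsg.GU n F q₀ ↔ ∀ x y : Fin n → F,
      Cfsg.hermForm n F q₀ ((u : Matrix (Fin n) (Fin n) F) *ᵥ x)
        ((u : Matrix (Fin n) (Fin n) F) *ᵥ y) = Cfsg.hermForm n F q₀ x y := Iff.rfl

theorem hermForm_smul_smul (q₀ : ℕ) (c : F) (a b : Fin n → F) :
    Cfsg.hermForm n F q₀ (c • a) (c • b) = c ^ (q₀ + 1) * Cfsg.hermForm n F q₀ a b := by
  rw [hermForm_smul_left, hermForm_smul_right, pow_succ]
  ring

theorem hermForm_single_single (q₀ : ℕ) (i : Fin n) :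
    Cfsg.hermForm n F q₀ (Pi.single i 1) (Pi.single i 1) = 1 := by
  rw [hermForm_single_left, Pi.single_eq_same, one_pow]

/-- (UK2d) a norm-one scalar multiple of an isometry is an isometry -/
theorem smul_mem_GU [Fintype F] (q₀ : ℕ) (hF : Fintype.card F = q₀ ^ 2)
    (u v : GL (Fin n) F) (hu : u ∈ Cfsg.GU n F q₀) (c : F) (hc : c ^ (q₀ + 1) = 1)
    (hv : (v : Matrix (Fin n) (Fin n) F) = c • (u : Matrix (Fin n) (Fin n) F)) :
    v ∈ Cfsg.GU n F q₀ := by
  rw [mem_GU_iff] at hu ⊢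
  intro x y
  rw [hv, Matrix.smul_mulVec, Matrix.smul_mulVec, hermForm_smul_smul, hc, one_mul, hu]

/-- (UK2c) a scalar isometry has norm one -/
theorem norm_eq_one_of_smul_mem_GU [Fintype F] (q₀ : ℕ) (hF : Fintype.card F = q₀ ^ 2)
    (hn : 0 < n) (u : GL (Fin n) F) (hu : u ∈ Cfsg.GU n F q₀) (c : F)
    (hc : (u : Matrix (Fin n) (Fin n) F) = c • (1 : Matrix (Fin n) (Fin n) F)) :
    c ^ (q₀ + 1) = 1 := by
  rw [mem_GU_iff] at hu
  have h := hu (Pi.single ⟨0, hn⟩ 1) (Pi.single ⟨0, hn⟩ 1)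
  rw [hc, Matrix.smul_mulVec, Matrix.one_mulVec, hermForm_smul_smul, hermForm_single_single,
    mul_one] at h
  exact h

/-- (UK2) a similitude of the standard form is a scalar times an isometry -/
theorem exists_smul_GU_of_mem_sim [Fintype F] (q₀ : ℕ) (hF : Fintype.card F = q₀ ^ 2)
    (hn : 0 < n) (y : GL (Fin n) F) (h : y ∈ SimH n F q₀) :
    ∃ (lam : F) (u : GL (Fin n) F), lam ≠ 0 ∧ u ∈ Cfsg.GU n F q₀ ∧
      (y : Matrix (Fin n) (Fin n) F) = lam • (u : Matrix (Fin n) (Fin n) F) := by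
  obtain ⟨c, hc⟩ := h
  -- the multiplier is fixed by the Frobenius
  have hcfix : (c : F) ^ q₀ = c := by
    have h1 := hc (Pi.single ⟨0, hn⟩ 1) (Pi.single ⟨0, hn⟩ 1)
    rw [hermForm_single_single, mul_one] at h1
    rw [← h1, hermForm_conj hF]
  obtain ⟨l, hl⟩ := exists_norm_eq_of_fixed hF hcfix
  have hl0 : l ≠ 0 := by
    rintro rfl
    rw [zero_mul] at hl
    exact c.ne_zero hl.symm
  set lu : Fˣ := Units.mk0 l hl0 with hlu
  refine ⟨l, Matrix.GeneralLinearGroup.scalar (Fin n) lu⁻¹ * y, hl0, ?_, ?_⟩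
  · rw [mem_GU_iff]
    intro a b
    have hcoe : ((Matrix.GeneralLinearGroup.scalar (Fin n) lu⁻¹ * y : GL (Fin n) F) :
        Matrix (Fin n) (Fin n) F) = l⁻¹ • (y : Matrix (Fin n) (Fin n) F) := by
      rw [Units.val_mul, Matrix.GeneralLinearGroup.coe_scalar, Matrix.scalar_apply,
        ← Matrix.smul_eq_diagonal_mul]
      rfl
    rw [hcoe, Matrix.smul_mulVec, Matrix.smul_mulVec, hermForm_smul_smul, hc, ← mul_assoc]
    have h2 : l⁻¹ ^ (q₀ + 1) * (c : F) = 1 := by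
      rw [← hl, inv_pow, pow_succ]
      field_simp
    rw [h2, one_mul]
  · rw [Units.val_mul, Matrix.GeneralLinearGroup.coe_scalar, Matrix.scalar_apply,
      ← Matrix.smul_eq_diagonal_mul, smul_smul]
    have : l * ((lu⁻¹ : Fˣ) : F) = 1 := by
      rw [Units.val_inv_eq_inv_val, hlu, Units.val_mk0, mul_inv_cancel₀ hl0]
    rw [this, one_smul]

end Cfsg.Agent.Helper37.USubUK2
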