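import Mathlib
import Cfsg.Agent.Helper69.Bhm2
import Cfsg.Agent.S4035

/-!
# (L3) of S4321: the dichotomy in the centralizer of a `p`-element
-/

set_option autoImplicit false
set_option linter.unusedSectionVars false
set_option linter.style.haveILetI false

namespace Cfsg.Agent.Helper37.PSG

open Subgroup Cfsg.Agent.Helper69.Bhm

/-- Size of a conjugacy class as the index of a centralizer. -/
theorem l3_ncard_carrier_eq_index {H : Type*} [Group H] (x : H) :
    (ConjClasses.mk x).carrier.ncard = (Subgroup.centralizer ({x} : Set H)).index := by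
  rw [← ConjAct.orbit_eq_carrier_conjClasses, ← MulAction.index_stabilizer]
  have h : MulAction.stabilizer (ConjAct H) x =
      (Subgroup.centralizer ({x} : Set H)).comap (ConjAct.ofConjAct (G := H)).toMonoidHom := by
    ext g
    simp only [MulAction.mem_stabilizer_iff, Subgroup.mem_comap, Subgroup.mem_centralizer_iff,
      Set.mem_singleton_iff, forall_eq, ConjAct.smul_def, MulEquiv.coe_toMonoidHom]
    constructor
    · intro h
      rw [mul_inv_eq_iff_eq_mul] at h
      exact h.symm
    · intro h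
      rw [mul_inv_eq_iff_eq_mul]
      exact h.symm
  rw [h, Subgroup.index_comap_of_surjective _ (ConjAct.ofConjAct (G := H)).surjective]

/-- If `x`, `y` commute and have coprime orders then `x` is a power of `x * y`. -/
theorem l3_mem_zpowers_mul_of_coprime {H : Type*} [Group H] {x y : H} (hxy : x * y = y * x)
    (hcop : (orderOf x).Coprime (orderOf y)) : x ∈ Subgroup.zpowers (x * y) := by
  have hb := Nat.gcd_eq_gcd_ab (orderOf y) (orderOf x)
  rw [hcop.symm.gcd_eq_one] at hb
  have h1 : (x * y) ^ (orderOf y) = x ^ (orderOf y) := by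
    rw [(show Commute x y from hxy).mul_pow, pow_orderOf_eq_one, mul_one]
  have h2 : x = ((x * y) ^ (orderOf y)) ^ (Nat.gcdA (orderOf y) (orderOf x)) := by
    rw [h1]
    have h3 : x ^ ((orderOf x : ℤ) * Nat.gcdB (orderOf y) (orderOf x)) = 1 := by
      rw [zpow_mul, zpow_natCast, pow_orderOf_eq_one, one_zpow]
    calc x = x ^ ((1 : ℕ) : ℤ) := by simp
      _ = x ^ ((orderOf y : ℤ) * Nat.gcdA (orderOf y) (orderOf x)
            + (orderOf x : ℤ) * Nat.gcdB (orderOf y) (orderOf x)) := by rw [hb]
      _ = (x ^ (orderOf y)) ^ (Nat.gcdA (orderOf y) (orderOf x)) := by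
          rw [zpow_add, h3, mul_one, zpow_mul, zpow_natCast]
  have h4 : ((x * y) ^ (orderOf y)) ^ (Nat.gcdA (orderOf y) (orderOf x)) ∈
      Subgroup.zpowers (x * y) :=
    Subgroup.zpow_mem _ (Subgroup.pow_mem _ (Subgroup.mem_zpowers (x * y)) _) _
  rwa [← h2] at h4

variable {G : Type*} [Group G] [Finite G]

/-- for commuting elements of coprime orders the centralizer of the product is the intersection -/
theorem l3_cz_mul_eq {v w : G} (hvw : Commute v w) (hcop : (orderOf v).Coprime (orderOf w)) :
    cz (v * w) = cz v ⊓ cz w := by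
  apply le_antisymm
  · apply le_inf
    · exact cz_le_of_mem_zpowers (l3_mem_zpowers_mul_of_coprime hvw.eq hcop)
    · have h1 : w ∈ Subgroup.zpowers (w * v) :=
        l3_mem_zpowers_mul_of_coprime hvw.eq.symm hcop.symm
      rw [← hvw.eq] at h1
      exact cz_le_of_mem_zpowers h1
  · exact cz_inf_le_cz_mul v w

/-- the class size of `v * w` -/
theorem l3_ci_mul_eq {v w : G} (hvw : Commute v w) (hcop : (orderOf v).Coprime (orderOf w)) :
    ci (v * w) = (cz w).relIndex (cz v) * ci v := by
  unfold ci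
  rw [l3_cz_mul_eq hvw hcop, ← Subgroup.relIndex_mul_index (inf_le_left : cz v ⊓ cz w ≤ cz v),
    inf_comm, Subgroup.inf_relIndex_right]

/-- the centralizer of an element of a subgroup, inside the subgroup -/
theorem l3_centralizer_subtype (L : Subgroup G) (w : L) :
    Subgroup.centralizer ({w} : Set L) = (cz (w : G)).subgroupOf L := by
  ext y
  rw [Subgroup.mem_centralizer_singleton_iff, Subgroup.mem_subgroupOf, mem_cz_iff]
  constructor
  · intro h
    have := congrArg Subtype.val h
    simpa using this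
  · intro h
    apply Subtype.ext
    simpa using h

/-- an element of order prime to `p` lies in every normal subgroup of `p`-power index -/
theorem l3_mem_of_index_pow {L : Type*} [Group L] [Finite L] {p : ℕ} (hp : p.Prime)
    (H : Subgroup L) [H.Normal] {j : ℕ} (hj : H.index = p ^ j) (w : L)
    (hw : (orderOf w).Coprime p) : w ∈ H := by
  have h1 : w ^ H.index ∈ H := Subgroup.pow_index_mem H w
  rw [hj] at h1
  have hcop : (p ^ j).Coprime (orderOf w) := (Nat.Coprime.pow_right j hw).symm
  obtain ⟨m, hm⟩ := exists_pow_eq_self_of_coprime hcop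
  rw [← hm]
  exact Subgroup.pow_mem _ h1 m

/-- (L3) Dichotomy in `C_G(v)`. -/
theorem centralizer_dichotomy {p : ℕ} [Fact p.Prime] {v : G} (hv : ∃ k : ℕ, orderOf v = p ^ k)
    (hcv : ¬ p ∣ ci v) :
    (∃ w : G, Commute v w ∧ (orderOf w).Coprime p ∧ p ∣ ci (v * w)) ∨
    (∀ P : Sylow p G, (P : Subgroup G) ≤ cz v →
      cz v ≤ normalizer ((P : Subgroup G) : Set G) ∧
      ∀ w : G, Commute v w → (orderOf w).Coprime p → (P : Subgroup G) ≤ cz w) := by
  have hp : p.Prime := Fact.out
  by_cases hex : ∃ w : G, Commute v w ∧ (orderOf w).Coprime p ∧ p ∣ ci (v * w)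
  · exact Or.inl hex
  right
  push Not at hex
  obtain ⟨k, hk⟩ := hv
  -- the hypothesis of S4035 in `L = C_G(v)`
  have hL : ∀ x : cz v, (orderOf x).Coprime p → ¬ p ∣ (ConjClasses.mk x).carrier.ncard := by
    intro x hx hdvd
    rw [l3_ncard_carrier_eq_index, l3_centralizer_subtype] at hdvd
    have hxo : orderOf (x : G) = orderOf x := Subgroup.orderOf_coe x
    have hvx : Commute v (x : G) := (mem_cz_iff.mp x.2).symm
    have hcop : (orderOf v).Coprime (orderOf (x : G)) := by
      rw [hk, hxo]
      exact Nat.Coprime.pow_left k hx.symm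
    apply hex (x : G) hvx (by rw [hxo]; exact hx)
    rw [l3_ci_mul_eq hvx hcop]
    exact Dvd.dvd.mul_right hdvd _
  intro P hP
  obtain ⟨hPn, H, hHn, hHp, hinf, hsup⟩ := Cfsg.Agent.S4035.result hL (P.subtype hP)
  rw [Sylow.coe_subtype] at hPn hinf hsup
  refine ⟨(Subgroup.normal_subgroupOf_iff_le_normalizer hP).mp hPn, ?_⟩
  intro w hvw hw
  haveI := hHn
  haveI := hPn
  -- the index of `H` is a power of `p`
  have hidx : ∃ j : ℕ, H.index = p ^ j := by
    have h1 : H.relIndex (((P : Subgroup G).subgroupOf (cz v)) ⊔ H) =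
        H.relIndex ((P : Subgroup G).subgroupOf (cz v)) := Subgroup.relIndex_sup_right _ _
    rw [hsup, Subgroup.relIndex_top_right] at h1
    have h2 : H.relIndex ((P : Subgroup G).subgroupOf (cz v)) ∣
        Nat.card ((P : Subgroup G).subgroupOf (cz v)) := Subgroup.relIndex_dvd_card _ _
    have h3 : IsPGroup p ((P : Subgroup G).subgroupOf (cz v)) :=
      P.isPGroup'.comap_subtype
    obtain ⟨n, hn⟩ := IsPGroup.iff_card.mp h3
    rw [hn, ← h1] at h2
    obtain ⟨j, -, hj⟩ := (Nat.dvd_prime_pow hp).mp h2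
    exact ⟨j, hj⟩
  obtain ⟨j, hj⟩ := hidx
  have hwL : w ∈ cz v := mem_cz_iff.mpr hvw.eq.symm
  have hwo : orderOf (⟨w, hwL⟩ : cz v) = orderOf w := (Subgroup.orderOf_mk w hwL)
  have hwH : (⟨w, hwL⟩ : cz v) ∈ H := l3_mem_of_index_pow hp H hj _ (by rw [hwo]; exact hw)
  have hdisj : Disjoint ((P : Subgroup G).subgroupOf (cz v)) H := disjoint_iff.mpr hinf
  intro y hy
  have hyL : y ∈ cz v := hP hy
  have hyP : (⟨y, hyL⟩ : cz v) ∈ (P : Subgroup G).subgroupOf (cz v) := by
    rw [Subgroup.mem_subgroupOf]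
    exact hy
  have hc := Subgroup.commute_of_normal_of_disjoint _ _ hPn hHn hdisj _ _ hyP hwH
  rw [mem_cz_iff]
  have := congrArg Subtype.val hc.eq
  simpa using this

end Cfsg.Agent.Helper37.PSG
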