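import Cfsg.Agent.Helper37.BT97C4a
import Cfsg.Agent.Helper78.Kernel
import Cfsg.Agent.Helper79.Linear

/-!
# (C4) of #8209 for helper16's S0997: the degree of the exceptional characters
-/

set_option autoImplicit false

namespace Cfsg.Agent.Helper37.BT97

open Cfsg Cfsg.Agent.Helper16 Cfsg.Agent.Helper16.DefOne Cfsg.Agent.Helper82.DefOne
  Cfsg.Agent.Helper77.DefOne Cfsg.Agent.Helper16.Brauer43 Cfsg.Agent.Helper54.BT
open scoped ComplexConjugate

universe u

/-- a nonprincipal irreducible character of a simple group is faithful (local form of (C10)) -/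
theorem faithful_of_simple_aux {G : Type u} [Group G] [Finite G] [IsSimpleGroup G]
    (ψ : IrrCharacter G)
    (hne : ψ ≠ Cfsg.Agent.Helper79.principalIrr G) (g : G)
    (hg : (ψ : G → ℂ) g = (ψ : G → ℂ) 1) : g = 1 := by
  obtain ⟨χ, n, ρ, hρ, rfl⟩ := ψ
  have hK : (MonoidHom.ker ρ).Normal := MonoidHom.normal_ker ρ
  rcases hK.eq_bot_or_eq_top with h | h
  · have h1 : ρ g = 1 := Cfsg.Agent.Helper78.rep_eq_one_of_character_eq ρ g hg
    have h2 : g ∈ MonoidHom.ker ρ := MonoidHom.mem_ker.2 h1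
    rw [h] at h2
    exact Subgroup.mem_bot.1 h2
  · exfalso
    apply hne
    have hall : ∀ x : G, ρ x = 1 := by
      intro x
      have : x ∈ MonoidHom.ker ρ := by rw [h]; exact Subgroup.mem_top x
      exact MonoidHom.mem_ker.1 this
    have hfr := Cfsg.Agent.Helper78.finrank_eq_one_of_forall_eq_one ρ hall
    apply Subtype.ext
    funext x
    show ρ.character x = 1
    unfold Representation.character
    rw [hall x, LinearMap.trace_one, hfr]
    simp

variable {G : Type u} [Group G] [Fintype G] {p : ℕ} [Fact p.Prime]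
  (P : Sylow p G) [Fintype (P : Subgroup G)] (D : L0Data P)

/-- (C4) the degree of the exceptional characters -/
theorem deg_Y_main [IsSimpleGroup G] (hP : Nat.card P = p) (hC : cen P = (P : Subgroup G))
    (hperf : commutator G = ⊤) (q b g₀ : ℕ) (hq : q.Prime) (hg1 : 1 ≤ g₀)
    (hes : (cen P).relIndex (nor P) * (nor P).index = q ^ b * g₀) (hg : g₀ < p - 1)
    (hone : Helper79.principalIrr G ∈ D.X ∧ D.ε (Helper79.principalIrr G) = 1)
    (hdiv : ∀ χ ∈ D.X, χ ≠ Helper79.principalIrr G → q ∣ charDegree (χ : G → ℂ))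
    (ψ : IrrCharacter G) (hψ : ψ ∈ D.Y) :
    2 * (cen P).relIndex (nor P) ≤ p - 1 ∧ g₀ = charDegree (ψ : G → ℂ) ∧
      2 ≤ charDegree (ψ : G → ℂ) ∧
      D.δ * (charDegree (ψ : G → ℂ) : ℤ) ≡ 1 [ZMOD q] ∧
      ((D.δ = 1 ∧ charDegree (ψ : G → ℂ) = (cen P).relIndex (nor P) ∧
          p = 2 * (cen P).relIndex (nor P) + 1) ∨
       (D.δ = -1 ∧ charDegree (ψ : G → ℂ) + (cen P).relIndex (nor P) = p)) := by
  have hne : ψ ≠ Cfsg.Agent.Helper79.principalIrr G := by
    intro h
    rw [h] at hψ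
    exact Set.disjoint_left.mp D.hdisj hone.1 hψ
  exact deg_Y_main_of_faithful P D hP hC hperf q b g₀ hq hg1 hes hg hone hdiv ψ hψ
    (faithful_of_simple_aux ψ hne)

end Cfsg.Agent.Helper37.BT97
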