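import Cfsg.Agent.Helper37.BT97C6a
import Cfsg.Agent.Helper77.BT97C1

/-!
# (C6) of #8209 for helper16's S0997: the strong congruence for a `q`-block that avoids `Y`
-/

set_option autoImplicit false

namespace Cfsg.Agent.Helper37.BT97

open Cfsg Cfsg.Agent.Helper16 Cfsg.Agent.Helper16.DefOne Cfsg.Agent.Helper82.DefOne
  Cfsg.Agent.Helper77.DefOne Cfsg.Agent.Helper16.Brauer43 Cfsg.Agent.Helper54.BT
open scoped ComplexConjugate

universe u

variable {G : Type u} [Group G] [Fintype G] {p : ℕ} [Fact p.Prime]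
  (P : Sylow p G) [Fintype (P : Subgroup G)] (D : L0Data P)

/-- (C6) the strong congruence for a `q`-block that avoids `Y` -/
theorem block_X_dvd (hP : Nat.card P = p) (hC : cen P = (P : Subgroup G)) (q : ℕ)
    [Fact q.Prime] (hpq : p ≠ q) (hno : ∀ g : G, orderOf g ≠ p * q) (b : ℕ)
    (hb : (Nat.card G).factorization q = b)
    (Mp Mq : Ideal AlgInt) (hMp : IsPModular p Mp) (hMq : IsPModular q Mq)
    (Bq : Set (IrrCharacter G)) (hBq : IsPBlock Mq Bq) (hYB : D.Y ∩ Bq = ∅) :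
    (q : ℤ) ^ b ∣ ∑ᶠ χ ∈ D.X ∩ Bq, D.ε χ * (charDegree (χ : G → ℂ) : ℤ) :=
  block_X_dvd_of_subset P D hP q hpq hno b hb Mp Mq hMp hMq Bq hBq hYB
    (fun _ h => Cfsg.Agent.Helper77.BT97.XY_subset_principal P D hP hC Mp hMp (Or.inl h))

end Cfsg.Agent.Helper37.BT97
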