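import Cfsg.Agent.Helper85.A7Defs

/-!
# S0984 sub-tree LOC, piece (G2) (helper37 for helper85, board #8843)

A proper subgroup of a simple group of order 2520 that contains `N_G(R)` (of order 36, `R` a
Sylow 3-subgroup) and has order divisible by 8 has index 7.
-/

set_option autoImplicit false

namespace Cfsg.Agent.Helper37.A7

open Cfsg Cfsg.Agent.Helper85.A7
open scoped ComplexConjugate

universe u

variable {G : Type u} [Group G]

/-- a simple group embeds in the symmetric group on the cosets of a proper subgroup -/
theorem card_dvd_index_factorial_aux [Finite G] [IsSimpleGroup G] (H : Subgroup G)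
    (hH : H ≠ ⊤) : Nat.card G ∣ (H.index).factorial := by
  classical
  have hcore : H.normalCore = ⊥ := by
    rcases (Subgroup.normalCore_normal H).eq_bot_or_eq_top with h | h
    · exact h
    · exact absurd (top_le_iff.mp (h ▸ Subgroup.normalCore_le H)) hH
  have hinj : Function.Injective (MulAction.toPermHom G (G ⧸ H)) := by
    rw [← MonoidHom.ker_eq_bot_iff, ← Subgroup.normalCore_eq_ker, hcore]
  have hfi : H.FiniteIndex := Subgroup.finiteIndex_of_finite
  have : Fintype (G ⧸ H) := Fintype.ofFinite _
  have h1 : Nat.card G ∣ Nat.card (Equiv.Perm (G ⧸ H)) := by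
    have := Subgroup.card_dvd_of_injective _ hinj
    exact this
  have h2 : Nat.card (Equiv.Perm (G ⧸ H)) = (H.index).factorial := by
    rw [Nat.card_perm]
    rfl
  rw [← h2]
  exact h1

/-- (G2) a proper subgroup containing `N_G(R)` (of order 36) and of order divisible by 8 has
index 7 -/
theorem index_eq_seven_of_normalizer_le [Finite G] [IsSimpleGroup G] (hcard : Nat.card G = 2520)
    (R : Sylow 3 G) (hN : Nat.card (Subgroup.normalizer ((R : Subgroup G) : Set G)) = 36)
    (H : Subgroup G) (hH : H ≠ ⊤) (hle : Subgroup.normalizer ((R : Subgroup G) : Set G) ≤ H)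
    (h8 : 8 ∣ Nat.card H) : H.index = 7 := by
  classical
  have : Fact (Nat.Prime 3) := ⟨by norm_num⟩
  have h36 : 36 ∣ Nat.card H := hN ▸ Subgroup.card_dvd_of_le hle
  have h72 : 72 ∣ Nat.card H := by
    have : Nat.lcm 36 8 ∣ Nat.card H := Nat.lcm_dvd h36 h8
    exact this
  have hmul : Nat.card H * H.index = 2520 := hcard ▸ H.card_mul_index
  have hfact : 2520 ∣ (H.index).factorial := hcard ▸ card_dvd_index_factorial_aux H hH
  obtain ⟨k, hk⟩ := h72
  -- the index divides 35
  have hk35 : k * H.index = 35 := by
    rw [hk] at hmul
    have : 72 * (k * H.index) = 72 * 35 := by rw [← mul_assoc]; exact hmul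
    exact Nat.eq_of_mul_eq_mul_left (by norm_num) this
  have hdvd : H.index ∣ 35 := ⟨k, by rw [← hk35, mul_comm]⟩
  have hle35 : H.index ≤ 35 := Nat.le_of_dvd (by norm_num) hdvd
  have hpos : 0 < H.index := Nat.pos_of_dvd_of_pos hdvd (by norm_num)
  -- case analysis on the index
  have hcases : H.index = 1 ∨ H.index = 5 ∨ H.index = 7 ∨ H.index = 35 := by
    generalize H.index = i at hdvd hle35 hpos
    interval_cases i <;> simp_all
  rcases hcases with h | h | h | h
  · exact absurd (Subgroup.index_eq_one.mp h) hH
  · rw [h] at hfact
    exact absurd hfact (by decide)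
  · exact h
  · -- `|H| = 72`, so `N` has index 2 in `H`, hence `H ≤ N_G(N) = N`
    exfalso
    have hcH : Nat.card H = 72 := by
      rw [h] at hmul
      omega
    set N := Subgroup.normalizer ((R : Subgroup G) : Set G) with hNdef
    have hrel : N.relIndex H = 2 := by
      have h1 := Subgroup.relIndex_mul_index hle
      have h2 : N.index = 70 := by
        have := N.card_mul_index
        rw [hN, hcard] at this
        omega
      rw [h2, h] at h1
      omega
    have hnorm : (N.subgroupOf H).Normal := Subgroup.normal_of_index_eq_two hrel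
    have hHN : H ≤ Subgroup.normalizer (N : Set G) :=
      (Subgroup.normal_subgroupOf_iff_le_normalizer hle).mp hnorm
    have hNN : Subgroup.normalizer (N : Set G) = N := Sylow.normalizer_normalizer R
    rw [hNN] at hHN
    have := Subgroup.card_dvd_of_le hHN
    rw [hcH, hN] at this
    exact absurd this (by decide)

end Cfsg.Agent.Helper37.A7
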