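import Cfsg.Agent.Helper19.FH.Defs

/-!
# Piece (TE) of WANTED #5717 (helper19, S1142 Feit–Higman): `tracial_ext`

A tracial linear functional on the free algebra on two generators `e₀, e₁`, insensitive to
replacing `eᵢ eᵢ` by `eᵢ`, and vanishing on `1`, `e₀`, `e₁`, `(e₀ e₁) ^ k`, is zero.
-/

set_option autoImplicit false

namespace Cfsg.Agent.Helper37.FH

open Cfsg.Agent.Helper19.FH

section altLemmas

variable {M : Type*} [Monoid M]

theorem alt_two_mul (a b : M) (k : ℕ) : alt a b (2 * k) = (a * b) ^ k := by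
  induction k with
  | zero => simp
  | succ k ih =>
    have h : 2 * (k + 1) = (2 * k + 1) + 1 := by ring
    rw [h, alt_succ, alt_succ, ih, pow_succ', mul_assoc]

theorem mul_pow_mul_swap (a b : M) (k : ℕ) : a * (b * a) ^ k = (a * b) ^ k * a := by
  induction k with
  | zero => simp
  | succ k ih =>
    rw [pow_succ, ← mul_assoc, ih, pow_succ]
    simp only [mul_assoc]

theorem alt_two_mul_add_one (a b : M) (k : ℕ) : alt a b (2 * k + 1) = (a * b) ^ k * a := by
  rw [alt_succ, alt_two_mul, mul_pow_mul_swap]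

end altLemmas

/-- the monomial of a word. -/
noncomputable def mon (l : List (Fin 2)) : FreeAlgebra ℝ (Fin 2) :=
  (l.map (FreeAlgebra.ι ℝ)).prod

theorem mon_nil : mon [] = 1 := by simp [mon]

theorem mon_cons (i : Fin 2) (l : List (Fin 2)) : mon (i :: l) = FreeAlgebra.ι ℝ i * mon l := by
  simp [mon]

theorem mon_append (l l' : List (Fin 2)) : mon (l ++ l') = mon l * mon l' := by
  simp [mon]

theorem mem_span_mon (x : FreeAlgebra ℝ (Fin 2)) : x ∈ Submodule.span ℝ (Set.range mon) := by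
  induction x using FreeAlgebra.induction with
  | grade0 r =>
    rw [Algebra.algebraMap_eq_smul_one]
    exact Submodule.smul_mem _ _ (Submodule.subset_span ⟨[], mon_nil⟩)
  | grade1 i =>
    refine Submodule.subset_span ⟨[i], ?_⟩
    rw [mon_cons, mon_nil, mul_one]
  | mul a b ha hb =>
    have h1 : a * b ∈ Submodule.span ℝ (Set.range mon) * Submodule.span ℝ (Set.range mon) :=
      Submodule.mul_mem_mul ha hb
    rw [Submodule.span_mul_span] at h1
    refine Submodule.span_mono ?_ h1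
    rintro _ ⟨_, ⟨l, rfl⟩, _, ⟨l', rfl⟩, rfl⟩
    exact ⟨l ++ l', mon_append l l'⟩
  | add a b ha hb => exact Submodule.add_mem _ ha hb

theorem tracial_ext (δ : FreeAlgebra ℝ (Fin 2) →ₗ[ℝ] ℝ)
    (hcomm : ∀ x y, δ (x * y) = δ (y * x))
    (hid : ∀ (i : Fin 2) (x y : FreeAlgebra ℝ (Fin 2)),
      δ (x * (FreeAlgebra.ι ℝ i * FreeAlgebra.ι ℝ i) * y) = δ (x * FreeAlgebra.ι ℝ i * y))
    (h1 : δ 1 = 0) (hE : ∀ i : Fin 2, δ (FreeAlgebra.ι ℝ i) = 0)
    (hk : ∀ k : ℕ, 1 ≤ k → δ ((FreeAlgebra.ι ℝ 0 * FreeAlgebra.ι ℝ 1) ^ k) = 0) :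
    δ = 0 := by
  classical
  -- `δ` kills all powers `(eᵢ eⱼ) ^ k`, `i ≠ j`, `k ≥ 1`
  have hk' : ∀ (i j : Fin 2), i ≠ j → ∀ k : ℕ, 1 ≤ k →
      δ ((FreeAlgebra.ι ℝ i * FreeAlgebra.ι ℝ j) ^ k) = 0 := by
    intro i j hij k hk1
    have hcases : (i = 0 ∧ j = 1) ∨ (i = 1 ∧ j = 0) := by
      fin_cases i <;> fin_cases j <;> simp_all
    rcases hcases with ⟨rfl, rfl⟩ | ⟨rfl, rfl⟩
    · exact hk k hk1
    · obtain ⟨m, rfl⟩ : ∃ m, k = m + 1 := ⟨k - 1, by omega⟩
      have e1 : (FreeAlgebra.ι ℝ (1 : Fin 2) * FreeAlgebra.ι ℝ 0) ^ (m + 1) =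
          FreeAlgebra.ι ℝ 1 * (FreeAlgebra.ι ℝ 0 * (FreeAlgebra.ι ℝ 1 * FreeAlgebra.ι ℝ 0) ^ m) := by
        rw [pow_succ', mul_assoc]
      rw [e1, hcomm, mul_pow_mul_swap, mul_assoc, ← pow_succ]
      exact hk (m + 1) hk1
  -- `δ` kills all alternating words
  have halt : ∀ (i j : Fin 2), i ≠ j → ∀ n : ℕ,
      δ (alt (FreeAlgebra.ι ℝ i) (FreeAlgebra.ι ℝ j) n) = 0 := by
    intro i j hij n
    rcases Nat.even_or_odd' n with ⟨k, rfl | rfl⟩
    · rw [alt_two_mul]
      rcases Nat.eq_zero_or_pos k with rfl | hk0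
      · rw [pow_zero]; exact h1
      · exact hk' i j hij k hk0
    · rw [alt_two_mul_add_one]
      rcases Nat.eq_zero_or_pos k with rfl | hk0
      · rw [pow_zero, one_mul]; exact hE i
      · obtain ⟨m, rfl⟩ : ∃ m, k = m + 1 := ⟨k - 1, by omega⟩
        -- `(eᵢ eⱼ)^(m+1) eᵢ = eᵢ * (Z * eᵢ)`, `Z = (eⱼ eᵢ)^m eⱼ`
        have e1 : (FreeAlgebra.ι ℝ i * FreeAlgebra.ι ℝ j) ^ (m + 1) * FreeAlgebra.ι ℝ i =
            FreeAlgebra.ι ℝ i * (((FreeAlgebra.ι ℝ j * FreeAlgebra.ι ℝ i) ^ m * FreeAlgebra.ι ℝ j) *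
              FreeAlgebra.ι ℝ i) := by
          rw [← mul_pow_mul_swap, pow_succ]
          simp only [mul_assoc]
        rw [e1, hcomm]
        have e2 : ((FreeAlgebra.ι ℝ j * FreeAlgebra.ι ℝ i) ^ m * FreeAlgebra.ι ℝ j) *
            FreeAlgebra.ι ℝ i * FreeAlgebra.ι ℝ i =
            ((FreeAlgebra.ι ℝ j * FreeAlgebra.ι ℝ i) ^ m * FreeAlgebra.ι ℝ j) *
              (FreeAlgebra.ι ℝ i * FreeAlgebra.ι ℝ i) * 1 := by
          simp only [mul_assoc, mul_one]
        rw [e2, hid]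
        have e3 : ((FreeAlgebra.ι ℝ j * FreeAlgebra.ι ℝ i) ^ m * FreeAlgebra.ι ℝ j) *
            FreeAlgebra.ι ℝ i * 1 = (FreeAlgebra.ι ℝ j * FreeAlgebra.ι ℝ i) ^ (m + 1) := by
          rw [mul_one, pow_succ]
          simp only [mul_assoc]
        rw [e3]
        exact hk' j i (Ne.symm hij) (m + 1) (by omega)
  -- every monomial is equivalent (inside `δ (x * _ * y)`) to an alternating word
  have hred : ∀ l : List (Fin 2), ∃ (i j : Fin 2) (n : ℕ), i ≠ j ∧
      ∀ x y : FreeAlgebra ℝ (Fin 2),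
        δ (x * mon l * y) = δ (x * alt (FreeAlgebra.ι ℝ i) (FreeAlgebra.ι ℝ j) n * y) := by
    intro l
    induction l with
    | nil =>
      refine ⟨0, 1, 0, by decide, fun x y => ?_⟩
      rw [mon_nil, alt_zero]
    | cons k l ih =>
      obtain ⟨i, j, n, hij, hE'⟩ := ih
      have hstep : ∀ x y : FreeAlgebra ℝ (Fin 2), δ (x * mon (k :: l) * y) =
          δ (x * (FreeAlgebra.ι ℝ k * alt (FreeAlgebra.ι ℝ i) (FreeAlgebra.ι ℝ j) n) * y) := by
        intro x y
        rw [mon_cons, ← mul_assoc, hE' (x * FreeAlgebra.ι ℝ k) y, mul_assoc x]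
      rcases n with _ | m
      · -- `n = 0`
        obtain ⟨k', hk'⟩ : ∃ k' : Fin 2, k ≠ k' := by
          fin_cases k
          · exact ⟨1, by decide⟩
          · exact ⟨0, by decide⟩
        refine ⟨k, k', 1, hk', fun x y => ?_⟩
        rw [hstep, alt_succ, alt_zero, alt_zero]
      · by_cases hki : k = i
        · subst hki
          refine ⟨k, j, m + 1, hij, fun x y => ?_⟩
          rw [hstep, alt_succ, ← mul_assoc (FreeAlgebra.ι ℝ k), ← mul_assoc x,
            mul_assoc (x * (FreeAlgebra.ι ℝ k * FreeAlgebra.ι ℝ k)),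
            hid k x (alt (FreeAlgebra.ι ℝ j) (FreeAlgebra.ι ℝ k) m * y)]
          simp only [mul_assoc]
        · have hkj : k = j := by
            fin_cases k <;> fin_cases i <;> fin_cases j <;> simp_all
          subst hkj
          refine ⟨k, i, m + 2, Ne.symm hij, fun x y => ?_⟩
          rw [hstep, alt_succ (FreeAlgebra.ι ℝ k) (FreeAlgebra.ι ℝ i) (m + 1)]
  -- conclusion
  have hmon : ∀ l : List (Fin 2), δ (mon l) = 0 := by
    intro l
    obtain ⟨i, j, n, hij, hE'⟩ := hred l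
    have := hE' 1 1
    rw [one_mul, mul_one, one_mul, mul_one] at this
    rw [this]
    exact halt i j hij n
  ext x
  have hx : x ∈ LinearMap.ker δ := by
    have hle : Submodule.span ℝ (Set.range mon) ≤ LinearMap.ker δ := by
      rw [Submodule.span_le]
      rintro _ ⟨l, rfl⟩
      exact hmon l
    exact hle (mem_span_mon x)
  simpa using hx

end Cfsg.Agent.Helper37.FH
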