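import Cfsg.Agent.Helper19.FH.Defs
import Cfsg.Agent.Helper37.FHTE

/-!
# Piece (NM) of WANTED #5717 (helper19, S1142 Feit–Higman), part a: trigonometric and matrix tools
-/

set_option autoImplicit false

namespace Cfsg.Agent.Helper37.FH

open Cfsg.Agent.Helper19.FH Matrix Real

/-! ### trigonometry -/

theorem cos_succ_succ (ψ : ℝ) (k : ℕ) :
    cos (((k + 2 : ℕ) : ℝ) * ψ) = 2 * cos ψ * cos (((k + 1 : ℕ) : ℝ) * ψ) - cos ((k : ℝ) * ψ) := by
  have h1 : ((k + 2 : ℕ) : ℝ) * ψ = ((k + 1 : ℕ) : ℝ) * ψ + ψ := by push_cast; ring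
  have h2 : (k : ℝ) * ψ = ((k + 1 : ℕ) : ℝ) * ψ - ψ := by push_cast; ring
  rw [h1, h2, cos_add, cos_sub]; ring

theorem sin_succ_succ (ψ : ℝ) (k : ℕ) :
    sin (((k + 2 : ℕ) : ℝ) * ψ) = 2 * cos ψ * sin (((k + 1 : ℕ) : ℝ) * ψ) - sin ((k : ℝ) * ψ) := by
  have h1 : ((k + 2 : ℕ) : ℝ) * ψ = ((k + 1 : ℕ) : ℝ) * ψ + ψ := by push_cast; ring
  have h2 : (k : ℝ) * ψ = ((k + 1 : ℕ) : ℝ) * ψ - ψ := by push_cast; ring
  rw [h1, h2, sin_add, sin_sub]; ring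

/-- closed form of a two-term recurrence with characteristic roots `r e^{± i ψ}`. -/
theorem rec_closed_form (r ψ d τ : ℝ) (hs0 : sin ψ ≠ 0) (hr : r ≠ 0) (hd : d = r ^ 2)
    (hτ : τ = 2 * r * cos ψ) (f : ℕ → ℝ) (hrec : ∀ k, f (k + 2) = τ * f (k + 1) - d * f k) (k : ℕ) :
    f k = r ^ k * (f 0 * cos ((k : ℝ) * ψ) +
      ((f 1 / r - f 0 * cos ψ) / sin ψ) * sin ((k : ℝ) * ψ)) := by
  induction k using Nat.twoStepInduction with
  | zero => simp
  | one =>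
    simp only [Nat.cast_one, one_mul, pow_one]
    field_simp
    ring
  | more k ih0 ih1 =>
    rw [hrec, ih0, ih1, cos_succ_succ, sin_succ_succ, hτ, hd]
    ring

/-- sum of squares of a sinusoid. -/
theorem sum_sq_sinusoid (A B ψ : ℝ) (N : ℕ) :
    ∑ k ∈ Finset.range N, (A * cos ((k : ℝ) * ψ) + B * sin ((k : ℝ) * ψ)) ^ 2 =
      (N : ℝ) * (A ^ 2 + B ^ 2) / 2 +
        (A ^ 2 - B ^ 2) / 2 * ∑ k ∈ Finset.range N, cos (2 * ((k : ℝ) * ψ)) +
        A * B * ∑ k ∈ Finset.range N, sin (2 * ((k : ℝ) * ψ)) := by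
  induction N with
  | zero => simp
  | succ N ih =>
    rw [Finset.sum_range_succ, Finset.sum_range_succ, Finset.sum_range_succ, ih, cos_two_mul,
      sin_two_mul]
    push_cast
    linear_combination (B ^ 2) * (sin_sq_add_cos_sq ((N : ℝ) * ψ))

theorem two_sin_mul_sum_cos (ψ : ℝ) (N : ℕ) :
    2 * sin ψ * ∑ k ∈ Finset.range N, cos (2 * ((k : ℝ) * ψ)) =
      sin ((2 * (N : ℝ) - 1) * ψ) + sin ψ := by
  induction N with
  | zero =>
    simp only [Finset.range_zero, Finset.sum_empty, mul_zero, Nat.cast_zero, zero_sub, neg_mul,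
      one_mul, sin_neg, neg_add_cancel]
  | succ N ih =>
    rw [Finset.sum_range_succ, mul_add, ih]
    have h1 : (2 * ((N + 1 : ℕ) : ℝ) - 1) * ψ = 2 * ((N : ℝ) * ψ) + ψ := by push_cast; ring
    have h2 : (2 * (N : ℝ) - 1) * ψ = 2 * ((N : ℝ) * ψ) - ψ := by ring
    rw [h1, h2, sin_add, sin_sub]
    ring

theorem two_sin_mul_sum_sin (ψ : ℝ) (N : ℕ) :
    2 * sin ψ * ∑ k ∈ Finset.range N, sin (2 * ((k : ℝ) * ψ)) =
      cos ψ - cos ((2 * (N : ℝ) - 1) * ψ) := by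
  induction N with
  | zero =>
    simp only [Finset.range_zero, Finset.sum_empty, mul_zero, Nat.cast_zero, zero_sub, neg_mul,
      one_mul, cos_neg, sub_self]
  | succ N ih =>
    rw [Finset.sum_range_succ, mul_add, ih]
    have h1 : (2 * ((N + 1 : ℕ) : ℝ) - 1) * ψ = 2 * ((N : ℝ) * ψ) + ψ := by push_cast; ring
    have h2 : (2 * (N : ℝ) - 1) * ψ = 2 * ((N : ℝ) * ψ) - ψ := by ring
    rw [h1, h2, cos_add, cos_sub]
    ring

/-! ### the master lemma -/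

/-- weighted sum of squares of a solution of the recurrence. -/
theorem sum_weighted_sq (r ψ d τ : ℝ) (hs0 : sin ψ ≠ 0) (hr : r ≠ 0) (hd : d = r ^ 2)
    (hτ : τ = 2 * r * cos ψ) (f : ℕ → ℝ) (hrec : ∀ k, f (k + 2) = τ * f (k + 1) - d * f k)
    (N : ℕ) :
    ∑ k ∈ Finset.range N, (d ^ k)⁻¹ * (f k) ^ 2 =
      (N : ℝ) * ((f 0) ^ 2 + ((f 1 / r - f 0 * cos ψ) / sin ψ) ^ 2) / 2 +
        ((f 0) ^ 2 - ((f 1 / r - f 0 * cos ψ) / sin ψ) ^ 2) / 2 *
          ∑ k ∈ Finset.range N, cos (2 * ((k : ℝ) * ψ)) +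
        f 0 * ((f 1 / r - f 0 * cos ψ) / sin ψ) *
          ∑ k ∈ Finset.range N, sin (2 * ((k : ℝ) * ψ)) := by
  rw [← sum_sq_sinusoid]
  refine Finset.sum_congr rfl fun k _ => ?_
  rw [rec_closed_form r ψ d τ hs0 hr hd hτ f hrec k, hd]
  have hrk : r ^ k ≠ 0 := pow_ne_zero k hr
  rw [← pow_mul, mul_comm 2 k, pow_mul]
  field_simp

/-- closed form, with the amplitudes `A`, `B` given by the initial values. -/
theorem rec_closed_form' (r ψ d τ A B : ℝ) (hd : d = r ^ 2) (hτ : τ = 2 * r * cos ψ) (f : ℕ → ℝ)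
    (hrec : ∀ k, f (k + 2) = τ * f (k + 1) - d * f k) (h0 : f 0 = A)
    (h1 : f 1 = r * (A * cos ψ + B * sin ψ)) (k : ℕ) :
    f k = r ^ k * (A * cos ((k : ℝ) * ψ) + B * sin ((k : ℝ) * ψ)) := by
  induction k using Nat.twoStepInduction with
  | zero => simp [h0]
  | one => simp [h1]
  | more k ih0 ih1 =>
    rw [hrec, ih0, ih1, cos_succ_succ, sin_succ_succ, hτ, hd]
    ring

theorem sum_weighted_sq' (r ψ d τ A B : ℝ) (hr : r ≠ 0) (hd : d = r ^ 2)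
    (hτ : τ = 2 * r * cos ψ) (f : ℕ → ℝ) (hrec : ∀ k, f (k + 2) = τ * f (k + 1) - d * f k)
    (h0 : f 0 = A) (h1 : f 1 = r * (A * cos ψ + B * sin ψ)) (N : ℕ) :
    ∑ k ∈ Finset.range N, (d ^ k)⁻¹ * (f k) ^ 2 =
      (N : ℝ) * (A ^ 2 + B ^ 2) / 2 +
        (A ^ 2 - B ^ 2) / 2 * ∑ k ∈ Finset.range N, cos (2 * ((k : ℝ) * ψ)) +
        A * B * ∑ k ∈ Finset.range N, sin (2 * ((k : ℝ) * ψ)) := by
  rw [← sum_sq_sinusoid]
  refine Finset.sum_congr rfl fun k _ => ?_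
  rw [rec_closed_form' r ψ d τ A B hd hτ f hrec h0 h1 k, hd]
  have hrk : r ^ k ≠ 0 := pow_ne_zero k hr
  rw [← pow_mul, mul_comm 2 k, pow_mul]
  field_simp

/-! ### traces of powers -/

theorem trace_pow_rec {M Z : Matrix (Fin 2) (Fin 2) ℝ} {τ d : ℝ}
    (hM : M * M = τ • M - d • (1 : Matrix (Fin 2) (Fin 2) ℝ)) (k : ℕ) :
    trace (M ^ (k + 2) * Z) = τ * trace (M ^ (k + 1) * Z) - d * trace (M ^ k * Z) := by
  have h1 : M ^ (k + 2) = τ • M ^ (k + 1) - d • M ^ k := by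
    rw [pow_add, pow_two, hM, mul_sub, mul_smul_comm, mul_smul_comm, mul_one, pow_succ]
  rw [h1, sub_mul, smul_mul_assoc, smul_mul_assoc, trace_sub, trace_smul, trace_smul, smul_eq_mul,
    smul_eq_mul]

theorem sum_trace_sq {M Z : Matrix (Fin 2) (Fin 2) ℝ} {r ψ τ d A B : ℝ} (hr : r ≠ 0)
    (hd : d = r ^ 2) (hτ : τ = 2 * r * cos ψ)
    (hM : M * M = τ • M - d • (1 : Matrix (Fin 2) (Fin 2) ℝ)) (hA : trace Z = A)
    (hB : trace (M * Z) = r * (A * cos ψ + B * sin ψ)) (N : ℕ) :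
    ∑ k ∈ Finset.range N, (d ^ k)⁻¹ * (trace (M ^ k * Z)) ^ 2 =
      (N : ℝ) * (A ^ 2 + B ^ 2) / 2 +
        (A ^ 2 - B ^ 2) / 2 * ∑ k ∈ Finset.range N, cos (2 * ((k : ℝ) * ψ)) +
        A * B * ∑ k ∈ Finset.range N, sin (2 * ((k : ℝ) * ψ)) :=
  sum_weighted_sq' r ψ d τ A B hr hd hτ (fun k => trace (M ^ k * Z)) (fun k => trace_pow_rec hM k)
    (by simp [hA]) (by simp [hB]) N

theorem sum_range_two_mul (F : ℕ → ℝ) (N : ℕ) :
    ∑ k ∈ Finset.range (2 * N), F k =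
      ∑ k ∈ Finset.range N, F (2 * k) + ∑ k ∈ Finset.range N, F (2 * k + 1) := by
  induction N with
  | zero => simp
  | succ N ih =>
    have h : 2 * (N + 1) = 2 * N + 1 + 1 := by ring
    rw [h, Finset.sum_range_succ, Finset.sum_range_succ, ih, Finset.sum_range_succ,
      Finset.sum_range_succ]
    ring

/-! ### the weights -/

theorem wt_two_mul (a b : ℝ) (k : ℕ) : wt a b (2 * k) = (a * b) ^ k := by
  unfold wt
  have h1 : (2 * k + 1) / 2 = k := by omega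
  have h2 : 2 * k / 2 = k := by omega
  rw [h1, h2, mul_pow]

theorem wt_two_mul_add_one (a b : ℝ) (k : ℕ) : wt a b (2 * k + 1) = a * (a * b) ^ k := by
  unfold wt
  have h1 : (2 * k + 1 + 1) / 2 = k + 1 := by omega
  have h2 : (2 * k + 1) / 2 = k := by omega
  rw [h1, h2, mul_pow, pow_succ]
  ring

/-! ### the model -/

theorem model_sq₁₂ (a b μ τ : ℝ) (hμ : μ * (b + 1) = τ + a + b) :
    (!![a, μ; 0, -1] * !![-1, 0; b + 1, b]) * (!![a, μ; 0, -1] * !![-1, 0; b + 1, b]) =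
      τ • (!![a, μ; 0, -1] * !![-1, 0; b + 1, b]) - (a * b) • (1 : Matrix (Fin 2) (Fin 2) ℝ) := by
  ext i j
  fin_cases i <;> fin_cases j
  · simp [Matrix.mul_apply, Fin.sum_univ_two]
    linear_combination (μ * (b + 1) - a) * hμ
  · simp [Matrix.mul_apply, Fin.sum_univ_two]
    linear_combination (μ * b) * hμ
  · simp [Matrix.mul_apply, Fin.sum_univ_two]
    linear_combination (-(b + 1)) * hμ
  · simp [Matrix.mul_apply, Fin.sum_univ_two]
    linear_combination (-b) * hμ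

theorem model_sq₂₁ (a b μ τ : ℝ) (hμ : μ * (b + 1) = τ + a + b) :
    (!![-1, 0; b + 1, b] * !![a, μ; 0, -1]) * (!![-1, 0; b + 1, b] * !![a, μ; 0, -1]) =
      τ • (!![-1, 0; b + 1, b] * !![a, μ; 0, -1]) - (a * b) • (1 : Matrix (Fin 2) (Fin 2) ℝ) := by
  ext i j
  fin_cases i <;> fin_cases j
  · simp [Matrix.mul_apply, Fin.sum_univ_two]
    linear_combination (-a) * hμ
  · simp [Matrix.mul_apply, Fin.sum_univ_two]
    linear_combination (-μ) * hμ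
  · simp [Matrix.mul_apply, Fin.sum_univ_two]
    linear_combination ((b + 1) * a) * hμ
  · simp [Matrix.mul_apply, Fin.sum_univ_two]
    linear_combination ((b + 1) * μ - b) * hμ

theorem model_trace₁ (a μ : ℝ) : trace (!![a, μ; 0, -1] : Matrix (Fin 2) (Fin 2) ℝ) = a - 1 := by
  simp [Matrix.trace_fin_two]
  ring

theorem model_trace₂ (b : ℝ) : trace (!![-1, 0; b + 1, b] : Matrix (Fin 2) (Fin 2) ℝ) = b - 1 := by
  simp [Matrix.trace_fin_two]
  ring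

theorem model_trace₁₂ (a b μ τ : ℝ) (hμ : μ * (b + 1) = τ + a + b) :
    trace ((!![a, μ; 0, -1] : Matrix (Fin 2) (Fin 2) ℝ) * !![-1, 0; b + 1, b]) = τ := by
  simp [Matrix.trace_fin_two, Matrix.mul_apply, Fin.sum_univ_two]
  linear_combination hμ

theorem model_trace₂₁ (a b μ τ : ℝ) (hμ : μ * (b + 1) = τ + a + b) :
    trace ((!![-1, 0; b + 1, b] : Matrix (Fin 2) (Fin 2) ℝ) * !![a, μ; 0, -1]) = τ := by
  simp [Matrix.trace_fin_two, Matrix.mul_apply, Fin.sum_univ_two]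
  linear_combination hμ

theorem model_trace₁₂₁ (a b μ τ : ℝ) (hμ : μ * (b + 1) = τ + a + b) :
    trace ((!![a, μ; 0, -1] : Matrix (Fin 2) (Fin 2) ℝ) * !![-1, 0; b + 1, b] * !![a, μ; 0, -1]) =
      a * (b - 1) + (a - 1) * τ := by
  simp [Matrix.trace_fin_two, Matrix.mul_apply, Fin.sum_univ_two]
  linear_combination (a - 1) * hμ

theorem model_trace₂₁₂ (a b μ τ : ℝ) (hμ : μ * (b + 1) = τ + a + b) :
    trace ((!![-1, 0; b + 1, b] : Matrix (Fin 2) (Fin 2) ℝ) * !![a, μ; 0, -1] *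
      !![-1, 0; b + 1, b]) = b * (a - 1) + (b - 1) * τ := by
  simp [Matrix.trace_fin_two, Matrix.mul_apply, Fin.sum_univ_two]
  linear_combination (b - 1) * hμ

end Cfsg.Agent.Helper37.FH
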