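import Cfsg.Agent.Helper19.FH.Defs
import Cfsg.Agent.Helper37.FHNMa

/-!
# Piece (NM) of WANTED #5717 (helper19, S1142 Feit–Higman): `pair_self`

The pairing of the two-dimensional model with itself is twice the Schur element.
-/

set_option autoImplicit false

namespace Cfsg.Agent.Helper37.FH

open Cfsg.Agent.Helper19.FH Matrix Real

theorem amp_formula (r c s A B f1 : ℝ) (hsc : s ^ 2 + c ^ 2 = 1) (h1 : f1 = r * (A * c + B * s)) :
    (A ^ 2 + B ^ 2) * (r ^ 2 * s ^ 2) = r ^ 2 * A ^ 2 - (2 * r * c) * A * f1 + f1 ^ 2 := by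
  subst h1
  linear_combination (r ^ 2 * A ^ 2) * hsc

/-- the normalised amplitude: `(A² + B²) / x = 4 (K + L τ) / (4ab - τ²)`. -/
theorem amp_value (a b r c s τ x A B f1 : ℝ) (hx : x ≠ 0) (hr : r ≠ 0) (hs : s ≠ 0)
    (hsc : s ^ 2 + c ^ 2 = 1) (hr2 : r ^ 2 = a * b) (hτ : τ = 2 * r * c)
    (h1 : f1 = r * (A * c + B * s))
    (hval : a * b * A ^ 2 - τ * A * f1 + f1 ^ 2 =
      x * (a * (b - 1) ^ 2 + b * (a - 1) ^ 2 + (a - 1) * (b - 1) * τ)) :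
    x⁻¹ * (A ^ 2 + B ^ 2) =
      4 * (a * (b - 1) ^ 2 + b * (a - 1) ^ 2 + (a - 1) * (b - 1) * τ) / (4 * a * b - τ ^ 2) := by
  have h2 := amp_formula r c s A B f1 hsc h1
  have hD : 4 * a * b - τ ^ 2 = 4 * (r ^ 2 * s ^ 2) := by
    rw [hτ]
    linear_combination (-4 : ℝ) * hr2 - (4 * r ^ 2) * hsc
  have hrs : r ^ 2 * s ^ 2 ≠ 0 := mul_ne_zero (pow_ne_zero 2 hr) (pow_ne_zero 2 hs)
  have h3 : (A ^ 2 + B ^ 2) * (r ^ 2 * s ^ 2) =
      x * (a * (b - 1) ^ 2 + b * (a - 1) ^ 2 + (a - 1) * (b - 1) * τ) := by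
    rw [h2, ← hval]
    linear_combination (A ^ 2) * hr2 + (A * f1) * hτ
  rw [hD, eq_div_iff (mul_ne_zero four_ne_zero hrs)]
  field_simp
  linear_combination h3

section sums

variable (a b μ τ r ψ : ℝ)

/-- sums over the even words starting with the first generator. -/
theorem sum_even₁ (hr : r ≠ 0) (hr2 : r ^ 2 = a * b) (hτ : τ = 2 * r * cos ψ)
    (hμ : μ * (b + 1) = τ + a + b) (N : ℕ) :
    ∑ k ∈ Finset.range N, (wt a b (2 * k))⁻¹ *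
      (trace (alt (!![a, μ; 0, -1] : Matrix (Fin 2) (Fin 2) ℝ) !![-1, 0; b + 1, b] (2 * k)) *
        trace (alt (!![a, μ; 0, -1] : Matrix (Fin 2) (Fin 2) ℝ) !![-1, 0; b + 1, b] (2 * k))) =
      2 * (N : ℝ) + 2 * ∑ k ∈ Finset.range N, cos (2 * ((k : ℝ) * ψ)) := by
  have h := sum_trace_sq (M := (!![a, μ; 0, -1] : Matrix (Fin 2) (Fin 2) ℝ) * !![-1, 0; b + 1, b])
    (Z := 1) (A := 2) (B := 0) hr hr2.symm hτ (model_sq₁₂ a b μ τ hμ) (by simp)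
    (by rw [mul_one, model_trace₁₂ a b μ τ hμ, hτ]; ring) N
  calc _ = ∑ k ∈ Finset.range N, ((a * b) ^ k)⁻¹ *
        (trace (((!![a, μ; 0, -1] : Matrix (Fin 2) (Fin 2) ℝ) * !![-1, 0; b + 1, b]) ^ k * 1)) ^ 2 :=
        Finset.sum_congr rfl fun k _ => by rw [wt_two_mul, alt_two_mul, mul_one, sq]
    _ = _ := by rw [h]; ring

theorem sum_even₂ (hr : r ≠ 0) (hr2 : r ^ 2 = a * b) (hτ : τ = 2 * r * cos ψ)
    (hμ : μ * (b + 1) = τ + a + b) (N : ℕ) :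
    ∑ k ∈ Finset.range N, (wt b a (2 * k))⁻¹ *
      (trace (alt (!![-1, 0; b + 1, b] : Matrix (Fin 2) (Fin 2) ℝ) !![a, μ; 0, -1] (2 * k)) *
        trace (alt (!![-1, 0; b + 1, b] : Matrix (Fin 2) (Fin 2) ℝ) !![a, μ; 0, -1] (2 * k))) =
      2 * (N : ℝ) + 2 * ∑ k ∈ Finset.range N, cos (2 * ((k : ℝ) * ψ)) := by
  have h := sum_trace_sq (M := (!![-1, 0; b + 1, b] : Matrix (Fin 2) (Fin 2) ℝ) * !![a, μ; 0, -1])
    (Z := 1) (A := 2) (B := 0) hr hr2.symm hτ (model_sq₂₁ a b μ τ hμ) (by simp)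
    (by rw [mul_one, model_trace₂₁ a b μ τ hμ, hτ]; ring) N
  calc _ = ∑ k ∈ Finset.range N, ((a * b) ^ k)⁻¹ *
        (trace (((!![-1, 0; b + 1, b] : Matrix (Fin 2) (Fin 2) ℝ) * !![a, μ; 0, -1]) ^ k * 1)) ^ 2 :=
        Finset.sum_congr rfl fun k _ => by rw [wt_two_mul, alt_two_mul, mul_one, sq, mul_comm b a]
    _ = _ := by rw [h]; ring

theorem sum_odd₁ (B : ℝ) (ha : a ≠ 0) (hr : r ≠ 0) (hr2 : r ^ 2 = a * b) (hτ : τ = 2 * r * cos ψ)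
    (hμ : μ * (b + 1) = τ + a + b)
    (hB : a * (b - 1) + (a - 1) * τ = r * ((a - 1) * cos ψ + B * sin ψ)) (N : ℕ) :
    ∑ k ∈ Finset.range N, (wt a b (2 * k + 1))⁻¹ *
      (trace (alt (!![a, μ; 0, -1] : Matrix (Fin 2) (Fin 2) ℝ) !![-1, 0; b + 1, b] (2 * k + 1)) *
        trace (alt (!![a, μ; 0, -1] : Matrix (Fin 2) (Fin 2) ℝ) !![-1, 0; b + 1, b] (2 * k + 1))) =
      a⁻¹ * ((N : ℝ) * ((a - 1) ^ 2 + B ^ 2) / 2 +
        ((a - 1) ^ 2 - B ^ 2) / 2 * ∑ k ∈ Finset.range N, cos (2 * ((k : ℝ) * ψ)) +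
        (a - 1) * B * ∑ k ∈ Finset.range N, sin (2 * ((k : ℝ) * ψ))) := by
  have h := sum_trace_sq (M := (!![a, μ; 0, -1] : Matrix (Fin 2) (Fin 2) ℝ) * !![-1, 0; b + 1, b])
    (Z := !![a, μ; 0, -1]) (A := a - 1) (B := B) hr hr2.symm hτ (model_sq₁₂ a b μ τ hμ)
    (model_trace₁ a μ) (by rw [model_trace₁₂₁ a b μ τ hμ, hB]) N
  rw [← h, Finset.mul_sum]
  refine Finset.sum_congr rfl fun k _ => ?_
  rw [wt_two_mul_add_one, alt_two_mul_add_one, mul_inv, sq, mul_assoc]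

theorem sum_odd₂ (B : ℝ) (hb : b ≠ 0) (hr : r ≠ 0) (hr2 : r ^ 2 = a * b) (hτ : τ = 2 * r * cos ψ)
    (hμ : μ * (b + 1) = τ + a + b)
    (hB : b * (a - 1) + (b - 1) * τ = r * ((b - 1) * cos ψ + B * sin ψ)) (N : ℕ) :
    ∑ k ∈ Finset.range N, (wt b a (2 * k + 1))⁻¹ *
      (trace (alt (!![-1, 0; b + 1, b] : Matrix (Fin 2) (Fin 2) ℝ) !![a, μ; 0, -1] (2 * k + 1)) *
        trace (alt (!![-1, 0; b + 1, b] : Matrix (Fin 2) (Fin 2) ℝ) !![a, μ; 0, -1] (2 * k + 1))) =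
      b⁻¹ * ((N : ℝ) * ((b - 1) ^ 2 + B ^ 2) / 2 +
        ((b - 1) ^ 2 - B ^ 2) / 2 * ∑ k ∈ Finset.range N, cos (2 * ((k : ℝ) * ψ)) +
        (b - 1) * B * ∑ k ∈ Finset.range N, sin (2 * ((k : ℝ) * ψ))) := by
  have h := sum_trace_sq (M := (!![-1, 0; b + 1, b] : Matrix (Fin 2) (Fin 2) ℝ) * !![a, μ; 0, -1])
    (Z := !![-1, 0; b + 1, b]) (A := b - 1) (B := B) hr hr2.symm hτ (model_sq₂₁ a b μ τ hμ)
    (model_trace₂ b) (by rw [model_trace₂₁₂ a b μ τ hμ, hB]) N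
  rw [← h, Finset.mul_sum]
  refine Finset.sum_congr rfl fun k _ => ?_
  rw [wt_two_mul_add_one, alt_two_mul_add_one, mul_inv, sq, mul_assoc, mul_comm b a]

end sums

theorem pair_self_aux (n : ℕ) (hn : 2 ≤ n) (a b : ℝ) (ha : 0 < a) (hb : 0 < b)
    (hodd : Odd n → a = b) (j : ℕ) (μ τ r ψ : ℝ) (hr0 : 0 < r) (hr2 : r ^ 2 = a * b)
    (hτ : τ = 2 * r * cos ψ) (hs0 : sin ψ ≠ 0) (hnψ : (n : ℝ) * ψ = (j : ℝ) * (2 * π))
    (hμ : μ * (b + 1) = τ + a + b) :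
    pair n a b (!![a, μ; 0, -1] : Matrix (Fin 2) (Fin 2) ℝ) !![-1, 0; b + 1, b]
      !![a, μ; 0, -1] !![-1, 0; b + 1, b] = 2 * cfun n a b τ := by
  have hrne : r ≠ 0 := hr0.ne'
  have hsc : sin ψ ^ 2 + cos ψ ^ 2 = 1 := sin_sq_add_cos_sq ψ
  obtain ⟨Bu, hBudef⟩ : ∃ Bu : ℝ,
      Bu = ((a * (b - 1) + (a - 1) * τ) / r - (a - 1) * cos ψ) / sin ψ := ⟨_, rfl⟩
  have hBu : a * (b - 1) + (a - 1) * τ = r * ((a - 1) * cos ψ + Bu * sin ψ) := by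
    rw [hBudef]; field_simp; ring
  obtain ⟨Bv, hBvdef⟩ : ∃ Bv : ℝ,
      Bv = ((b * (a - 1) + (b - 1) * τ) / r - (b - 1) * cos ψ) / sin ψ := ⟨_, rfl⟩
  have hBv : b * (a - 1) + (b - 1) * τ = r * ((b - 1) * cos ψ + Bv * sin ψ) := by
    rw [hBvdef]; field_simp; ring
  have hPe := sum_even₁ a b μ τ r ψ hrne hr2 hτ hμ
  have hQe := sum_even₂ a b μ τ r ψ hrne hr2 hτ hμ
  have hPo := sum_odd₁ a b μ τ r ψ Bu ha.ne' hrne hr2 hτ hμ hBu
  have hQo := sum_odd₂ a b μ τ r ψ Bv hb.ne' hrne hr2 hτ hμ hBv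
  have hΛu := amp_value a b r (cos ψ) (sin ψ) τ a (a - 1) Bu (a * (b - 1) + (a - 1) * τ) ha.ne' hrne
    hs0 hsc hr2 hτ hBu (by ring)
  have hΛv := amp_value a b r (cos ψ) (sin ψ) τ b (b - 1) Bv (b * (a - 1) + (b - 1) * τ) hb.ne' hrne
    hs0 hsc hr2 hτ hBv (by ring)
  simp only [pair, pairF]
  obtain ⟨P, hP⟩ : ∃ P : ℕ → ℝ, ∀ k, P k = (wt a b k)⁻¹ *
      (trace (alt (!![a, μ; 0, -1] : Matrix (Fin 2) (Fin 2) ℝ) !![-1, 0; b + 1, b] k) *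
        trace (alt (!![a, μ; 0, -1] : Matrix (Fin 2) (Fin 2) ℝ) !![-1, 0; b + 1, b] k)) :=
    ⟨_, fun _ => rfl⟩
  obtain ⟨Q, hQ⟩ : ∃ Q : ℕ → ℝ, ∀ k, Q k = (wt b a k)⁻¹ *
      (trace (alt (!![-1, 0; b + 1, b] : Matrix (Fin 2) (Fin 2) ℝ) !![a, μ; 0, -1] k) *
        trace (alt (!![-1, 0; b + 1, b] : Matrix (Fin 2) (Fin 2) ℝ) !![a, μ; 0, -1] k)) :=
    ⟨_, fun _ => rfl⟩
  simp only [← hP, ← hQ] at hPe hQe hPo hQo ⊢
  have hQ0 : Q 0 = 4 := by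
    have := hQe 1
    simp at this
    linarith
  -- generic trig sums
  have hC := two_sin_mul_sum_cos ψ
  have hS := two_sin_mul_sum_sin ψ
  obtain ⟨m, hm | hm⟩ := Nat.even_or_odd' n
  · -- `n = 2 m`
    subst hm
    have e1 : ∑ k ∈ Finset.range (2 * m + 1), P k =
        ∑ k ∈ Finset.range (m + 1), P (2 * k) + ∑ k ∈ Finset.range m, P (2 * k + 1) := by
      rw [Finset.sum_range_succ, sum_range_two_mul, Finset.sum_range_succ (fun k => P (2 * k))]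
      ring
    have e2 : ∑ k ∈ Finset.Ico 1 (2 * m), Q k =
        ∑ k ∈ Finset.range m, Q (2 * k) + ∑ k ∈ Finset.range m, Q (2 * k + 1) - Q 0 := by
      rw [Finset.sum_Ico_eq_sub _ (by omega : 1 ≤ 2 * m), sum_range_two_mul, Finset.sum_range_one]
    have hang : 2 * ((m : ℝ) * ψ) = (j : ℝ) * (2 * π) := by
      push_cast at hnψ; linarith
    have hang' : (2 * (m : ℝ) - 1) * ψ = (j : ℝ) * (2 * π) - ψ := by linarith
    have hcs : ∑ k ∈ Finset.range m, cos (2 * ((k : ℝ) * ψ)) = 0 := by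
      have h := hC m
      rw [hang', sin_nat_mul_two_pi_sub, neg_add_cancel] at h
      rcases mul_eq_zero.mp h with h | h
      · exact absurd (by linarith : sin ψ = 0) hs0
      · exact h
    have hsn : ∑ k ∈ Finset.range m, sin (2 * ((k : ℝ) * ψ)) = 0 := by
      have h := hS m
      rw [hang', cos_nat_mul_two_pi_sub, sub_self] at h
      rcases mul_eq_zero.mp h with h | h
      · exact absurd (by linarith : sin ψ = 0) hs0
      · exact h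
    have hcs1 : ∑ k ∈ Finset.range (m + 1), cos (2 * ((k : ℝ) * ψ)) = 1 := by
      rw [Finset.sum_range_succ, hcs, hang, cos_nat_mul_two_pi, zero_add]
    rw [e1, e2, hPe, hPo, hQe, hQo, hQ0, hcs1, hcs, hsn]
    unfold cfun
    have k1 : a⁻¹ * ((m : ℝ) * ((a - 1) ^ 2 + Bu ^ 2) / 2 + ((a - 1) ^ 2 - Bu ^ 2) / 2 * 0 +
        (a - 1) * Bu * 0) = (m : ℝ) / 2 * (a⁻¹ * ((a - 1) ^ 2 + Bu ^ 2)) := by ring
    have k2 : b⁻¹ * ((m : ℝ) * ((b - 1) ^ 2 + Bv ^ 2) / 2 + ((b - 1) ^ 2 - Bv ^ 2) / 2 * 0 +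
        (b - 1) * Bv * 0) = (m : ℝ) / 2 * (b⁻¹ * ((b - 1) ^ 2 + Bv ^ 2)) := by ring
    rw [k1, k2, hΛu, hΛv]
    push_cast
    ring
  · -- `n = 2 m + 1`
    have hab : a = b := hodd ⟨m, hm⟩
    subst hm
    subst hab
    have hra : a = r := by
      have h : (r - a) * (r + a) = 0 := by linear_combination hr2
      rcases mul_eq_zero.mp h with h | h
      · linarith
      · linarith
    subst hra
    have hBvu : Bu = Bv := by rw [hBvdef, hBudef]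
    subst hBvu
    have hsin2π : sin ((j : ℝ) * (2 * π)) = 0 := by
      have h := sin_nat_mul_two_pi_sub 0 j
      rw [sub_zero, sin_zero, neg_zero] at h
      exact h
    have e1 : ∑ k ∈ Finset.range (2 * m + 1 + 1), P k =
        ∑ k ∈ Finset.range (m + 1), P (2 * k) + ∑ k ∈ Finset.range (m + 1), P (2 * k + 1) := by
      rw [show 2 * m + 1 + 1 = 2 * (m + 1) by ring, sum_range_two_mul]
    have e2 : ∑ k ∈ Finset.Ico 1 (2 * m + 1), Q k =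
        ∑ k ∈ Finset.range (m + 1), Q (2 * k) + ∑ k ∈ Finset.range m, Q (2 * k + 1) - Q 0 := by
      rw [Finset.sum_Ico_eq_sub _ (by omega : 1 ≤ 2 * m + 1), Finset.sum_range_succ,
        sum_range_two_mul, Finset.sum_range_one, Finset.sum_range_succ (fun k => Q (2 * k))]
      ring
    have hang1 : (2 * ((m + 1 : ℕ) : ℝ) - 1) * ψ = (j : ℝ) * (2 * π) := by
      push_cast at hnψ ⊢; linarith
    have hang0 : (2 * (m : ℝ) - 1) * ψ = (j : ℝ) * (2 * π) - 2 * ψ := by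
      push_cast at hnψ; linarith
    obtain ⟨C1, hC1⟩ : ∃ C1 : ℝ, C1 = ∑ k ∈ Finset.range (m + 1), cos (2 * ((k : ℝ) * ψ)) :=
      ⟨_, rfl⟩
    obtain ⟨C0, hC0⟩ : ∃ C0 : ℝ, C0 = ∑ k ∈ Finset.range m, cos (2 * ((k : ℝ) * ψ)) := ⟨_, rfl⟩
    obtain ⟨S1, hS1⟩ : ∃ S1 : ℝ, S1 = ∑ k ∈ Finset.range (m + 1), sin (2 * ((k : ℝ) * ψ)) :=
      ⟨_, rfl⟩
    obtain ⟨S0, hS0⟩ : ∃ S0 : ℝ, S0 = ∑ k ∈ Finset.range m, sin (2 * ((k : ℝ) * ψ)) := ⟨_, rfl⟩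
    have c1 : 2 * sin ψ * C1 = sin ψ := by
      rw [hC1, hC (m + 1), hang1, hsin2π, zero_add]
    have c0 : 2 * sin ψ * C0 = sin ψ - 2 * sin ψ * cos ψ := by
      rw [hC0, hC m, hang0, sin_nat_mul_two_pi_sub, sin_two_mul]; ring
    have s1 : 2 * sin ψ * S1 = cos ψ - 1 := by
      rw [hS1, hS (m + 1), hang1, cos_nat_mul_two_pi]
    have s0 : 2 * sin ψ * S0 = cos ψ - (2 * cos ψ ^ 2 - 1) := by
      rw [hS0, hS m, hang0, cos_nat_mul_two_pi_sub, cos_two_mul]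
    have hC1v : C1 = 1 / 2 := by
      have : sin ψ * (2 * C1 - 1) = 0 := by linear_combination c1
      rcases mul_eq_zero.mp this with h | h
      · exact absurd h hs0
      · linarith
    have hC0v : C0 = 1 / 2 - cos ψ := by
      have : sin ψ * (2 * C0 - 1 + 2 * cos ψ) = 0 := by linear_combination c0
      rcases mul_eq_zero.mp this with h | h
      · exact absurd h hs0
      · linarith
    -- `s * Bu = (a - 1) (1 + c)`
    have hBs : sin ψ * Bu = (a - 1) * (1 + cos ψ) := by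
      have h1 : a * (sin ψ * Bu - (a - 1) * (1 + cos ψ)) = 0 := by
        rw [hτ] at hBu
        linear_combination -hBu
      rcases mul_eq_zero.mp h1 with h | h
      · exact absurd h ha.ne'
      · linarith
    have hE : ((a - 1) ^ 2 - Bu ^ 2) / 2 * (C1 + C0) + (a - 1) * Bu * (S1 + S0) = 0 := by
      have h2 : 2 * sin ψ ^ 2 * (((a - 1) ^ 2 - Bu ^ 2) / 2 * (C1 + C0) +
          (a - 1) * Bu * (S1 + S0)) = 0 := by
        rw [hC1v, hC0v]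
        linear_combination (sin ψ * (a - 1) * Bu) * s1 + (sin ψ * (a - 1) * Bu) * s0 +
          ((1 - cos ψ) * (2 * cos ψ * (a - 1) - sin ψ * Bu - (a - 1) * (1 + cos ψ))) * hBs +
          ((1 - cos ψ) * (a - 1) ^ 2) * hsc
      rcases mul_eq_zero.mp h2 with h | h
      · exact absurd h (mul_ne_zero two_ne_zero (pow_ne_zero 2 hs0))
      · exact h
    rw [e1, e2, hPe, hPo, hQe, hQo, hQ0, ← hC1, ← hC0, ← hS1, ← hS0]
    unfold cfun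
    have k1 : a⁻¹ * (((m + 1 : ℕ) : ℝ) * ((a - 1) ^ 2 + Bu ^ 2) / 2 + ((a - 1) ^ 2 - Bu ^ 2) / 2 * C1 +
        (a - 1) * Bu * S1) + a⁻¹ * ((m : ℝ) * ((a - 1) ^ 2 + Bu ^ 2) / 2 +
        ((a - 1) ^ 2 - Bu ^ 2) / 2 * C0 + (a - 1) * Bu * S0) =
        (2 * (m : ℝ) + 1) / 2 * (a⁻¹ * ((a - 1) ^ 2 + Bu ^ 2)) +
          a⁻¹ * (((a - 1) ^ 2 - Bu ^ 2) / 2 * (C1 + C0) + (a - 1) * Bu * (S1 + S0)) := by
      push_cast; ring
    rw [hE, mul_zero, add_zero, hΛu] at k1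
    push_cast at k1 ⊢
    linear_combination k1 + 4 * hC1v

theorem pair_self (n : ℕ) (hn : 2 ≤ n) (a b : ℝ) (ha : 0 < a) (hb : 0 < b)
    (hodd : Odd n → a = b) (j : ℕ) (hj : 0 < j) (hjn : 2 * j < n) :
    pair n a b (mod₁ a (lamOf a b (tauOf n a b j))) (mod₂ b)
      (mod₁ a (lamOf a b (tauOf n a b j))) (mod₂ b) = 2 * cfun n a b (tauOf n a b j) := by
  have hab : 0 < a * b := mul_pos ha hb
  have hnpos : (0 : ℝ) < n := by exact_mod_cast (by omega : 0 < n)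
  have hjpos : (0 : ℝ) < j := by exact_mod_cast hj
  have hψ0 : 0 < 2 * π * (j : ℝ) / (n : ℝ) := by positivity
  have hψπ : 2 * π * (j : ℝ) / (n : ℝ) < π := by
    rw [div_lt_iff₀ hnpos]
    have h2 : (2 * (j : ℝ)) < n := by exact_mod_cast hjn
    nlinarith [pi_pos]
  have hs0 : sin (2 * π * (j : ℝ) / (n : ℝ)) ≠ 0 := (sin_pos_of_pos_of_lt_pi hψ0 hψπ).ne'
  have h1 : mod₁ a (lamOf a b (tauOf n a b j)) =
      !![a, (a + 1) * lamOf a b (tauOf n a b j); 0, -1] := rfl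
  have h2 : mod₂ b = !![-1, 0; b + 1, b] := rfl
  rw [h1, h2]
  refine pair_self_aux n hn a b ha hb hodd j _ _ (Real.sqrt (a * b)) (2 * π * (j : ℝ) / (n : ℝ))
    (Real.sqrt_pos.mpr hab) (Real.sq_sqrt hab.le) rfl hs0 ?_ ?_
  · field_simp
  · have ha1 : a + 1 ≠ 0 := by linarith
    have hb1 : b + 1 ≠ 0 := by linarith
    unfold lamOf
    field_simp

end Cfsg.Agent.Helper37.FH
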