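import Mathlib
import Cfsg.Agent.Helper77.Blk.Defs
import Cfsg.Agent.Helper67.ClassTwo

/-!
# (K) of helper77's S3888 farm (Blackburn): the Laffey-type lemma for `p`-central `p`-groups

`C` a finite `p`-group, `p` odd, every element of order dividing `p` central.  If `(u^p)^p = 1`
then every commutator `u⁻¹ g⁻¹ u g` has order dividing `p`.
-/

set_option autoImplicit false

universe u

namespace Cfsg.Agent.Helper37.Blk

open Subgroup Cfsg.Agent.Helper77.Blk

section pcentral
variable {p : ℕ} [hp : Fact p.Prime]

/-- `p ∣ C(p,2)` for `p` an odd prime. -/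
theorem dvd_choose_two_aux (hp2 : p ≠ 2) : p ∣ p.choose 2 := by
  have h2 : 2 < p := lt_of_le_of_ne hp.out.two_le (Ne.symm hp2)
  exact hp.out.dvd_choose_self (by norm_num) h2

/-- conjugation commutes with powers, in the form `g⁻¹ * u * g`. -/
theorem conj_pow_aux {C : Type u} [Group C] (u g : C) (n : ℕ) :
    (g⁻¹ * u * g) ^ n = g⁻¹ * u ^ n * g := by
  induction n with
  | zero => simp
  | succ n ih => rw [pow_succ, ih, pow_succ]; group

/-- the induction behind (K), bounded form. -/
theorem lemmaK_aux (hp2 : p ≠ 2) : ∀ n : ℕ, ∀ (C : Type u) [Group C] [Finite C],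
    Nat.card C ≤ n → IsPGroup p C → PCentral p C → ∀ u g : C,
    (u ^ p) ^ p = 1 → (u⁻¹ * g⁻¹ * u * g) ^ p = 1 := by
  intro n
  induction n with
  | zero =>
    intro C _ _ hn
    have := Nat.card_pos (α := C)
    omega
  | succ n ih =>
    intro C _ _ hn hC hPC u g hu
    by_cases htop : Subgroup.zpowers u = ⊤
    · -- `C` is cyclic generated by `u`
      have hg : g ∈ Subgroup.zpowers u := by rw [htop]; trivial
      obtain ⟨k, rfl⟩ := Subgroup.mem_zpowers_iff.mp hg
      have hcomm : u * u ^ k = u ^ k * u := by
        rw [← zpow_one_add, ← zpow_add_one, add_comm]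
      have : u⁻¹ * (u ^ k)⁻¹ * u * u ^ k = 1 := by
        rw [mul_assoc, hcomm]; group
      rw [this, one_pow]
    · obtain ⟨M, hM, hle⟩ := (eq_top_or_exists_le_coatom (Subgroup.zpowers u)).resolve_left htop
      have hnil : Group.IsNilpotent C := hC.isNilpotent
      have hMn : M.Normal :=
        NormalizerCondition.normal_of_coatom M Group.normalizerCondition_of_isNilpotent hM
      have huM : u ∈ M := hle (Subgroup.mem_zpowers u)
      -- `M` is smaller
      have hMcard : Nat.card M ≤ n := by
        have h1 : Nat.card M ≤ Nat.card C := Subgroup.card_le_card_group M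
        have h2 : Nat.card M ≠ Nat.card C := by
          intro h
          exact hM.1 ((Subgroup.card_eq_iff_eq_top M).mp h)
        omega
      have hMp : IsPGroup p M := hC.to_subgroup M
      have hMPC : PCentral p M := by
        intro c hc
        have hc' : (c : C) ^ p = 1 := by
          have := congrArg (Subtype.val) hc
          simpa using this
        have hcen := hPC (c : C) hc'
        rw [Subgroup.mem_center_iff] at hcen ⊢
        intro m
        apply Subtype.ext
        simpa using hcen (m : C)
      set a : C := u⁻¹ with ha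
      set b : C := g⁻¹ * u * g with hb
      have haM : a ∈ M := M.inv_mem huM
      have hbM : b ∈ M := by
        have := hMn.conj_mem u huM g⁻¹
        simpa [hb] using this
      have hbp : b ^ p = g⁻¹ * u ^ p * g := conj_pow_aux u g p
      have hbpp : (b ^ p) ^ p = 1 := by
        rw [hbp, conj_pow_aux, hu]; group
      -- the commutator `z` with `b * a = z * (a * b)`
      set z : C := b * a * b⁻¹ * a⁻¹ with hz
      have hzrel : b * a = z * (a * b) := by rw [hz]; group
      have hzp : z ^ p = 1 := by
        have key := ih M hMcard hMp hMPC ⟨b⁻¹, M.inv_mem hbM⟩ ⟨a⁻¹, M.inv_mem haM⟩ (by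
          apply Subtype.ext
          have : ((b⁻¹) ^ p) ^ p = 1 := by
            rw [inv_pow, inv_pow, hbpp, inv_one]
          simpa using this)
        have key' := congrArg (Subtype.val) key
        simp only [Subgroup.coe_pow, Subgroup.coe_mul, Subgroup.coe_inv, Subgroup.coe_one,
          inv_inv] at key'
        rw [hz]
        exact key'
      have hzc : z ∈ Subgroup.center C := hPC z hzp
      rw [Subgroup.mem_center_iff] at hzc
      have hza : Commute z a := (hzc a).symm
      have hzb : Commute z b := (hzc b).symm
      have hform := Cfsg.Agent.Helper67.mul_pow_of_commutator_commute hzrel hza hzb p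
      obtain ⟨k, hk⟩ := dvd_choose_two_aux (p := p) hp2
      have hz1 : z ^ (p.choose 2) = 1 := by rw [hk, pow_mul, hzp, one_pow]
      have hupc : u ^ p ∈ Subgroup.center C := hPC (u ^ p) hu
      rw [Subgroup.mem_center_iff] at hupc
      have hab : u⁻¹ * g⁻¹ * u * g = a * b := by rw [ha, hb]; group
      rw [hab, hform, hz1, one_mul, hbp, ha, inv_pow]
      have := hupc g
      calc (u ^ p)⁻¹ * (g⁻¹ * u ^ p * g) = (u ^ p)⁻¹ * (g⁻¹ * (u ^ p * g)) := by group
        _ = (u ^ p)⁻¹ * (g⁻¹ * (g * u ^ p)) := by rw [this]
        _ = 1 := by group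

/-- (K) **Laffey-type lemma.** -/
theorem lemmaK (hp2 : p ≠ 2) : PropK.{u} p := by
  intro C _ _ hC hPC u g hu
  exact lemmaK_aux hp2 (Nat.card C) C le_rfl hC hPC u g hu

end pcentral

end Cfsg.Agent.Helper37.Blk
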