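import Mathlib
import Cfsg.Agent.Helper21.THDefs2
import Cfsg.Agent.Helper63.PGroup
import Cfsg.Agent.Helper62.PSolvDual
import Cfsg.Agent.Helper70.PSolvable
import Cfsg.Agent.Helper11.PSolvable

/-!
# Piece (P1d1) of WANTED #5569 (helper21, S3797): `SCfg.exists_X`

A Sylow `2`-subgroup `X` of `L` (`T ≤ L ≤ N = N_G(T)`, `L / T` a `2`-group, `N / L` of odd order,
`L ⊴ N`): `X` is Sylow in `N`, `L` centralizes `V`, `X` does not centralize `T`, and the Frattini
argument `N = L (N_N(X))`.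
-/

set_option autoImplicit false

namespace Cfsg.Agent.Helper37.TH

open Subgroup Cfsg Cfsg.Agent.Helper21.TH

universe u

variable {G : Type u} [Group G] [Finite G]

/-- relative Sylow + Frattini: for `L ≤ N ≤ N_G(L)` there is a `p`-subgroup `X ≤ L` of index prime
to `p` in `L` with `N ≤ L (N_N(X))`. -/
theorem exists_sylow_frattini (p : ℕ) [Fact p.Prime] {L N : Subgroup G} (hLN : L ≤ N)
    (hNL : N ≤ normalizer (L : Set G)) :
    ∃ X : Subgroup G, IsPGroup p X ∧ X ≤ L ∧ ¬ p ∣ X.relIndex L ∧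
      N ≤ L ⊔ (normalizer (X : Set G) ⊓ N) := by
  classical
  haveI hL'n : (L.subgroupOf N).Normal := normal_subgroupOf_of_le_normalizer hNL
  obtain ⟨P0⟩ : Nonempty (Sylow p ↥(L.subgroupOf N)) := inferInstance
  have hXL : ((P0 : Subgroup ↥(L.subgroupOf N)).map (L.subgroupOf N).subtype).map N.subtype ≤ L := by
    rintro _ ⟨_, ⟨y, -, rfl⟩, rfl⟩
    exact mem_subgroupOf.mp y.2
  refine ⟨((P0 : Subgroup ↥(L.subgroupOf N)).map (L.subgroupOf N).subtype).map N.subtype,
    (P0.isPGroup'.map _).map _, hXL, ?_, ?_⟩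
  · -- the index
    set X : Subgroup G :=
      ((P0 : Subgroup ↥(L.subgroupOf N)).map (L.subgroupOf N).subtype).map N.subtype with hX
    have e1 : Nat.card (X.subgroupOf L) * X.relIndex L = Nat.card L :=
      Subgroup.card_mul_index (X.subgroupOf L)
    have e1' : Nat.card (X.subgroupOf L) = Nat.card X :=
      Nat.card_congr (Subgroup.subgroupOfEquivOfLe hXL).toEquiv
    have e2 : Nat.card (P0 : Subgroup ↥(L.subgroupOf N)) * (P0 : Subgroup ↥(L.subgroupOf N)).index =
        Nat.card ↥(L.subgroupOf N) := Subgroup.card_mul_index _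
    have e3 : Nat.card X = Nat.card (P0 : Subgroup ↥(L.subgroupOf N)) := by
      rw [hX, Subgroup.card_map_of_injective N.subtype_injective,
        Subgroup.card_map_of_injective (L.subgroupOf N).subtype_injective]
    have e4 : Nat.card ↥(L.subgroupOf N) = Nat.card L :=
      Nat.card_congr (Subgroup.subgroupOfEquivOfLe hLN).toEquiv
    have e5 : X.relIndex L = (P0 : Subgroup ↥(L.subgroupOf N)).index := by
      have hpos : 0 < Nat.card X := Nat.card_pos
      apply Nat.eq_of_mul_eq_mul_left hpos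
      rw [← e1', e1, ← e4, ← e2, e1', e3]
    rw [e5]
    exact P0.not_dvd_index
  · -- Frattini
    intro n hn
    have htop := Sylow.normalizer_sup_eq_top P0
    have hmem : (⟨n, hn⟩ : ↥N) ∈
        normalizer (((P0 : Subgroup ↥(L.subgroupOf N)).map (L.subgroupOf N).subtype : Subgroup ↥N) :
          Set ↥N) ⊔ L.subgroupOf N := by
      rw [htop]; trivial
    obtain ⟨y, hy, z, hz, hyz⟩ := mem_sup_of_normal_right.mp hmem
    have hn' : n = (y : G) * (z : G) := by
      have := congrArg Subtype.val hyz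
      exact this.symm
    rw [hn', sup_comm]
    refine mul_mem_sup ⟨?_, y.2⟩ (mem_subgroupOf.mp hz)
    exact le_normalizer_map N.subtype ⟨y, hy, rfl⟩

theorem SCfg.exists_X {V T L : Subgroup G} (h : SCfg G V T) (hsol : Group.IsSolvable G)
    (h1 : OneClass G) (hO : pPrimeCore 2 G = ⊥) (hdvd : 2 ∣ (pCore 2 G).index)
    (hTL : T ≤ L) (hLN : L ≤ normalizer (T : Set G))
    (hNL : normalizer (T : Set G) ≤ normalizer (L : Set G))
    (hidx : ∃ k : ℕ, T.relIndex L = 2 ^ k) (hodd : ¬ 2 ∣ L.relIndex (normalizer (T : Set G))) :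
    ∃ X : Subgroup G, IsPGroup 2 X ∧ X ≤ L ∧ ¬ 2 ∣ X.relIndex (normalizer (T : Set G)) ∧
      L ≤ centralizer (V : Set G) ∧ ¬ X ≤ centralizer (T : Set G) ∧
      normalizer (T : Set G) ≤ L ⊔ (normalizer (X : Set G) ⊓ normalizer (T : Set G)) := by
  classical
  haveI : Fact (Nat.Prime 2) := ⟨Nat.prime_two⟩
  have hPp : IsPGroup 2 (pCore 2 G) := Cfsg.Agent.Lib.isPGroup_pCore 2
  obtain ⟨X, hX2, hXL, hXoddL, hfrat⟩ := exists_sylow_frattini 2 hLN hNL
  have hXN : ¬ 2 ∣ X.relIndex (normalizer (T : Set G)) := by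
    rw [← relIndex_mul_relIndex X L (normalizer (T : Set G)) hXL hLN]
    exact Nat.prime_two.not_dvd_mul hXoddL hodd
  -- `V` is normal in `G`
  have hVconj : ∀ g v : G, v ∈ V → g * v * g⁻¹ ∈ V := by
    intro g v hv
    obtain ⟨hvP, hv2⟩ := (h.hV v).mp hv
    refine (h.hV _).mpr ⟨(pCore_normal 2 G).conj_mem v hvP g, ?_⟩
    rw [conj_pow, hv2, mul_one, mul_inv_cancel]
  haveI hVn : V.Normal := ⟨fun v hv g => hVconj g v hv⟩
  have hV2 : IsPGroup 2 V := hPp.to_le fun v hv => ((h.hV v).mp hv).1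
  -- `N` is transitive on `V \ 1`
  have htrans : ∀ v ∈ V, v ≠ 1 → ∀ w ∈ V, w ≠ 1 →
      ∃ n ∈ normalizer (T : Set G), n * v * n⁻¹ = w := by
    intro v hv hv1 w hw hw1
    have hv2 := ((h.hV v).mp hv).2
    have hw2 := ((h.hV w).mp hw).2
    obtain ⟨c, hc⟩ := isConj_iff.mp (h1 v w hv1 hv2 hw1 hw2)
    have hc' : c ∈ normalizer (T : Set G) ⊔ pCore 2 G := by rw [h.hfrat]; trivial
    obtain ⟨n, hn, q, hq, rfl⟩ := mem_sup_of_normal_right.mp hc'
    refine ⟨n, hn, ?_⟩
    have hqv : q * v = v * q := mem_centralizer_iff.mp (h.hVZ hv) q hq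
    rw [← hc]
    calc n * v * n⁻¹ = n * (v * q * q⁻¹) * n⁻¹ := by group
      _ = n * (q * v * q⁻¹) * n⁻¹ := by rw [hqv]
      _ = n * q * v * (n * q)⁻¹ := by group
  -- `L = T X`
  have hLTX : L ≤ T ⊔ X := by
    obtain ⟨k, hk⟩ := hidx
    have ha : (T ⊔ X).relIndex L ∣ T.relIndex L := relIndex_dvd_of_le_left L le_sup_left
    have hb : (T ⊔ X).relIndex L ∣ X.relIndex L := relIndex_dvd_of_le_left L le_sup_right
    rw [hk] at ha
    obtain ⟨j, -, hj2⟩ := (Nat.dvd_prime_pow Nat.prime_two).mp ha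
    have hj0 : j = 0 := by
      by_contra hj0
      apply hXoddL
      refine dvd_trans ?_ hb
      rw [hj2]
      exact dvd_pow_self 2 hj0
    rw [hj0, pow_zero] at hj2
    exact relIndex_eq_one.mp hj2
  -- a nontrivial element of `V` centralized by `X`
  have hW : ∃ v ∈ V, v ≠ 1 ∧ ∀ x ∈ X, x * v = v * x := by
    have hM2 : IsPGroup 2 ↥(X ⊔ V) := hX2.to_sup_of_normal_right hV2
    have hVne : V ≠ ⊥ := by
      intro h0
      have := h.hV4
      rw [h0, card_bot] at this
      omega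
    have hV'ne : V.subgroupOf (X ⊔ V) ≠ ⊥ := by
      intro h0
      rw [subgroupOf_eq_bot] at h0
      exact hVne (h0.eq_bot_of_le le_sup_right)
    have hne := Cfsg.Agent.Helper63.normal_inf_center_ne_bot hM2 (V.subgroupOf (X ⊔ V)) hV'ne
    obtain ⟨a, ha1⟩ := (Subgroup.ne_bot_iff_exists_ne_one).mp hne
    have haV : ((a : ↥(X ⊔ V)) : G) ∈ V := mem_subgroupOf.mp a.2.1
    have haZ : (a : ↥(X ⊔ V)) ∈ center ↥(X ⊔ V) := a.2.2
    refine ⟨((a : ↥(X ⊔ V)) : G), haV, ?_, ?_⟩
    · intro h0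
      apply ha1
      apply Subtype.ext
      apply Subtype.ext
      rw [h0]; rfl
    · intro x hx
      have := mem_center_iff.mp haZ ⟨x, (le_sup_left : X ≤ X ⊔ V) hx⟩
      exact congrArg Subtype.val this
  -- `L ≤ C(V)`
  have hLV : L ≤ centralizer (V : Set G) := by
    obtain ⟨v0, hv0, hv01, hv0X⟩ := hW
    have hv0L : ∀ l ∈ L, l * v0 = v0 * l := by
      have hle : T ⊔ X ≤ centralizer ({v0} : Set G) := by
        refine sup_le ?_ ?_
        · intro t ht
          rw [mem_centralizer_iff]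
          intro y hy
          rw [Set.mem_singleton_iff] at hy
          rw [hy]
          exact mem_centralizer_iff.mp (h.hTV ht) v0 hv0
        · intro x hx
          rw [mem_centralizer_iff]
          intro y hy
          rw [Set.mem_singleton_iff] at hy
          rw [hy]
          exact (hv0X x hx).symm
      intro l hl
      exact (mem_centralizer_iff.mp (hle (hLTX hl)) v0 (Set.mem_singleton _)).symm
    intro l hl
    rw [mem_centralizer_iff]
    intro w hw
    by_cases hw1 : w = 1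
    · rw [hw1, one_mul, mul_one]
    · obtain ⟨n, hn, hnw⟩ := htrans v0 hv0 hv01 w hw hw1
      have hl' : n⁻¹ * l * n⁻¹⁻¹ ∈ L :=
        (mem_normalizer_iff.mp (hNL (inv_mem hn)) l).mp hl
      have hc := hv0L _ hl'
      rw [← hnw]
      calc n * v0 * n⁻¹ * l = n * (v0 * (n⁻¹ * l * n⁻¹⁻¹)) * n⁻¹ := by group
        _ = n * ((n⁻¹ * l * n⁻¹⁻¹) * v0) * n⁻¹ := by rw [hc]
        _ = l * (n * v0 * n⁻¹) := by group
  -- `X` does not centralize `T`
  have hXT : ¬ X ≤ centralizer (T : Set G) := by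
    intro hXcT
    have hQO : pCore 2 (G ⧸ pCore 2 G) = ⊥ := Cfsg.Agent.Helper62.pCore_quotient_pCore_eq_bot 2
    haveI := hsol
    have hGsol : IsPSolvable 2 G := Cfsg.Agent.Helper70.isPSolvable_of_isSolvable 2
    have hQsol : IsPSolvable 2 (G ⧸ pCore 2 G) :=
      Cfsg.Agent.Helper11.isPSolvable_quotient (pCore 2 G) hGsol
    have hcen := Cfsg.Agent.Helper62.centralizer_pPrimeCore_le_of_isPSolvable hQsol hQO
    have hXP : X ≤ pCore 2 G := by
      intro x hx
      have hmem : (QuotientGroup.mk' (pCore 2 G)) x ∈ pPrimeCore 2 (G ⧸ pCore 2 G) := by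
        apply hcen
        rw [mem_centralizer_iff]
        intro q hq
        obtain ⟨g, rfl⟩ := QuotientGroup.mk'_surjective (pCore 2 G) q
        have hg : g ∈ Cfsg.Agent.Helper21.GY.pqCore 2 G := by
          unfold Cfsg.Agent.Helper21.GY.pqCore
          rw [mem_comap]
          exact hq
        rw [h.hK] at hg
        obtain ⟨y, hy, t, ht, rfl⟩ := mem_sup_of_normal_left.mp hg
        have hy1 : (QuotientGroup.mk' (pCore 2 G)) y = 1 := by
          rw [QuotientGroup.mk'_apply, QuotientGroup.eq_one_iff]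
          exact hy
        have hxt : t * x = x * t := mem_centralizer_iff.mp (hXcT hx) t ht
        rw [map_mul, hy1, one_mul, ← map_mul, ← map_mul, hxt]
      obtain ⟨k, hk⟩ := hX2 ⟨x, hx⟩
      have hk' : x ^ (2 ^ k) = 1 := by
        have := congrArg Subtype.val hk
        rwa [coe_pow, coe_one] at this
      have hd1 : orderOf ((QuotientGroup.mk' (pCore 2 G)) x) ∣ 2 ^ k := by
        apply orderOf_dvd_of_pow_eq_one
        rw [← map_pow, hk', map_one]
      have hd2 : orderOf ((QuotientGroup.mk' (pCore 2 G)) x) ∣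
          Nat.card (pPrimeCore 2 (G ⧸ pCore 2 G)) := Subgroup.orderOf_dvd_natCard _ hmem
      have hcop : (Nat.card (pPrimeCore 2 (G ⧸ pCore 2 G))).Coprime (2 ^ k) :=
        Nat.Coprime.pow_right k (Cfsg.Agent.Lib.card_pPrimeCore_coprime 2)
      have hone : orderOf ((QuotientGroup.mk' (pCore 2 G)) x) = 1 :=
        Nat.eq_one_of_dvd_coprimes hcop hd2 hd1
      have hx1 := orderOf_eq_one_iff.mp hone
      rw [QuotientGroup.mk'_apply, QuotientGroup.eq_one_iff] at hx1
      exact hx1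
    have hXNP : X ≤ normalizer (T : Set G) ⊓ pCore 2 G := le_inf (le_trans hXL hLN) hXP
    have hd : (normalizer (T : Set G) ⊓ pCore 2 G).relIndex (normalizer (T : Set G)) ∣
        X.relIndex (normalizer (T : Set G)) := relIndex_dvd_of_le_left _ hXNP
    rw [inf_relIndex_left, ← relIndex_sup_right (K := pCore 2 G) (H := normalizer (T : Set G)),
      h.hfrat, relIndex_top_right] at hd
    exact hXN (dvd_trans hdvd hd)
  exact ⟨X, hX2, hXL, hXN, hLV, hXT, hfrat⟩

end Cfsg.Agent.Helper37.TH
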