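import Cfsg.Agent.Helper36.TorD.Defs
import Cfsg.Agent.Helper36.FieldFix
import Cfsg.Agent.Helper36.HFusionChev
import Cfsg.Agent.Helper19.Cox.DataF4
import Cfsg.Agent.Helper19.Cox.DataE8
import Cfsg.Agent.S1046
import Cfsg.Agent.Helper10.TorD_STEP

/-!
# (WORD) of helper36's TorD farm (S2372/S2375), hedge copy: words act on the torus coordinates
through the product of the `refM` in reverse order.
-/

set_option autoImplicit false

namespace Cfsg.Agent.Helper37.TorD

open Cfsg Cfsg.Lie Cfsg.Agent.Helper18 Cfsg.Agent.Helper19.Cox Cfsg.Agent.Helper19.Poinc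
  Cfsg.Agent.Helper80.Tor Cfsg.Agent.Helper36.TorD

/-- `zact 1 = id` -/
theorem WORD_zact_one {G : Type*} [CommGroup G] {l : ℕ} (c : Fin l → G) :
    zact (1 : Matrix (Fin l) (Fin l) ℤ) c = c := by
  ext j
  rw [zact_apply, Finset.prod_eq_single j]
  · simp
  · intro i _ hij
    simp [Matrix.one_apply_ne hij]
  · intro h; exact absurd (Finset.mem_univ j) h

section Fields

variable {F K : Type*} [Field F] [Fintype F] [Field K] [Fintype K] [Algebra F K]

variable (D : ChevalleyDatum)
  (hD : D ∈ [chevG2, chevB2, chevD4, chevF4, chevE6, chevE7, chevE8])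
include hD

/-- (WORD) words act through the product of the `refM` in reverse order -/
theorem word_conj (hcr : cartanReflOK D = true) (w : List ℕ) (hw : ∀ i ∈ w, i < D.rank)
    (c : Fin D.rank → Kˣ) :
    nWordsGL D K w * torusHom D K c * (nWordsGL D K w)⁻¹ = torusHom D K (zact (wordM D w.reverse) c) := by
  induction w with
  | nil =>
    have h1 : nWordsGL D K [] = 1 := by simp [nWordsGL]
    have h2 : wordM D ([] : List ℕ).reverse = 1 := by simp [wordM]
    rw [h1, h2, WORD_zact_one]
    group
  | cons i w ih =>
    have hw' : ∀ j ∈ w, j < D.rank := fun j hj => hw j (List.mem_cons_of_mem _ hj)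
    have hi : i < D.rank := hw i List.mem_cons_self
    have h1 : nWordsGL D K (i :: w) = nWordsGL D K [i] * nWordsGL D K w := by
      simp [nWordsGL]
    have h2 : wordM D (i :: w).reverse = wordM D w.reverse * refM D i := by
      simp [wordM]
    rw [h1, h2, zact_mul]
    have ihw := ih hw'
    have hstep := Cfsg.Agent.Helper10.TorD.step_conj (K := K) D hD hcr i hi
      (zact (wordM D w.reverse) c)
    calc nWordsGL D K [i] * nWordsGL D K w * torusHom D K c * (nWordsGL D K [i] * nWordsGL D K w)⁻¹
        = nWordsGL D K [i] * (nWordsGL D K w * torusHom D K c * (nWordsGL D K w)⁻¹) *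
            (nWordsGL D K [i])⁻¹ := by group
      _ = _ := by rw [ihw, hstep]

end Fields

end Cfsg.Agent.Helper37.TorD
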