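import Mathlib
import Cfsg.Agent.Helper84.SU3P.Defs

/-!
(UZ) `mt_uz` for helper84's S2289 farm #12539 (helper37): the image of the conjugates `uz H X i = H^i X H^{-i}` in the
hyperbolic model of `SU₃`.
-/

set_option autoImplicit false

namespace Cfsg.Agent.Helper37.SU3P

open Matrix Polynomial Cfsg.Agent.Helper84.RU3 Cfsg.Agent.Helper84.SU3P Cfsg.Agent.Helper96.SLPres
  Cfsg.Agent.Helper96.StemSLTwo Cfsg.Agent.Helper96.StPres

variable {K : Type*} [Field K] (bar : K →+* K) (hb : ∀ x, bar (bar x) = x)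
include hb

omit hb in
/-- products of diagonal elements -/
theorem hM_mul_hM_aux (l l' : K) (hl : l ≠ 0) (hl' : l' ≠ 0) : hM bar l * hM bar l' = hM bar (l * l') := by
  have hbl : bar l ≠ 0 := (map_ne_zero bar).mpr hl
  have hbl' : bar l' ≠ 0 := (map_ne_zero bar).mpr hl'
  unfold hM
  ext i j
  fin_cases i <;> fin_cases j <;>
    simp [Matrix.mul_apply, Fin.sum_univ_three, map_mul] <;> field_simp

omit hb in
theorem hM_one_aux : hM bar (1 : K) = 1 := by
  unfold hM
  ext i j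
  fin_cases i <;> fin_cases j <;> simp [map_one]

/-- conjugation of an upper unitriangular element by a diagonal element -/
theorem hM_conj_uM_aux (l a b : K) (hl : l ≠ 0) :
    hM bar l * uM bar a b * hM bar l⁻¹ = uM bar (a * (bar l ^ 2 / l)) (l * bar l * b) := by
  have hbl : bar l ≠ 0 := (map_ne_zero bar).mpr hl
  unfold hM uM
  ext i j
  fin_cases i <;> fin_cases j <;>
    simp [Matrix.mul_apply, Fin.sum_univ_three, map_mul, map_inv₀, map_div₀, map_pow, hb] <;> field_simp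

omit hb in
/-- the natural powers of a diagonal element -/
theorem mt_pow_hM_aux (H : SUJ bar) (l : K) (hl : l ≠ 0) (hH : mt bar H = hM bar l) (n : ℕ) :
    mt bar (H ^ n) = hM bar (l ^ n) := by
  induction n with
  | zero => rw [pow_zero, pow_zero, mt_one, hM_one_aux]
  | succ n ih =>
    rw [pow_succ, pow_succ, mt_mul, ih, hH, hM_mul_hM_aux bar _ _ (pow_ne_zero n hl) hl]

omit hb in
/-- the inverse of a diagonal element -/
theorem mt_inv_hM_aux (G : SUJ bar) (l : K) (hl : l ≠ 0) (hG : mt bar G = hM bar l) :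
    mt bar G⁻¹ = hM bar l⁻¹ := by
  have h1 : hM bar l * hM bar l⁻¹ = 1 := by
    rw [hM_mul_hM_aux bar _ _ hl (inv_ne_zero hl), mul_inv_cancel₀ hl, hM_one_aux]
  calc mt bar G⁻¹ = mt bar G⁻¹ * (hM bar l * hM bar l⁻¹) := by rw [h1, Matrix.mul_one]
    _ = (mt bar G⁻¹ * mt bar G) * hM bar l⁻¹ := by rw [hG, Matrix.mul_assoc]
    _ = hM bar l⁻¹ := by rw [mt_inv_mul, Matrix.one_mul]

omit hb in
/-- the integral powers of a diagonal element -/
theorem mt_zpow_hM_aux (H : SUJ bar) (l : K) (hl : l ≠ 0) (hH : mt bar H = hM bar l) (i : ℤ) :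
    mt bar (H ^ i) = hM bar (l ^ i) := by
  cases i with
  | ofNat n =>
    rw [Int.ofNat_eq_natCast, zpow_natCast, zpow_natCast]
    exact mt_pow_hM_aux bar H l hl hH n
  | negSucc n =>
    rw [zpow_negSucc, zpow_negSucc]
    exact mt_inv_hM_aux bar _ _ (pow_ne_zero _ hl) (mt_pow_hM_aux bar H l hl hH (n + 1))

/-- (UZ) the image of the conjugates `uz` -/
theorem mt_uz (X H : SUJ bar) (a b l : K) (hl : l ≠ 0)
    (hX : mt bar X = uM bar a b) (hH : mt bar H = hM bar l) (i : ℤ) :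
    mt bar (uz H X i) = uM bar (a * (bar l ^ 2 / l) ^ i) ((l * bar l) ^ i * b) := by
  have hli : l ^ i ≠ 0 := zpow_ne_zero i hl
  have h1 := mt_zpow_hM_aux bar H l hl hH i
  have h2 := mt_inv_hM_aux bar (H ^ i) (l ^ i) hli h1
  unfold uz
  rw [mt_mul, mt_mul, h1, h2, hX, hM_conj_uM_aux bar hb _ _ _ hli]
  congr 1
  · rw [map_zpow₀, div_zpow, ← zpow_natCast, ← zpow_natCast, ← _root_.zpow_mul, ← _root_.zpow_mul, mul_comm i]
  · rw [map_zpow₀, mul_zpow]

end Cfsg.Agent.Helper37.SU3P
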