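import Mathlib

/-!
(I) `irr_piece` for helper24's sub-farm #12447 of helper43's S2500 part 7 (helper37): a self-adjoint endomorphism
of a nondegenerate alternating space of dimension `6` (characteristic not `2`) with irreducible minimal polynomial
has minimal polynomial of degree `1` or `3`.  The cyclic subspaces `F[ℓ] x` are totally isotropic of dimension
`d = deg μ`, so `d ≤ 3`; for `d = 2` two independent cyclic planes give a totally isotropic `4`-space.
-/

set_option autoImplicit false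

namespace Cfsg.Agent.Helper37.Cov2.P7

open Polynomial Module

variable {F V : Type*} [Field F] [AddCommGroup V] [Module F V]

/-- `p ↦ p(ℓ) x` -/
noncomputable def cycMap (ℓ : Module.End F V) (x : V) : F[X] →ₗ[F] V :=
  (LinearMap.applyₗ x : Module.End F V →ₗ[F] V) ∘ₗ (Polynomial.aeval ℓ).toLinearMap

theorem cycMap_apply (ℓ : Module.End F V) (x : V) (p : F[X]) : cycMap ℓ x p = Polynomial.aeval ℓ p x := rfl

/-- the cyclic subspace `F[ℓ] x` -/
noncomputable def cyc (ℓ : Module.End F V) (x : V) : Submodule F V := LinearMap.range (cycMap ℓ x)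

theorem mem_cyc (ℓ : Module.End F V) (x v : V) : v ∈ cyc ℓ x ↔ ∃ p : F[X], Polynomial.aeval ℓ p x = v := by
  unfold cyc
  rw [LinearMap.mem_range]
  rfl

theorem self_mem_cyc (ℓ : Module.End F V) (x : V) : x ∈ cyc ℓ x :=
  (mem_cyc ℓ x x).2 ⟨1, by simp⟩

theorem aeval_mem_cyc (ℓ : Module.End F V) (x v : V) (hv : v ∈ cyc ℓ x) (q : F[X]) :
    Polynomial.aeval ℓ q v ∈ cyc ℓ x := by
  obtain ⟨p, rfl⟩ := (mem_cyc ℓ x v).1 hv
  refine (mem_cyc ℓ x _).2 ⟨q * p, ?_⟩
  rw [map_mul, Module.End.mul_apply]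

theorem cyc_le_of_mem (ℓ : Module.End F V) (x v : V) (hv : v ∈ cyc ℓ x) : cyc ℓ v ≤ cyc ℓ x := by
  intro u hu
  obtain ⟨q, rfl⟩ := (mem_cyc ℓ v u).1 hu
  exact aeval_mem_cyc ℓ x v hv q

/-- self-adjointness extends to the polynomials in `ℓ` -/
theorem aeval_selfadj (B : LinearMap.BilinForm F V) (ℓ : Module.End F V)
    (hsa : ∀ x y, B (ℓ x) y = B x (ℓ y)) (p : F[X]) (x y : V) :
    B (Polynomial.aeval ℓ p x) y = B x (Polynomial.aeval ℓ p y) := by
  induction p using Polynomial.induction_on generalizing x y with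
  | C a =>
    simp only [Polynomial.aeval_C, Module.algebraMap_end_apply, map_smul, LinearMap.smul_apply]
  | add p q hp hq =>
    simp only [map_add, LinearMap.add_apply]
    rw [hp, hq]
  | monomial n a ih =>
    have e : (Polynomial.C a * Polynomial.X ^ (n + 1) : F[X]) = Polynomial.C a * Polynomial.X ^ n * Polynomial.X := by
      rw [pow_succ, mul_assoc]
    rw [e, map_mul, Polynomial.aeval_X, Module.End.mul_apply, Module.End.mul_apply, ih, hsa]
    have hc : ∀ z : V, ℓ (Polynomial.aeval ℓ (Polynomial.C a * Polynomial.X ^ n) z) =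
        Polynomial.aeval ℓ (Polynomial.C a * Polynomial.X ^ n) (ℓ z) := by
      intro z
      have h1 : ℓ * Polynomial.aeval ℓ (Polynomial.C a * Polynomial.X ^ n) =
          Polynomial.aeval ℓ (Polynomial.C a * Polynomial.X ^ n) * ℓ := by
        have hc' := (Polynomial.commute_X (Polynomial.C a * Polynomial.X ^ n : F[X])).map (Polynomial.aeval ℓ)
        rw [Polynomial.aeval_X] at hc'
        exact hc'.eq
      have := congrArg (fun f : Module.End F V => f z) h1
      simpa [Module.End.mul_apply] using this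
    rw [hc]

/-- `B x (p(ℓ) x) = 0` -/
theorem apply_aeval_self (h2 : (2 : F) ≠ 0) (B : LinearMap.BilinForm F V) (hA : B.IsAlt)
    (ℓ : Module.End F V) (hsa : ∀ x y, B (ℓ x) y = B x (ℓ y)) (p : F[X]) (x : V) :
    B x (Polynomial.aeval ℓ p x) = 0 := by
  have h1 : B x (Polynomial.aeval ℓ p x) = B (Polynomial.aeval ℓ p x) x :=
    (aeval_selfadj B ℓ hsa p x x).symm
  have h3 : -B x (Polynomial.aeval ℓ p x) = B (Polynomial.aeval ℓ p x) x := hA.neg_eq _ _
  have h4 : (2 : F) * B x (Polynomial.aeval ℓ p x) = 0 := by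
    rw [two_mul]
    nth_rewrite 1 [h1]
    rw [← h3]
    exact neg_add_cancel _
  rcases mul_eq_zero.1 h4 with h | h
  · exact absurd h h2
  · exact h

/-- the cyclic subspaces are totally isotropic -/
theorem cyc_isotropic (h2 : (2 : F) ≠ 0) (B : LinearMap.BilinForm F V) (hA : B.IsAlt)
    (ℓ : Module.End F V) (hsa : ∀ x y, B (ℓ x) y = B x (ℓ y)) (x u v : V) (hu : u ∈ cyc ℓ x)
    (hv : v ∈ cyc ℓ x) : B u v = 0 := by
  obtain ⟨p, rfl⟩ := (mem_cyc ℓ x u).1 hu
  obtain ⟨q, rfl⟩ := (mem_cyc ℓ x v).1 hv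
  rw [aeval_selfadj B ℓ hsa p, ← Module.End.mul_apply, ← map_mul]
  exact apply_aeval_self h2 B hA ℓ hsa _ x

variable [FiniteDimensional F V]

omit [FiniteDimensional F V] in
/-- a polynomial in `ℓ` killing a nonzero vector is a multiple of the irreducible minimal polynomial -/
theorem minpoly_dvd_of_aeval_apply_eq_zero (ℓ : Module.End F V) (hirr : Irreducible (minpoly F ℓ))
    (x : V) (hx : x ≠ 0) (p : F[X]) (hp : Polynomial.aeval ℓ p x = 0) : minpoly F ℓ ∣ p := by
  rcases hirr.isCoprime_or_dvd p with hc | hd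
  · exfalso
    obtain ⟨a, b, hab⟩ := hc
    apply hx
    have h1 : Polynomial.aeval ℓ (a * minpoly F ℓ + b * p) x = x := by
      rw [hab]
      simp
    rw [map_add, map_mul, map_mul, minpoly.aeval, mul_zero, zero_add, Module.End.mul_apply, hp,
      map_zero] at h1
    exact h1.symm
  · exact hd

/-- the dimension of a cyclic subspace -/
theorem finrank_cyc (ℓ : Module.End F V) (hirr : Irreducible (minpoly F ℓ)) (x : V) (hx : x ≠ 0) :
    finrank F (cyc ℓ x) = (minpoly F ℓ).natDegree := by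
  have hint : IsIntegral F ℓ := Algebra.IsIntegral.isIntegral ℓ
  have hmon : (minpoly F ℓ).Monic := minpoly.monic hint
  set d := (minpoly F ℓ).natDegree with hd
  -- the restriction to the polynomials of degree `< d`
  let ψ : ↥(Polynomial.degreeLT F d) →ₗ[F] ↥(cyc ℓ x) :=
    LinearMap.codRestrict (cyc ℓ x) ((cycMap ℓ x) ∘ₗ (Polynomial.degreeLT F d).subtype)
      (fun p => LinearMap.mem_range_self _ _)
  have hψ : ∀ p : ↥(Polynomial.degreeLT F d), ((ψ p : ↥(cyc ℓ x)) : V) = Polynomial.aeval ℓ (p : F[X]) x :=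
    fun p => rfl
  have hinj : Function.Injective ψ := by
    rw [← LinearMap.ker_eq_bot, LinearMap.ker_eq_bot']
    intro p hp
    have h1 : Polynomial.aeval ℓ (p : F[X]) x = 0 := by
      rw [← hψ, hp]
      rfl
    have h2 := minpoly_dvd_of_aeval_apply_eq_zero ℓ hirr x hx _ h1
    have h3 : (p : F[X]).degree < d := Polynomial.mem_degreeLT.1 p.2
    by_contra hne
    have hne' : (p : F[X]) ≠ 0 := fun h => hne (Subtype.ext h)
    have h4 := Polynomial.natDegree_le_of_dvd h2 hne'
    have h5 : (p : F[X]).natDegree < d := by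
      rw [Polynomial.natDegree_lt_iff_degree_lt hne']
      exact h3
    omega
  have hsurj : Function.Surjective ψ := by
    rintro ⟨v, hv⟩
    obtain ⟨p, rfl⟩ := (mem_cyc ℓ x v).1 hv
    have hdeg : (p %ₘ minpoly F ℓ).degree < d := by
      have h1 := Polynomial.degree_modByMonic_lt p hmon
      have h2 : (minpoly F ℓ).degree = d := Polynomial.degree_eq_natDegree hmon.ne_zero
      rw [h2] at h1
      exact h1
    refine ⟨⟨p %ₘ minpoly F ℓ, Polynomial.mem_degreeLT.2 hdeg⟩, ?_⟩
    apply Subtype.ext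
    rw [hψ]
    show Polynomial.aeval ℓ (p %ₘ minpoly F ℓ) x = Polynomial.aeval ℓ p x
    rw [Polynomial.aeval_modByMonic_eq_self_of_root (minpoly.aeval F ℓ)]
  have e : ↥(Polynomial.degreeLT F d) ≃ₗ[F] ↥(cyc ℓ x) := LinearEquiv.ofBijective ψ ⟨hinj, hsurj⟩
  rw [← e.finrank_eq, (Polynomial.degreeLTEquiv F d).finrank_eq, Module.finrank_fin_fun]

/-- a totally isotropic subspace has dimension at most half -/
theorem two_mul_finrank_le (B : LinearMap.BilinForm F V) (hB : B.Nondegenerate) (W : Submodule F V)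
    (hW : ∀ u ∈ W, ∀ v ∈ W, B u v = 0) : 2 * finrank F W ≤ finrank F V := by
  have h1 : W ≤ B.orthogonal W := by
    intro v hv
    rw [LinearMap.BilinForm.mem_orthogonal_iff]
    intro u hu
    exact hW u hu v hv
  have h2 := Submodule.finrank_mono h1
  have h3 := LinearMap.BilinForm.finrank_orthogonal hB W
  have h4 := Submodule.finrank_le W
  omega

/-- (I) the irreducible case -/
theorem irr_piece (h2 : (2 : F) ≠ 0) (B : LinearMap.BilinForm F V) (hB : B.Nondegenerate) (hA : B.IsAlt)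
    (hdim : Module.finrank F V = 6) (ℓ : Module.End F V) (hsa : ∀ x y, B (ℓ x) y = B x (ℓ y))
    (hirr : Irreducible (minpoly F ℓ)) :
    (minpoly F ℓ).natDegree = 1 ∨ (minpoly F ℓ).natDegree = 3 := by
  have hnt : Nontrivial V := Module.nontrivial_of_finrank_pos (R := F) (by omega)
  have hint : IsIntegral F ℓ := Algebra.IsIntegral.isIntegral ℓ
  have hpos : 0 < (minpoly F ℓ).natDegree := minpoly.natDegree_pos hint
  obtain ⟨x, hx⟩ := exists_ne (0 : V)
  have hcx := finrank_cyc ℓ hirr x hx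
  have hle := two_mul_finrank_le B hB (cyc ℓ x) (fun u hu v hv => cyc_isotropic h2 B hA ℓ hsa x u v hu hv)
  rw [hcx, hdim] at hle
  -- the degree is `1`, `2` or `3`
  have hcases : (minpoly F ℓ).natDegree = 1 ∨ (minpoly F ℓ).natDegree = 2 ∨ (minpoly F ℓ).natDegree = 3 := by
    omega
  rcases hcases with h | h | h
  · exact Or.inl h
  · exfalso
    -- a vector orthogonal to the cyclic plane, outside it
    have horth : finrank F (B.orthogonal (cyc ℓ x)) = 4 := by
      rw [LinearMap.BilinForm.finrank_orthogonal hB, hdim, hcx, h]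
    have hex : ∃ y ∈ B.orthogonal (cyc ℓ x), y ∉ cyc ℓ x := by
      by_contra hno
      push Not at hno
      have h1 : B.orthogonal (cyc ℓ x) ≤ cyc ℓ x := fun y hy => hno y hy
      have h3 := Submodule.finrank_mono h1
      rw [horth, hcx, h] at h3
      omega
    obtain ⟨y, hy, hyx⟩ := hex
    have hy0 : y ≠ 0 := by
      rintro rfl
      exact hyx (Submodule.zero_mem _)
    have hcy := finrank_cyc ℓ hirr y hy0
    -- the two cyclic planes meet trivially
    have hinf : cyc ℓ x ⊓ cyc ℓ y = ⊥ := by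
      rw [Submodule.eq_bot_iff]
      intro v hv
      obtain ⟨hvx, hvy⟩ := Submodule.mem_inf.1 hv
      by_contra hv0
      have hcv := finrank_cyc ℓ hirr v hv0
      have e1 : cyc ℓ v = cyc ℓ x :=
        Submodule.eq_of_le_of_finrank_eq (cyc_le_of_mem ℓ x v hvx) (by rw [hcv, hcx])
      have e2 : cyc ℓ v = cyc ℓ y :=
        Submodule.eq_of_le_of_finrank_eq (cyc_le_of_mem ℓ y v hvy) (by rw [hcv, hcy])
      apply hyx
      rw [← e1, e2]
      exact self_mem_cyc ℓ y
    -- the sum is totally isotropic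
    have hxy : ∀ u ∈ cyc ℓ x, ∀ v ∈ cyc ℓ y, B u v = 0 := by
      intro u hu v hv
      obtain ⟨q, rfl⟩ := (mem_cyc ℓ y v).1 hv
      rw [← aeval_selfadj B ℓ hsa q]
      exact (LinearMap.BilinForm.mem_orthogonal_iff.1 hy) _ (aeval_mem_cyc ℓ x u hu q)
    have hyx' : ∀ v ∈ cyc ℓ y, ∀ u ∈ cyc ℓ x, B v u = 0 := by
      intro v hv u hu
      have := hA.neg_eq u v
      rw [hxy u hu v hv, neg_zero] at this
      exact this.symm
    have hiso : ∀ a ∈ cyc ℓ x ⊔ cyc ℓ y, ∀ b ∈ cyc ℓ x ⊔ cyc ℓ y, B a b = 0 := by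
      intro a ha b hb
      obtain ⟨a1, ha1, a2, ha2, rfl⟩ := Submodule.mem_sup.1 ha
      obtain ⟨b1, hb1, b2, hb2, rfl⟩ := Submodule.mem_sup.1 hb
      simp only [map_add, LinearMap.add_apply]
      rw [cyc_isotropic h2 B hA ℓ hsa x a1 b1 ha1 hb1, cyc_isotropic h2 B hA ℓ hsa y a2 b2 ha2 hb2,
        hxy a1 ha1 b2 hb2, hyx' a2 ha2 b1 hb1]
      simp
    have hle2 := two_mul_finrank_le B hB (cyc ℓ x ⊔ cyc ℓ y) hiso
    have hsum := Submodule.finrank_sup_add_finrank_inf_eq (cyc ℓ x) (cyc ℓ y)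
    rw [hinf, finrank_bot, hcx, hcy, h] at hsum
    rw [hdim] at hle2
    omega
  · exact Or.inr h

end Cfsg.Agent.Helper37.Cov2.P7
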