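import Cfsg.Agent.Helper25.FSwan.Defs

/-!
# Fong–Swan farm (helper25, S4440, #15059), piece (INFL1): `brauerChar_comp` (helper37)

Self-contained: the `p`-regularity statement (PREG) is re-proved here under the name
`INFL1_isPRegular_map_iff`.
-/

set_option autoImplicit false
set_option linter.unusedSectionVars false
set_option linter.unusedVariables false

namespace Cfsg.Agent.Helper37.FS

open Cfsg Cfsg.Agent.Helper16 Cfsg.Agent.Helper16.DT Cfsg.Agent.Helper25.FS

universe u

variable {p : ℕ} [Fact p.Prime] {M : Ideal AlgInt} [M.IsMaximal] {G : Type u} [Group G]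

omit [M.IsMaximal] in
/-- a homomorphism with kernel of order prime to `p` preserves and reflects `p`-regularity -/
theorem INFL1_isPRegular_map_iff {A B : Type*} [Group A] [Group B] (f : A →* B) [Finite f.ker]
    (h : ¬ p ∣ Nat.card f.ker) (x : A) : IsPRegular p (f x) ↔ IsPRegular p x := by
  have hp : p.Prime := Fact.out
  unfold IsPRegular
  constructor
  · intro h1 h2
    apply h1
    -- `orderOf x ∣ orderOf (f x) * |ker f|`
    have hmem : x ^ orderOf (f x) ∈ f.ker := by
      rw [MonoidHom.mem_ker, map_pow, pow_orderOf_eq_one]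
    have h3 : (⟨x ^ orderOf (f x), hmem⟩ : f.ker) ^ Nat.card f.ker = 1 := pow_card_eq_one'
    have h4 : x ^ (orderOf (f x) * Nat.card f.ker) = 1 := by
      have := congrArg Subtype.val h3
      rw [pow_mul]
      simpa using this
    have h5 : orderOf x ∣ orderOf (f x) * Nat.card f.ker := orderOf_dvd_of_pow_eq_one h4
    rcases (hp.dvd_mul).mp (h2.trans h5) with h6 | h6
    · exact h6
    · exact absurd h6 h
  · intro h1 h2
    exact h1 (h2.trans (orderOf_map_dvd f x))

/-- (INFL) composition with a homomorphism whose kernel has order prime to `p`. -/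
theorem brauerChar_comp {A B : Type u} [Group A] [Group B] (f : A →* B) [Finite f.ker]
    (h : ¬ p ∣ Nat.card f.ker) {ι : Type*} [Fintype ι] [DecidableEq ι]
    (ρ : B →* Matrix ι ι (AlgInt ⧸ M)) :
    brauerChar p M (ρ.comp f) = brauerChar p M ρ ∘ f := by
  funext x
  show pRegularPart p (brauerFull p M (ρ.comp f)) x = pRegularPart p (brauerFull p M ρ) (f x)
  have hiff := INFL1_isPRegular_map_iff (p := p) f h x
  unfold pRegularPart
  by_cases hx : IsPRegular p x
  · rw [if_pos hx, if_pos (hiff.mpr hx)]
    rfl
  · rw [if_neg hx, if_neg (fun h' => hx (hiff.mp h'))]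

end Cfsg.Agent.Helper37.FS
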