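import Cfsg.Agent.Helper25.FSwan.Defs
import Cfsg.Agent.Helper3.Orthogonality

/-!
# Fong–Swan farm (helper25, S4440, #15059), piece (KO1): `exists_dichotomy` (helper37)
-/

set_option autoImplicit false
set_option linter.unusedSectionVars false
set_option linter.unusedVariables false

namespace Cfsg.Agent.Helper37.FS

open Cfsg Cfsg.Agent.Helper16 Cfsg.Agent.Helper16.DT Cfsg.Agent.Helper25.FS

universe u

variable {p : ℕ} [Fact p.Prime] {M : Ideal AlgInt} [M.IsMaximal] {G : Type u} [Group G]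

open scoped ComplexConjugate in
/-- (KO1) the dichotomy. -/
theorem exists_dichotomy (hpM : (p : AlgInt) ∈ M) [Finite G] (hFS : FSwan p M G)
    (S : Finset (G → ℂ)) (d : IrrCharacter G → (G → ℂ) → ℕ)
    (hS : (↑S : Set (G → ℂ)) = IBr p M G)
    (hdec : ∀ χ : IrrCharacter G, pRegularPart p (χ : G → ℂ) = ∑ φ ∈ S, (d χ φ : ℂ) • φ)
    (hdeg : ∀ φ ∈ S, ∃ n : ℕ, 0 < n ∧ φ 1 = n)
    (U : Set (IrrCharacter G))
    (hU : ∀ x : G, p ∣ orderOf x → ∑ᶠ χ ∈ U, (χ : G → ℂ) 1 * (χ : G → ℂ) x = 0) :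
    ∃ A : Set (G → ℂ), ∀ χ : IrrCharacter G, ∀ φ ∈ S, d χ φ ≠ 0 → (χ ∈ U ↔ φ ∈ A) := by
  classical
  let _ : Fintype G := Fintype.ofFinite G
  let _ : Fintype (IrrCharacter G) := Fintype.ofFinite _
  have hp : p.Prime := Fact.out
  have hone : IsPRegular p (1 : G) := by
    unfold IsPRegular
    rw [orderOf_one]
    exact fun h => hp.one_lt.ne' (Nat.dvd_one.mp h)
  have hreg1 : ∀ f : G → ℂ, pRegularPart p f 1 = f 1 := by
    intro f
    unfold pRegularPart
    rw [if_pos hone]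
  have hirr1 : ∀ χ : IrrCharacter G, ∃ n : ℕ, (χ : G → ℂ) 1 = n := by
    rintro ⟨χ, n, ρ, hρ, rfl⟩
    exact ⟨n, by simp [Representation.char_one]⟩
  -- the function `Θ`
  set UF : Finset (IrrCharacter G) := Finset.univ.filter (fun χ => χ ∈ U) with hUF
  have hmemUF : ∀ χ : IrrCharacter G, χ ∈ UF ↔ χ ∈ U := by
    intro χ
    rw [hUF, Finset.mem_filter]
    exact ⟨fun h => h.2, fun h => ⟨Finset.mem_univ _, h⟩⟩
  set Θ : G → ℂ := ∑ χ ∈ UF, ((χ : G → ℂ) 1) • (χ : G → ℂ) with hΘ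
  have hΘfin : ∀ g, Θ g = ∑ᶠ χ ∈ U, (χ : G → ℂ) 1 * (χ : G → ℂ) g := by
    intro g
    rw [finsum_mem_eq_finite_toFinset_sum _ (Set.toFinite U), hΘ, Finset.sum_apply]
    apply Finset.sum_congr
    · ext χ
      rw [hmemUF, Set.Finite.mem_toFinset]
    · intro χ _
      rfl
  have hΘ0 : ∀ g, ¬ IsPRegular p g → Θ g = 0 := by
    intro g hg
    rw [hΘfin]
    exact hU g (not_not.mp hg)
  -- the functional `I f = ⟨f, Θ⟩`
  have hI1 : ∀ ψ : IrrCharacter G,
      classInner (ψ : G → ℂ) Θ = if ψ ∈ U then (ψ : G → ℂ) 1 else 0 := by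
    intro ψ
    rw [← Cfsg.Agent.Helper3.classInner_conj_symm, hΘ, Cfsg.Agent.Helper3.classInner_sum_left]
    simp only [Cfsg.Agent.Helper3.classInner_smul_left, Cfsg.Agent.Helper3.classInner_irr,
      mul_ite, mul_one, mul_zero, Finset.sum_ite_eq']
    obtain ⟨n, hn⟩ := hirr1 ψ
    by_cases hψ : ψ ∈ U
    · rw [if_pos ((hmemUF ψ).mpr hψ), if_pos hψ, hn, map_natCast]
    · rw [if_neg (fun h => hψ ((hmemUF ψ).mp h)), if_neg hψ, map_zero]
  have hI2 : ∀ f : G → ℂ, classInner f Θ = classInner (pRegularPart p f) Θ := by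
    intro f
    unfold classInner
    congr 1
    apply Finset.sum_congr rfl
    intro g _
    by_cases hg : IsPRegular p g
    · unfold pRegularPart
      rw [if_pos hg]
    · rw [hΘ0 g hg, map_zero, mul_zero, mul_zero]
  have hI3 : ∀ c : (G → ℂ) → ℂ, classInner (∑ φ ∈ S, c φ • φ) Θ =
      ∑ φ ∈ S, c φ * classInner φ Θ := by
    intro c
    rw [Cfsg.Agent.Helper3.classInner_sum_left]
    apply Finset.sum_congr rfl
    intro φ _
    rw [Cfsg.Agent.Helper3.classInner_smul_left]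
  -- the degrees
  let N : (G → ℂ) → ℕ := fun φ => if h : φ ∈ S then (hdeg φ h).choose else 0
  have hN : ∀ φ ∈ S, 0 < N φ ∧ φ 1 = N φ := by
    intro φ hφ
    have := (hdeg φ hφ).choose_spec
    simp only [N, dif_pos hφ]
    exact this
  -- the values of `I` on `S`
  have hIS : ∀ φ ∈ S, classInner φ Θ = 0 ∨ classInner φ Θ = φ 1 := by
    intro φ hφ
    have hφI : φ ∈ IBr p M G := by
      rw [← hS]
      exact hφ
    obtain ⟨χ, hχ⟩ := hFS φ hφI
    have h1 : classInner φ Θ = classInner (χ : G → ℂ) Θ := by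
      rw [hI2 (χ : G → ℂ), hχ]
    have h2 : (χ : G → ℂ) 1 = φ 1 := by
      rw [← hχ, hreg1]
    rw [h1, hI1 χ, ← h2]
    by_cases hχU : χ ∈ U
    · right
      rw [if_pos hχU]
    · left
      rw [if_neg hχU]
  let e : (G → ℂ) → ℕ := fun φ => if classInner φ Θ = 0 then 0 else 1
  have he : ∀ φ ∈ S, classInner φ Θ = ((N φ * e φ : ℕ) : ℂ) := by
    intro φ hφ
    rcases hIS φ hφ with h | h
    · simp only [e, if_pos h, mul_zero, Nat.cast_zero]
      exact h
    · by_cases h0 : classInner φ Θ = 0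
      · simp only [e, if_pos h0, mul_zero, Nat.cast_zero]
        exact h0
      · simp only [e, if_neg h0, mul_one]
        rw [h, (hN φ hφ).2]
  refine ⟨{φ | classInner φ Θ ≠ 0}, ?_⟩
  intro ψ φ hφ hd
  have hsum1 : ((∑ φ ∈ S, d ψ φ * N φ : ℕ) : ℂ) = (ψ : G → ℂ) 1 := by
    rw [← hreg1 (ψ : G → ℂ), hdec ψ, Finset.sum_apply, Nat.cast_sum]
    apply Finset.sum_congr rfl
    intro φ' hφ'
    rw [Pi.smul_apply, smul_eq_mul, (hN φ' hφ').2, Nat.cast_mul]
  have hsum2 : ((∑ φ ∈ S, d ψ φ * N φ * e φ : ℕ) : ℂ) =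
      if ψ ∈ U then (ψ : G → ℂ) 1 else 0 := by
    rw [← hI1 ψ, hI2 (ψ : G → ℂ), hdec ψ, hI3, Nat.cast_sum]
    apply Finset.sum_congr rfl
    intro φ' hφ'
    rw [he φ' hφ', mul_assoc, Nat.cast_mul]
  have hNpos : 0 < N φ := (hN φ hφ).1
  have hdpos : 0 < d ψ φ := Nat.pos_of_ne_zero hd
  constructor
  · intro hψU
    rw [if_pos hψU, ← hsum1] at hsum2
    have h3 : ∑ φ ∈ S, d ψ φ * N φ * e φ = ∑ φ ∈ S, d ψ φ * N φ := Nat.cast_injective hsum2
    have hle : ∀ i ∈ S, d ψ i * N i * e i ≤ d ψ i * N i := by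
      intro i _
      have : e i ≤ 1 := by
        simp only [e]
        split_ifs <;> omega
      calc d ψ i * N i * e i ≤ d ψ i * N i * 1 := Nat.mul_le_mul_left _ this
        _ = d ψ i * N i := mul_one _
    have h4 := (Finset.sum_eq_sum_iff_of_le hle).mp h3 φ hφ
    show classInner φ Θ ≠ 0
    intro h0
    simp only [e, if_pos h0, mul_zero] at h4
    have : 0 < d ψ φ * N φ := Nat.mul_pos hdpos hNpos
    omega
  · intro hφA
    by_contra hψU
    rw [if_neg hψU] at hsum2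
    have h3 : ∑ φ ∈ S, d ψ φ * N φ * e φ = 0 := by exact_mod_cast hsum2
    have h4 := (Finset.sum_eq_zero_iff.mp h3) φ hφ
    have hφA' : classInner φ Θ ≠ 0 := hφA
    simp only [e, if_neg hφA', mul_one] at h4
    have : 0 < d ψ φ * N φ := Nat.mul_pos hdpos hNpos
    omega

end Cfsg.Agent.Helper37.FS
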