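import Mathlib

set_option autoImplicit false

namespace Cfsg.Agent.Helper37

open Module

variable {F : Type*} [Field F] {V : Type*} [AddCommGroup V] [Module F V]

theorem isSemisimple_of_sq_one (h2 : (2:F) ≠ 0) (f : End F V) (hf : f * f = 1) : f.IsSemisimple := by
  have hsep : (Polynomial.X ^ 2 - Polynomial.C (1:F)).Separable :=
    Polynomial.separable_X_pow_sub_C (1:F) (by exact_mod_cast h2) one_ne_zero
  apply Module.End.isSemisimple_of_squarefree_aeval_eq_zero hsep.squarefree
  simp [pow_two, hf]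

theorem iSup_maxGenEigenspace_eq_top_of_sq_one (h2 : (2:F) ≠ 0) (f : End F V) (hf : f * f = 1) :
    ⨆ μ, f.maxGenEigenspace μ = ⊤ := by
  rw [eq_top_iff]
  intro v _
  have hff : ∀ w, f (f w) = w := fun w => by
    have := LinearMap.congr_fun hf w
    simpa using this
  have h1 : (2:F)⁻¹ • (v + f v) ∈ f.maxGenEigenspace 1 := by
    apply (f.genEigenspace 1).mono le_top
    rw [End.mem_eigenspace_iff]
    simp [hff, add_comm]
  have h2' : (2:F)⁻¹ • (v - f v) ∈ f.maxGenEigenspace (-1) := by
    apply (f.genEigenspace (-1)).mono le_top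
    rw [End.mem_eigenspace_iff]
    simp [hff, smul_sub]
    abel
  have hv : v = (2:F)⁻¹ • (v + f v) + (2:F)⁻¹ • (v - f v) := by
    rw [← smul_add]
    have : v + f v + (v - f v) = (2:F) • v := by rw [two_smul]; abel
    rw [this, smul_smul, inv_mul_cancel₀ h2, one_smul]
  rw [hv]
  exact Submodule.add_mem _ (Submodule.mem_iSup_of_mem 1 h1) (Submodule.mem_iSup_of_mem (-1) h2')

theorem exists_eigenbasis [FiniteDimensional F V] {ι : Type*} (h2 : (2:F) ≠ 0) (f : ι → End F V)
    (hcomm : ∀ i j, Commute (f i) (f j)) (hsq : ∀ i, f i * f i = 1) (n : ℕ) (hn : finrank F V = n) :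
    ∃ (b : Basis (Fin n) F V) (c : ι → Fin n → F), ∀ i k, f i (b k) = c i k • b k := by
  classical
  have h' : ∀ i, ⨆ μ, (f i).maxGenEigenspace μ = ⊤ := fun i =>
    iSup_maxGenEigenspace_eq_top_of_sq_one h2 (f i) (hsq i)
  have htop := End.iSup_iInf_maxGenEigenspace_eq_top_of_iSup_maxGenEigenspace_eq_top_of_commute f
    (fun i j _ => hcomm i j) h'
  have hind := End.independent_iInf_maxGenEigenspace_of_forall_mapsTo f
    (fun i j φ => End.mapsTo_maxGenEigenspace_of_comm (hcomm j i) φ)
  have hint := DirectSum.isInternal_submodule_of_iSupIndep_of_iSup_eq_top hind htop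
  let W := fun χ : ι → F => ⨅ i, (f i).maxGenEigenspace (χ i)
  let v : ∀ χ, Basis (Fin (finrank F (W χ))) F (W χ) := fun χ => Module.finBasis F (W χ)
  let b := hint.collectedBasis v
  let _ : Fintype (Σ χ : ι → F, Fin (finrank F (W χ))) := FiniteDimensional.fintypeBasisIndex b
  have hcard : Fintype.card (Σ χ : ι → F, Fin (finrank F (W χ))) = n := by
    rw [← hn, finrank_eq_card_basis b]
  let e := Fintype.equivFinOfCardEq hcard
  refine ⟨b.reindex e, fun i k => (e.symm k).1 i, ?_⟩
  intro i k
  have hmem : b (e.symm k) ∈ W (e.symm k).1 := hint.collectedBasis_mem v (e.symm k)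
  have hmem' : b (e.symm k) ∈ (f i).maxGenEigenspace ((e.symm k).1 i) := by
    have := (Submodule.mem_iInf _).mp hmem i
    exact this
  rw [(isSemisimple_of_sq_one h2 (f i) (hsq i)).isFinitelySemisimple.maxGenEigenspace_eq_eigenspace,
    End.mem_eigenspace_iff] at hmem'
  simpa using hmem'

end Cfsg.Agent.Helper37
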