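import Mathlib
import Cfsg.Prelude.Def_CaseTheorems
import Cfsg.Prelude.Def_EvenType
import Cfsg.Agent.Helper37.Eigenbasis

set_option autoImplicit false

namespace Cfsg.Agent.Helper37

open Module


/-- counting: a family of sign vectors with product one, injective, has at most 2^(card - 1) members -/
theorem card_le_of_signs_prod_one {F : Type*} [Field F] (h2 : (2:F) ≠ 0) {α κ : Type*} [Fintype κ]
    (k₀ : κ) (c : α → κ → F) (hc : ∀ a k, c a k = 1 ∨ c a k = -1) (hprod : ∀ a, ∏ k, c a k = 1)
    (hinj : Function.Injective c) : Nat.card α ≤ 2 ^ (Fintype.card κ - 1) := by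
  classical
  have h1 : (1:F) ≠ -1 := by
    intro h
    apply h2
    have : (2:F) = 1 + 1 := by norm_num
    rw [this]; nth_rewrite 2 [h]; simp
  let Φ : α → ({k // k ≠ k₀} → Bool) := fun a k => decide (c a k.1 = 1)
  have hΦ : Function.Injective Φ := by
    intro a a' h
    apply hinj
    have hne : ∀ k, k ≠ k₀ → c a k = c a' k := by
      intro k hk
      have := congrFun h ⟨k, hk⟩
      simp only [Φ, decide_eq_decide] at this
      rcases hc a k with h1' | h1' <;> rcases hc a' k with h2' | h2'
      · rw [h1', h2']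
      · exact absurd (this.mp h1') (by rw [h2']; exact fun h => h1 h.symm)
      · exact absurd (this.mpr h2') (by rw [h1']; exact fun h => h1 h.symm)
      · rw [h1', h2']
    funext k
    by_cases hk : k = k₀
    · subst hk
      have e1 := hprod a
      have e2 := hprod a'
      rw [← Finset.mul_prod_erase Finset.univ _ (Finset.mem_univ k)] at e1 e2
      have hP : ∏ x ∈ Finset.univ.erase k, c a x = ∏ x ∈ Finset.univ.erase k, c a' x := by
        apply Finset.prod_congr rfl
        intro x hx
        exact hne x (Finset.ne_of_mem_erase hx)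
      rw [hP] at e1
      have hP0 : ∏ x ∈ Finset.univ.erase k, c a' x ≠ 0 := by
        intro h0
        rw [h0, mul_zero] at e2
        exact zero_ne_one e2
      exact mul_right_cancel₀ hP0 (e1.trans e2.symm)
    · exact hne k hk
  have := Nat.card_le_card_of_injective Φ hΦ
  refine this.trans ?_
  rw [Nat.card_eq_fintype_card, Fintype.card_fun, Fintype.card_bool, Fintype.card_subtype_compl,
    Fintype.card_subtype_eq]



/-- Data of a simultaneous eigenbasis for a finite commuting family of involutive matrices. -/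
theorem exists_eigenbasis_matrices {F : Type*} [Field F] (h2 : (2:F) ≠ 0) {m : ℕ} {ι : Type*}
    (M : ι → Matrix (Fin m) (Fin m) F) (hcomm : ∀ i j, M i * M j = M j * M i) (hsq : ∀ i, M i * M i = 1) :
    ∃ (b : Basis (Fin m) F (Fin m → F)) (c : ι → Fin m → F),
      (∀ i k, (M i).mulVec (b k) = c i k • b k) ∧ (∀ i k, c i k = 1 ∨ c i k = -1) ∧
      (∀ i, (M i).det = ∏ k, c i k) ∧ (∀ i j, (∀ k, c i k = c j k) → M i = M j) := by
  obtain ⟨b, c, hbc⟩ := exists_eigenbasis h2 (fun i => Matrix.toLin' (M i))
    (fun i j => by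
      show Matrix.toLin' (M i) * Matrix.toLin' (M j) = Matrix.toLin' (M j) * Matrix.toLin' (M i)
      rw [Module.End.mul_eq_comp, Module.End.mul_eq_comp, ← Matrix.toLin'_mul, ← Matrix.toLin'_mul, hcomm])
    (fun i => by rw [Module.End.mul_eq_comp, ← Matrix.toLin'_mul, hsq, Matrix.toLin'_one]; rfl) m (by simp)
  have hbc' : ∀ i k, (M i).mulVec (b k) = c i k • b k := fun i k => by
    have := hbc i k
    simpa [Matrix.toLin'_apply] using this
  refine ⟨b, c, hbc', ?_, ?_, ?_⟩
  · intro i k
    have h1 : (M i).mulVec ((M i).mulVec (b k)) = b k := by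
      rw [Matrix.mulVec_mulVec, hsq, Matrix.one_mulVec]
    rw [hbc', Matrix.mulVec_smul, hbc', smul_smul] at h1
    have hb : b k ≠ 0 := b.ne_zero k
    have h3 : (c i k * c i k - 1) • b k = 0 := by rw [sub_smul, h1, one_smul, sub_self]
    rcases smul_eq_zero.mp h3 with h | h
    · have : (c i k - 1) * (c i k + 1) = 0 := by ring_nf; ring_nf at h; linear_combination h
      rcases mul_eq_zero.mp this with h | h
      · left; linear_combination h
      · right; linear_combination h
    · exact absurd h hb
  · intro i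
    have hdiag : LinearMap.toMatrix b b (Matrix.toLin' (M i)) = Matrix.diagonal (c i) := by
      ext r s
      rw [LinearMap.toMatrix_apply, hbc i s]
      simp only [map_smul, Basis.repr_self, Finsupp.smul_single, smul_eq_mul, mul_one,
        Finsupp.single_apply, Matrix.diagonal_apply]
      by_cases hrs : r = s
      · subst hrs; simp
      · rw [if_neg hrs, if_neg (Ne.symm hrs)]
    rw [← LinearMap.det_toLin', ← LinearMap.det_toMatrix b, hdiag, Matrix.det_diagonal]
  · intro i j h
    have : Matrix.toLin' (M i) = Matrix.toLin' (M j) := by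
      apply b.ext
      intro k
      rw [hbc i k, hbc j k, h k]
    exact Matrix.toLin'.injective this



/-- the sign vector `(∏ s, s 0, …, s (k-1))` -/
def signCons {k : ℕ} (s : Fin k → ℤˣ) : Fin (k+1) → ℤˣ := Fin.cons (∏ j, s j) s

theorem signCons_mul {k : ℕ} (s t : Fin k → ℤˣ) : signCons (s * t) = signCons s * signCons t := by
  funext i
  refine Fin.cases ?_ ?_ i
  · simp [signCons, Finset.prod_mul_distrib]
  · intro j; simp [signCons]

theorem signCons_one {k : ℕ} : signCons (1 : Fin k → ℤˣ) = 1 := by
  funext i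
  refine Fin.cases ?_ ?_ i
  · simp [signCons]
  · intro j; simp [signCons]

theorem signCons_prod {k : ℕ} (s : Fin k → ℤˣ) : ∏ i, signCons s i = 1 := by
  rw [Fin.prod_univ_succ]
  simp [signCons]

/-- the sign of a unit of ℤ as an element of a field -/
def sgnF (F : Type*) [Field F] : ℤˣ →* F := (Int.castRingHom F).toMonoidHom.comp (Units.coeHom ℤ)

theorem sgnF_injective (F : Type*) [Field F] (h2 : (2:F) ≠ 0) : Function.Injective (sgnF F) := by
  intro u v h
  rcases Int.units_eq_one_or u with rfl | rfl <;> rcases Int.units_eq_one_or v with rfl | rfl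
  · rfl
  · exfalso; apply h2
    simp [sgnF] at h
    linear_combination h
  · exfalso; apply h2
    simp [sgnF] at h
    linear_combination -h
  · rfl

/-- diagonal sign matrices in `SL`, as a function. -/
noncomputable def diagSLfun (F : Type*) [Field F] (k : ℕ) (s : Fin k → ℤˣ) :
    Matrix.SpecialLinearGroup (Fin (k+1)) F :=
  ⟨Matrix.diagonal (fun i => sgnF F (signCons s i)), by
    rw [Matrix.det_diagonal, ← map_prod, signCons_prod, map_one]⟩

theorem diagSLfun_coe (F : Type*) [Field F] (k : ℕ) (s : Fin k → ℤˣ) :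
    ((diagSLfun F k s : Matrix.SpecialLinearGroup (Fin (k+1)) F) : Matrix (Fin (k+1)) (Fin (k+1)) F) =
      Matrix.diagonal (fun i => sgnF F (signCons s i)) := rfl

/-- diagonal sign matrices in `SL`. -/
noncomputable def diagSL (F : Type*) [Field F] (k : ℕ) :
    (Fin k → ℤˣ) →* Matrix.SpecialLinearGroup (Fin (k+1)) F where
  toFun := diagSLfun F k
  map_one' := by
    apply Matrix.SpecialLinearGroup.ext
    intro i j
    rw [diagSLfun_coe, Matrix.SpecialLinearGroup.coe_one]
    simp [signCons_one, Matrix.one_apply, Matrix.diagonal_apply]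
  map_mul' s t := by
    apply Matrix.SpecialLinearGroup.ext
    intro i j
    rw [Matrix.SpecialLinearGroup.coe_mul, diagSLfun_coe, diagSLfun_coe, diagSLfun_coe,
      Matrix.diagonal_mul_diagonal]
    simp [signCons_mul]

theorem diagSL_coe (F : Type*) [Field F] (k : ℕ) (s : Fin k → ℤˣ) :
    ((diagSL F k s : Matrix.SpecialLinearGroup (Fin (k+1)) F) : Matrix (Fin (k+1)) (Fin (k+1)) F) =
      Matrix.diagonal (fun i => sgnF F (signCons s i)) := rfl

theorem diagSL_injective (F : Type*) [Field F] (h2 : (2:F) ≠ 0) (k : ℕ) : Function.Injective (diagSL F k) := by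
  intro s t h
  funext j
  have h1 := congrArg (fun g : Matrix.SpecialLinearGroup (Fin (k+1)) F => g.1 j.succ j.succ) h
  simp only [diagSL_coe, Matrix.diagonal_apply_eq, signCons, Fin.cons_succ] at h1
  exact sgnF_injective F h2 h1

theorem SL_lower {F : Type*} [Field F] (h2 : (2:F) ≠ 0) (k : ℕ) :
    Cfsg.PRankAtLeast 2 k (Matrix.SpecialLinearGroup (Fin (k+1)) F) := by
  classical
  refine ⟨(diagSL F k).range, ?_, ?_, ?_⟩
  · constructor
    constructor
    rintro ⟨_, a, rfl⟩ ⟨_, b, rfl⟩
    apply Subtype.ext
    show diagSL F k a * diagSL F k b = diagSL F k b * diagSL F k a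
    rw [← map_mul, ← map_mul, mul_comm]
  · rintro _ ⟨a, rfl⟩
    rw [← map_pow]
    have : a ^ 2 = 1 := by
      funext i
      simp [pow_two, Int.units_mul_self]
    rw [this, map_one]
  · have : Nat.card (diagSL F k).range = Nat.card (Fin k → ℤˣ) :=
      (Nat.card_congr (MonoidHom.ofInjective (diagSL_injective F h2 k)).toEquiv).symm
    rw [this, Nat.card_eq_fintype_card, Fintype.card_fun, Fintype.card_units_int, Fintype.card_fin]


theorem SL_upper {F : Type*} [Field F] (h2 : (2:F) ≠ 0) (m : ℕ) (hm : 1 ≤ m) :
    Cfsg.PRankLE 2 (m - 1) (Matrix.SpecialLinearGroup (Fin m) F) := by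
  intro A hA hA2
  obtain ⟨b, c, hbc, hc, hdet, hinj⟩ := exists_eigenbasis_matrices h2
    (fun a : A => ((a : Matrix.SpecialLinearGroup (Fin m) F) : Matrix (Fin m) (Fin m) F))
    (fun a a' => by
      have := hA.is_comm.comm a a'
      have := congrArg (fun x : A => ((x : Matrix.SpecialLinearGroup (Fin m) F) : Matrix (Fin m) (Fin m) F)) this
      simpa using this)
    (fun a => by
      have := hA2 a.1 a.2
      have := congrArg (fun x : Matrix.SpecialLinearGroup (Fin m) F => (x : Matrix (Fin m) (Fin m) F)) this
      simpa [pow_two] using this)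
  have := card_le_of_signs_prod_one h2 (⟨0, hm⟩ : Fin m) c hc (fun a => by rw [← hdet]; exact a.1.2)
    (fun a a' h => by
      have := hinj a a' (fun k => congrFun h k)
      exact Subtype.ext (Subtype.ext this))
  simpa using this

end Cfsg.Agent.Helper37
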