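import Mathlib
import Cfsg.Agent.Helper5.Card
import Cfsg.Agent.Helper5.ProjLine

set_option autoImplicit false

namespace Cfsg.Agent.Helper37.GL2

open Matrix

variable {F : Type*} [Field F]

/-- The upper unitriangular element `[1, t; 0, 1]` of `GL₂(F)`. -/
noncomputable abbrev uu (t : F) : GL (Fin 2) F := GeneralLinearGroup.upperRightHom t

/-- upper unitriangular matrices in GL2 -/
noncomputable def U0 : Subgroup (GL (Fin 2) F) :=
  (GeneralLinearGroup.upperRightHom (R := F)).toMonoidHom.range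

lemma mem_U0 {g : GL (Fin 2) F} : g ∈ U0 ↔ ∃ t : F, uu t = g := by
  unfold U0
  rw [MonoidHom.mem_range]
  constructor
  · rintro ⟨t, ht⟩
    exact ⟨Multiplicative.toAdd t, ht⟩
  · rintro ⟨t, ht⟩
    exact ⟨Multiplicative.ofAdd t, ht⟩

lemma uu_mem (t : F) : uu t ∈ U0 := mem_U0.2 ⟨t, rfl⟩

lemma uu_val (t : F) : (uu t).1 = !![1, t; 0, 1] := rfl

lemma uu_eq_one_iff {t : F} : uu t = 1 ↔ t = 0 := by
  constructor
  · intro h
    have := congrArg (fun g : GL (Fin 2) F => g.1 0 1) h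
    simpa [uu_val] using this
  · rintro rfl
    exact AddChar.map_zero_eq_one _

lemma card_U0 [Fintype F] : Nat.card (U0 (F := F)) = Fintype.card F := by
  unfold U0
  have hinj : Function.Injective (GeneralLinearGroup.upperRightHom (R := F)).toMonoidHom := by
    intro a b hab
    exact Multiplicative.toAdd.injective (GeneralLinearGroup.injective_upperRightHom hab)
  rw [← Nat.card_congr (MonoidHom.ofInjective hinj).toEquiv, Nat.card_eq_fintype_card,
    Fintype.card_multiplicative]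

lemma det_ne_zero' (k : GL (Fin 2) F) : k.1 0 0 * k.1 1 1 - k.1 0 1 * k.1 1 0 ≠ 0 := by
  have h := (Matrix.isUnit_iff_isUnit_det k.1).1 k.isUnit
  rw [Matrix.det_fin_two] at h
  exact h.ne_zero

/-- key conjugation formula for upper triangular `k`. -/
lemma conj_uu {k : GL (Fin 2) F} (hc : k.1 1 0 = 0) (s : F) :
    k * uu s * k⁻¹ = uu (k.1 0 0 * s / k.1 1 1) := by
  have hdet := det_ne_zero' k
  rw [hc, mul_zero, sub_zero] at hdet
  have ha : k.1 0 0 ≠ 0 := left_ne_zero_of_mul hdet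
  have hd : k.1 1 1 ≠ 0 := right_ne_zero_of_mul hdet
  rw [mul_inv_eq_iff_eq_mul]
  apply Units.ext
  ext i j
  fin_cases i <;> fin_cases j <;>
    simp [Matrix.mul_apply, Fin.sum_univ_two, hc] <;> (try field_simp) <;> (try ring)

/-- the key lemma: if a nontrivial element of `U0` is conjugated into `U0` by `k`, then
`k` is upper triangular. -/
lemma lower_left_eq_zero {k x : GL (Fin 2) F} (hx : x ∈ U0) (hx1 : x ≠ 1)
    (hy : k * x * k⁻¹ ∈ U0) : k.1 1 0 = 0 := by
  obtain ⟨s, rfl⟩ := mem_U0.1 hx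
  obtain ⟨t, ht⟩ := mem_U0.1 hy
  have hs : s ≠ 0 := fun h => hx1 (uu_eq_one_iff.2 h)
  have h2 : uu t * k = k * uu s := by rw [ht]; group
  have := congrArg (fun g : GL (Fin 2) F => g.1 1 1) h2
  simp [Matrix.mul_apply, Fin.sum_univ_two] at this
  rcases this with h | h
  · exact h
  · exact absurd h hs

lemma mem_normalizer_U0 {k : GL (Fin 2) F} :
    k ∈ Subgroup.normalizer ((U0 : Subgroup (GL (Fin 2) F)) : Set (GL (Fin 2) F)) ↔ k.1 1 0 = 0 := by
  constructor
  · intro hk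
    rw [Subgroup.mem_normalizer_iff] at hk
    have h1 : uu (1 : F) ∈ U0 := uu_mem 1
    exact lower_left_eq_zero h1 (fun h => one_ne_zero (uu_eq_one_iff.1 h)) ((hk _).1 h1)
  · intro hc
    rw [Subgroup.mem_normalizer_iff]
    have hdet := det_ne_zero' k
    rw [hc, mul_zero, sub_zero] at hdet
    have ha : k.1 0 0 ≠ 0 := left_ne_zero_of_mul hdet
    have hd : k.1 1 1 ≠ 0 := right_ne_zero_of_mul hdet
    intro x
    constructor
    · intro hx
      obtain ⟨s, rfl⟩ := mem_U0.1 hx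
      rw [conj_uu hc]
      exact uu_mem _
    · intro hx
      obtain ⟨t, ht⟩ := mem_U0.1 hx
      have h3 := conj_uu hc (t * k.1 1 1 / k.1 0 0)
      have h4 : k.1 0 0 * (t * k.1 1 1 / k.1 0 0) / k.1 1 1 = t := by field_simp
      rw [h4, ht] at h3
      have h5 : uu (t * k.1 1 1 / k.1 0 0) = x := mul_left_cancel (mul_right_cancel h3)
      rw [← h5]
      exact uu_mem _


lemma diag_ne_zero {k : GL (Fin 2) F} (hc : k.1 1 0 = 0) : k.1 0 0 ≠ 0 ∧ k.1 1 1 ≠ 0 := by
  have hdet := det_ne_zero' k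
  rw [hc, mul_zero, sub_zero] at hdet
  exact ⟨left_ne_zero_of_mul hdet, right_ne_zero_of_mul hdet⟩

/-- upper triangular matrices are parametrised by `Fˣ × Fˣ × F`. -/
noncomputable def borelEquiv : {k : GL (Fin 2) F // k.1 1 0 = 0} ≃ Fˣ × Fˣ × F where
  toFun k := (Units.mk0 (k.1.1 0 0) (diag_ne_zero k.2).1, Units.mk0 (k.1.1 1 1) (diag_ne_zero k.2).2,
    k.1.1 0 1)
  invFun x := ⟨GeneralLinearGroup.mkOfDetNeZero !![(x.1 : F), x.2.2; 0, (x.2.1 : F)]
    (by simp [Matrix.det_fin_two]), by simp [GeneralLinearGroup.mkOfDetNeZero]⟩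
  left_inv := by
    rintro ⟨k, hk⟩
    apply Subtype.ext
    apply Units.ext
    ext i j
    fin_cases i <;> fin_cases j <;> simp [GeneralLinearGroup.mkOfDetNeZero, hk]
  right_inv := by
    rintro ⟨a, d, b⟩
    simp [GeneralLinearGroup.mkOfDetNeZero]

lemma card_normalizer_U0 [Fintype F] :
    Nat.card (Subgroup.normalizer ((U0 : Subgroup (GL (Fin 2) F)) : Set (GL (Fin 2) F))) =
      Fintype.card F * (Fintype.card F - 1) ^ 2 := by
  rw [Nat.card_congr (Equiv.subtypeEquivRight (fun k => mem_normalizer_U0 (k := k))),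
    Nat.card_congr borelEquiv, Nat.card_prod, Nat.card_prod, Nat.card_units,
    Nat.card_eq_fintype_card]
  ring

/-- matrices `[x, y; 0, x]` are parametrised by `Fˣ × F`. -/
noncomputable def centEquiv : {k : GL (Fin 2) F // k.1 1 0 = 0 ∧ k.1 0 0 = k.1 1 1} ≃ Fˣ × F where
  toFun k := (Units.mk0 (k.1.1 0 0) (diag_ne_zero k.2.1).1, k.1.1 0 1)
  invFun x := ⟨GeneralLinearGroup.mkOfDetNeZero !![(x.1 : F), x.2; 0, (x.1 : F)]
    (by simp [Matrix.det_fin_two]), by simp [GeneralLinearGroup.mkOfDetNeZero]⟩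
  left_inv := by
    rintro ⟨k, hk1, hk2⟩
    apply Subtype.ext
    apply Units.ext
    ext i j
    fin_cases i <;> fin_cases j <;> simp [GeneralLinearGroup.mkOfDetNeZero, hk1, hk2]
  right_inv := by
    rintro ⟨a, b⟩
    simp [GeneralLinearGroup.mkOfDetNeZero]

lemma mem_centralizer_uu {t : F} (ht : t ≠ 0) {k : GL (Fin 2) F} :
    k ∈ Subgroup.centralizer ({uu t} : Set (GL (Fin 2) F)) ↔ k.1 1 0 = 0 ∧ k.1 0 0 = k.1 1 1 := by
  rw [Subgroup.mem_centralizer_singleton_iff]
  constructor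
  · intro h
    have h1 := congrArg (fun g : GL (Fin 2) F => g.1 1 1) h
    have h2 := congrArg (fun g : GL (Fin 2) F => g.1 0 1) h
    simp [Matrix.mul_apply, Fin.sum_univ_two] at h1 h2
    have hc : k.1 1 0 = 0 := by
      rcases h1 with h | h
      · exact h
      · exact absurd h ht
    refine ⟨hc, ?_⟩
    have : k.1 0 0 * t = t * k.1 1 1 := by linear_combination h2
    rw [mul_comm] at this
    exact mul_left_cancel₀ ht this
  · rintro ⟨h1, h2⟩
    apply Units.ext
    ext i j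
    fin_cases i <;> fin_cases j <;>
      simp [Matrix.mul_apply, Fin.sum_univ_two, h1, h2] <;> ring

lemma card_centralizer_uu [Fintype F] {t : F} (ht : t ≠ 0) :
    Nat.card (Subgroup.centralizer ({uu t} : Set (GL (Fin 2) F))) =
      Fintype.card F * (Fintype.card F - 1) := by
  rw [Nat.card_congr (Equiv.subtypeEquivRight (fun k => mem_centralizer_uu ht (k := k))),
    Nat.card_congr centEquiv, Nat.card_prod, Nat.card_units, Nat.card_eq_fintype_card]
  ring


section Sylow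

variable [Fintype F] (p : ℕ) [Fact p.Prime] [CharP F p]

lemma card_GL2 : Nat.card (GL (Fin 2) F) =
    Fintype.card F * ((Fintype.card F - 1) * (Fintype.card F ^ 2 - 1)) := by
  rw [Cfsg.Agent.Helper5.card_GL_eq_card_SL_mul, Cfsg.Agent.Helper5.card_SL2]
  ring

lemma char_dvd_card : p ∣ Fintype.card F := by
  obtain ⟨n, _, hn⟩ := FiniteField.card F p
  rw [hn]
  exact dvd_pow_self p n.ne_zero

lemma not_dvd_cofactor : ¬ p ∣ (Fintype.card F - 1) * (Fintype.card F ^ 2 - 1) := by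
  have hp : p.Prime := Fact.out
  have hq : p ∣ Fintype.card F := char_dvd_card p
  have hq1 : 1 ≤ Fintype.card F := Fintype.card_pos
  intro h
  rcases (Nat.Prime.dvd_mul hp).1 h with h | h
  · have := Nat.dvd_sub hq h
    have h1 : Fintype.card F - (Fintype.card F - 1) = 1 := by omega
    rw [h1] at this
    exact hp.one_lt.ne' (Nat.dvd_one.1 this)
  · have hq2 : p ∣ Fintype.card F ^ 2 := dvd_pow hq two_ne_zero
    have hq3 : 1 ≤ Fintype.card F ^ 2 := Nat.one_le_pow _ _ hq1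
    have := Nat.dvd_sub hq2 h
    have h1 : Fintype.card F ^ 2 - (Fintype.card F ^ 2 - 1) = 1 := by omega
    rw [h1] at this
    exact hp.one_lt.ne' (Nat.dvd_one.1 this)

lemma isPGroup_U0 : IsPGroup p (U0 : Subgroup (GL (Fin 2) F)) := by
  obtain ⟨n, _, hn⟩ := FiniteField.card F p
  exact IsPGroup.of_card (n := n) (card_U0.trans hn)

lemma index_U0 : (U0 : Subgroup (GL (Fin 2) F)).index =
    (Fintype.card F - 1) * (Fintype.card F ^ 2 - 1) := by
  have h := Subgroup.card_mul_index (U0 : Subgroup (GL (Fin 2) F))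
  rw [card_U0, card_GL2] at h
  exact Nat.eq_of_mul_eq_mul_left Fintype.card_pos h

/-- The upper unitriangular group as a Sylow `p`-subgroup of `GL₂(F)`. -/
noncomputable def P0 (F : Type*) [Field F] [Fintype F] (p : ℕ) [Fact p.Prime] [CharP F p] :
    Sylow p (GL (Fin 2) F) :=
  (isPGroup_U0 p).toSylow (by rw [index_U0]; exact not_dvd_cofactor p)

lemma coe_P0 : (P0 F p).toSubgroup = U0 := rfl

lemma exists_smul_P0 (P : Sylow p (GL (Fin 2) F)) : ∃ g : GL (Fin 2) F, g • P0 F p = P :=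
  MulAction.exists_smul_eq _ _ _

lemma mem_smul_P0 {g x : GL (Fin 2) F} : x ∈ g • P0 F p ↔ g⁻¹ * x * g ∈ U0 := by
  change x ∈ (g • P0 F p : Sylow p (GL (Fin 2) F)).toSubgroup ↔ _
  rw [Sylow.coe_subgroup_smul, Subgroup.mem_pointwise_smul_iff_inv_smul_mem, coe_P0]
  simp [MulAut.smul_def]

lemma card_normalizer_P0 :
    Nat.card (Subgroup.normalizer ((P0 F p).toSubgroup : Set (GL (Fin 2) F))) =
      Fintype.card F * (Fintype.card F - 1) ^ 2 := card_normalizer_U0

lemma card_sylow : Nat.card (Sylow p (GL (Fin 2) F)) = Fintype.card F + 1 := by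
  rw [Sylow.card_eq_index_normalizer (P0 F p)]
  have h := Subgroup.card_mul_index
    (Subgroup.normalizer ((P0 F p).toSubgroup : Set (GL (Fin 2) F)))
  rw [card_normalizer_P0, card_GL2] at h
  have hq1 : 1 ≤ Fintype.card F := Fintype.card_pos
  have hq2 : 2 ≤ Fintype.card F := Fintype.one_lt_card
  have h2 : Fintype.card F * ((Fintype.card F - 1) * (Fintype.card F ^ 2 - 1)) =
      Fintype.card F * (Fintype.card F - 1) ^ 2 * (Fintype.card F + 1) := by
    obtain ⟨m, hm⟩ : ∃ m, Fintype.card F = m + 1 := ⟨Fintype.card F - 1, by omega⟩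
    rw [hm]
    have : (m + 1) ^ 2 - 1 = m * (m + 2) := by
      have : (m + 1) ^ 2 = m * (m + 2) + 1 := by ring
      omega
    simp only [Nat.add_sub_cancel, this]
    ring
  rw [h2] at h
  have hpos : 0 < Fintype.card F * (Fintype.card F - 1) ^ 2 := by
    have : 0 < Fintype.card F - 1 := by omega
    positivity
  exact Nat.eq_of_mul_eq_mul_left hpos h

lemma card_normalizer (P : Sylow p (GL (Fin 2) F)) :
    Nat.card (Subgroup.normalizer ((P : Subgroup (GL (Fin 2) F)) : Set (GL (Fin 2) F))) =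
      Fintype.card F * (Fintype.card F - 1) ^ 2 := by
  have h1 := Subgroup.card_mul_index
    (Subgroup.normalizer ((P : Subgroup (GL (Fin 2) F)) : Set (GL (Fin 2) F)))
  have h2 := Subgroup.card_mul_index
    (Subgroup.normalizer ((P0 F p).toSubgroup : Set (GL (Fin 2) F)))
  have e1 : Nat.card (Sylow p (GL (Fin 2) F)) = (Subgroup.normalizer
      ((P : Subgroup (GL (Fin 2) F)) : Set (GL (Fin 2) F))).index :=
    Sylow.card_eq_index_normalizer P
  have e2 : Nat.card (Sylow p (GL (Fin 2) F)) = (Subgroup.normalizer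
      ((P0 F p).toSubgroup : Set (GL (Fin 2) F))).index :=
    Sylow.card_eq_index_normalizer (P0 F p)
  rw [← e1] at h1
  rw [← e2] at h2
  rw [← card_normalizer_P0 p]
  have hpos : 0 < Nat.card (Sylow p (GL (Fin 2) F)) := Nat.card_pos
  exact Nat.eq_of_mul_eq_mul_right hpos (h1.trans h2.symm)

lemma inf_eq_bot (P Q : Sylow p (GL (Fin 2) F)) (h : P ≠ Q) :
    (P : Subgroup (GL (Fin 2) F)) ⊓ (Q : Subgroup (GL (Fin 2) F)) = ⊥ := by
  obtain ⟨g, rfl⟩ := exists_smul_P0 p P
  obtain ⟨k, rfl⟩ := exists_smul_P0 p Q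
  rw [eq_bot_iff]
  intro x hx
  rw [Subgroup.mem_bot]
  by_contra hx1
  have hxg : g⁻¹ * x * g ∈ U0 := (mem_smul_P0 p).1 hx.1
  have hxk : k⁻¹ * x * k ∈ U0 := (mem_smul_P0 p).1 hx.2
  have hy1 : g⁻¹ * x * g ≠ 1 := by
    intro h1
    apply hx1
    have : x = g * (g⁻¹ * x * g) * g⁻¹ := by group
    rw [this, h1]; group
  have h3 : (k⁻¹ * g) * (g⁻¹ * x * g) * (k⁻¹ * g)⁻¹ ∈ U0 := by
    have : (k⁻¹ * g) * (g⁻¹ * x * g) * (k⁻¹ * g)⁻¹ = k⁻¹ * x * k := by group
    rw [this]; exact hxk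
  have h4 := lower_left_eq_zero hxg hy1 h3
  have h5 : (k⁻¹ * g) • P0 F p = P0 F p := by
    rw [Sylow.smul_eq_iff_mem_normalizer]
    exact mem_normalizer_U0.2 h4
  apply h
  have := congrArg (fun R => k • R) h5
  simpa [← mul_smul] using this

lemma card_centralizer (P : Sylow p (GL (Fin 2) F)) (a : GL (Fin 2) F) (ha : a ∈ P) (ha1 : a ≠ 1) :
    Nat.card (Subgroup.centralizer ({a} : Set (GL (Fin 2) F))) =
      Fintype.card F * (Fintype.card F - 1) := by
  obtain ⟨g, rfl⟩ := exists_smul_P0 p P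
  obtain ⟨t, ht⟩ := mem_U0.1 ((mem_smul_P0 p).1 ha)
  have ht0 : t ≠ 0 := by
    rintro rfl
    apply ha1
    have h1 : g⁻¹ * a * g = 1 := by rw [← ht]; exact uu_eq_one_iff.2 rfl
    have : a = g * (g⁻¹ * a * g) * g⁻¹ := by group
    rw [this, h1]; group
  rw [← card_centralizer_uu ht0]
  refine Nat.card_congr ((MulAut.conj g⁻¹).toEquiv.subtypeEquiv ?_)
  intro x
  rw [Subgroup.mem_centralizer_singleton_iff, Subgroup.mem_centralizer_singleton_iff, ht]
  simp only [MulEquiv.toEquiv_eq_coe, MulEquiv.coe_toEquiv, MulAut.conj_apply, inv_inv]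
  constructor
  · intro h
    have : g⁻¹ * x * g * (g⁻¹ * a * g) = g⁻¹ * (x * a) * g := by group
    rw [this, h]; group
  · intro h
    have h2 : g * (g⁻¹ * x * g * (g⁻¹ * a * g)) * g⁻¹ = g * (g⁻¹ * a * g * (g⁻¹ * x * g)) * g⁻¹ := by
      rw [h]
    have e1 : g * (g⁻¹ * x * g * (g⁻¹ * a * g)) * g⁻¹ = x * a := by group
    have e2 : g * (g⁻¹ * a * g * (g⁻¹ * x * g)) * g⁻¹ = a * x := by group
    rw [e1, e2] at h2
    exact h2

end Sylow

end Cfsg.Agent.Helper37.GL2
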