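import Mathlib

set_option autoImplicit false

open scoped Pointwise

namespace Cfsg.Agent.Helper37.TI

variable {G : Type*} [Group G]

/-- elementwise form of the TI property -/
def TIe (P : Subgroup G) : Prop :=
  ∀ g x : G, x ∈ P → x ≠ 1 → g * x * g⁻¹ ∈ P → g ∈ Subgroup.normalizer (P : Set G)

/-- in a finite group, `g P g⁻¹ ≤ P` implies `g ∈ N(P)`. -/
lemma mem_normalizer_of_conj_le [Finite G] {P : Subgroup G} {g : G}
    (h : ∀ x ∈ P, g * x * g⁻¹ ∈ P) : g ∈ Subgroup.normalizer (P : Set G) := by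
  have hle : P.map (MulAut.conj g).toMonoidHom ≤ P := by
    rintro _ ⟨x, hx, rfl⟩
    exact h x hx
  have hcard : Nat.card (P.map (MulAut.conj g).toMonoidHom) = Nat.card P :=
    Subgroup.card_map_of_injective (MulAut.conj g).injective
  have heq : P.map (MulAut.conj g).toMonoidHom = P :=
    Subgroup.eq_of_le_of_card_ge hle (by rw [hcard])
  rw [Subgroup.mem_normalizer_iff]
  intro x
  refine ⟨h x, fun hx => ?_⟩
  rw [← heq] at hx
  obtain ⟨y, hy, hyx⟩ := hx
  have : y = x := by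
    have h1 : g * y * g⁻¹ = g * x * g⁻¹ := hyx
    exact mul_left_cancel (mul_right_cancel h1)
  rw [← this]; exact hy

lemma mem_smul_iff {P : Subgroup G} {g x : G} :
    x ∈ MulAut.conj g • P ↔ g⁻¹ * x * g ∈ P := by
  rw [Subgroup.mem_pointwise_smul_iff_inv_smul_mem]
  simp [MulAut.smul_def]

/-- the statement form of TI is equivalent to the elementwise one. -/
lemma ti_iff_tie (P : Subgroup G) :
    (∀ g : G, g ∉ Subgroup.normalizer (P : Set G) → P ⊓ (MulAut.conj g • P) = ⊥) ↔ TIe P := by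
  constructor
  · intro h g x hx hx1 hgx
    by_contra hg
    have hg' : g⁻¹ ∉ Subgroup.normalizer (P : Set G) := fun h' => hg (by simpa using inv_mem h')
    have := h g⁻¹ hg'
    have hmem : x ∈ P ⊓ (MulAut.conj g⁻¹ • P) :=
      Subgroup.mem_inf.2 ⟨hx, mem_smul_iff.2 (by simpa using hgx)⟩
    rw [this, Subgroup.mem_bot] at hmem
    exact hx1 hmem
  · intro h g hg
    rw [eq_bot_iff]
    intro x hx0
    obtain ⟨hx, hx'⟩ := Subgroup.mem_inf.1 hx0
    rw [Subgroup.mem_bot]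
    by_contra hx1
    rw [mem_smul_iff] at hx'
    have := h g⁻¹ x hx hx1 (by simpa using hx')
    exact hg (by simpa using inv_mem this)

/-- TI passes to conjugates -/
lemma TIe.conj {P : Subgroup G} (h : TIe P) (k : G) : TIe (MulAut.conj k • P) := by
  intro g x hx hx1 hgx
  rw [mem_smul_iff] at hx hgx
  have h1 : k⁻¹ * x * k ≠ 1 := by
    intro h'
    apply hx1
    have : x = k * (k⁻¹ * x * k) * k⁻¹ := by group
    rw [this, h']; group
  have h2 : (k⁻¹ * g * k) * (k⁻¹ * x * k) * (k⁻¹ * g * k)⁻¹ ∈ P := by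
    have : (k⁻¹ * g * k) * (k⁻¹ * x * k) * (k⁻¹ * g * k)⁻¹ = k⁻¹ * (g * x * g⁻¹) * k := by group
    rw [this]; exact hgx
  have h3 := h _ _ hx h1 h2
  rw [Subgroup.mem_normalizer_iff] at h3 ⊢
  intro y
  rw [mem_smul_iff, mem_smul_iff]
  have := h3 (k⁻¹ * y * k)
  have e : k⁻¹ * g * k * (k⁻¹ * y * k) * (k⁻¹ * g * k)⁻¹ = k⁻¹ * (g * y * g⁻¹) * k := by group
  rw [e] at this
  exact this


/-- S3983: the TI property of a Sylow subgroup passes to Sylow subgroups of subgroups. -/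
theorem tie_subgroup [Finite G] {p : ℕ} [Fact p.Prime] (P : Sylow p G)
    (hTI : TIe (P : Subgroup G)) (U : Subgroup G) (Q : Sylow p ↥U) : TIe (Q : Subgroup ↥U) := by
  have hQ' : IsPGroup p ((Q : Subgroup ↥U).map U.subtype) := Q.isPGroup'.map _
  obtain ⟨P₁, hP₁⟩ := hQ'.exists_le_sylow
  obtain ⟨k, rfl⟩ := MulAction.exists_smul_eq G P P₁
  have hTI₁ : TIe ((k • P : Sylow p G) : Subgroup G) := by
    rw [Sylow.coe_subgroup_smul]
    exact hTI.conj k
  have hmemP : ∀ x : ↥U, x ∈ (Q : Subgroup ↥U) → (x : G) ∈ ((k • P : Sylow p G) : Subgroup G) :=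
    fun x hx => hP₁ (Subgroup.mem_map_of_mem U.subtype hx)
  have hQeq : ((k • P : Sylow p G) : Subgroup G).subgroupOf U = (Q : Subgroup ↥U) := by
    apply Q.is_maximal'
    · exact (k • P : Sylow p G).isPGroup'.comap_subtype
    · intro x hx
      exact Subgroup.mem_subgroupOf.2 (hmemP x hx)
  intro u y hy hy1 huy
  have hy1' : (y : G) ≠ 1 := fun h => hy1 (Subtype.ext h)
  have huN := hTI₁ (u : G) (y : G) (hmemP y hy) hy1' (by
    have := hmemP _ huy
    simpa using this)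
  apply mem_normalizer_of_conj_le
  intro x hx
  rw [← hQeq, Subgroup.mem_subgroupOf]
  have := (Subgroup.mem_normalizer_iff.1 huN (x : G)).1 (hmemP x hx)
  simpa using this


/-- the image of a TI Sylow subgroup in a quotient is TI. -/
theorem tie_map_mk [Finite G] {p : ℕ} [Fact p.Prime] (P : Sylow p G)
    (hTI : TIe (P : Subgroup G)) (N : Subgroup G) [N.Normal] :
    TIe ((P : Subgroup G).map (QuotientGroup.mk' N)) := by
  intro x ybar hy hy1 hxy
  obtain ⟨g, rfl⟩ := QuotientGroup.mk'_surjective N x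
  obtain ⟨y, hyP, rfl⟩ := hy
  have hy1' : y ≠ 1 := by
    rintro rfl
    exact hy1 (map_one _)
  -- `w = g y g⁻¹` lies in `P ⊔ N`
  set H : Subgroup G := (P : Subgroup G) ⊔ N with hH
  have hPH : (P : Subgroup G) ≤ H := le_sup_left
  have hwH : g * y * g⁻¹ ∈ H := by
    obtain ⟨y', hy'P, hy'⟩ := hxy
    rw [hH, Subgroup.mem_sup_of_normal_right]
    refine ⟨y', hy'P, y'⁻¹ * (g * y * g⁻¹), ?_, by group⟩
    rw [← QuotientGroup.eq_one_iff]
    have : (QuotientGroup.mk' N) y' = (QuotientGroup.mk' N) (g * y * g⁻¹) := by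
      rw [hy']; simp
    simp only [QuotientGroup.mk'_apply] at this
    rw [QuotientGroup.mk_mul, QuotientGroup.mk_inv, this, inv_mul_cancel]
  -- a `p`-subgroup of `H` containing `w`
  have hD : IsPGroup p (((P : Subgroup G).map (MulAut.conj g).toMonoidHom).subgroupOf H) :=
    (P.isPGroup'.map _).comap_subtype
  obtain ⟨R, hR⟩ := hD.exists_le_sylow
  obtain ⟨m, hm⟩ := MulAction.exists_smul_eq H (P.subtype hPH) R
  have hwR : (⟨g * y * g⁻¹, hwH⟩ : H) ∈ R := by
    apply hR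
    rw [Subgroup.mem_subgroupOf]
    exact ⟨y, hyP, rfl⟩
  rw [← hm] at hwR
  have hwR' : (⟨g * y * g⁻¹, hwH⟩ : H) ∈ MulAut.conj m • ((P.subtype hPH : Sylow p H) : Subgroup H) :=
    hwR
  rw [mem_smul_iff, Sylow.coe_subtype, Subgroup.mem_subgroupOf] at hwR'
  -- decompose `m⁻¹ = a * n`
  have hmH : ((m⁻¹ : H) : G) ∈ (P : Subgroup G) ⊔ N := (m⁻¹).2
  rw [Subgroup.mem_sup_of_normal_right] at hmH
  obtain ⟨a, haP, n, hnN, han⟩ := hmH
  have hconj : n * (g * y * g⁻¹) * n⁻¹ ∈ (P : Subgroup G) := by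
    have h1 : ((m⁻¹ : H) : G) * (g * y * g⁻¹) * ((m : H) : G) ∈ (P : Subgroup G) := by
      simpa using hwR'
    have hm' : ((m : H) : G) = (((m⁻¹ : H) : G))⁻¹ := by simp
    rw [hm', ← han] at h1
    have h2 : n * (g * y * g⁻¹) * n⁻¹ = a⁻¹ * (a * n * (g * y * g⁻¹) * (a * n)⁻¹) * a := by group
    rw [h2]
    exact mul_mem (mul_mem (inv_mem haP) h1) haP
  have hng : n * g ∈ Subgroup.normalizer ((P : Subgroup G) : Set G) := by
    apply hTI (n * g) y hyP hy1'
    have : n * g * y * (n * g)⁻¹ = n * (g * y * g⁻¹) * n⁻¹ := by group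
    rw [this]; exact hconj
  -- conclude
  apply mem_normalizer_of_conj_le
  rintro _ ⟨z, hzP, rfl⟩
  refine ⟨(n * g) * z * (n * g)⁻¹, (Subgroup.mem_normalizer_iff.1 hng z).1 hzP, ?_⟩
  have hn1 : ((n : G) : G ⧸ N) = 1 := (QuotientGroup.eq_one_iff n).2 hnN
  simp only [QuotientGroup.mk'_apply, QuotientGroup.mk_mul, QuotientGroup.mk_inv, hn1, one_mul,
    mul_inv_rev, inv_one, mul_one]

/-- S3984 (no coprimality needed). -/
theorem tie_quotient [Finite G] {p : ℕ} [Fact p.Prime] (P : Sylow p G)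
    (hTI : TIe (P : Subgroup G)) (N : Subgroup G) [N.Normal] (Q : Sylow p (G ⧸ N)) :
    TIe (Q : Subgroup (G ⧸ N)) := by
  obtain ⟨P', rfl⟩ := Sylow.mapSurjective_surjective (QuotientGroup.mk'_surjective N) p Q
  obtain ⟨k, rfl⟩ := MulAction.exists_smul_eq G P P'
  have hTI₁ : TIe ((k • P : Sylow p G) : Subgroup G) := by
    rw [Sylow.coe_subgroup_smul]
    exact hTI.conj k
  exact tie_map_mk (k • P) hTI₁ N

end Cfsg.Agent.Helper37.TI
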