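import Mathlib
import Cfsg.Prelude.Def_CaseTheorems
import Cfsg.Agent.Helper37.GL2Sylow
import Cfsg.Agent.Helper37.TISylow

set_option autoImplicit false

namespace Cfsg.Agent.Helper37.GL2S2

open Cfsg

section general

variable {G : Type*} [Group G]

/-- quasi-dihedral is invariant under isomorphism -/
lemma isQuasiDihedral_of_mulEquiv {S T : Type*} [Group S] [Group T] (e : S ≃* T)
    (h : IsQuasiDihedral S) : IsQuasiDihedral T := by
  obtain ⟨n, hn, hc, x, y, hx, hy, hr⟩ := h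
  refine ⟨n, hn, ?_, e x, e y, ?_, ?_, ?_⟩
  · rw [← hc]; exact (Nat.card_congr e.toEquiv).symm
  · rw [MulEquiv.orderOf_eq, hx]
  · rw [MulEquiv.orderOf_eq, hy]
  · rw [← map_inv, ← map_mul, ← map_mul, hr, map_pow]

/-- wreathed is invariant under isomorphism -/
lemma isWreathed_of_mulEquiv {S T : Type*} [Group S] [Group T] (e : S ≃* T)
    (h : IsWreathed S) : IsWreathed T := by
  obtain ⟨n, hn, hc, x, y, z, hx, hxy, hinf, hz, hr⟩ := h
  refine ⟨n, hn, ?_, e x, e y, e z, ?_, ?_, ?_, ?_, ?_⟩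
  · rw [← hc]; exact (Nat.card_congr e.toEquiv).symm
  · rw [MulEquiv.orderOf_eq, hx]
  · rw [← map_mul, ← map_mul, hxy]
  · rw [eq_bot_iff]
    intro g hg
    obtain ⟨h1, h2⟩ := Subgroup.mem_inf.1 hg
    have h1' : e.symm g ∈ Subgroup.zpowers x := by
      obtain ⟨k, hk⟩ := Subgroup.mem_zpowers_iff.1 h1
      refine Subgroup.mem_zpowers_iff.2 ⟨k, ?_⟩
      rw [← hk, map_zpow, MulEquiv.symm_apply_apply]
    have h2' : e.symm g ∈ Subgroup.zpowers y := by
      obtain ⟨k, hk⟩ := Subgroup.mem_zpowers_iff.1 h2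
      refine Subgroup.mem_zpowers_iff.2 ⟨k, ?_⟩
      rw [← hk, map_zpow, MulEquiv.symm_apply_apply]
    have h3 : e.symm g ∈ Subgroup.zpowers x ⊓ Subgroup.zpowers y := Subgroup.mem_inf.2 ⟨h1', h2'⟩
    rw [hinf, Subgroup.mem_bot] at h3
    rw [Subgroup.mem_bot]
    have := congrArg e h3
    simpa using this
  · rw [MulEquiv.orderOf_eq, hz]
  · rw [← map_inv, ← map_mul, ← map_mul, hr]

/-- quasi-dihedral structure on a subgroup from ambient data -/
lemma isQuasiDihedral_of_data (S : Subgroup G) (n : ℕ) (hn : 3 ≤ n) (hc : Nat.card S = 2 ^ (n + 1))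
    (x y : G) (hxS : x ∈ S) (hyS : y ∈ S) (hx : orderOf x = 2 ^ n) (hy : orderOf y = 2)
    (hr : y * x * y⁻¹ = x ^ (2 ^ (n - 1) - 1)) : IsQuasiDihedral S := by
  refine ⟨n, hn, hc, ⟨x, hxS⟩, ⟨y, hyS⟩, ?_, ?_, ?_⟩
  · rw [Subgroup.orderOf_mk, hx]
  · rw [Subgroup.orderOf_mk, hy]
  · apply Subtype.ext
    simpa using hr

/-- wreathed structure on a subgroup from ambient data -/
lemma isWreathed_of_data (S : Subgroup G) (n : ℕ) (hn : 2 ≤ n) (hc : Nat.card S = 2 ^ (2 * n + 1))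
    (x y z : G) (hxS : x ∈ S) (hyS : y ∈ S) (hzS : z ∈ S) (hx : orderOf x = 2 ^ n)
    (hxy : x * y = y * x) (hinf : ∀ g, g ∈ Subgroup.zpowers x → g ∈ Subgroup.zpowers y → g = 1)
    (hz : orderOf z = 2) (hr : z * x * z⁻¹ = y) : IsWreathed S := by
  refine ⟨n, hn, hc, ⟨x, hxS⟩, ⟨y, hyS⟩, ⟨z, hzS⟩, ?_, ?_, ?_, ?_, ?_⟩
  · rw [Subgroup.orderOf_mk, hx]
  · apply Subtype.ext
    simpa using hxy
  · rw [eq_bot_iff]
    intro g hg
    obtain ⟨h1, h2⟩ := Subgroup.mem_inf.1 hg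
    rw [Subgroup.mem_bot]
    apply Subtype.ext
    apply hinf
    · obtain ⟨k, hk⟩ := Subgroup.mem_zpowers_iff.1 h1
      refine Subgroup.mem_zpowers_iff.2 ⟨k, ?_⟩
      rw [← hk]; simp
    · obtain ⟨k, hk⟩ := Subgroup.mem_zpowers_iff.1 h2
      refine Subgroup.mem_zpowers_iff.2 ⟨k, ?_⟩
      rw [← hk]; simp
  · rw [Subgroup.orderOf_mk, hz]
  · apply Subtype.ext
    simpa using hr

/-- card of a Sylow subgroup from a factorisation of the group order -/
lemma card_sylow_of_card_eq [Finite G] {p : ℕ} [Fact p.Prime] (P : Sylow p G) (k m : ℕ)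
    (h : Nat.card G = p ^ k * m) (hm : ¬ p ∣ m) : Nat.card P = p ^ k := by
  have hp : p.Prime := Fact.out
  rw [Sylow.card_eq_multiplicity, h]
  have hm0 : m ≠ 0 := by rintro rfl; exact hm (dvd_zero p)
  rw [Nat.factorization_mul (pow_ne_zero _ hp.ne_zero) hm0, Nat.Prime.factorization_pow hp]
  simp [Nat.factorization_eq_zero_of_not_dvd hm]

/-- zpowers of an element of 2-power order is a 2-group -/
lemma isPGroup_zpowers {p : ℕ} (x : G) (n : ℕ) (hx : orderOf x = p ^ n) :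
    IsPGroup p (Subgroup.zpowers x) := by
  apply IsPGroup.of_card (n := n)
  rw [Nat.card_zpowers, hx]

end general

section split



variable {F : Type*} [Field F]

/-- diagonal matrix in `GL₂` -/
def dg (a b : Fˣ) : GL (Fin 2) F :=
  ⟨!![(a : F), 0; 0, (b : F)], !![((a⁻¹ : Fˣ) : F), 0; 0, ((b⁻¹ : Fˣ) : F)],
    by simp [Matrix.one_fin_two], by simp [Matrix.one_fin_two]⟩

lemma dg_val (a b : Fˣ) : (dg a b).1 = !![(a : F), 0; 0, (b : F)] := rfl

lemma dg_mul (a b c d : Fˣ) : dg a b * dg c d = dg (a * c) (b * d) := by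
  apply Units.ext
  simp [dg_val]

lemma dg_one : dg (1 : Fˣ) 1 = 1 := by
  apply Units.ext
  simp [dg_val, Matrix.one_fin_two]

lemma dg_injective {a b c d : Fˣ} (h : dg a b = dg c d) : a = c ∧ b = d := by
  have h1 := congrArg (fun g : GL (Fin 2) F => g.1 0 0) h
  have h2 := congrArg (fun g : GL (Fin 2) F => g.1 1 1) h
  simp [dg_val] at h1 h2
  exact ⟨Units.ext h1, Units.ext h2⟩

/-- first diagonal embedding -/
def d1 : Fˣ →* GL (Fin 2) F where
  toFun a := dg a 1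
  map_one' := dg_one
  map_mul' a b := by rw [dg_mul, one_mul]

/-- second diagonal embedding -/
def d2 : Fˣ →* GL (Fin 2) F where
  toFun a := dg 1 a
  map_one' := dg_one
  map_mul' a b := by rw [dg_mul, one_mul]

lemma d1_apply (a : Fˣ) : d1 a = dg a 1 := rfl
lemma d2_apply (a : Fˣ) : d2 a = dg 1 a := rfl

lemma d1_injective : Function.Injective (d1 (F := F)) := fun _ _ h => (dg_injective h).1
lemma d2_injective : Function.Injective (d2 (F := F)) := fun _ _ h => (dg_injective h).2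

/-- the swap matrix -/
def sw : GL (Fin 2) F :=
  ⟨!![0, 1; 1, 0], !![0, 1; 1, 0], by simp [Matrix.one_fin_two], by simp [Matrix.one_fin_two]⟩

lemma sw_val : (sw (F := F)).1 = !![0, 1; 1, 0] := rfl

lemma sw_mul_sw : (sw (F := F)) * sw = 1 := by
  apply Units.ext
  simp [sw_val, Matrix.one_fin_two]

lemma sw_inv : (sw (F := F))⁻¹ = sw := inv_eq_of_mul_eq_one_right sw_mul_sw

lemma sw_ne_one : (sw (F := F)) ≠ 1 := by
  intro h
  have h1 := congrArg (fun g : GL (Fin 2) F => g.1 0 0) h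
  simp [sw_val] at h1

lemma orderOf_sw : orderOf (sw (F := F)) = 2 :=
  orderOf_eq_prime (by rw [pow_two, sw_mul_sw]) sw_ne_one

lemma sw_conj (a b : Fˣ) : sw * dg a b * sw⁻¹ = dg b a := by
  rw [sw_inv]
  apply Units.ext
  simp [sw_val, dg_val]

/-- a subgroup generated by two commuting elements of 2-power order and an involution swapping
them is a 2-group -/
lemma isPGroup_wreath {G : Type*} [Group G] [Finite G] (x y z : G) (n : ℕ)
    (hx : orderOf x = 2 ^ n) (hxy : x * y = y * x) (hz : orderOf z = 2)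
    (hr : z * x * z⁻¹ = y) :
    IsPGroup 2 (Subgroup.zpowers z ⊔ (Subgroup.zpowers x ⊔ Subgroup.zpowers y) : Subgroup G) := by
  have hy : orderOf y = 2 ^ n := by
    rw [← hr, ← hx]
    exact MulEquiv.orderOf_eq (MulAut.conj z) x
  have hzy : z * y * z⁻¹ = x := by
    have hz2 : z ^ 2 = 1 := by rw [← hz]; exact pow_orderOf_eq_one z
    have hzinv : z⁻¹ = z := by
      rw [inv_eq_iff_mul_eq_one, ← pow_two, hz2]
    rw [← hr, hzinv]
    have : z * (z * x * z) * z = (z ^ 2) * x * (z ^ 2) := by rw [pow_two]; group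
    rw [this, hz2, one_mul, mul_one]
  have hA : IsPGroup 2 (Subgroup.zpowers x ⊔ Subgroup.zpowers y : Subgroup G) := by
    apply IsPGroup.to_sup_of_normal_right' (isPGroup_zpowers x n hx) (isPGroup_zpowers y n hy)
    rw [Subgroup.zpowers_le]
    apply TI.mem_normalizer_of_conj_le
    intro h hh
    obtain ⟨k, rfl⟩ := Subgroup.mem_zpowers_iff.1 hh
    have hc : Commute x (y ^ k) := (show Commute x y from hxy).zpow_right k
    have : x * y ^ k * x⁻¹ = y ^ k := by rw [hc.eq]; group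
    rw [this]
    exact Subgroup.zpow_mem_zpowers y k
  apply IsPGroup.to_sup_of_normal_right' (isPGroup_zpowers z 1 (by rw [hz, pow_one])) hA
  rw [Subgroup.zpowers_le]
  apply TI.mem_normalizer_of_conj_le
  intro h hh
  have h1 : (MulAut.conj z) h ∈ Subgroup.map (MulAut.conj z).toMonoidHom
      (Subgroup.zpowers x ⊔ Subgroup.zpowers y) := Subgroup.mem_map_of_mem _ hh
  rw [Subgroup.map_sup, MonoidHom.map_zpowers, MonoidHom.map_zpowers] at h1
  have e1 : (MulAut.conj z).toMonoidHom x = y := by simpa [MulAut.conj_apply] using hr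
  have e2 : (MulAut.conj z).toMonoidHom y = x := by simpa [MulAut.conj_apply] using hzy
  rw [e1, e2, sup_comm] at h1
  simpa [MulAut.conj_apply] using h1

lemma exists_wreathed_data [Fintype F] (a : ℕ) (hdvd : 2 ^ a ∣ Fintype.card F - 1) :
    ∃ (H : Subgroup (GL (Fin 2) F)) (x y z : GL (Fin 2) F), IsPGroup 2 H ∧ x ∈ H ∧ y ∈ H ∧ z ∈ H ∧
      orderOf x = 2 ^ a ∧ x * y = y * x ∧
      (∀ g, g ∈ Subgroup.zpowers x → g ∈ Subgroup.zpowers y → g = 1) ∧
      orderOf z = 2 ∧ z * x * z⁻¹ = y := by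
  classical
  have hq : 1 < Fintype.card F := Fintype.one_lt_card
  obtain ⟨m, hm⟩ := hdvd
  have hm0 : m ≠ 0 := by
    rintro rfl
    omega
  obtain ⟨g, hg⟩ := IsCyclic.exists_ofOrder_eq_natCard (α := Fˣ)
  rw [Nat.card_units, Nat.card_eq_fintype_card, hm] at hg
  have hζ : orderOf (g ^ m) = 2 ^ a := by
    rw [orderOf_pow_of_dvd hm0 (by rw [hg]; exact dvd_mul_left m _), hg,
      Nat.mul_div_cancel _ (Nat.pos_of_ne_zero hm0)]
  set ζ : Fˣ := g ^ m
  have hx : orderOf (d1 ζ) = 2 ^ a := by rw [orderOf_injective d1 d1_injective, hζ]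
  have hxy : d1 ζ * d2 ζ = d2 ζ * d1 ζ := by
    rw [d1_apply, d2_apply, dg_mul, dg_mul, one_mul, mul_one]
  have hr : sw * d1 ζ * sw⁻¹ = d2 ζ := by rw [d1_apply, sw_conj, d2_apply]
  refine ⟨_, d1 ζ, d2 ζ, sw, isPGroup_wreath (d1 ζ) (d2 ζ) sw a hx hxy orderOf_sw hr,
    ?_, ?_, ?_, hx, hxy, ?_, orderOf_sw, hr⟩
  · exact (le_sup_right : _ ≤ Subgroup.zpowers sw ⊔ (Subgroup.zpowers (d1 ζ) ⊔ Subgroup.zpowers (d2 ζ)))
      ((le_sup_left : Subgroup.zpowers (d1 ζ) ≤ _) (Subgroup.mem_zpowers _))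
  · exact (le_sup_right : _ ≤ Subgroup.zpowers sw ⊔ (Subgroup.zpowers (d1 ζ) ⊔ Subgroup.zpowers (d2 ζ)))
      ((le_sup_right : Subgroup.zpowers (d2 ζ) ≤ _) (Subgroup.mem_zpowers _))
  · exact (le_sup_left : Subgroup.zpowers sw ≤ _) (Subgroup.mem_zpowers _)
  · intro h h1 h2
    obtain ⟨i, rfl⟩ := Subgroup.mem_zpowers_iff.1 h1
    obtain ⟨j, hj⟩ := Subgroup.mem_zpowers_iff.1 h2
    rw [← map_zpow, ← map_zpow, d1_apply, d2_apply] at hj
    have := (dg_injective hj).1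
    rw [← map_zpow, ← this, map_one]

end split

section nonsplit


/-- a subgroup generated by an element `x` of 2-power order and an involution `y`
normalising `⟨x⟩` is a 2-group -/
lemma isPGroup_qd {G : Type*} [Group G] [Finite G] (x y : G) (n r : ℕ)
    (hx : orderOf x = 2 ^ n) (hy : orderOf y = 2) (hr : y * x * y⁻¹ = x ^ r) :
    IsPGroup 2 (Subgroup.zpowers y ⊔ Subgroup.zpowers x : Subgroup G) := by
  apply IsPGroup.to_sup_of_normal_right' (isPGroup_zpowers y 1 (by rw [hy, pow_one]))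
    (isPGroup_zpowers x n hx)
  rw [Subgroup.zpowers_le]
  apply TI.mem_normalizer_of_conj_le
  intro h hh
  obtain ⟨k, rfl⟩ := Subgroup.mem_zpowers_iff.1 hh
  rw [← conj_zpow, hr]
  exact Subgroup.zpow_mem (Subgroup.zpowers x) (Subgroup.pow_mem _ (Subgroup.mem_zpowers x) r) k

variable {F : Type*} [Field F]

lemma exists_qd_data [Fintype F] (b k : ℕ) (hb : 2 ≤ b)
    (hq : Fintype.card F + 1 = 2 ^ b * (2 * k + 1)) :
    ∃ (H : Subgroup (GL (Fin 2) F)) (x y : GL (Fin 2) F), IsPGroup 2 H ∧ x ∈ H ∧ y ∈ H ∧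
      orderOf x = 2 ^ (b + 1) ∧ orderOf y = 2 ∧ y * x * y⁻¹ = x ^ (2 ^ b - 1) := by
  classical
  obtain ⟨p, hp⟩ := CharP.exists F
  have := hp
  have : Fact p.Prime := ⟨CharP.char_is_prime F p⟩
  have hq1 : 1 < Fintype.card F := Fintype.one_lt_card
  set q := Fintype.card F with hqdef
  let K := FiniteField.Extension F p 2
  have hfin : Module.finrank F K = 2 := FiniteField.finrank_extension F p 2
  let bs : Module.Basis (Fin 2) F K := Module.finBasisOfFinrankEq F K hfin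
  have : Fintype K := Fintype.ofFinite K
  have hcardK : Fintype.card K = q ^ 2 := by
    rw [← Nat.card_eq_fintype_card, FiniteField.natCard_extension F p 2, Nat.card_eq_fintype_card]
  obtain ⟨ζ, hζ⟩ := IsCyclic.exists_ofOrder_eq_natCard (α := Kˣ)
  rw [Nat.card_units, Nat.card_eq_fintype_card, hcardK] at hζ
  -- arithmetic
  obtain ⟨c, rfl⟩ : ∃ c, b = c + 2 := ⟨b - 2, by omega⟩
  have h2c : 0 < 2 ^ c := pow_pos (by norm_num) c
  obtain ⟨s, hs⟩ : ∃ s, 2 ^ c * (2 * k + 1) = s + 1 := ⟨2 ^ c * (2 * k + 1) - 1, by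
    have : 0 < 2 ^ c * (2 * k + 1) := Nat.mul_pos h2c (by omega)
    omega⟩
  have hq' : q = 4 * s + 3 := by
    have : 2 ^ (c + 2) * (2 * k + 1) = 4 * (2 ^ c * (2 * k + 1)) := by ring
    omega
  have hfac : q ^ 2 - 1 = 2 ^ (c + 2 + 1) * ((2 * s + 1) * (2 * k + 1)) := by
    have h1 : q ^ 2 = (4 * s + 2) * (4 * s + 4) + 1 := by rw [hq']; ring
    have h2 : (4 * s + 2) * (4 * s + 4) = 2 ^ (c + 2 + 1) * ((2 * s + 1) * (2 * k + 1)) := by
      have : 4 * s + 4 = 2 ^ (c + 2) * (2 * k + 1) := by omega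
      rw [this]; ring
    omega
  set m' := (2 * s + 1) * (2 * k + 1) with hm'
  have hm0 : m' ≠ 0 := by positivity
  set μ : Kˣ := ζ ^ m' with hμdef
  have hμ : orderOf μ = 2 ^ (c + 2 + 1) := by
    rw [hμdef, orderOf_pow_of_dvd hm0 (by rw [hζ, hfac]; exact dvd_mul_left _ _), hζ, hfac,
      Nat.mul_div_cancel _ (Nat.pos_of_ne_zero hm0)]
  -- the matrices
  let L : K →* Matrix (Fin 2) (Fin 2) F := (Algebra.leftMulMatrix bs : K →* Matrix (Fin 2) (Fin 2) F)
  have hLinj : Function.Injective L := Algebra.leftMulMatrix_injective bs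
  let x : GL (Fin 2) F := Units.map L μ
  have hx : orderOf x = 2 ^ (c + 2 + 1) := by
    rw [orderOf_injective (Units.map L) (Units.map_injective hLinj), hμ]
  let φ : K →ₐ[F] K := FiniteField.frobeniusAlgHom F K
  have hφ : ∀ α : K, φ α = α ^ q := fun α => FiniteField.frobeniusAlgHom_apply F K α
  let Y : Matrix (Fin 2) (Fin 2) F := LinearMap.toMatrix bs bs φ.toLinearMap
  have hYY : Y * Y = 1 := by
    rw [← LinearMap.toMatrix_comp bs bs bs, ← LinearMap.toMatrix_id bs]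
    congr 1
    ext α
    simp only [LinearMap.coe_comp, AlgHom.coe_toLinearMap, Function.comp_apply, hφ, LinearMap.id_coe, id_eq]
    rw [← pow_mul, ← pow_two, ← hcardK, FiniteField.pow_card]
  let y : GL (Fin 2) F := ⟨Y, Y, hYY, hYY⟩
  have hyy : y * y = 1 := Units.ext hYY
  have hrel : y * x = x ^ q * y := by
    apply Units.ext
    show Y * L (μ : K) = ((Units.map L μ) ^ q : GL (Fin 2) F).1 * Y
    rw [Units.val_pow_eq_pow_val]
    show Y * L (μ : K) = (L (μ : K)) ^ q * Y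
    rw [← map_pow]
    show Y * Algebra.leftMulMatrix bs (μ : K) = Algebra.leftMulMatrix bs ((μ : K) ^ q) * Y
    rw [Algebra.leftMulMatrix_apply, Algebra.leftMulMatrix_apply, ← LinearMap.toMatrix_comp bs bs bs,
      ← LinearMap.toMatrix_comp bs bs bs]
    congr 1
    ext α
    simp only [LinearMap.coe_comp, AlgHom.coe_toLinearMap, Function.comp_apply, hφ,
      Algebra.coe_lmul_eq_mul, LinearMap.mul_apply_apply, mul_pow]
  have hyinv : y⁻¹ = y := inv_eq_of_mul_eq_one_right hyy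
  have hrel' : y * x * y⁻¹ = x ^ q := by
    rw [hrel, mul_assoc, hyinv, hyy, mul_one]
  have hxq : x ^ q = x ^ (2 ^ (c + 2) - 1) := by
    have h1 : q = (2 ^ (c + 2) - 1) + 2 ^ (c + 2 + 1) * k := by
      have : 2 ^ (c + 2 + 1) * k = 2 ^ (c + 2) * (2 * k) := by ring
      have h4 : 0 < 2 ^ (c + 2) := pow_pos (by norm_num) _
      have : 2 ^ (c + 2) * (2 * k + 1) = 2 ^ (c + 2) * (2 * k) + 2 ^ (c + 2) := by ring
      omega
    conv_lhs => rw [h1]
    rw [pow_add, pow_mul, ← hx, pow_orderOf_eq_one, one_pow, mul_one]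
  rw [hxq] at hrel'
  have hy1 : y ≠ 1 := by
    intro h1
    rw [h1] at hrel'
    simp only [one_mul, inv_one, mul_one] at hrel'
    have h4 : 4 ≤ 2 ^ (c + 2) := by
      have : 2 ^ (c + 2) = 4 * 2 ^ c := by ring
      omega
    have h5 : x ^ (2 ^ (c + 2) - 2) = 1 := by
      have : x ^ (2 ^ (c + 2) - 1) = x ^ (2 ^ (c + 2) - 2) * x := by
        rw [← pow_succ]; congr 1; omega
      rw [this] at hrel'
      exact mul_right_cancel (hrel'.symm.trans (one_mul x).symm)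
    have h6 := orderOf_dvd_of_pow_eq_one h5
    rw [hx] at h6
    have h7 := Nat.le_of_dvd (by omega) h6
    have : 2 ^ (c + 2 + 1) = 2 * 2 ^ (c + 2) := by ring
    omega
  have hy : orderOf y = 2 := orderOf_eq_prime (by rw [pow_two, hyy]) hy1
  refine ⟨_, x, y, isPGroup_qd x y _ _ hx hy hrel', ?_, ?_, hx, hy, hrel'⟩
  · exact (le_sup_right : Subgroup.zpowers x ≤ Subgroup.zpowers y ⊔ Subgroup.zpowers x)
      (Subgroup.mem_zpowers x)
  · exact (le_sup_left : Subgroup.zpowers y ≤ Subgroup.zpowers y ⊔ Subgroup.zpowers x)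
      (Subgroup.mem_zpowers y)

end nonsplit

section arith

variable {F : Type*} [Field F] [Fintype F]

lemma not_two_dvd_of_odd {m : ℕ} (h : Odd m) : ¬ 2 ∣ m := by
  rw [← even_iff_two_dvd, Nat.not_even_iff_odd]
  exact h

lemma card_GL2_three (b k : ℕ) (hb : 2 ≤ b) (hq : Fintype.card F + 1 = 2 ^ b * (2 * k + 1)) :
    ∃ m' : ℕ, ¬ 2 ∣ m' ∧ Nat.card (GL (Fin 2) F) = 2 ^ (b + 2) * m' := by
  rw [GL2.card_GL2]
  set q := Fintype.card F with hqdef
  obtain ⟨c, rfl⟩ : ∃ c, b = c + 2 := ⟨b - 2, by omega⟩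
  have h2c : 0 < 2 ^ c := pow_pos (by norm_num) c
  obtain ⟨s, hs⟩ : ∃ s, 2 ^ c * (2 * k + 1) = s + 1 := ⟨2 ^ c * (2 * k + 1) - 1, by
    have : 0 < 2 ^ c * (2 * k + 1) := Nat.mul_pos h2c (by omega)
    omega⟩
  have hq' : q = 4 * s + 3 := by
    have : 2 ^ (c + 2) * (2 * k + 1) = 4 * (2 ^ c * (2 * k + 1)) := by ring
    omega
  have hq1 : q - 1 = 4 * s + 2 := by omega
  have hfac : q ^ 2 - 1 = (4 * s + 2) * (2 ^ (c + 2) * (2 * k + 1)) := by
    have h1 : q ^ 2 = (4 * s + 2) * (4 * s + 4) + 1 := by rw [hq']; ring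
    have : 4 * s + 4 = 2 ^ (c + 2) * (2 * k + 1) := by omega
    rw [← this]
    omega
  refine ⟨(4 * s + 3) * (2 * s + 1) ^ 2 * (2 * k + 1), ?_, ?_⟩
  · apply not_two_dvd_of_odd
    exact (Odd.mul ⟨2 * s + 1, by ring⟩ (Odd.pow ⟨s, rfl⟩)).mul ⟨k, rfl⟩
  · rw [hq1, hfac, hq']
    ring

lemma card_GL2_one (a k : ℕ) (ha : 2 ≤ a) (hq : Fintype.card F - 1 = 2 ^ a * (2 * k + 1)) :
    ∃ m' : ℕ, ¬ 2 ∣ m' ∧ Nat.card (GL (Fin 2) F) = 2 ^ (2 * a + 1) * m' := by
  rw [GL2.card_GL2]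
  have hq2 : 1 < Fintype.card F := Fintype.one_lt_card
  set q := Fintype.card F with hqdef
  obtain ⟨c, rfl⟩ : ∃ c, a = c + 2 := ⟨a - 2, by omega⟩
  set s := 2 ^ c * (2 * k + 1) with hs
  have hq' : q = 4 * s + 1 := by
    have : 2 ^ (c + 2) * (2 * k + 1) = 4 * (2 ^ c * (2 * k + 1)) := by ring
    omega
  have hfac : q ^ 2 - 1 = (2 ^ (c + 2) * (2 * k + 1)) * (4 * s + 2) := by
    have h1 : q ^ 2 = (4 * s) * (4 * s + 2) + 1 := by rw [hq']; ring
    have : 4 * s = 2 ^ (c + 2) * (2 * k + 1) := by rw [hs]; ring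
    rw [← this]
    omega
  refine ⟨(4 * s + 1) * (2 * k + 1) ^ 2 * (2 * s + 1), ?_, ?_⟩
  · apply not_two_dvd_of_odd
    exact (Odd.mul ⟨2 * s, by ring⟩ (Odd.pow ⟨k, rfl⟩)).mul ⟨s, rfl⟩
  · rw [hq, hfac, hq']
    ring

end arith

section main

variable {F : Type*} [Field F] [Fintype F]

theorem sylow_two_type (P : Sylow 2 (GL (Fin 2) F)) :
    (Fintype.card F % 4 = 3 → IsQuasiDihedral (P : Subgroup (GL (Fin 2) F))) ∧
    (Fintype.card F % 4 = 1 → IsWreathed (P : Subgroup (GL (Fin 2) F))) := by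
  have hq2 : 1 < Fintype.card F := Fintype.one_lt_card
  constructor
  · intro h3
    obtain ⟨b, m, hm, hq⟩ := Nat.exists_eq_two_pow_mul_odd (n := Fintype.card F + 1) (by omega)
    obtain ⟨k, rfl⟩ := hm
    have hb : 2 ≤ b := by
      rcases b with _ | _ | b
      · simp at hq; omega
      · simp at hq; omega
      · omega
    obtain ⟨H, x, y, hH, hxH, hyH, hx, hy, hr⟩ := exists_qd_data b k hb hq
    obtain ⟨Q, hQ⟩ := hH.exists_le_sylow
    obtain ⟨m', hm', hcard⟩ := card_GL2_three (F := F) b k hb hq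
    have hcQ : Nat.card Q = 2 ^ (b + 1 + 1) := card_sylow_of_card_eq Q (b + 2) m' hcard hm'
    have hQD : IsQuasiDihedral (Q : Subgroup (GL (Fin 2) F)) :=
      isQuasiDihedral_of_data (Q : Subgroup (GL (Fin 2) F)) (b + 1) (by omega) hcQ x y
        (hQ hxH) (hQ hyH) hx hy (by simpa using hr)
    exact isQuasiDihedral_of_mulEquiv (Sylow.equiv Q P) hQD
  · intro h1
    obtain ⟨a, m, hm, hq⟩ := Nat.exists_eq_two_pow_mul_odd (n := Fintype.card F - 1) (by omega)
    obtain ⟨k, rfl⟩ := hm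
    have ha : 2 ≤ a := by
      rcases a with _ | _ | a
      · simp at hq; omega
      · simp at hq; omega
      · omega
    obtain ⟨H, x, y, z, hH, hxH, hyH, hzH, hx, hxy, hinf, hz, hr⟩ :=
      exists_wreathed_data (F := F) a (by rw [hq]; exact dvd_mul_right _ _)
    obtain ⟨Q, hQ⟩ := hH.exists_le_sylow
    obtain ⟨m', hm', hcard⟩ := card_GL2_one (F := F) a k ha hq
    have hcQ : Nat.card Q = 2 ^ (2 * a + 1) := card_sylow_of_card_eq Q (2 * a + 1) m' hcard hm'
    have hW : IsWreathed (Q : Subgroup (GL (Fin 2) F)) :=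
      isWreathed_of_data (Q : Subgroup (GL (Fin 2) F)) a ha hcQ x y z
        (hQ hxH) (hQ hyH) (hQ hzH) hx hxy hinf hz hr
    exact isWreathed_of_mulEquiv (Sylow.equiv Q P) hW

end main

end Cfsg.Agent.Helper37.GL2S2
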