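import Mathlib
import Cfsg.Prelude.Def_CaseTheorems
import Cfsg.Prelude.Def_LieClassical
import Cfsg.Agent.Helper37.GL2Sylow2
import Cfsg.Agent.Helper37.OddCard
import Cfsg.Agent.Helper45.GUCard

set_option autoImplicit false

namespace Cfsg.Agent.Helper37.GU2S2

open Cfsg Cfsg.Agent.Helper37.GL2S2 Matrix

section general

variable {G G' : Type*} [Group G] [Group G']

theorem isWreathed_sylow [Finite G] (P : Sylow 2 G) (f : G →* G') (hf : Function.Injective f)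
    (n m' : ℕ) (hn : 2 ≤ n) (hm' : ¬ 2 ∣ m')
    (hcard : Nat.card G = 2 ^ (2 * n + 1) * m') (x y z : G) (hx : orderOf (f x) = 2 ^ n)
    (hxy : f x * f y = f y * f x)
    (hinf : ∀ g, g ∈ Subgroup.zpowers (f x) → g ∈ Subgroup.zpowers (f y) → g = 1)
    (hz : orderOf (f z) = 2) (hr : f z * f x * (f z)⁻¹ = f y) :
    IsWreathed (P : Subgroup G) := by
  rw [orderOf_injective f hf] at hx hz
  have hxy' : x * y = y * x := hf (by rw [map_mul, map_mul, hxy])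
  have hr' : z * x * z⁻¹ = y := hf (by rw [map_mul, map_mul, map_inv, hr])
  have hinf' : ∀ g, g ∈ Subgroup.zpowers x → g ∈ Subgroup.zpowers y → g = 1 := by
    intro g h1 h2
    apply hf
    rw [map_one]
    apply hinf
    · obtain ⟨k, rfl⟩ := Subgroup.mem_zpowers_iff.1 h1
      rw [map_zpow]; exact Subgroup.zpow_mem_zpowers _ k
    · obtain ⟨k, rfl⟩ := Subgroup.mem_zpowers_iff.1 h2
      rw [map_zpow]; exact Subgroup.zpow_mem_zpowers _ k
  have hH := isPGroup_wreath x y z n hx hxy' hz hr'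
  obtain ⟨Q, hQ⟩ := hH.exists_le_sylow
  have hcQ : Nat.card Q = 2 ^ (2 * n + 1) := card_sylow_of_card_eq Q (2 * n + 1) m' hcard hm'
  have hxQ : x ∈ (Q : Subgroup G) := hQ ((le_sup_right : _ ≤ Subgroup.zpowers z ⊔
    (Subgroup.zpowers x ⊔ Subgroup.zpowers y)) ((le_sup_left : Subgroup.zpowers x ≤ _)
      (Subgroup.mem_zpowers _)))
  have hyQ : y ∈ (Q : Subgroup G) := hQ ((le_sup_right : _ ≤ Subgroup.zpowers z ⊔
    (Subgroup.zpowers x ⊔ Subgroup.zpowers y)) ((le_sup_right : Subgroup.zpowers y ≤ _)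
      (Subgroup.mem_zpowers _)))
  have hzQ : z ∈ (Q : Subgroup G) := hQ ((le_sup_left : Subgroup.zpowers z ≤ _)
    (Subgroup.mem_zpowers _))
  have hW : IsWreathed (Q : Subgroup G) :=
    isWreathed_of_data (Q : Subgroup G) n hn hcQ x y z hxQ hyQ hzQ hx hxy' hinf' hz hr'
  exact isWreathed_of_mulEquiv (Sylow.equiv Q P) hW

theorem isQuasiDihedral_sylow [Finite G] (P : Sylow 2 G) (f : G →* G') (hf : Function.Injective f)
    (n m' : ℕ) (hn : 3 ≤ n) (hm' : ¬ 2 ∣ m')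
    (hcard : Nat.card G = 2 ^ (n + 1) * m') (x y : G) (hx : orderOf (f x) = 2 ^ n)
    (hy : orderOf (f y) = 2) (hr : f y * f x * (f y)⁻¹ = f x ^ (2 ^ (n - 1) - 1)) :
    IsQuasiDihedral (P : Subgroup G) := by
  rw [orderOf_injective f hf] at hx hy
  have hr' : y * x * y⁻¹ = x ^ (2 ^ (n - 1) - 1) :=
    hf (by rw [map_mul, map_mul, map_inv, hr, map_pow])
  have hH := isPGroup_qd x y n _ hx hy hr'
  obtain ⟨Q, hQ⟩ := hH.exists_le_sylow
  have hcQ : Nat.card Q = 2 ^ (n + 1) := card_sylow_of_card_eq Q (n + 1) m' hcard hm'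
  have hxQ : x ∈ (Q : Subgroup G) :=
    hQ ((le_sup_right : Subgroup.zpowers x ≤ Subgroup.zpowers y ⊔ Subgroup.zpowers x)
      (Subgroup.mem_zpowers x))
  have hyQ : y ∈ (Q : Subgroup G) :=
    hQ ((le_sup_left : Subgroup.zpowers y ≤ Subgroup.zpowers y ⊔ Subgroup.zpowers x)
      (Subgroup.mem_zpowers y))
  have hQD : IsQuasiDihedral (Q : Subgroup G) :=
    isQuasiDihedral_of_data (Q : Subgroup G) n hn hcQ x y hxQ hyQ hx hy hr'
  exact isQuasiDihedral_of_mulEquiv (Sylow.equiv Q P) hQD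

end general

section GU

variable {F : Type*} [Field F] {q : ℕ}

lemma card_GU2 [Fintype F] (hF : Fintype.card F = q ^ 2) :
    Nat.card (Cfsg.GU 2 F q) = q * ((q + 1) * (q ^ 2 - 1)) := by
  rw [Cfsg.Agent.Helper45.GU.card_GU hF 2]
  simp [Finset.prod_range_succ]

/-- membership criterion -/
lemma mem_GU2_of (bar : F →+* F) (hbar : ∀ x, bar x = x ^ q) (g : GL (Fin 2) F)
    (h : (g.1)ᵀ * (g.1).map bar = 1) : g ∈ Cfsg.GU 2 F q := by
  rw [Cfsg.Agent.Helper45.GU.mem_GU_iff 2 bar hbar]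
  intro u v
  rw [Cfsg.Agent.Helper45.GU.herm_mulVec, h, one_mulVec, Cfsg.Agent.Helper45.GU.herm_eq]

lemma dg_mem_GU2 (bar : F →+* F) (hbar : ∀ x, bar x = x ^ q) (a b : Fˣ)
    (ha : a ^ (q + 1) = 1) (hb : b ^ (q + 1) = 1) : dg a b ∈ Cfsg.GU 2 F q := by
  apply mem_GU2_of bar hbar
  have ha' : (a : F) * bar a = 1 := by
    rw [hbar, ← pow_succ', ← Units.val_pow_eq_pow_val, ha, Units.val_one]
  have hb' : (b : F) * bar b = 1 := by
    rw [hbar, ← pow_succ', ← Units.val_pow_eq_pow_val, hb, Units.val_one]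
  rw [dg_val]
  ext i j
  fin_cases i <;> fin_cases j <;> simp [Matrix.mul_apply, Fin.sum_univ_two, ha', hb']

lemma sw_mem_GU2 (bar : F →+* F) (hbar : ∀ x, bar x = x ^ q) : (sw : GL (Fin 2) F) ∈ Cfsg.GU 2 F q := by
  apply mem_GU2_of bar hbar
  rw [sw_val]
  ext i j
  fin_cases i <;> fin_cases j <;> simp [Matrix.mul_apply, Fin.sum_univ_two]

end GU

section torus

variable {F : Type*} [Field F]

lemma Pm_aux1 (i : F) (hi : i * i = -1) (h2 : (2 : F) ≠ 0) :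
    !![1, 1; i, -i] * !![1 / 2, -i / 2; 1 / 2, i / 2] = (1 : Matrix (Fin 2) (Fin 2) F) := by
  have hi2 : i ^ 2 = -1 := by rw [pow_two]; exact hi
  ext a b
  fin_cases a <;> fin_cases b <;> simp [Matrix.mul_apply, Fin.sum_univ_two]
  all_goals (field_simp; (try simp only [hi2]); (try ring1))

lemma Pm_aux2 (i : F) (hi : i * i = -1) (h2 : (2 : F) ≠ 0) :
    !![1 / 2, -i / 2; 1 / 2, i / 2] * !![1, 1; i, -i] = (1 : Matrix (Fin 2) (Fin 2) F) := by
  have hi2 : i ^ 2 = -1 := by rw [pow_two]; exact hi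
  ext a b
  fin_cases a <;> fin_cases b <;> simp [Matrix.mul_apply, Fin.sum_univ_two]
  all_goals (field_simp; (try simp only [hi2]); (try ring1))

/-- the matrix `[[1,1],[i,-i]]` -/
def Pm (i : F) (hi : i * i = -1) (h2 : (2 : F) ≠ 0) : GL (Fin 2) F :=
  ⟨!![1, 1; i, -i], !![1 / 2, -i / 2; 1 / 2, i / 2], Pm_aux1 i hi h2, Pm_aux2 i hi h2⟩

lemma Pm_val (i : F) (hi : i * i = -1) (h2 : (2 : F) ≠ 0) : (Pm i hi h2).1 = !![1, 1; i, -i] := rfl

lemma Pm_inv_val (i : F) (hi : i * i = -1) (h2 : (2 : F) ≠ 0) :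
    ((Pm i hi h2)⁻¹ : GL (Fin 2) F).1 = !![1 / 2, -i / 2; 1 / 2, i / 2] := rfl

/-- the twisted diagonal torus `λ ↦ diag(λ, λ^{-q})` -/
def dq (q : ℕ) : Fˣ →* GL (Fin 2) F where
  toFun l := dg l (l ^ q)⁻¹
  map_one' := by rw [one_pow, inv_one, dg_one]
  map_mul' a b := by rw [dg_mul, mul_pow, mul_inv]

lemma dq_apply (q : ℕ) (l : Fˣ) : dq q l = dg l (l ^ q)⁻¹ := rfl

lemma dq_injective (q : ℕ) : Function.Injective (dq (F := F) q) :=
  fun _ _ h => (dg_injective h).1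

/-- the conjugated torus -/
def tq (i : F) (hi : i * i = -1) (h2 : (2 : F) ≠ 0) (q : ℕ) : Fˣ →* GL (Fin 2) F :=
  (MulAut.conj (Pm i hi h2)).toMonoidHom.comp (dq q)

lemma tq_apply (i : F) (hi : i * i = -1) (h2 : (2 : F) ≠ 0) (q : ℕ) (l : Fˣ) :
    tq i hi h2 q l = Pm i hi h2 * dg l (l ^ q)⁻¹ * (Pm i hi h2)⁻¹ := rfl

lemma tq_injective (i : F) (hi : i * i = -1) (h2 : (2 : F) ≠ 0) (q : ℕ) :
    Function.Injective (tq i hi h2 q) := by
  intro a b h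
  apply dq_injective q
  exact (MulAut.conj (Pm i hi h2)).injective h

/-- `diag(1,-1)` -/
def dm1 : GL (Fin 2) F := dg 1 (-1)

lemma dm1_mul_Pm (i : F) (hi : i * i = -1) (h2 : (2 : F) ≠ 0) :
    dm1 * Pm i hi h2 = Pm i hi h2 * sw := by
  apply Units.ext
  rw [Units.val_mul, Units.val_mul, Pm_val, sw_val, dm1, dg_val]
  ext a b
  fin_cases a <;> fin_cases b <;> simp [Matrix.mul_apply, Fin.sum_univ_two]

lemma dm1_conj_tq (i : F) (hi : i * i = -1) (h2 : (2 : F) ≠ 0) (q : ℕ) (l : Fˣ)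
    (hl : (l ^ q) ^ q = l) :
    dm1 * tq i hi h2 q l * dm1⁻¹ = (tq i hi h2 q l ^ q)⁻¹ := by
  rw [← map_pow, ← map_inv, tq_apply, tq_apply]
  have h1 : dm1 * (Pm i hi h2 * dg l (l ^ q)⁻¹ * (Pm i hi h2)⁻¹) * dm1⁻¹ =
      (dm1 * Pm i hi h2) * dg l (l ^ q)⁻¹ * (dm1 * Pm i hi h2)⁻¹ := by group
  rw [h1, dm1_mul_Pm]
  have h2' : Pm i hi h2 * sw * dg l (l ^ q)⁻¹ * (Pm i hi h2 * sw)⁻¹ =
      Pm i hi h2 * (sw * dg l (l ^ q)⁻¹ * sw⁻¹) * (Pm i hi h2)⁻¹ := by group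
  rw [h2', sw_conj, inv_pow, inv_inv, ← inv_pow, hl]

end torus

section mem

variable {F : Type*} [Field F] {q : ℕ}

lemma tq_mem (bar : F →+* F) (hbar : ∀ x, bar x = x ^ q) (i : F) (hi : i * i = -1)
    (h2 : (2 : F) ≠ 0) (hbi : bar i = i) (l : Fˣ) (hl : (l ^ q) ^ q = l) :
    tq i hi h2 q l ∈ Cfsg.GU 2 F q := by
  apply mem_GU2_of bar hbar
  have hi2 : i ^ 2 = -1 := by rw [pow_two]; exact hi
  have hl0 : (l : F) ≠ 0 := l.ne_zero
  have hn0 : (((l ^ q)⁻¹ : Fˣ) : F) ≠ 0 := Units.ne_zero _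
  have hb1 : bar (l : F) = (((l ^ q)⁻¹ : Fˣ) : F)⁻¹ := by
    rw [hbar, Units.val_inv_eq_inv_val, inv_inv, Units.val_pow_eq_pow_val]
  have hb2 : bar (((l ^ q)⁻¹ : Fˣ) : F) = (l : F)⁻¹ := by
    rw [hbar, ← Units.val_pow_eq_pow_val, inv_pow, hl, Units.val_inv_eq_inv_val]
  have hb3 : bar 2 = 2 := map_ofNat bar 2
  rw [tq_apply, Units.val_mul, Units.val_mul, Pm_val, Pm_inv_val, dg_val]
  generalize (((l ^ q)⁻¹ : Fˣ) : F) = n at hn0 hb1 hb2
  generalize (l : F) = m at hl0 hb1 hb2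
  ext a b
  fin_cases a <;> fin_cases b <;>
    simp [Matrix.mul_apply, Fin.sum_univ_two, hbi, hb1, hb2, hb3]
  all_goals (field_simp; (try simp only [hi2]); (try ring1))

end mem

section arith

/-- `q ≡ 3 mod 4` -/
lemma arith_three (q a k : ℕ) (ha : 2 ≤ a) (hq : q + 1 = 2 ^ a * (2 * k + 1)) :
    ∃ m' : ℕ, ¬ 2 ∣ m' ∧ q * ((q + 1) * (q ^ 2 - 1)) = 2 ^ (2 * a + 1) * m' ∧
      2 ^ a ∣ q ^ 2 - 1 := by
  obtain ⟨c, rfl⟩ : ∃ c, a = c + 2 := ⟨a - 2, by omega⟩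
  have h2c : 0 < 2 ^ c := pow_pos (by norm_num) c
  obtain ⟨s, hs⟩ : ∃ s, 2 ^ c * (2 * k + 1) = s + 1 := ⟨2 ^ c * (2 * k + 1) - 1, by
    have : 0 < 2 ^ c * (2 * k + 1) := Nat.mul_pos h2c (by omega)
    omega⟩
  have hq' : q = 4 * s + 3 := by
    have : 2 ^ (c + 2) * (2 * k + 1) = 4 * (2 ^ c * (2 * k + 1)) := by ring
    omega
  have hfac : q ^ 2 - 1 = (4 * s + 2) * (2 ^ (c + 2) * (2 * k + 1)) := by
    have h1 : q ^ 2 = (4 * s + 2) * (4 * s + 4) + 1 := by rw [hq']; ring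
    have : 4 * s + 4 = 2 ^ (c + 2) * (2 * k + 1) := by omega
    rw [← this]
    omega
  refine ⟨(4 * s + 3) * (2 * k + 1) ^ 2 * (2 * s + 1), ?_, ?_, ?_⟩
  · apply not_two_dvd_of_odd
    exact (Odd.mul ⟨2 * s + 1, by ring⟩ (Odd.pow ⟨k, rfl⟩)).mul ⟨s, rfl⟩
  · rw [hq, hfac, hq']
    ring
  · rw [hfac]
    exact Dvd.dvd.mul_left (dvd_mul_right _ _) _

/-- `q ≡ 1 mod 4` -/
lemma arith_one (q b k : ℕ) (hq1 : 1 ≤ q) (hb : 2 ≤ b) (hq : q - 1 = 2 ^ b * (2 * k + 1)) :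
    ∃ m' : ℕ, ¬ 2 ∣ m' ∧ q * ((q + 1) * (q ^ 2 - 1)) = 2 ^ (b + 1 + 1) * m' ∧
      2 ^ (b + 1) ∣ q ^ 2 - 1 := by
  obtain ⟨c, rfl⟩ : ∃ c, b = c + 2 := ⟨b - 2, by omega⟩
  set s := 2 ^ c * (2 * k + 1) with hs
  have hq' : q = 4 * s + 1 := by
    have : 2 ^ (c + 2) * (2 * k + 1) = 4 * (2 ^ c * (2 * k + 1)) := by ring
    omega
  have hfac : q ^ 2 - 1 = (2 ^ (c + 2) * (2 * k + 1)) * (4 * s + 2) := by
    have h1 : q ^ 2 = (4 * s) * (4 * s + 2) + 1 := by rw [hq']; ring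
    have : 4 * s = 2 ^ (c + 2) * (2 * k + 1) := by rw [hs]; ring
    rw [← this]
    omega
  refine ⟨(4 * s + 1) * (2 * s + 1) ^ 2 * (2 * k + 1), ?_, ?_, ?_⟩
  · apply not_two_dvd_of_odd
    exact (Odd.mul ⟨2 * s, by ring⟩ (Odd.pow ⟨s, rfl⟩)).mul ⟨k, rfl⟩
  · rw [hfac, hq']
    ring
  · rw [hfac]
    exact ⟨(2 * k + 1) * (2 * s + 1), by ring⟩

end arith

section main

variable {F : Type*} [Field F] [Fintype F]

/-- element of order `2^a` in `Fˣ` when `2^a ∣ card F - 1` -/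
lemma exists_orderOf_two_pow (a : ℕ) (hdvd : 2 ^ a ∣ Fintype.card F - 1) :
    ∃ ζ : Fˣ, orderOf ζ = 2 ^ a := by
  classical
  have hq : 1 < Fintype.card F := Fintype.one_lt_card
  obtain ⟨m, hm⟩ := hdvd
  have hm0 : m ≠ 0 := by
    rintro rfl
    omega
  obtain ⟨g, hg⟩ := IsCyclic.exists_ofOrder_eq_natCard (α := Fˣ)
  rw [Nat.card_units, Nat.card_eq_fintype_card, hm] at hg
  refine ⟨g ^ m, ?_⟩
  rw [orderOf_pow_of_dvd hm0 (by rw [hg]; exact dvd_mul_left m _), hg,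
    Nat.mul_div_cancel _ (Nat.pos_of_ne_zero hm0)]

omit [Fintype F] in
lemma wreathed_data (ζ : Fˣ) :
    d1 ζ * d2 ζ = d2 ζ * d1 ζ ∧
    (∀ g, g ∈ Subgroup.zpowers (d1 ζ) → g ∈ Subgroup.zpowers (d2 ζ) → g = 1) ∧
    (sw : GL (Fin 2) F) * d1 ζ * sw⁻¹ = d2 ζ := by
  refine ⟨?_, ?_, ?_⟩
  · rw [d1_apply, d2_apply, dg_mul, dg_mul, one_mul, mul_one]
  · intro h h1 h2
    obtain ⟨i, rfl⟩ := Subgroup.mem_zpowers_iff.1 h1
    obtain ⟨j, hj⟩ := Subgroup.mem_zpowers_iff.1 h2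
    rw [← map_zpow, ← map_zpow, d1_apply, d2_apply] at hj
    have := (dg_injective hj).1
    rw [← map_zpow, ← this, map_one]
  · rw [d1_apply, sw_conj, d2_apply]

theorem gu2_sylow_two_type (q : ℕ) (hF : Fintype.card F = q ^ 2) (hq : Odd q)
    (P : Sylow 2 ↥(Cfsg.GU 2 F q)) :
    (q % 4 = 1 → IsQuasiDihedral (P : Subgroup ↥(Cfsg.GU 2 F q))) ∧
    (q % 4 = 3 → IsWreathed (P : Subgroup ↥(Cfsg.GU 2 F q))) := by
  obtain ⟨bar, hbar⟩ := Cfsg.Agent.Helper45.GU.exists_bar hF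
  have hqq : ∀ x : F, (x ^ q) ^ q = x := by
    intro x
    rw [← pow_mul, ← sq, ← hF, FiniteField.pow_card]
  have hqqu : ∀ l : Fˣ, (l ^ q) ^ q = l := by
    intro l
    apply Units.ext
    rw [Units.val_pow_eq_pow_val, Units.val_pow_eq_pow_val, hqq]
  have hcardodd : Odd (Fintype.card F) := by rw [hF]; exact hq.pow
  have h2 : (2 : F) ≠ 0 := two_ne_zero_of_odd_card hcardodd
  have hq1 : 1 ≤ q := hq.pos
  constructor
  · intro h1
    obtain ⟨b, m, hm, hqb⟩ := Nat.exists_eq_two_pow_mul_odd (n := q - 1) (by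
      intro h0
      have : q = 1 := by omega
      rw [this] at hF
      have := Fintype.one_lt_card (α := F)
      omega)
    obtain ⟨k, rfl⟩ := hm
    have hb : 2 ≤ b := by
      rcases b with _ | _ | b
      · simp at hqb; omega
      · simp at hqb; omega
      · omega
    obtain ⟨m', hm', hcard, hdvd⟩ := arith_one q b k hq1 hb hqb
    rw [← card_GU2 hF] at hcard
    rw [← hF] at hdvd
    obtain ⟨l, hl⟩ := exists_orderOf_two_pow (F := F) (b + 1) hdvd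
    -- square root of -1
    have hsq : IsSquare (-1 : F) := by
      rw [FiniteField.isSquare_neg_one_iff, hF]
      have : q ^ 2 % 4 = 1 := by
        rw [Nat.pow_mod, h1]
      omega
    obtain ⟨i, hi⟩ := hsq
    have hi : i * i = -1 := hi.symm
    have hbi : bar i = i := by
      rw [hbar]
      obtain ⟨t, ht⟩ : ∃ t, q = 4 * t + 1 := ⟨q / 4, by omega⟩
      have : i ^ 4 = 1 := by
        have : i ^ 4 = (i * i) * (i * i) := by ring
        rw [this, hi]; ring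
      rw [ht, pow_succ, pow_mul, this, one_pow, one_mul]
    let x : ↥(Cfsg.GU 2 F q) := ⟨tq i hi h2 q l, tq_mem bar hbar i hi h2 hbi l (hqqu l)⟩
    have hm1 : ((-1 : Fˣ)) ^ (q + 1) = 1 := by
      obtain ⟨t, ht⟩ := hq
      have : q + 1 = 2 * (t + 1) := by omega
      rw [this, pow_mul]
      simp
    let y : ↥(Cfsg.GU 2 F q) := ⟨dm1, dg_mem_GU2 bar hbar 1 (-1) (one_pow _) hm1⟩
    have hx : orderOf (tq i hi h2 q l) = 2 ^ (b + 1) := by
      rw [orderOf_injective _ (tq_injective i hi h2 q), hl]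
    have hy1 : (dm1 : GL (Fin 2) F) ≠ 1 := by
      intro h
      rw [dm1, ← dg_one] at h
      have h3 := (dg_injective h).2
      have h4 : ((-1 : Fˣ) : F) = 1 := by rw [h3]; rfl
      have h5 : (2 : F) = 0 := by
        have : (-1 : F) = 1 := by simpa using h4
        linear_combination -this
      exact h2 h5
    have hyy : (dm1 : GL (Fin 2) F) * dm1 = 1 := by
      rw [dm1, dg_mul, one_mul, neg_mul_neg, one_mul, dg_one]
    have hy : orderOf (dm1 : GL (Fin 2) F) = 2 :=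
      orderOf_eq_prime (by rw [pow_two, hyy]) hy1
    have hrel : (dm1 : GL (Fin 2) F) * tq i hi h2 q l * dm1⁻¹ =
        tq i hi h2 q l ^ (2 ^ (b + 1 - 1) - 1) := by
      rw [dm1_conj_tq i hi h2 q l (hqqu l), Nat.add_sub_cancel]
      symm
      apply eq_inv_of_mul_eq_one_left
      rw [← pow_add]
      have h4 : 0 < 2 ^ b := pow_pos (by norm_num) b
      have : 2 ^ b - 1 + q = 2 ^ (b + 1) * (k + 1) := by
        have e1 : 2 ^ b * (2 * k + 1) = 2 ^ b * (2 * k) + 2 ^ b := by ring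
        have e2 : 2 ^ (b + 1) * (k + 1) = 2 ^ b * (2 * k) + 2 * 2 ^ b := by ring
        omega
      rw [this, pow_mul, ← hx, pow_orderOf_eq_one, one_pow]
    exact isQuasiDihedral_sylow P (Subgroup.subtype (Cfsg.GU 2 F q))
      (Subgroup.subtype_injective _) (b + 1) m' (by omega) hm' hcard x y hx hy hrel
  · intro h3
    obtain ⟨a, m, hm, hqa⟩ := Nat.exists_eq_two_pow_mul_odd (n := q + 1) (by omega)
    obtain ⟨k, rfl⟩ := hm
    have ha : 2 ≤ a := by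
      rcases a with _ | _ | a
      · simp at hqa; omega
      · simp at hqa; omega
      · omega
    obtain ⟨m', hm', hcard, hdvd⟩ := arith_three q a k ha hqa
    rw [← card_GU2 hF] at hcard
    rw [← hF] at hdvd
    obtain ⟨ζ, hζ⟩ := exists_orderOf_two_pow (F := F) a hdvd
    have hζq : ζ ^ (q + 1) = 1 := by
      rw [hqa, pow_mul, ← hζ, pow_orderOf_eq_one, one_pow]
    let x : ↥(Cfsg.GU 2 F q) := ⟨d1 ζ, dg_mem_GU2 bar hbar ζ 1 hζq (one_pow _)⟩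
    let y : ↥(Cfsg.GU 2 F q) := ⟨d2 ζ, dg_mem_GU2 bar hbar 1 ζ (one_pow _) hζq⟩
    let z : ↥(Cfsg.GU 2 F q) := ⟨sw, sw_mem_GU2 bar hbar⟩
    obtain ⟨hxy, hinf, hr⟩ := wreathed_data ζ
    have hx : orderOf (d1 ζ) = 2 ^ a := by rw [orderOf_injective d1 d1_injective, hζ]
    exact isWreathed_sylow P (Subgroup.subtype (Cfsg.GU 2 F q))
      (Subgroup.subtype_injective _) a m' ha hm' hcard x y z hx hxy hinf orderOf_sw hr

end main

end Cfsg.Agent.Helper37.GU2S2
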