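import Mathlib
import Cfsg.Prelude.Def_Classical
import Cfsg.Agent.Helper37.PSL3InvB
import Cfsg.Agent.Helper37.GU2Sylow2
import Cfsg.Agent.Helper5.Unitary
import Cfsg.Agent.Helper5.HermCount
import Cfsg.Agent.Helper45.SUCard

set_option autoImplicit false

namespace Cfsg.Agent.Helper37.SU3Inv

open Matrix Cfsg.Agent.Helper37.PSL3Inv

section general

/-- class equation piece: `|class of t| * |C(t)| = |G|` -/
lemma card_conj_mul_card_centralizer {G : Type*} [Group G] [Finite G] (t : G) :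
    Nat.card {x : G // IsConj t x} * Nat.card (Subgroup.centralizer ({t} : Set G)) = Nat.card G := by
  have h1 := Subgroup.card_mul_index (MulAction.stabilizer (ConjAct G) t)
  rw [MulAction.index_stabilizer] at h1
  have h2 : Nat.card (MulAction.stabilizer (ConjAct G) t) =
      Nat.card (Subgroup.centralizer ({t} : Set G)) := by
    rw [ConjAct.stabilizer_eq_centralizer]
    rfl
  have h3 : (MulAction.orbit (ConjAct G) t).ncard = Nat.card {x : G // IsConj t x} := by
    rw [← Nat.card_coe_set_eq]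
    apply Nat.card_congr
    apply Equiv.subtypeEquivRight
    intro x
    rw [ConjAct.mem_orbit_conjAct, isConj_comm]
  rw [h2, h3] at h1
  have h4 : Nat.card (ConjAct G) = Nat.card G := rfl
  rw [h4] at h1
  rw [mul_comm]
  exact h1

variable {F : Type*} [Field F]

/-- an involution of determinant one in `M₂(F)` is `±1` -/
lemma two_by_two_inv (h2 : (2 : F) ≠ 0) (A : Matrix (Fin 2) (Fin 2) F) (hA : A * A = 1)
    (hdet : A.det = 1) : A = 1 ∨ A = -1 := by
  have e00 := congrFun (congrFun hA 0) 0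
  have e01 := congrFun (congrFun hA 0) 1
  have e10 := congrFun (congrFun hA 1) 0
  have e11 := congrFun (congrFun hA 1) 1
  rw [Matrix.det_fin_two] at hdet
  simp [Matrix.mul_apply, Fin.sum_univ_two] at e00 e01 e10 e11
  have h3 : A 0 0 * (A 0 0 + A 1 1) = 2 := by linear_combination e00 + hdet
  have htr : A 0 0 + A 1 1 ≠ 0 := by
    intro h
    rw [h, mul_zero] at h3
    exact h2 h3.symm
  have hb : A 0 1 = 0 := by
    have : A 0 1 * (A 0 0 + A 1 1) = 0 := by linear_combination e01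
    rcases mul_eq_zero.1 this with h | h
    · exact h
    · exact absurd h htr
  have hc : A 1 0 = 0 := by
    have : A 1 0 * (A 0 0 + A 1 1) = 0 := by linear_combination e10
    rcases mul_eq_zero.1 this with h | h
    · exact h
    · exact absurd h htr
  rw [hb] at e00 e11 hdet
  simp at e00 e11 hdet
  have ha : (A 0 0 - 1) * (A 0 0 + 1) = 0 := by linear_combination e00
  rcases mul_eq_zero.1 ha with h | h
  · left
    have ha1 : A 0 0 = 1 := by linear_combination h
    have hd1 : A 1 1 = 1 := by rw [ha1, one_mul] at hdet; exact hdet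
    ext i j
    fin_cases i <;> fin_cases j <;> simp [ha1, hd1, hb, hc]
  · right
    have ha1 : A 0 0 = -1 := by linear_combination h
    have hd1 : A 1 1 = -1 := by rw [ha1] at hdet; linear_combination -hdet
    ext i j
    fin_cases i <;> fin_cases j <;> simp [ha1, hd1, hb, hc]

end general

section unitary

variable {F : Type*} [Field F] (bar : F →+* F)

/-- the unitary condition on a matrix -/
def IsU {n : ℕ} (M : Matrix (Fin n) (Fin n) F) : Prop := Mᵀ * M.map bar = 1

lemma isU_iff_herm {n : ℕ} (M : Matrix (Fin n) (Fin n) F) :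
    IsU bar M ↔ ∀ u v, Cfsg.Agent.Helper45.GU.herm bar (M *ᵥ u) (M *ᵥ v) =
      Cfsg.Agent.Helper45.GU.herm bar u v := by
  constructor
  · intro h u v
    rw [Cfsg.Agent.Helper45.GU.herm_mulVec, h, one_mulVec, Cfsg.Agent.Helper45.GU.herm_eq]
  · intro h
    exact Cfsg.Agent.Helper45.GU.unitary_of_herm bar M h

lemma blk_transpose (A : Matrix (Fin 2) (Fin 2) F) (e : F) : (blk A e)ᵀ = blk Aᵀ e := by
  ext i j
  fin_cases i <;> fin_cases j <;> simp [blk]

lemma blk_map (A : Matrix (Fin 2) (Fin 2) F) (e : F) :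
    (blk A e).map bar = blk (A.map bar) (bar e) := by
  ext i j
  fin_cases i <;> fin_cases j <;> simp [blk]

lemma blk_inj {A B : Matrix (Fin 2) (Fin 2) F} {e f : F} (h : blk A e = blk B f) :
    A = B ∧ e = f := by
  have e00 := congrFun (congrFun h 0) 0
  have e01 := congrFun (congrFun h 0) 1
  have e10 := congrFun (congrFun h 1) 0
  have e11 := congrFun (congrFun h 1) 1
  have e22 := congrFun (congrFun h 2) 2
  simp [blk] at e00 e01 e10 e11 e22
  refine ⟨?_, e22⟩
  ext i j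
  fin_cases i <;> fin_cases j <;> assumption

lemma isU_blk (A : Matrix (Fin 2) (Fin 2) F) (e : F) :
    IsU bar (blk A e) ↔ IsU bar A ∧ e * bar e = 1 := by
  unfold IsU
  rw [blk_transpose, blk_map, blk_mul, ← blk_one]
  constructor
  · intro h
    exact blk_inj h
  · rintro ⟨h1, h2⟩
    rw [h1, h2]

variable {q : ℕ} (hbar : ∀ x, bar x = x ^ q)

include hbar in
lemma mem_SU_iff_isU {n : ℕ} (g : Matrix.SpecialLinearGroup (Fin n) F) :
    g ∈ Cfsg.SU n F q ↔ IsU bar g.1 := by
  rw [Cfsg.Agent.Helper45.GU.mem_SU_iff n bar hbar, isU_iff_herm]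

include hbar in
lemma mem_GU_iff_isU {n : ℕ} (g : GL (Fin n) F) :
    g ∈ Cfsg.GU n F q ↔ IsU bar g.1 := by
  rw [Cfsg.Agent.Helper45.GU.mem_GU_iff n bar hbar, isU_iff_herm]

lemma isU_mul {n : ℕ} {M N : Matrix (Fin n) (Fin n) F} (hM : IsU bar M) (hN : IsU bar N) :
    IsU bar (M * N) := by
  rw [isU_iff_herm] at *
  intro u v
  rw [← Matrix.mulVec_mulVec, ← Matrix.mulVec_mulVec, hM, hN]

lemma isU_Dm : IsU bar (Dm : Matrix (Fin 3) (Fin 3) F) := by
  unfold Dm
  rw [isU_blk]
  constructor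
  · unfold IsU
    ext i j
    fin_cases i <;> fin_cases j <;> simp [Matrix.mul_apply, Fin.sum_univ_two]
  · simp

end unitary

section cent

variable {F : Type*} [Field F]

lemma det_ne_zero_GL {n : ℕ} (A : GL (Fin n) F) : A.1.det ≠ 0 :=
  ((Matrix.isUnit_iff_isUnit_det A.1).1 A.isUnit).ne_zero

/-- block embedding `GL₂ →* SL₃` -/
noncomputable def blkSL : GL (Fin 2) F →* Matrix.SpecialLinearGroup (Fin 3) F where
  toFun A := ⟨blk A.1 (A.1.det)⁻¹, by rw [det_blk]; exact mul_inv_cancel₀ (det_ne_zero_GL A)⟩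
  map_one' := by
    apply Subtype.ext
    simp [blk_one]
  map_mul' A B := by
    apply Subtype.ext
    show blk (A * B).1 ((A * B).1.det)⁻¹ = blk A.1 (A.1.det)⁻¹ * blk B.1 (B.1.det)⁻¹
    rw [blk_mul, Units.val_mul, Matrix.det_mul, mul_inv]

lemma blkSL_val (A : GL (Fin 2) F) : (blkSL A).1 = blk A.1 (A.1.det)⁻¹ := rfl

lemma det_Dm : (Dm : Matrix (Fin 3) (Fin 3) F).det = 1 := by
  unfold Dm
  rw [det_blk, Matrix.det_fin_two]
  simp

variable (bar : F →+* F) {q : ℕ} (hbar : ∀ x, bar x = x ^ q)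

lemma isU_det {n : ℕ} {M : Matrix (Fin n) (Fin n) F} (h : IsU bar M) : M.det * bar M.det = 1 := by
  have := congrArg Matrix.det h
  rw [Matrix.det_mul, Matrix.det_transpose, Matrix.det_one, ← RingHom.mapMatrix_apply,
    ← RingHom.map_det] at this
  exact this

/-- the standard involution as an element of `SU₃` -/
noncomputable def t0 : ↥(Cfsg.SU 3 F q) :=
  ⟨⟨Dm, det_Dm⟩, (mem_SU_iff_isU bar hbar _).2 (isU_Dm bar)⟩

lemma t0_val : ((t0 bar hbar : ↥(Cfsg.SU 3 F q)).1).1 = Dm := rfl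

include hbar in
lemma blkSL_mem (A : GL (Fin 2) F) (hA : A ∈ Cfsg.GU 2 F q) : blkSL A ∈ Cfsg.SU 3 F q := by
  rw [mem_SU_iff_isU bar hbar, blkSL_val, isU_blk]
  have hU := (mem_GU_iff_isU bar hbar A).1 hA
  refine ⟨hU, ?_⟩
  have hd := isU_det bar hU
  rw [map_inv₀, ← mul_inv, hd, inv_one]

/-- `GU₂ →* SU₃` -/
noncomputable def beta : ↥(Cfsg.GU 2 F q) →* ↥(Cfsg.SU 3 F q) :=
  (blkSL.comp (Cfsg.GU 2 F q).subtype).codRestrict (Cfsg.SU 3 F q)
    (fun A => blkSL_mem bar hbar A.1 A.2)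

lemma beta_val (A : ↥(Cfsg.GU 2 F q)) :
    ((beta bar hbar A).1).1 = blk A.1.1 (A.1.1.det)⁻¹ := rfl

lemma beta_injective : Function.Injective (beta bar hbar : ↥(Cfsg.GU 2 F q) →* ↥(Cfsg.SU 3 F q)) := by
  intro A B h
  have h1 : ((beta bar hbar A).1).1 = ((beta bar hbar B).1).1 := by rw [h]
  rw [beta_val, beta_val] at h1
  exact Subtype.ext (Units.ext (blk_inj h1).1)

lemma range_beta (h2 : (2 : F) ≠ 0) :
    (beta bar hbar : ↥(Cfsg.GU 2 F q) →* ↥(Cfsg.SU 3 F q)).range =
      Subgroup.centralizer ({t0 bar hbar} : Set ↥(Cfsg.SU 3 F q)) := by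
  ext g
  rw [MonoidHom.mem_range, Subgroup.mem_centralizer_singleton_iff]
  constructor
  · rintro ⟨A, rfl⟩
    apply Subtype.ext
    apply Subtype.ext
    show ((beta bar hbar A).1).1 * ((t0 bar hbar : ↥(Cfsg.SU 3 F q)).1).1 =
      ((t0 bar hbar : ↥(Cfsg.SU 3 F q)).1).1 * ((beta bar hbar A).1).1
    rw [beta_val, t0_val, blk_comm_Dm]
  · intro hc
    have hc' : (g.1).1 * Dm = Dm * (g.1).1 := by
      have := congrArg (fun x : ↥(Cfsg.SU 3 F q) => (x.1).1) hc
      exact this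
    have hblk := eq_blk_of_comm h2 _ hc'
    set A₀ : Matrix (Fin 2) (Fin 2) F := !![(g.1).1 0 0, (g.1).1 0 1; (g.1).1 1 0, (g.1).1 1 1] with hA₀
    set e := (g.1).1 2 2 with he
    have hU : IsU bar (g.1).1 := (mem_SU_iff_isU bar hbar g.1).1 g.2
    rw [hblk, isU_blk] at hU
    have hdet : A₀.det * e = 1 := by
      rw [← det_blk, ← hblk]
      exact (g.1).2
    have hA0 : A₀.det ≠ 0 := left_ne_zero_of_mul_eq_one hdet
    have he' : e = (A₀.det)⁻¹ := eq_inv_of_mul_eq_one_right hdet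
    let A : GL (Fin 2) F := Matrix.GeneralLinearGroup.mkOfDetNeZero A₀ hA0
    have hAmem : A ∈ Cfsg.GU 2 F q := (mem_GU_iff_isU bar hbar A).2 hU.1
    refine ⟨⟨A, hAmem⟩, ?_⟩
    apply Subtype.ext
    apply Subtype.ext
    rw [beta_val]
    show blk A₀ (A₀.det)⁻¹ = (g.1).1
    rw [← he', ← hblk]

lemma card_centralizer_t0 [Fintype F] (hF : Fintype.card F = q ^ 2) (h2 : (2 : F) ≠ 0) :
    Nat.card (Subgroup.centralizer ({t0 bar hbar} : Set ↥(Cfsg.SU 3 F q))) =
      q * ((q + 1) * (q ^ 2 - 1)) := by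
  rw [← range_beta bar hbar h2, ← Cfsg.Agent.Helper37.GU2S2.card_GU2 hF]
  exact (Nat.card_congr (MonoidHom.ofInjective (beta_injective bar hbar)).toEquiv).symm

end cent

end Cfsg.Agent.Helper37.SU3Inv
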