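import Mathlib
import Cfsg.Agent.Helper30.HallSym.Defs

/-!
# Piece (G-A1) of #6082 (Hall subgroups of `S_n`, helper30)

`valuation_eq_of_invariant`: if a Hall `π`-subgroup `H` of `Perm α` preserves a function `f : α → ι`, then for every
prime `r ∈ π` the `r`-adic valuation of `(card α)!` is the sum of the valuations of the factorials of the fibre sizes.
-/

set_option autoImplicit false

open Equiv Equiv.Perm MulAction Subgroup Cfsg Cfsg.Agent.Helper30.HallSym
open scoped Nat

universe u

namespace Cfsg.Agent.Helper37.HallSym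

/-- The permutations preserving a function, as a subgroup. -/
def fiberStab {α : Type u} {ι : Type*} (f : α → ι) : Subgroup (Perm α) where
  carrier := {g | f ∘ g = f}
  one_mem' := rfl
  mul_mem' := by
    intro g h hg hh
    show f ∘ ⇑(g * h) = f
    have : f ∘ ⇑(g * h) = (f ∘ g) ∘ h := rfl
    rw [this, hg, hh]
  inv_mem' := by
    intro g hg
    show f ∘ ⇑(g⁻¹) = f
    funext x
    have h := congrFun hg (g⁻¹ x)
    simp only [Function.comp_apply] at h ⊢
    rw [← h]
    congr 1
    exact Equiv.apply_symm_apply g x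

theorem mem_fiberStab {α : Type u} {ι : Type*} (f : α → ι) (g : Perm α) :
    g ∈ fiberStab f ↔ f ∘ g = f := Iff.rfl

theorem card_fiberStab {α : Type u} [Fintype α] [DecidableEq α] {ι : Type*} [Fintype ι] [DecidableEq ι]
    (f : α → ι) : Nat.card (fiberStab f) = ∏ i, (Fintype.card {a // f a = i})! := by
  rw [← DomMulAct.stabilizer_card f, ← Nat.card_eq_fintype_card]
  rfl

/-- For a Hall `π`-subgroup `H` of `Perm α` and `r ∈ π`, `v_r |H| = v_r (card α)!`. -/
theorem padicValNat_card_of_isPiHall {α : Type u} [Fintype α] [DecidableEq α] {π : Set ℕ}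
    (H : Subgroup (Perm α)) (hH : IsPiHall π H) (r : ℕ) (hr : r.Prime) (hrπ : r ∈ π) :
    padicValNat r (Nat.card H) = padicValNat r (Fintype.card α)! := by
  have : Fact r.Prime := ⟨hr⟩
  have h1 : Nat.card H * H.index = (Fintype.card α)! := by
    rw [Subgroup.card_mul_index, Nat.card_eq_fintype_card, Fintype.card_perm]
  have hidx : H.index ≠ 0 := by
    intro h0
    rw [h0, mul_zero] at h1
    exact (Nat.factorial_pos _).ne h1
  rw [← h1, padicValNat.mul Nat.card_pos.ne' hidx,
    padicValNat.eq_zero_of_not_dvd (hH.2 r hr hrπ), add_zero]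

theorem padicValNat_le_of_dvd' {r a b : ℕ} [Fact r.Prime] (hb : b ≠ 0) (h : a ∣ b) :
    padicValNat r a ≤ padicValNat r b :=
  (padicValNat_dvd_iff_le hb).mp (pow_padicValNat_dvd.trans h)

theorem padicValNat_prod' {ι : Type*} (s : Finset ι) (g : ι → ℕ) (hg : ∀ i ∈ s, g i ≠ 0) (r : ℕ)
    (hr : r.Prime) : padicValNat r (∏ i ∈ s, g i) = ∑ i ∈ s, padicValNat r (g i) := by
  rw [← Nat.factorization_def _ hr, Nat.factorization_prod hg, Finsupp.finsetSum_apply]
  exact Finset.sum_congr rfl (fun i _ => Nat.factorization_def _ hr)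

theorem valuation_eq_of_invariant {α : Type u} [Fintype α] [DecidableEq α] {ι : Type} [Fintype ι]
    [DecidableEq ι] {π : Set ℕ} (H : Subgroup (Perm α)) (hH : IsPiHall π H) (f : α → ι)
    (hf : ∀ g ∈ H, ∀ x, f (g x) = f x) (r : ℕ) (hr : r.Prime) (hrπ : r ∈ π) :
    padicValNat r (Fintype.card α)! = ∑ i, padicValNat r (Fintype.card {a // f a = i})! := by
  have : Fact r.Prime := ⟨hr⟩
  have hle : H ≤ fiberStab f := by
    intro g hg
    rw [mem_fiberStab]
    funext x
    exact hf g hg x
  have hdvd : Nat.card H ∣ ∏ i, (Fintype.card {a // f a = i})! := by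
    rw [← card_fiberStab f]
    exact Subgroup.card_dvd_of_le hle
  have hprod_ne : (∏ i, (Fintype.card {a // f a = i})!) ≠ 0 :=
    Finset.prod_ne_zero_iff.mpr (fun i _ => (Nat.factorial_pos _).ne')
  have hsum : ∑ i, Fintype.card {a // f a = i} = Fintype.card α := by
    rw [← Fintype.card_sigma]
    exact Fintype.card_congr (Equiv.sigmaFiberEquiv f)
  have hdvd2 : (∏ i, (Fintype.card {a // f a = i})!) ∣ (Fintype.card α)! := by
    have h := Nat.prod_factorial_dvd_factorial_sum Finset.univ (fun i => Fintype.card {a // f a = i})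
    rwa [hsum] at h
  have h1 := padicValNat_le_of_dvd' (r := r) hprod_ne hdvd
  have h2 := padicValNat_le_of_dvd' (r := r) (Nat.factorial_pos (Fintype.card α)).ne' hdvd2
  rw [padicValNat_card_of_isPiHall H hH r hr hrπ] at h1
  rw [padicValNat_prod' _ _ (fun i _ => (Nat.factorial_pos _).ne') r hr] at h1 h2
  exact le_antisymm h1 h2

end Cfsg.Agent.Helper37.HallSym
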