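import Mathlib
import Cfsg.Agent.Helper30.HallSym.Defs
import Cfsg.Agent.Helper37.HallSymGA1

/-!
# Piece (G-A2) of #6082 (Hall subgroups of `S_n`, helper30)

`constituent_hall`: the constituent of a Hall `π`-subgroup `H` of `Perm α` on an invariant subset `S` is a Hall
`π`-subgroup of `Perm S`.
-/

set_option autoImplicit false

open Equiv Equiv.Perm MulAction Subgroup Cfsg Cfsg.Agent.Helper30.HallSym
open scoped Nat

universe u

namespace Cfsg.Agent.Helper37.HallSym

/-- The function separating the points of `S` and collapsing the complement. -/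
noncomputable def sepFun {α : Type u} (S : Set α) : α → Option S := by
  classical
  exact fun a => if h : a ∈ S then some ⟨a, h⟩ else none

theorem sepFun_of_mem {α : Type u} (S : Set α) {a : α} (h : a ∈ S) : sepFun S a = some ⟨a, h⟩ := by
  unfold sepFun
  simp [h]

theorem sepFun_of_not_mem {α : Type u} (S : Set α) {a : α} (h : a ∉ S) : sepFun S a = none := by
  unfold sepFun
  simp [h]

theorem sepFun_eq_some_iff {α : Type u} (S : Set α) (a : α) (s : S) : sepFun S a = some s ↔ a = s := by
  by_cases h : a ∈ S
  · rw [sepFun_of_mem S h]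
    constructor
    · intro h1
      have := Option.some.inj h1
      rw [← this]
    · intro h1
      congr 1
      exact Subtype.ext h1
  · rw [sepFun_of_not_mem S h]
    constructor
    · intro h1; cases h1
    · intro h1
      exact absurd (h1 ▸ s.2) h

theorem sepFun_eq_none_iff {α : Type u} (S : Set α) (a : α) : sepFun S a = none ↔ a ∉ S := by
  by_cases h : a ∈ S
  · rw [sepFun_of_mem S h]
    simp [h]
  · rw [sepFun_of_not_mem S h]
    simp [h]

/-- The group of permutations preserving `sepFun S` has order `(card α - card S)!`. -/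
theorem card_fiberStab_sepFun {α : Type u} [Fintype α] [DecidableEq α] (S : Set α) :
    Nat.card (fiberStab (sepFun S)) = (Fintype.card α - Nat.card S)! := by
  classical
  rw [card_fiberStab, Fintype.prod_option]
  have h1 : ∀ s : S, Fintype.card {a // sepFun S a = some s} = 1 := by
    intro s
    rw [Fintype.card_eq_one_iff]
    refine ⟨⟨s, (sepFun_eq_some_iff S _ s).mpr rfl⟩, ?_⟩
    rintro ⟨a, ha⟩
    exact Subtype.ext ((sepFun_eq_some_iff S a s).mp ha)
  have h2 : Fintype.card {a // sepFun S a = none} = Fintype.card α - Nat.card S := by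
    rw [Nat.card_eq_fintype_card, ← Fintype.card_subtype_compl (fun a => a ∈ S)]
    exact Fintype.card_congr (Equiv.subtypeEquivRight (fun a => sepFun_eq_none_iff S a))
  rw [h2]
  simp [h1]

theorem constituent_hall {α : Type u} [Fintype α] [DecidableEq α] {π : Set ℕ} (H : Subgroup (Perm α))
    (hH : IsPiHall π H) (S : SubMulAction H α) : IsPiHall π (MulAction.toPermHom H S).range := by
  classical
  set ρ : H →* Perm S := MulAction.toPermHom H S with hρdef
  have hHR : Nat.card ρ.ker * Nat.card ρ.range = Nat.card H := by
    rw [← Subgroup.index_ker, Subgroup.card_mul_index]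
  refine ⟨fun p hp hdvd => hH.1 p hp (hdvd.trans (Subgroup.card_range_dvd ρ)), ?_⟩
  intro r hr hrπ
  have : Fact r.Prime := ⟨hr⟩
  -- the kernel fixes `S` pointwise, so preserves `sepFun S`
  have hker : ρ.ker.map H.subtype ≤ fiberStab (sepFun (S : Set α)) := by
    rintro _ ⟨k, hk0, rfl⟩
    have hk : ρ k = 1 := MonoidHom.mem_ker.mp hk0
    have hfix : ∀ a ∈ S, (k : Perm α) a = a := by
      intro a ha
      have h1 : ρ k ⟨a, ha⟩ = ⟨a, ha⟩ := by rw [hk]; rfl
      exact congrArg Subtype.val h1
    rw [mem_fiberStab]
    funext a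
    show sepFun (S : Set α) ((k : Perm α) a) = sepFun (S : Set α) a
    by_cases ha : a ∈ S
    · rw [hfix a ha]
    · have hka : (k : Perm α) a ∉ S := by
        intro h1
        apply ha
        have h2 := S.smul_mem k⁻¹ h1
        have h3 : k⁻¹ • ((k : Perm α) a) = a := by
          show ((k⁻¹ : H) : Perm α) ((k : Perm α) a) = a
          simp
        rwa [h3] at h2
      rw [sepFun_of_not_mem _ ha, sepFun_of_not_mem _ hka]
  have hKdvd : Nat.card ρ.ker ∣ (Fintype.card α - Nat.card S)! := by
    have hc : Nat.card (fiberStab (sepFun (S : Set α))) = (Fintype.card α - Nat.card S)! :=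
      card_fiberStab_sepFun (S : Set α)
    rw [← hc, ← Subgroup.card_map_of_injective H.subtype_injective]
    exact Subgroup.card_dvd_of_le hker
  have hRdvd : Nat.card ρ.range ∣ (Nat.card S)! := by
    rw [← Nat.card_perm]
    exact Subgroup.card_subgroup_dvd_card _
  have hSle : Nat.card S ≤ Fintype.card α := by
    rw [← Nat.card_eq_fintype_card]
    exact Nat.card_le_card_of_injective _ Subtype.val_injective
  have hbin := Nat.factorial_mul_factorial_dvd_factorial hSle
  -- valuations
  have hv1 : padicValNat r (Nat.card ρ.ker) + padicValNat r (Nat.card ρ.range) =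
      padicValNat r (Fintype.card α)! := by
    rw [← padicValNat_card_of_isPiHall H hH r hr hrπ, ← hHR,
      padicValNat.mul Nat.card_pos.ne' Nat.card_pos.ne']
  have hv2 := padicValNat_le_of_dvd' (r := r) (Nat.factorial_pos _).ne' hKdvd
  have hv3 := padicValNat_le_of_dvd' (r := r) (Nat.factorial_pos _).ne' hRdvd
  have hv4 := padicValNat_le_of_dvd' (r := r) (Nat.factorial_pos _).ne' hbin
  rw [padicValNat.mul (Nat.factorial_pos _).ne' (Nat.factorial_pos _).ne'] at hv4
  have hv5 : padicValNat r (Nat.card ρ.range) = padicValNat r (Nat.card S)! := by omega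
  -- the index
  have hidx : Nat.card ρ.range * ρ.range.index = (Nat.card S)! := by
    rw [Subgroup.card_mul_index, Nat.card_perm]
  have hidx0 : ρ.range.index ≠ 0 := by
    intro h0
    rw [h0, mul_zero] at hidx
    exact (Nat.factorial_pos _).ne hidx
  intro hdvd
  have h1 := one_le_padicValNat_of_dvd hidx0 hdvd
  have h2 : padicValNat r (Nat.card S)! =
      padicValNat r (Nat.card ρ.range) + padicValNat r ρ.range.index := by
    rw [← hidx, padicValNat.mul Nat.card_pos.ne' hidx0]
  omega

end Cfsg.Agent.Helper37.HallSym
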