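import Mathlib
import Cfsg.Agent.Helper71.Alp.Defs
import Cfsg.Agent.Helper1.HKK.Main
import Cfsg.Agent.Helper93.HKKLG

/-!
# (L) of helper71's S3782 project (Alperin), version with (E3) and (L0) as hypotheses (helper37)

`pow_mem_lcs_succ_of` is `pow_mem_lcs_succ` with the two sibling pieces (E3) `nsmul_lnb_eq_zero`
and (L0) `pow_mem_gam_of_twisted_mem` as explicit hypotheses. Adaptation of helper70's glue
`Cfsg.Agent.Helper70.HKKGL.lcs_eq_bot_of_fpf'`.
-/

set_option autoImplicit false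
open Cfsg.Agent.Helper1.HKK
open Cfsg.Agent.Helper71.Alp

namespace Cfsg.Agent.Helper37.Alp

universe u

theorem lieExp_pow_eq (p n : ℕ) :
    (p ^ n) ^ (hc p + 1) * p ^ (hc p) = p ^ lieExp p n := by
  unfold lieExp
  rw [← pow_mul, ← pow_add]

theorem pow_mem_lcs_succ_of {G : Type u} [Group G] [Finite G] {p n : ℕ} [Fact p.Prime]
    (φ : MulAut G) (hφ : φ ^ p = 1)
    (hE3 : ∀ (L : Type u) [LieRing L] (ψ : L →+ L), (∀ x y, ψ ⁅x, y⁆ = ⁅ψ x, ψ y⁆) →
      (∀ a, ψ^[p] a = a) → ∀ (m : ℕ), (∀ a, ψ a = a → m • a = 0) → ∀ (c : ℕ),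
      (∀ M : ZMod p → AddSubgroup (Loop p L), IsGradedFam M → ∀ d, lcf M c d = ⊥) →
      ∀ (x : L) (ys : List L), ys.length = c → (m ^ (c + 1) * p ^ c) • lnb x ys = 0)
    (hL0 : ∀ (k : ℕ) (x : G), x ∈ Gam G k → x⁻¹ * φ x ∈ Gam G (k + 1) →
      x ^ p ^ n ∈ Gam G (k + 1)) :
    ∀ y ∈ (⊤ : Subgroup G).lowerCentralSeries (hc p),
      y ^ p ^ lieExp p n ∈ (⊤ : Subgroup G).lowerCentralSeries (hc p + 1) := by
  obtain ⟨L, instL, q, hadd, hker, hbrk, hgen, hindep, haut⟩ :=
    Cfsg.Agent.Helper93.HKKLG.exists_assocLieRing G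
  obtain ⟨ψ, hψbr, hψq⟩ := haut φ
  have gam_map : ∀ (α : G ≃* G) (n : ℕ) {x : G}, x ∈ Gam G n → α x ∈ Gam G n :=
    fun α n {x} hx => Cfsg.Agent.Helper70.HKKGL.gam_map α n hx
  -- basic facts on `q`
  have hq1 : ∀ n, q n 1 = 0 := by
    intro n
    have h := hadd n 1 1 (one_mem _) (one_mem _)
    rw [mul_one] at h
    exact left_eq_add.mp h
  have hqinv : ∀ n x, x ∈ Gam G n → q n x⁻¹ = - q n x := by
    intro n x hx
    have h := hadd n x x⁻¹ hx (inv_mem hx)
    rw [mul_inv_cancel, hq1] at h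
    exact (neg_eq_of_add_eq_zero_right h.symm).symm
  have hqpow : ∀ n x (k : ℕ), x ∈ Gam G n → q n (x ^ k) = k • q n x := by
    intro n x k hx
    induction k with
    | zero => rw [pow_zero, zero_smul, hq1]
    | succ k ih => rw [pow_succ, hadd n _ _ (pow_mem hx k) hx, ih, succ_nsmul]
  have hiter : ∀ n x (k : ℕ), x ∈ Gam G n → ψ^[k] (q n x) = q n ((φ ^ k) x) := by
    intro n x k hx
    induction k with
    | zero => rfl
    | succ k ih =>
      rw [Function.iterate_succ_apply', ih, hψq n _ (gam_map (φ ^ k) n hx), pow_succ',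
        MulAut.mul_apply]
  have hiter_sum : ∀ (k : ℕ) (s : Finset ℕ) (f : ℕ → L),
      ψ^[k] (∑ n ∈ s, f n) = ∑ n ∈ s, ψ^[k] (f n) := by
    intro k s f
    induction k with
    | zero => rfl
    | succ k ih =>
      rw [Function.iterate_succ_apply', ih, map_sum]
      exact Finset.sum_congr rfl fun n _ => (Function.iterate_succ_apply' _ _ _).symm
  have hpid : ∀ a, ψ^[p] a = a := by
    intro a
    obtain ⟨N, x, hx, rfl⟩ := hgen a
    rw [hiter_sum]
    refine Finset.sum_congr rfl fun n _ => ?_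
    rw [hiter n (x n) p (hx n), hφ]
    rfl
  have hfixL : ∀ a, ψ a = a → (p ^ n) • a = 0 := by
    intro a ha
    obtain ⟨N, x, hx, rfl⟩ := hgen a
    rw [map_sum] at ha
    have hmem : ∀ n, (x n)⁻¹ * φ (x n) ∈ Gam G n := fun n =>
      mul_mem (inv_mem (hx n)) (gam_map φ n (hx n))
    have h0 : ∑ n ∈ Finset.range N, q n ((x n)⁻¹ * φ (x n)) = 0 := by
      have h1 : ∀ n ∈ Finset.range N,
          q n ((x n)⁻¹ * φ (x n)) = ψ (q n (x n)) - q n (x n) := by
        intro n _
        rw [hadd n _ _ (inv_mem (hx n)) (gam_map φ n (hx n)), hqinv n _ (hx n),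
          hψq n _ (hx n)]
        abel
      rw [Finset.sum_congr rfl h1, Finset.sum_sub_distrib, ha, sub_self]
    have h2 := hindep N (fun n => (x n)⁻¹ * φ (x n)) hmem h0
    rw [Finset.smul_sum]
    refine Finset.sum_eq_zero fun k hk => ?_
    have h3 := (hker k _ (hmem k)).mp (h2 k (Finset.mem_range.mp hk))
    have h4 : (x k) ^ p ^ n ∈ Gam G (k + 1) := hL0 k (x k) (hx k) h3
    rw [← hqpow k (x k) (p ^ n) (hx k)]
    exact (hker k _ (pow_mem (hx k) _)).mpr h4
  have hzero := hE3 L ψ hψbr hpid (p ^ n) hfixL (hc p)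
    (fun M hM => Cfsg.Agent.Helper1.HKK.hkk_graded M hM)
  rw [lieExp_pow_eq] at hzero
  -- the image of `Gam (n+1)` is spanned by left-normed brackets of length `n`
  have hspan : ∀ n : ℕ, ∀ x ∈ Gam G (n + 1), q (n + 1) x ∈
      AddSubgroup.closure {z : L | ∃ (y : L) (ys : List L), ys.length = n ∧ z = lnb y ys} := by
    intro n
    induction n with
    | zero =>
      intro x _
      exact AddSubgroup.subset_closure ⟨q 1 x, [], rfl, rfl⟩
    | succ n ih =>
      intro x hx
      have hstep : ∀ s ∈ AddSubgroup.closure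
          {z : L | ∃ (y : L) (ys : List L), ys.length = n ∧ z = lnb y ys}, ∀ w : L,
          ⁅s, w⁆ ∈ AddSubgroup.closure
            {z : L | ∃ (y : L) (ys : List L), ys.length = n + 1 ∧ z = lnb y ys} := by
        intro s hs w
        induction hs using AddSubgroup.closure_induction with
        | mem s hs =>
          obtain ⟨y, ys, hlen, rfl⟩ := hs
          refine AddSubgroup.subset_closure ⟨y, ys ++ [w], ?_, (lnb_concat y ys w).symm⟩
          rw [List.length_append, hlen]; rfl
        | zero => rw [zero_lie]; exact zero_mem _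
        | add a b _ _ iha ihb => rw [add_lie]; exact add_mem iha ihb
        | neg a _ iha => rw [neg_lie]; exact neg_mem iha
      rw [Cfsg.Agent.Helper70.HKKGL.gam_succ_succ] at hx
      induction hx using Subgroup.closure_induction with
      | mem x hx =>
        obtain ⟨a, ha, b, _, rfl⟩ := hx
        have h1 := hbrk (n + 1) 1 a b (Nat.le_add_left 1 n) le_rfl ha (Subgroup.mem_top b)
        have h2 : q (n + 1 + 1) (a * b * a⁻¹ * b⁻¹) = ⁅q (n + 1) a, q 1 b⁆ := h1.symm
        rw [commutatorElement_def, h2]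
        exact hstep _ (ih a ha) _
      | one => rw [hq1]; exact zero_mem _
      | mul a b ha hb iha ihb =>
        rw [hadd (n + 1 + 1) a b ha hb]
        exact add_mem iha ihb
      | inv a ha iha =>
        rw [hqinv (n + 1 + 1) a ha]
        exact neg_mem iha
  intro y hy
  have hy' : y ∈ Gam G (hc p + 1) := hy
  have h1 := hspan (hc p) y hy'
  have h2 : ∀ z ∈ AddSubgroup.closure
      {z : L | ∃ (y : L) (ys : List L), ys.length = hc p ∧ z = lnb y ys},
      (p ^ lieExp p n) • z = 0 := by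
    intro z hz
    induction hz using AddSubgroup.closure_induction with
    | mem z hz =>
      obtain ⟨w, ws, hlen, rfl⟩ := hz
      exact hzero w ws hlen
    | zero => exact smul_zero _
    | add a b _ _ iha ihb => rw [smul_add, iha, ihb, add_zero]
    | neg a _ iha => rw [smul_neg, iha, neg_zero]
  have h3 : q (hc p + 1) (y ^ p ^ lieExp p n) = 0 := by
    rw [hqpow (hc p + 1) y _ hy']
    exact h2 _ h1
  exact (hker (hc p + 1) _ (pow_mem hy' _)).mp h3

end Cfsg.Agent.Helper37.Alp
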