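import Mathlib
import Cfsg.Agent.Helper37.AlpLa
import Cfsg.Agent.Helper24.AlpE3
import Cfsg.Agent.Helper53.AlpL0

/-!
# (L) of helper71's S3782 project (Alperin): `γ_{h+1}/γ_{h+2}` has exponent dividing `p^N` (helper37)
-/

set_option autoImplicit false
open Cfsg.Agent.Helper1.HKK
open Cfsg.Agent.Helper71.Alp

namespace Cfsg.Agent.Helper37.Alp

universe u

theorem pow_mem_lcs_succ {G : Type u} [Group G] [Finite G] {p n : ℕ} (hp : p.Prime)
    (hG : IsPGroup p G) (φ : MulAut G) (hφ : φ ^ p = 1) (hfix : FixLE φ (p ^ n)) :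
    ∀ y ∈ (⊤ : Subgroup G).lowerCentralSeries (hc p),
      y ^ p ^ lieExp p n ∈ (⊤ : Subgroup G).lowerCentralSeries (hc p + 1) := by
  have : Fact p.Prime := ⟨hp⟩
  exact pow_mem_lcs_succ_of φ hφ
    (fun L _ ψ hψ hpid m hm c hcM x ys hlen =>
      Cfsg.Agent.Helper24.Alp.nsmul_lnb_eq_zero ψ hψ hpid m hm c hcM x ys hlen)
    (fun k x hx h => Cfsg.Agent.Helper53.Alp.pow_mem_gam_of_twisted_mem hp hG φ hfix k x hx h)

end Cfsg.Agent.Helper37.Alp
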