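import Cfsg.Agent.Helper6.SzChar0
import Cfsg.Agent.Helper75.CAFam

/-!
# helper37: piece [MH] of helper6's S4775 farm (#11435): the Steinberg character

`f = 1_B^G - 1` is a generalized character with `(f, f) = (1_B^G, 1_B^G) - 2 (1_B^G, 1) + 1 = 2 - 2 + 1 = 1`
(Frobenius reciprocity), so `f = ± θ` with `θ` irreducible (`Helper75.vc_pm_irr`); `f 1 = |G : B| - 1 ≥ 0`
and `θ 1 > 0` exclude the sign `-`.

`steinberg_of_inner_perm` is the core with [MG] (`(1_B^G, 1_B^G) = 2`) as an explicit hypothesis.
-/

set_option autoImplicit false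
set_option linter.unusedSectionVars false

namespace Cfsg.Agent.Helper37.Szc

open Cfsg Cfsg.Agent.Helper6
open scoped ComplexConjugate

universe u

/-- core of [MH]: if the permutation character `1_B^G` has norm `2` then `1_B^G - 1` is irreducible -/
theorem steinberg_of_inner_perm {G : Type u} [Group G] [Fintype G] {B : Subgroup G} [Fintype ↥B]
    (h2 : classInner (indFun B (fun _ : ↥B => (1 : ℂ))) (indFun B (fun _ : ↥B => (1 : ℂ))) = 2) :
    IsIrrCharacter G (indFun B (fun _ : ↥B => (1 : ℂ)) - fun _ => 1) := by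
  set π : G → ℂ := indFun B (fun _ : ↥B => (1 : ℂ)) with hπ
  set e : G → ℂ := fun _ => 1 with he
  have h1G : IsIrrCharacter G e := Helper79.isIrrCharacter_one
  have h1B : IsIrrCharacter ↥B (fun _ : ↥B => (1 : ℂ)) := Helper79.isIrrCharacter_one
  have hπc : IsCharacter G π := Helper15.isCharacter_indFun B (Helper74.isCharacter_of_isIrr h1B)
  have hec : IsCharacter G e := Helper74.isCharacter_of_isIrr h1G
  have hecf : IsClassFunction G e := fun _ _ => rfl
  -- Frobenius reciprocity
  have hπe : classInner π e = 1 := by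
    rw [hπ, Helper15.frobenius_reciprocity B _ e hecf]
    exact Helper74.irr_inner_self ⟨_, h1B⟩
  have heπ : classInner e π = 1 := by
    rw [← Helper15.classInner_conj_symm, hπe, map_one]
  have hee : classInner e e = 1 := Helper74.irr_inner_self ⟨_, h1G⟩
  have hnorm : classInner (π - e) (π - e) = 1 := by
    rw [Helper15.classInner_sub_left, Helper15.classInner_sub_right, Helper15.classInner_sub_right,
      h2, hπe, heπ, hee]
    norm_num
  have hgen : IsGeneralizedCharacter G (π - e) := ⟨π, e, hπc, hec, rfl⟩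
  obtain ⟨θ, hθ | hθ⟩ := Helper75.vc_pm_irr hgen hnorm
  · rw [hθ]; exact θ.2
  · exfalso
    obtain ⟨d, hd⟩ := Helper74.isCharacter_apply_one (Helper74.isCharacter_of_isIrr θ.2)
    have hd0 : d ≠ 0 := by
      rintro rfl
      exact Helper80.IsIrrCharacter.map_one_ne_zero θ.2 (by rw [hd]; simp)
    have h1 := congrFun hθ 1
    simp only [Pi.sub_apply, Pi.neg_apply] at h1
    rw [hπ, Helper15.indFun_apply_one, hd, he] at h1
    have h3 : ((B.index + d : ℕ) : ℂ) = ((1 : ℕ) : ℂ) := by
      push_cast
      linear_combination h1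
    have h4 : B.index + d = 1 := by exact_mod_cast h3
    have h5 : B.index ≠ 0 := Subgroup.index_ne_zero_of_finite
    omega

end Cfsg.Agent.Helper37.Szc
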