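import Cfsg.Agent.Helper36.F4Odd.Defs2

/-!
(HI) for helper36's S4280 (batch II+III, helper37): the involutions of `H` are the `tor (sv b)`, `0 < b < 16`.
The piece (TI) `tor_inj` is taken as an explicit hypothesis (exact skeleton statement).
-/

set_option autoImplicit false
set_option maxRecDepth 100000

namespace Cfsg.Agent.Helper37.F4Odd

open Cfsg Cfsg.Lie Cfsg.Agent.Helper18 Cfsg.Agent.Helper36.F4Odd Cfsg.Agent.Helper19.Twist
  Cfsg.Agent.Helper36.FieldFix

variable {F : Type*} [Field F]

/-- the bit mask of four bits -/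
theorem bits_aux (e0 e1 e2 e3 : Bool) :
    (cond e0 1 0 + cond e1 2 0 + cond e2 4 0 + cond e3 8 0 < 16) ∧
    (cond e0 1 0 + cond e1 2 0 + cond e2 4 0 + cond e3 8 0).testBit 0 = e0 ∧
    (cond e0 1 0 + cond e1 2 0 + cond e2 4 0 + cond e3 8 0).testBit 1 = e1 ∧
    (cond e0 1 0 + cond e1 2 0 + cond e2 4 0 + cond e3 8 0).testBit 2 = e2 ∧
    (cond e0 1 0 + cond e1 2 0 + cond e2 4 0 + cond e3 8 0).testBit 3 = e3 ∧
    ((cond e0 1 0 + cond e1 2 0 + cond e2 4 0 + cond e3 8 0 = 0) →
      e0 = false ∧ e1 = false ∧ e2 = false ∧ e3 = false) := by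
  cases e0 <;> cases e1 <;> cases e2 <;> cases e3 <;> decide

/-- (HI) the involutions of `H` -/
theorem diag_invol
    (hTI : ∀ (c d : Fin chevF4.rank → Fˣ), tor (F := F) c = tor d → c = d)
    (k : GL chevF4.Idx F) (hk : k ∈ chevF4.diagonalSubgroup F) (hkk : k * k = 1) (hk1 : k ≠ 1) :
    ∃ b : ℕ, 0 < b ∧ b < 16 ∧ k = tor (sv b) := by
  classical
  obtain ⟨c, rfl⟩ := (mem_diagonal_iff k).1 hk
  have hcc : c * c = 1 := by
    apply hTI
    rw [← tor_mul, hkk, tor_one]
  have hci : ∀ i, c i = 1 ∨ c i = -1 := by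
    intro i
    have h1 : c i * c i = 1 := congrFun hcc i
    have h2 : ((c i : Fˣ) : F) * ((c i : Fˣ) : F) = 1 := by
      rw [← Units.val_mul, h1, Units.val_one]
    rcases mul_self_eq_one_iff.1 h2 with h | h
    · left
      exact Units.ext h
    · right
      apply Units.ext
      rw [h, Units.val_neg, Units.val_one]
  have hlt : ∀ j : ℕ, j < 4 → j < chevF4.rank := fun j hj => hj
  set e : ℕ → Bool := fun j => if h : j < 4 then !decide (c ⟨j, hlt j h⟩ = 1) else false with he
  obtain ⟨hb16, h0, h1, h2, h3, hzero⟩ := bits_aux (e 0) (e 1) (e 2) (e 3)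
  set b : ℕ := cond (e 0) 1 0 + cond (e 1) 2 0 + cond (e 2) 4 0 + cond (e 3) 8 0 with hb
  have hbit : ∀ j : ℕ, j < 4 → b.testBit j = e j := by
    intro j hj
    interval_cases j
    · exact h0
    · exact h1
    · exact h2
    · exact h3
  have hcsv : c = sv b := by
    funext i
    have hi4 : i.val < 4 := i.2
    unfold sv
    rw [hbit i.val hi4]
    have hei : e i.val = !decide (c i = 1) := by
      rw [he]
      simp only [hi4, dite_true]
    rw [hei]
    rcases hci i with h | h
    · simp [h]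
    · by_cases h' : c i = 1
      · simp [h']
      · simp [h]
  refine ⟨b, ?_, hb16, by rw [← hcsv]⟩
  rcases Nat.eq_zero_or_pos b with hb0 | hb0
  · exfalso
    apply hk1
    obtain ⟨z0, z1, z2, z3⟩ := hzero hb0
    have hall : ∀ j : ℕ, j < 4 → e j = false := by
      intro j hj
      interval_cases j
      · exact z0
      · exact z1
      · exact z2
      · exact z3
    have hc1 : c = 1 := by
      funext i
      have hi4 : i.val < 4 := i.2
      have h1' := hall i.val hi4
      rw [he] at h1'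
      simp only [hi4, dite_true] at h1'
      simpa using h1'
    rw [hc1, tor_one]
  · exact hb0

end Cfsg.Agent.Helper37.F4Odd
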