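import Cfsg.Agent.Helper36.TorD.Defs
import Cfsg.Agent.Helper36.FieldFix
import Cfsg.Agent.Helper36.HFusionChev
import Cfsg.Agent.Helper19.Cox.DataF4
import Cfsg.Agent.Helper19.Cox.DataE8
import Cfsg.Agent.S1046
import Cfsg.Agent.Helper48.TorD_RHOGP
import Cfsg.Agent.Helper37.TorD_WORD

/-!
# (NACT) of helper36's TorD farm (S2372/S2375): the monomial subgroup acts on the torus
coordinates through `rhoHom`.
-/

set_option autoImplicit false

namespace Cfsg.Agent.Helper37.TorD

open Cfsg Cfsg.Lie Cfsg.Agent.Helper18 Cfsg.Agent.Helper19.Cox Cfsg.Agent.Helper19.Poinc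
  Cfsg.Agent.Helper80.Tor Cfsg.Agent.Helper36.TorD

section Fields

variable {F K : Type*} [Field F] [Fintype F] [Field K] [Fintype K] [Algebra F K]

variable (D : ChevalleyDatum)
  (hD : D ∈ [chevG2, chevB2, chevD4, chevF4, chevE6, chevE7, chevE8])
include hD

/-- (NACT) -/
theorem nact (hcr : cartanReflOK D = true) (C : Cert D) (h : RefSq D) (hl : C.M.IsLiftable (refU D h))
    (n : GL D.Idx K) (hn : n ∈ D.monomialSubgroup K) :
    ∃ w : C.M.Group, ∀ c : Fin D.rank → Kˣ, n * torusHom D K c * n⁻¹ =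
      torusHom D K (zact ((rhoHom D C h hl w : (Matrix (Fin D.rank) (Fin D.rank) ℤ)ˣ) :
        Matrix (Fin D.rank) (Fin D.rank) ℤ) c) := by
  obtain ⟨w, hw, h0, hh0, rfl⟩ := mem_monomial_decomp D hD n hn
  have hwr : ∀ i ∈ w.reverse, i < D.rank := fun i hi => hw i (List.mem_reverse.mp hi)
  refine ⟨gp C.M w.reverse, fun c => ?_⟩
  rw [Cfsg.Agent.Helper48.TorD.rhoHom_gp D hD C h hl w.reverse hwr]
  -- `h0 = τ(c0)`
  have hh0' : h0 ∈ (torusHom D K).range := by rw [torusHom_range D hD]; exact hh0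
  obtain ⟨c0, rfl⟩ := hh0'
  have hword := word_conj (K := K) D hD hcr w hw c
  calc torusHom D K c0 * nWordsGL D K w * torusHom D K c * (torusHom D K c0 * nWordsGL D K w)⁻¹
      = torusHom D K c0 * (nWordsGL D K w * torusHom D K c * (nWordsGL D K w)⁻¹) *
          (torusHom D K c0)⁻¹ := by group
    _ = torusHom D K c0 * torusHom D K (zact (wordM D w.reverse) c) * (torusHom D K c0)⁻¹ := by
        rw [hword]
    _ = torusHom D K (c0 * zact (wordM D w.reverse) c * c0⁻¹) := by
        rw [map_mul, map_mul, map_inv]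
    _ = torusHom D K (zact (wordM D w.reverse) c) := by
        rw [mul_comm c0, mul_inv_cancel_right]

end Fields

end Cfsg.Agent.Helper37.TorD
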