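import Cfsg.Agent.Helper36.TorD.Defs

/-!
# (NH2) of helper36's TorD farm, second batch (S2372/S2375), hedge copy: distinct roots are
separated by a torus element.
-/

set_option autoImplicit false

namespace Cfsg.Agent.Helper37.TorD

open Cfsg Cfsg.Lie Cfsg.Agent.Helper18 Cfsg.Agent.Helper19.Cox Cfsg.Agent.Helper19.Poinc
  Cfsg.Agent.Helper80.Tor Cfsg.Agent.Helper36.TorD

/-- what `charSepOK` says for one pair of roots -/
theorem NH2_sep_spec (D : ChevalleyDatum) (hsep : charSepOK D = true) (s s' : ℕ) (hs : s < D.nroots)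
    (hs' : s' < D.nroots) (hne : s ≠ s') :
    ∃ i < D.rank, D.cartan i s ≠ D.cartan i s' ∧ (D.cartan i s - D.cartan i s').natAbs < 16 := by
  unfold charSepOK at hsep
  rw [List.all_eq_true] at hsep
  have h1 := hsep s (List.mem_range.mpr hs)
  rw [List.all_eq_true] at h1
  have h2 := h1 s' (List.mem_range.mpr hs')
  rw [Bool.or_eq_true] at h2
  rcases h2 with h2 | h2
  · exact absurd (by simpa using h2) hne
  · rw [List.any_eq_true] at h2
    obtain ⟨i, hi, h3⟩ := h2
    rw [Bool.and_eq_true, decide_eq_true_eq, decide_eq_true_eq] at h3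
    exact ⟨i, List.mem_range.mp hi, h3.1, h3.2⟩

section Fields

variable {F K : Type*} [Field F] [Fintype F] [Field K] [Fintype K] [Algebra F K]

variable (D : ChevalleyDatum)
  (hD : D ∈ [chevG2, chevB2, chevD4, chevF4, chevE6, chevE7, chevE8])
include hD

/-- (NH2) distinct roots are separated by a torus element. -/
theorem exists_sep (hsep : charSepOK D = true) (hK : 17 ≤ Fintype.card K) (s s' : ℕ) (hs : s < D.nroots)
    (hs' : s' < D.nroots) (hne : s ≠ s') : ∃ c : Fin D.rank → Kˣ, chrD D s c ≠ chrD D s' c := by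
  classical
  obtain ⟨i, hi, hab, habs⟩ := NH2_sep_spec D hsep s s' hs hs' hne
  obtain ⟨ζ, hζ⟩ := IsCyclic.exists_generator (α := Kˣ)
  have hord : orderOf ζ = Fintype.card K - 1 := by
    rw [orderOf_eq_card_of_forall_mem_zpowers hζ, Nat.card_eq_fintype_card, Fintype.card_units]
  have h16 : 16 ≤ orderOf ζ := by omega
  -- the value of a root on the torus element with `ζ` at the coordinate `i`
  have hval : ∀ r : ℕ, chrD D r (Pi.mulSingle (⟨i, hi⟩ : Fin D.rank) ζ) = ζ ^ D.cartan i r := by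
    intro r
    unfold chrD
    rw [Finset.prod_eq_single (⟨i, hi⟩ : Fin D.rank)]
    · rw [Pi.mulSingle_eq_same]
    · intro j _ hj
      rw [Pi.mulSingle_eq_of_ne hj, one_zpow]
    · intro h; exact absurd (Finset.mem_univ _) h
  refine ⟨Pi.mulSingle (⟨i, hi⟩ : Fin D.rank) ζ, ?_⟩
  rw [hval, hval]
  intro heq
  have h1 : ζ ^ (D.cartan i s - D.cartan i s') = 1 := by
    rw [zpow_sub, heq, mul_inv_cancel]
  have h2 : (orderOf ζ : ℤ) ∣ D.cartan i s - D.cartan i s' := orderOf_dvd_iff_zpow_eq_one.mpr h1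
  have h3 : orderOf ζ ∣ (D.cartan i s - D.cartan i s').natAbs := Int.natCast_dvd.mp h2
  have h4 : (D.cartan i s - D.cartan i s').natAbs ≠ 0 := by
    rw [Int.natAbs_ne_zero]; exact sub_ne_zero.mpr hab
  have h5 := Nat.le_of_dvd (Nat.pos_of_ne_zero h4) h3
  omega

end Fields

end Cfsg.Agent.Helper37.TorD
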