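import Cfsg.Agent.Helper36.TorD.Defs
import Cfsg.Agent.Helper36.FieldFix
import Cfsg.Agent.Helper36.HFusionChev
import Cfsg.Agent.Helper19.Cox.DataF4
import Cfsg.Agent.Helper19.Cox.DataE8
import Cfsg.Agent.S1046
import Cfsg.Agent.Helper41.TorD_TC

/-!
# (NH3) of helper36's TorD farm, second batch (S2372/S2375), hedge copy: if `n_w` centralises `τ c`
then `c` takes the same value on `s` and `w s`.
-/

set_option autoImplicit false

namespace Cfsg.Agent.Helper37.TorD

open Cfsg Cfsg.Lie Cfsg.Agent.Helper18 Cfsg.Agent.Helper19.Cox Cfsg.Agent.Helper19.Poinc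
  Cfsg.Agent.Helper80.Tor Cfsg.Agent.Helper36.TorD

/-- conjugating by commuting elements in either order -/
theorem NH3_comm_aux {G : Type*} [Group G] (N T x : G) (h : N * T = T * N) :
    T * (N * x * N⁻¹) * T⁻¹ = N * (T * x * T⁻¹) * N⁻¹ := by
  have h' : N⁻¹ * T⁻¹ = T⁻¹ * N⁻¹ := by rw [← mul_inv_rev, ← mul_inv_rev, h]
  calc T * (N * x * N⁻¹) * T⁻¹ = (T * N) * x * (N⁻¹ * T⁻¹) := by group
    _ = (N * T) * x * (T⁻¹ * N⁻¹) := by rw [h, h']
    _ = N * (T * x * T⁻¹) * N⁻¹ := by group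

section Fields

variable {F K : Type*} [Field F] [Fintype F] [Field K] [Fintype K] [Algebra F K]

variable (D : ChevalleyDatum)
  (hD : D ∈ [chevG2, chevB2, chevD4, chevF4, chevE6, chevE7, chevE8])
include hD

/-- (NH3) if `n_w` centralises `τ c` then `c` takes the same value on `s` and `w s`. -/
theorem chr_eq_of_comm (w : List ℕ) (hw : ∀ i ∈ w, i < D.rank) (c : Fin D.rank → Kˣ)
    (hc : nWordsGL D K w * torusHom D K c * (nWordsGL D K w)⁻¹ = torusHom D K c) (s : ℕ) (hs : s < D.nroots) :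
    chrD D (rho D w s) c = chrD D s c := by
  have htri := triOK_of_mem D hD
  obtain ⟨hr, η, hη, hconj⟩ := nWordsGL_conj_xGL (F := K) D hD (nConjHyp D hD)
    (reflectRoot_lt D hD) w hw s hs
  have hη0 : ((η : ℤ) : K) ≠ 0 := by
    rcases hη with rfl | rfl
    · simp
    · simp
  have hTC := Cfsg.Agent.Helper41.TorD.torusHom_conj (K := K) D hD
  -- the two computations of `τ(c) x_{w s}(η) τ(c)⁻¹`
  have e1 := hTC c (rho D w s) hr (((η : ℤ) : K) * 1)
  have e2 : torusHom D K c * xGL D K (rho D w s) (((η : ℤ) : K) * 1) * (torusHom D K c)⁻¹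
      = xGL D K (rho D w s) (((η : ℤ) : K) * (((chrD D s c : Kˣ) : K) * 1)) := by
    have a1 : xGL D K (rho D w s) (((η : ℤ) : K) * 1)
        = nWordsGL D K w * xGL D K s 1 * (nWordsGL D K w)⁻¹ := by
      rw [eq_mul_inv_iff_mul_eq]
      exact (hconj 1).symm
    have a2 := hTC c s hs 1
    have a3 : xGL D K (rho D w s) (((η : ℤ) : K) * (((chrD D s c : Kˣ) : K) * 1))
        = nWordsGL D K w * xGL D K s (((chrD D s c : Kˣ) : K) * 1) * (nWordsGL D K w)⁻¹ := by
      rw [eq_mul_inv_iff_mul_eq]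
      exact (hconj _).symm
    rw [a3, ← a2, a1]
    exact NH3_comm_aux _ _ _ (mul_inv_eq_iff_eq_mul.mp hc)
  rw [e1] at e2
  have e3 := x_injective D hD (rho D w s) hr _ _ (by
    have := congrArg (fun g : GL D.Idx K => (g : Matrix D.Idx D.Idx K)) e2
    simpa only [xGL_val D _ htri] using this)
  apply Units.ext
  have e4 : ((chrD D (rho D w s) c : Kˣ) : K) * ((η : ℤ) : K) = ((η : ℤ) : K) * ((chrD D s c : Kˣ) : K) := by
    simpa only [mul_one] using e3
  rw [mul_comm] at e4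
  exact mul_left_cancel₀ hη0 e4

end Fields

end Cfsg.Agent.Helper37.TorD
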