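import Cfsg.Agent.Helper36.TorD.Defs
import Cfsg.Agent.Helper36.FieldFix
import Cfsg.Agent.Helper36.HFusionChev
import Cfsg.Agent.Helper19.Cox.DataF4
import Cfsg.Agent.Helper19.Cox.DataE8
import Cfsg.Agent.S1046
import Cfsg.Agent.Helper60.TorD_NH1
import Cfsg.Agent.Helper37.TorD_NH2
import Cfsg.Agent.Helper37.TorD_NH3

/-!
# (NH) of helper36's TorD farm, second batch (S2372/S2375): `C_N(H) = H`.
(NH1) is helper60's; (NH2), (NH3) are taken from the hedge copies `Helper37.TorD_NH2`, `Helper37.TorD_NH3`.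
-/

set_option autoImplicit false

namespace Cfsg.Agent.Helper37.TorD

open Cfsg Cfsg.Lie Cfsg.Agent.Helper18 Cfsg.Agent.Helper19.Cox Cfsg.Agent.Helper19.Poinc
  Cfsg.Agent.Helper80.Tor Cfsg.Agent.Helper36.TorD

section Fields

variable {F K : Type*} [Field F] [Fintype F] [Field K] [Fintype K] [Algebra F K]

variable (D : ChevalleyDatum)
  (hD : D ∈ [chevG2, chevB2, chevD4, chevF4, chevE6, chevE7, chevE8])
include hD

/-- (NH) `C_N(H) = H`. -/
theorem cent_N_H (C : Cert D) (hsep : charSepOK D = true) (hK : 17 ≤ Fintype.card K)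
    (n : GL D.Idx K) (hn : n ∈ D.monomialSubgroup K)
    (hc : ∀ h ∈ D.diagonalSubgroup K, n * h * n⁻¹ = h) : n ∈ D.diagonalSubgroup K := by
  obtain ⟨w, hw, k, hk, rfl⟩ := mem_monomial_decomp D hD n hn
  have hk' : k ∈ (torusHom D K).range := by rw [torusHom_range D hD]; exact hk
  obtain ⟨c0, rfl⟩ := hk'
  -- `n_w` centralises every `τ c`
  have hcw : ∀ c : Fin D.rank → Kˣ,
      nWordsGL D K w * torusHom D K c * (nWordsGL D K w)⁻¹ = torusHom D K c := by
    intro c
    have h1 := hc (torusHom D K c) (torusHom_mem D hD c)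
    have h2 : nWordsGL D K w * torusHom D K c * (nWordsGL D K w)⁻¹ =
        (torusHom D K c0)⁻¹ * (torusHom D K c0 * nWordsGL D K w * torusHom D K c *
          (torusHom D K c0 * nWordsGL D K w)⁻¹) * torusHom D K c0 := by group
    rw [h2, h1, ← map_inv, ← map_mul, ← map_mul, mul_comm c0⁻¹, mul_assoc, inv_mul_cancel, mul_one]
  -- hence `w` fixes every root
  have hfix : ∀ s < D.nroots, rho D w s = s := by
    intro s hs
    by_contra hne
    obtain ⟨c, hcne⟩ := exists_sep (K := K) D hD hsep hK s (rho D w s) hs (rho_lt D hD w hw s hs)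
      (fun h => hne h.symm)
    exact hcne (chr_eq_of_comm (K := K) D hD w hw c (hcw c) s hs).symm
  exact (D.diagonalSubgroup K).mul_mem hk (Cfsg.Agent.Helper60.TorD.nW_mem_diag_of_fix (K := K) D hD C w hw hfix)

end Fields

end Cfsg.Agent.Helper37.TorD
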