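import Cfsg.Agent.Helper36.TorD.Defs
import Cfsg.Agent.Helper36.FieldFix
import Cfsg.Agent.Helper36.HFusionChev
import Cfsg.Agent.Helper19.Cox.DataF4
import Cfsg.Agent.Helper19.Cox.DataE8
import Cfsg.Agent.S1046
import Cfsg.Agent.Helper65.TorD_REG1
import Cfsg.Agent.Helper10.TorD_REG2

/-!
# (REG) of helper36's TorD farm, second batch (S2372/S2375): a torus element with `Stab_N = H` is
regular.
-/

set_option autoImplicit false

namespace Cfsg.Agent.Helper37.TorD

open Cfsg Cfsg.Lie Cfsg.Agent.Helper18 Cfsg.Agent.Helper19.Cox Cfsg.Agent.Helper19.Poinc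
  Cfsg.Agent.Helper80.Tor Cfsg.Agent.Helper36.TorD

section Fields

variable {F K : Type*} [Field F] [Fintype F] [Field K] [Fintype K] [Algebra F K]

variable (D : ChevalleyDatum)
  (hD : D ∈ [chevG2, chevB2, chevD4, chevF4, chevE6, chevE7, chevE8])
include hD

/-- (REG) a torus element with `Stab_N = H` is regular. From (REG1), (REG2), `nGL_mem_monomialSubgroup`. -/
theorem regular_of_stab (hneg : cartanNegOK D = true) (c : Fin D.rank → Kˣ)
    (hst : ∀ n ∈ D.monomialSubgroup K, n * torusHom D K c * n⁻¹ = torusHom D K c → n ∈ D.diagonalSubgroup K)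
    (s : ℕ) (hs : s < D.nroots) : chrD D s c ≠ 1 := by
  intro h1
  exact Cfsg.Agent.Helper10.TorD.nroot_not_mem (K := K) D hD s hs
    (hst _ (nGL_mem_monomialSubgroup D hD s hs) (Cfsg.Agent.Helper65.TorD.nroot_comm (K := K) D hD hneg c s hs h1))

end Fields

end Cfsg.Agent.Helper37.TorD
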