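import Cfsg.Agent.Helper36.TorD.Defs
import Cfsg.Agent.Helper19.Cox.DataF4

/-!
# (TAB4) of helper36's TorD farm (S2372/S2375): the table checks for `F₄`.
-/

set_option autoImplicit false
set_option maxRecDepth 100000

namespace Cfsg.Agent.Helper37.TorD

open Cfsg Cfsg.Lie Cfsg.Agent.Helper18 Cfsg.Agent.Helper19.Cox Cfsg.Agent.Helper19.Poinc
  Cfsg.Agent.Helper80.Tor Cfsg.Agent.Helper36.TorD

/-- (SQ4) -/
theorem refSq_F4 : RefSq chevF4 := by
  unfold RefSq
  decide +kernel

/-- the matrix form of (LIFT4) -/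
theorem TAB4_liftable_aux : ∀ i i' : Fin chevF4.rank,
    (refM chevF4 i.val * refM chevF4 i'.val) ^ (certF4.M i i') = 1 := by
  decide +kernel

/-- (LIFT4) -/
theorem liftable_F4 : certF4.M.IsLiftable (refU chevF4 refSq_F4) := by
  intro i i'
  apply Units.ext
  rw [Units.val_pow_eq_pow_val, Units.val_mul, Units.val_one]
  exact TAB4_liftable_aux i i'

/-- (CR4) -/
theorem cartanReflOK_F4 : cartanReflOK chevF4 = true := by
  decide +kernel

/-- (SEP4) -/
theorem charSepOK_F4 : charSepOK chevF4 = true := by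
  decide +kernel

end Cfsg.Agent.Helper37.TorD
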