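import Cfsg.Agent.Helper54.BT.Defs
import Cfsg.Agent.S4503

/-!
# (C4) of #8209 for helper16's S0997, core: the degree of the exceptional characters,
with the faithfulness of `ψ` as a hypothesis
-/

set_option autoImplicit false

namespace Cfsg.Agent.Helper37.BT97

open Cfsg Cfsg.Agent.Helper16 Cfsg.Agent.Helper16.DefOne Cfsg.Agent.Helper82.DefOne
  Cfsg.Agent.Helper77.DefOne Cfsg.Agent.Helper16.Brauer43 Cfsg.Agent.Helper54.BT
open scoped ComplexConjugate

universe u

/-- arithmetic: a proper divisor `e` of `p - 1` has `2 e ≤ p - 1` -/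
theorem two_mul_le_of_dvd_of_ne (n e : ℕ) (hn : 1 ≤ n) (hed : e ∣ n) (hne : e ≠ n) :
    2 * e ≤ n := by
  obtain ⟨k, hk⟩ := hed
  have hk0 : k ≠ 0 := by
    rintro rfl
    omega
  have hk1 : k ≠ 1 := by
    rintro rfl
    omega
  have h2 : 2 ≤ k := by omega
  calc 2 * e = e * 2 := by ring
    _ ≤ e * k := Nat.mul_le_mul_left e h2
    _ = n := hk.symm

/-- arithmetic: the degree of an exceptional character below `p - 1` -/
theorem deg_Y_cases_aux (p e f : ℕ) (δ : ℤ) (hp : p.Prime) (hδ : δ = 1 ∨ δ = -1) (he1 : 1 ≤ e)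
    (hed : e ∣ p - 1) (hmod : (f : ℤ) ≡ δ * (e : ℤ) [ZMOD p]) (hf2 : 2 ≤ f) (hf : f < p - 1) :
    2 * e ≤ p - 1 ∧ ((δ = 1 ∧ f = e) ∨ (δ = -1 ∧ f + e = p)) := by
  have hp2 := hp.two_le
  have hep : e ≤ p - 1 := Nat.le_of_dvd (by omega) hed
  rcases hδ with rfl | rfl
  · rw [one_mul] at hmod
    have h1 : f ≡ e [MOD p] := Int.natCast_modEq_iff.1 hmod
    have h2 : f = e := Nat.ModEq.eq_of_lt_of_lt h1 (by omega) (by omega)
    refine ⟨two_mul_le_of_dvd_of_ne (p - 1) e (by omega) hed (by omega), Or.inl ⟨rfl, h2⟩⟩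
  · have h1 : (p : ℤ) ∣ ((f + e : ℕ) : ℤ) := by
      have := hmod.symm.dvd
      push_cast
      convert this using 1
      ring
    have h2 : p ∣ f + e := by exact_mod_cast h1
    obtain ⟨k, hk⟩ := h2
    have hk1 : k = 1 := by
      rcases k with _ | _ | k
      · simp at hk
        omega
      · rfl
      · exfalso
        have : p * 2 ≤ p * (k + 1 + 1) := Nat.mul_le_mul_left p (by omega)
        omega
    rw [hk1, mul_one] at hk
    refine ⟨two_mul_le_of_dvd_of_ne (p - 1) e (by omega) hed (by omega), Or.inr ⟨rfl, hk⟩⟩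

/-- arithmetic: `g₀ = f` -/
theorem g0_eq_aux (p f g₀ : ℕ) (hfg : f ∣ g₀) (hg1 : 1 ≤ g₀) (hg : g₀ < p - 1)
    (h2 : p ≤ 2 * f + 1) : g₀ = f := by
  obtain ⟨k, rfl⟩ := hfg
  have hk0 : k ≠ 0 := by
    rintro rfl
    omega
  have hk2 : k < 2 := by
    by_contra h
    have h' : 2 ≤ k := by omega
    have : f * 2 ≤ f * k := Nat.mul_le_mul_left f h'
    omega
  have hk1 : k = 1 := by omega
  rw [hk1, mul_one]

variable {G : Type u} [Group G] [Fintype G] {p : ℕ} [Fact p.Prime]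
  (P : Sylow p G) [Fintype (P : Subgroup G)] (D : L0Data P)

omit [Fintype G] in
theorem charDegree_principalIrr :
    charDegree ((Cfsg.Agent.Helper79.principalIrr G : IrrCharacter G) : G → ℂ) = 1 := by
  show ⌊((1 : ℂ)).re⌋₊ = 1
  simp

/-- (C4) core: the degree of the exceptional characters, given that `ψ` is faithful -/
theorem deg_Y_main_of_faithful [IsSimpleGroup G] (hP : Nat.card P = p)
    (hC : cen P = (P : Subgroup G))
    (hperf : commutator G = ⊤) (q b g₀ : ℕ) (hq : q.Prime) (hg1 : 1 ≤ g₀)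
    (hes : (cen P).relIndex (nor P) * (nor P).index = q ^ b * g₀) (hg : g₀ < p - 1)
    (hone : Helper79.principalIrr G ∈ D.X ∧ D.ε (Helper79.principalIrr G) = 1)
    (hdiv : ∀ χ ∈ D.X, χ ≠ Helper79.principalIrr G → q ∣ charDegree (χ : G → ℂ))
    (ψ : IrrCharacter G) (hψ : ψ ∈ D.Y)
    (hfaith : ∀ g : G, (ψ : G → ℂ) g = (ψ : G → ℂ) 1 → g = 1) :
    2 * (cen P).relIndex (nor P) ≤ p - 1 ∧ g₀ = charDegree (ψ : G → ℂ) ∧
      2 ≤ charDegree (ψ : G → ℂ) ∧
      D.δ * (charDegree (ψ : G → ℂ) : ℤ) ≡ 1 [ZMOD q] ∧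
      ((D.δ = 1 ∧ charDegree (ψ : G → ℂ) = (cen P).relIndex (nor P) ∧
          p = 2 * (cen P).relIndex (nor P) + 1) ∨
       (D.δ = -1 ∧ charDegree (ψ : G → ℂ) + (cen P).relIndex (nor P) = p)) := by
  classical
  have hfin : Finite (IrrCharacter G) := Cfsg.Agent.Helper79.irr_finite'
  have hp : p.Prime := Fact.out
  obtain ⟨he1, hed, hep⟩ := e_basic P hP
  have hcard := card_eq_mul P hP hC
  have hfd := GL.deg_dvd_Y P D hP hC ψ hψ
  have hmodp := GL.deg_modEq_Y P D hP ψ hψ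
  have hdeg := GL.degree_equation P D ψ hψ
  have hf1 : 1 ≤ charDegree (ψ : G → ℂ) := Cfsg.Agent.Helper79.irr_charDegree_pos ψ
  have hψ1 := Cfsg.Agent.Helper79.irr_one ψ
  have hS : p ∣ Nat.card G → ¬ p ^ 2 ∣ Nat.card G →
      (∀ H : Subgroup G, H.Normal → Nat.card H ≠ p) → p ≤ 2 * charDegree (ψ : G → ℂ) + 1 :=
    fun h1 h2 h3 => Cfsg.Agent.S4503.result p hp h1 h2 h3 (ψ : G → ℂ)
      (Cfsg.Agent.Helper79.irr_isCharacter ψ) hfaith
  generalize (cen P).relIndex (nor P) = e at *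
  generalize charDegree (ψ : G → ℂ) = f at *
  -- `ψ` is not principal
  have hne : ψ ≠ Cfsg.Agent.Helper79.principalIrr G := by
    intro h
    rw [h] at hψ
    exact Set.disjoint_left.mp D.hdisj hone.1 hψ
  have hfne : f ≠ 1 := by
    intro h1
    apply hne
    apply Cfsg.Agent.Helper20.D8.eq_principal_of_degree_one hperf ψ
    rw [hψ1, h1]
    simp
  have hf2 : 2 ≤ f := by omega
  -- the degree equation modulo `q`
  have hmodq : D.δ * (f : ℤ) ≡ 1 [ZMOD q] := by
    rw [hdeg, finsum_mem_eq_finite_toFinset_sum _ (Set.toFinite D.X)]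
    have hmem : Cfsg.Agent.Helper79.principalIrr G ∈ (Set.toFinite D.X).toFinset := by
      rw [Set.Finite.mem_toFinset]
      exact hone.1
    rw [← Finset.add_sum_erase _ _ hmem, hone.2, charDegree_principalIrr]
    have hdvd : (q : ℤ) ∣ ∑ χ ∈ ((Set.toFinite D.X).toFinset).erase
        (Cfsg.Agent.Helper79.principalIrr G), D.ε χ * (charDegree (χ : G → ℂ) : ℤ) := by
      apply Finset.dvd_sum
      intro χ hχ
      rw [Finset.mem_erase, Set.Finite.mem_toFinset] at hχ
      exact Dvd.dvd.mul_left (by exact_mod_cast hdiv χ hχ.2 hχ.1) _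
    rw [Int.modEq_iff_dvd]
    obtain ⟨m, hm⟩ := hdvd
    rw [hm]
    exact ⟨-m, by push_cast; ring⟩
  -- `q ∤ f`
  have hqf : ¬ q ∣ f := by
    intro h
    have h1 : (q : ℤ) ∣ D.δ * (f : ℤ) := Dvd.dvd.mul_left (by exact_mod_cast h) _
    have h2 : D.δ * (f : ℤ) ≡ 0 [ZMOD q] := Int.modEq_zero_iff_dvd.2 h1
    have h3 : (1 : ℤ) ≡ 0 [ZMOD q] := hmodq.symm.trans h2
    have h4 : (q : ℤ) ∣ 1 := Int.modEq_zero_iff_dvd.1 h3
    have h5 : q ∣ 1 := by exact_mod_cast h4
    exact hq.one_lt.ne' (Nat.dvd_one.1 h5)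
  -- `f ∣ g₀`
  rw [hes] at hfd
  have hcop : Nat.Coprime f (q ^ b) :=
    Nat.Coprime.pow_right b ((Nat.Prime.coprime_iff_not_dvd hq).2 hqf).symm
  have hfg : f ∣ g₀ := hcop.dvd_of_dvd_mul_left hfd
  have hfg0 : f ≤ g₀ := Nat.le_of_dvd (by omega) hfg
  have hflt : f < p - 1 := by omega
  obtain ⟨h2e, hcase⟩ := deg_Y_cases_aux p e f D.δ hp D.hδ he1 hed hmodp hf2 hflt
  -- `p ≤ 2 f + 1`
  have hp2f : p ≤ 2 * f + 1 := by
    rcases hcase with ⟨hδ1, hfe⟩ | ⟨hδ1, hfe⟩
    · have hdivG : p ∣ Nat.card G := by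
        rw [hcard]
        exact ⟨(nor P).index * e, by ring⟩
      have hk : (Nat.card G).factorization p = 1 := by
        have h1 := P.card_eq_multiplicity
        rw [hP] at h1
        have h2 : p ^ 1 = p ^ (Nat.card G).factorization p := by rw [pow_one]; exact h1
        exact (Nat.pow_right_injective hp.two_le h2).symm
      have hsq : ¬ p ^ 2 ∣ Nat.card G := by
        intro h
        have := (Nat.Prime.pow_dvd_iff_le_factorization hp Nat.card_pos.ne').1 h
        omega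
      have hnn : ∀ H : Subgroup G, H.Normal → Nat.card H ≠ p := by
        intro H hH hHc
        rcases hH.eq_bot_or_eq_top with rfl | rfl
        · rw [Subgroup.card_bot] at hHc
          exact hp.one_lt.ne hHc
        · rw [Subgroup.card_top] at hHc
          rw [hHc] at hcard
          have h1 : p * 1 = p * ((nor P).index * e) := by
            rw [mul_one]
            calc p = (nor P).index * (e * p) := hcard
              _ = p * ((nor P).index * e) := by ring
          have h2 : e * (nor P).index = 1 := by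
            rw [mul_comm]
            exact (Nat.eq_of_mul_eq_mul_left hp.pos h1).symm
          rw [h2] at hes
          have h3 : g₀ ∣ 1 := Dvd.intro_left _ hes.symm
          have h4 : g₀ = 1 := Nat.dvd_one.1 h3
          rw [h4] at hfg
          exact hfne (Nat.dvd_one.1 hfg)
      exact hS hdivG hsq hnn
    · omega
  have hg0 : g₀ = f := g0_eq_aux p f g₀ hfg hg1 hg hp2f
  refine ⟨h2e, hg0, hf2, hmodq, ?_⟩
  rcases hcase with ⟨hδ1, hfe⟩ | ⟨hδ1, hfe⟩
  · left
    exact ⟨hδ1, hfe, by omega⟩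
  · right
    exact ⟨hδ1, hfe⟩

end Cfsg.Agent.Helper37.BT97
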