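import Cfsg.Agent.Helper54.BT.Defs
import Cfsg.Agent.Helper25.NPCSimple
import Cfsg.Agent.S4731

/-!
# (C6) of #8209 for helper16's S0997, core: the strong congruence for a `q`-block avoiding `Y`,
with `X ⊆ principalBlock` as a hypothesis
-/

set_option autoImplicit false

namespace Cfsg.Agent.Helper37.BT97

open Cfsg Cfsg.Agent.Helper16 Cfsg.Agent.Helper16.DefOne Cfsg.Agent.Helper82.DefOne
  Cfsg.Agent.Helper77.DefOne Cfsg.Agent.Helper16.Brauer43 Cfsg.Agent.Helper54.BT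
open scoped ComplexConjugate

universe u

variable {G : Type u} [Group G] [Fintype G] {p : ℕ} [Fact p.Prime]
  (P : Sylow p G) [Fintype (P : Subgroup G)] (D : L0Data P)

/-- (C6) core: the strong congruence for a `q`-block that avoids `Y`, given that `X` lies in the
principal `p`-block. -/
theorem block_X_dvd_of_subset (hP : Nat.card P = p) (q : ℕ)
    [Fact q.Prime] (hpq : p ≠ q) (hno : ∀ g : G, orderOf g ≠ p * q) (b : ℕ)
    (hb : (Nat.card G).factorization q = b)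
    (Mp Mq : Ideal AlgInt) (hMp : IsPModular p Mp) (hMq : IsPModular q Mq)
    (Bq : Set (IrrCharacter G)) (hBq : IsPBlock Mq Bq) (hYB : D.Y ∩ Bq = ∅)
    (hXp : D.X ⊆ principalBlock Mp G) :
    (q : ℤ) ^ b ∣ ∑ᶠ χ ∈ D.X ∩ Bq, D.ε χ * (charDegree (χ : G → ℂ) : ℤ) := by
  classical
  have hfin : Finite (IrrCharacter G) := Cfsg.Agent.Helper79.irr_finite'
  have hp : p.Prime := Fact.out
  -- a nontrivial element of `P`
  have hnt : Nontrivial (P : Subgroup G) := by
    rw [← Finite.one_lt_card_iff_nontrivial, hP]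
    exact hp.one_lt
  obtain ⟨z, hz⟩ := exists_ne (1 : (P : Subgroup G))
  have hzG : (z : G) ≠ 1 := fun h => hz (Subtype.ext h)
  have h1 : orderOf z ∣ p := (orderOf_dvd_natCard z).trans (dvd_of_eq hP)
  have h2 : orderOf z ≠ 1 := by rwa [Ne, orderOf_eq_one_iff]
  have h3 : orderOf z = p := ((Nat.dvd_prime hp).1 h1).resolve_left h2
  have hord : p ∣ orderOf (z : G) := by rw [Subgroup.orderOf_coe, h3]
  obtain ⟨ω, hω⟩ := Cfsg.Agent.S4731.result p q hpq Mp Mq hMp hMq hno b hb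
    (principalBlock Mp G) ⟨Cfsg.Agent.Helper79.principalIrr G, rfl⟩ Bq hBq (z : G) hord
  -- the block sum is the sum over `X ∩ Bq`
  have hsum : ∑ᶠ χ ∈ principalBlock Mp G ∩ Bq,
      (charDegree (χ : G → ℂ) : ℂ) * (χ : G → ℂ) (z : G) =
      ((∑ᶠ χ ∈ D.X ∩ Bq, D.ε χ * (charDegree (χ : G → ℂ) : ℤ) : ℤ) : ℂ) := by
    rw [finsum_mem_eq_finite_toFinset_sum _ (Set.toFinite (principalBlock Mp G ∩ Bq)),
      finsum_mem_eq_finite_toFinset_sum _ (Set.toFinite (D.X ∩ Bq))]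
    push_cast
    symm
    have hsub : (Set.toFinite (D.X ∩ Bq)).toFinset ⊆
        (Set.toFinite (principalBlock Mp G ∩ Bq)).toFinset := by
      intro χ hχ
      rw [Set.Finite.mem_toFinset] at hχ ⊢
      exact ⟨hXp hχ.1, hχ.2⟩
    rw [← Finset.sum_subset hsub]
    · apply Finset.sum_congr rfl
      intro χ hχ
      rw [Set.Finite.mem_toFinset] at hχ
      rw [D.hX χ hχ.1 (z : G) z.2 hzG]
      ring
    · intro χ hχ hχ'
      rw [Set.Finite.mem_toFinset] at hχ hχ'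
      have hX : χ ∉ D.X := fun h => hχ' ⟨h, hχ.2⟩
      have hY : χ ∉ D.Y := by
        intro h
        have : χ ∈ D.Y ∩ Bq := ⟨h, hχ.2⟩
        rw [hYB] at this
        exact this
      rw [D.hZ χ hX hY (z : G) z.2 hzG, mul_zero]
  rw [hsum] at hω
  have hq0 : q ^ b ≠ 0 := pow_ne_zero _ (Fact.out : q.Prime).ne_zero
  have hint : IsIntegral ℤ (((∑ᶠ χ ∈ D.X ∩ Bq, D.ε χ * (charDegree (χ : G → ℂ) : ℤ) : ℤ) : ℂ) /
      ((q ^ b : ℕ) : ℂ)) := by
    rw [hω]
    have : (q : ℂ) ^ b * (ω : ℂ) / ((q ^ b : ℕ) : ℂ) = (ω : ℂ) := by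
      push_cast
      rw [mul_div_assoc, mul_comm, div_mul_cancel₀]
      exact_mod_cast hq0
    rw [this]
    exact ω.2
  have := Cfsg.Agent.Helper25.NPCSimple.int_dvd_of_isIntegral_div' hq0 hint
  exact_mod_cast this

end Cfsg.Agent.Helper37.BT97
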