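import Mathlib
import Cfsg.Agent.Helper37.OddFC
import Cfsg.Agent.Helper14.SplitAbs
import Cfsg.Agent.Helper14.AutTransport
import Cfsg.Agent.Helper14.AutFix
import Cfsg.Agent.S2694

/-!
Helper37: field automorphisms of prime order of `Ω_{2m+1}(q)`, `q` odd: `r ∣ f`, the centraliser in
the inner-diagonal group is the inner-diagonal group over the fixed field, and the class splits into
one or two classes according as `r` is odd or `r = 2`.
-/

set_option autoImplicit false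
set_option linter.unusedSectionVars false

namespace Cfsg.Agent.Helper37.OddF

open Matrix Cfsg.Agent.Helper44 Cfsg.Agent.Helper12.GammaO Cfsg.Agent.Helper14.AutPSL
  Cfsg.Agent.Helper14.SplitAbs

variable {F₀ F : Type*} [Field F₀] [Field F]

theorem oddForm_vmap (i : F₀ →+* F) (m : ℕ) (v : Unit ⊕ (Fin m ⊕ Fin m) → F₀) :
    oddForm m F (vmap i v) = i (oddForm m F₀ v) := by
  show Cfsg.quadFormOdd m F (vmap i v) = i (Cfsg.quadFormOdd m F₀ v)
  unfold Cfsg.quadFormOdd
  simp only [vmap_apply, map_add, map_pow, map_sum, map_mul]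

theorem oddForm_sigma (m : ℕ) (σ : F ≃+* F) (v : Unit ⊕ (Fin m ⊕ Fin m) → F) :
    oddForm m F (vmap (σ : F →+* F) v) = σ (oddForm m F v) :=
  oddForm_vmap (σ : F →+* F) m v

theorem inndiag_eq (m : ℕ) :
    Cfsg.inndiagPOmegaOdd m F = Cfsg.pgoAut F ⇑(oddForm m F) := rfl

/-- a field automorphism in the sense of the Prelude is `phi σ` -/
theorem eq_phi_of_isFieldAut (m : ℕ) (σ : F ≃+* F)
    (φ : MulAut (Cfsg.POmega F ⇑(oddForm m F)))
    (hφ : Cfsg.IsFieldAutPOmegaOf ⇑(oddForm m F) σ φ) :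
    φ = phi (oddForm m F) (oddForm_sigma m) σ := by
  unfold phi
  rw [← Cfsg.Agent.Helper12.GammaO.isInduced_iff]
  intro s s' hs
  apply hφ s s'
  rw [hs]
  show (1 : Matrix _ _ F) * _ * ((1 : GL _ F)⁻¹ : GL _ F).1 = _
  rw [inv_one, Units.val_one, Matrix.one_mul, Matrix.mul_one]
  rfl

section main

variable [Fintype F] {m : ℕ}

theorem card_idx (m : ℕ) : Fintype.card (Unit ⊕ (Fin m ⊕ Fin m)) = 2 * m + 1 :=
  card_index_odd m

theorem phiHom_injective (h2 : (2 : F) ≠ 0) (hm : 3 ≤ m) :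
    Function.Injective (phiHom (oddForm m F) (oddForm_sigma m)) := by
  have hnd := Cfsg.Agent.Helper5.nondegenerate_oddForm (F := F) h2 m
  have hn : 7 ≤ Fintype.card (Unit ⊕ (Fin m ⊕ Fin m)) := by
    rw [card_idx]
    omega
  rw [injective_iff_map_eq_one]
  intro σ h
  have hk : stdField (oddForm m F) (hstd_of (oddForm m F) (oddForm_sigma m)) σ
      ∈ (psi ⇑(oddForm m F)).ker := MonoidHom.mem_ker.2 h
  exact (mem_ker_psi (oddForm m F) hnd hn _ hk).1

theorem main_odd {p f : ℕ} [hp : Fact p.Prime] (hF : Fintype.card F = p ^ f) (hf : 1 ≤ f)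
    (hodd : Odd (Fintype.card F)) (hm : 3 ≤ m)
    (x : MulAut (Cfsg.POmega F ⇑(oddForm m F)))
    (hx : Cfsg.IsFieldAutClassPOmega ⇑(oddForm m F) x) {r : ℕ} (hr : r.Prime)
    (hxr : orderOf x = r) (F₀ : Type*) [Field F₀] [Fintype F₀]
    (hF₀ : Fintype.card F₀ = p ^ (f / r)) :
    r ∣ f ∧
    Nonempty (↥(Cfsg.pgoAut F ⇑(oddForm m F) ⊓ Subgroup.centralizer {x})
      ≃* ↥(Cfsg.pgoAut F₀ ⇑(oddForm m F₀))) ∧
    (Odd r → Cfsg.splitClassCount (Cfsg.pgoAut F ⇑(oddForm m F))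
      (Cfsg.Inn (Cfsg.POmega F ⇑(oddForm m F))) x = 1) ∧
    (r = 2 → Cfsg.splitClassCount (Cfsg.pgoAut F ⇑(oddForm m F))
      (Cfsg.Inn (Cfsg.POmega F ⇑(oddForm m F))) x = 2) := by
  classical
  have h2 : (2 : F) ≠ 0 := Cfsg.Agent.Helper5.two_ne_zero_of_odd_card hodd
  have hnd := Cfsg.Agent.Helper5.nondegenerate_oddForm (F := F) h2 m
  have hn : 7 ≤ Fintype.card (Unit ⊕ (Fin m ⊕ Fin m)) := by
    rw [card_idx]
    omega
  have ho : Odd (Fintype.card (Unit ⊕ (Fin m ⊕ Fin m))) := by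
    rw [card_idx]
    exact ⟨m, rfl⟩
  have hfr : Module.finrank F (Unit ⊕ (Fin m ⊕ Fin m) → F)
      = Fintype.card (Unit ⊕ (Fin m ⊕ Fin m)) := Module.finrank_fintype_fun_eq_card F
  have htop : Cfsg.gammaPOmega F ⇑(oddForm m F) = ⊤ := Cfsg.Agent.S2694.result hodd hm
  obtain ⟨α, φ, σ, -, hφ, hαx⟩ := hx
  have hφ' := eq_phi_of_isFieldAut m σ φ hφ
  rw [hφ'] at hαx
  -- the order of `σ`
  have hord : orderOf σ = r := by
    rw [← orderOf_injective (phiHom (oddForm m F) (oddForm_sigma (F := F) m)) (phiHom_injective h2 hm) σ, phiHom_apply, ← hαx, ← hxr]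
    exact orderOf_injective (MulAut.conj α).toMonoidHom (MulAut.conj α).injective x
  have hft : Fintype (fixF σ) := Fintype.ofFinite _
  obtain ⟨hdvd, hcard⟩ := card_fixF σ hF
  rw [hord] at hdvd hcard
  obtain ⟨e⟩ : Nonempty (F₀ ≃+* fixF σ) := ⟨FiniteField.ringEquivOfCardEq (by rw [hcard, hF₀])⟩
  obtain ⟨i, hidef⟩ : ∃ i : F₀ →+* F, i = (fixF σ).subtype.comp (e : F₀ →+* fixF σ) := ⟨_, rfl⟩
  have hi : ∀ a : F, σ a = a ↔ a ∈ i.range := by
    intro a
    rw [← mem_fixF, hidef]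
    constructor
    · intro ha
      exact ⟨e.symm ⟨a, ha⟩, by simp⟩
    · rintro ⟨b, rfl⟩
      exact (e b).2
  have hcardF : Fintype.card F = Fintype.card F₀ ^ r := by
    rw [hF, hF₀, ← pow_mul, Nat.div_mul_cancel hdvd]
  -- the form over `F₀`
  have hQi : ∀ v, (oddForm m F) (vmap i v) = i ((oddForm m F₀) v) := oddForm_vmap i m
  have h2₀ : (2 : F₀) ≠ 0 := two_ne_zero_of_map i (oddForm m F₀) (oddForm m F) hQi h2
  have hnd₀ := Cfsg.Agent.Helper5.nondegenerate_oddForm (F := F₀) h2₀ m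
  have hfr₀ : Module.finrank F₀ (Unit ⊕ (Fin m ⊕ Fin m) → F₀)
      = Fintype.card (Unit ⊕ (Fin m ⊕ Fin m)) := Module.finrank_fintype_fun_eq_card F₀
  -- `SO` and the inner-diagonal groups
  have hinj : Function.Injective (thetaSO (oddForm m F)) := thetaSO_injective (oddForm m F) h2 hnd hn ho
  have hinj₀ : Function.Injective (thetaSO (oddForm m F₀)) := thetaSO_injective (oddForm m F₀) h2₀ hnd₀ hn ho
  have hrange : (thetaSO (oddForm m F)).range = Cfsg.pgoAut F ⇑(oddForm m F) := range_thetaSO (oddForm m F) h2 hnd ho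
  have hrange₀ : (thetaSO (oddForm m F₀)).range = Cfsg.pgoAut F₀ ⇑(oddForm m F₀) := range_thetaSO (oddForm m F₀) h2₀ hnd₀ ho
  have hHn : (Cfsg.pgoAut F ⇑(oddForm m F)).Normal := by
    rw [← ker_tau (oddForm m F) hnd hn htop]
    exact MonoidHom.normal_ker _
  have hKn : (Cfsg.Inn (Cfsg.POmega F ⇑(oddForm m F))).Normal := Cfsg.Agent.Helper12.GammaO.Inn_normal _
  refine ⟨hdvd, ?_, ?_, ?_⟩
  · have e1 := centralizerConjEquiv (Cfsg.pgoAut F ⇑(oddForm m F)) α x
    rw [hαx] at e1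
    obtain ⟨e2⟩ := nonempty_centralizer_equiv i (oddForm m F₀) (oddForm m F) hQi (oddForm_sigma (F := F) m) σ hi hinj
    have e3 : ↥(Cfsg.pgoAut F ⇑(oddForm m F) ⊓ Subgroup.centralizer {phi (oddForm m F) (oddForm_sigma (F := F) m) σ})
        ≃* ↥((thetaSO (oddForm m F)).range ⊓ Subgroup.centralizer {phi (oddForm m F) (oddForm_sigma (F := F) m) σ}) :=
      MulEquiv.subgroupCongr (by rw [hrange])
    have e4 := MonoidHom.ofInjective hinj₀
    have e5 := MulEquiv.subgroupCongr hrange₀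
    exact ⟨(((e1.trans e3).trans e2).trans e4).trans e5⟩
  · intro hrodd
    rw [← splitClassCount_conj _ _ α x, hαx, ← hrange, ← map_omSO (oddForm m F),
      splitClassCount_abs (thetaSO (oddForm m F)) (omSO (oddForm m F)) (soIncl i (oddForm m F₀) (oddForm m F) hQi).range
        (by rw [(MonoidHom.ker_eq_bot_iff _).2 hinj]; exact bot_le) _
        (map_range_soIncl i (oddForm m F₀) (oddForm m F) hQi (oddForm_sigma (F := F) m) σ hi hinj)]
    apply index_sup_of_not_le (oddForm m F) h2 hnd (by rw [hfr]; omega)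
    apply not_range_soIncl_le_omSO i (oddForm m F₀) (oddForm m F) hQi h2 hnd₀ (by rw [hfr₀]; omega)
    intro c hc
    exact not_isSquare_map_of_odd i h2 hrodd hcardF hc
  · intro hr2
    rw [← splitClassCount_conj _ _ α x, hαx, ← hrange, ← map_omSO (oddForm m F),
      splitClassCount_abs (thetaSO (oddForm m F)) (omSO (oddForm m F)) (soIncl i (oddForm m F₀) (oddForm m F) hQi).range
        (by rw [(MonoidHom.ker_eq_bot_iff _).2 hinj]; exact bot_le) _
        (map_range_soIncl i (oddForm m F₀) (oddForm m F) hQi (oddForm_sigma (F := F) m) σ hi hinj)]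
    apply index_sup_of_le (oddForm m F) h2 hnd (by rw [hfr]; omega)
    apply range_soIncl_le_omSO i (oddForm m F₀) (oddForm m F) hQi h2 hnd₀
    intro a
    rw [hr2] at hcardF
    exact isSquare_map_of_card_sq i h2 hcardF a

end main

end Cfsg.Agent.Helper37.OddF
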