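import Mathlib
import Cfsg.Agent.Helper37.BalA
import Cfsg.Agent.Helper37.OddFD

/-!
Helper37: the local-balance criterion for odd-dimensional orthogonal groups (S2731), part 1:
automorphisms commuting with a standard field automorphism `phi τ` and centralising
`Inn ∩ C(phi τ)` are powers of `phi τ`.
-/

set_option autoImplicit false
set_option linter.unusedSectionVars false

namespace Cfsg.Agent.Helper37.Bal

open Matrix Cfsg.Agent.Helper44 Cfsg.Agent.Helper12.GammaO Cfsg.Agent.Helper14.AutPSL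
  Cfsg.Agent.Helper37.OddF

variable {F₀ F : Type*} [Field F₀] [Field F] {ι : Type} [Fintype ι] [DecidableEq ι]

/-- an automorphism centralising all inner automorphisms of a group with trivial centre is
trivial -/
theorem eq_one_of_commute_Inn {K : Type*} [Group K] (hZ : Subgroup.center K = ⊥) (y : MulAut K)
    (h : ∀ z ∈ Cfsg.Inn K, y * z = z * y) : y = 1 := by
  ext k
  have h1 := h (MulAut.conj k) ⟨k, rfl⟩
  have h2 : y * MulAut.conj k = MulAut.conj (y k) * y := by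
    ext x
    simp [MulAut.mul_apply, MulAut.conj_apply]
  rw [h2] at h1
  have h3 : MulAut.conj (y k) = MulAut.conj k := mul_right_cancel h1
  have h4 : (y k)⁻¹ * k ∈ Subgroup.center K := by
    rw [Subgroup.mem_center_iff]
    intro g
    have h5 := congrArg (fun ψ : MulAut K => ψ g) h3
    simp only [MulAut.conj_apply] at h5
    calc g * ((y k)⁻¹ * k) = (y k)⁻¹ * (y k * g * (y k)⁻¹) * k := by group
      _ = (y k)⁻¹ * (k * g * k⁻¹) * k := by rw [h5]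
      _ = (y k)⁻¹ * k * g := by group
  rw [hZ, Subgroup.mem_bot] at h4
  rw [MulAut.one_apply]
  exact (inv_mul_eq_one.1 h4)

section basechange

variable (i : F₀ →+* F) (Q₀ : QuadraticForm F₀ (ι → F₀)) (Q : QuadraticForm F (ι → F))
  (hQ : ∀ v : ι → F₀, Q (vmap i v) = i (Q₀ v))

/-- `Ω(Q₀)` maps into `Ω(Q)` -/
theorem isoIncl_mem_Omega [Finite F] (h2 : (2 : F) ≠ 0)
    (hnd₀ : (QuadraticMap.polarBilin Q₀).Nondegenerate)
    {s₀ : ↥(Cfsg.isometryGroup F₀ ⇑Q₀)} (hs₀ : s₀ ∈ Cfsg.Omega F₀ ⇑Q₀) :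
    isoIncl i Q₀ Q hQ s₀ ∈ Cfsg.Omega F ⇑Q := by
  have h2₀ : (2 : F₀) ≠ 0 := two_ne_zero_of_map i Q₀ Q hQ h2
  haveI : Finite F₀ := Finite.of_injective i i.injective
  obtain ⟨vs, hvs, rfl⟩ := cartan_dieudonne Q₀ h2₀ hnd₀ s₀
  rw [Cfsg.Agent.Helper37.OddF.prod_reflT_mem_Omega_iff Q₀ h2₀ vs hvs] at hs₀
  rw [isoIncl_prod_mem_Omega_iff i Q₀ Q hQ h2 vs hvs]
  exact ⟨hs₀.1, hs₀.2.map i⟩

theorem omSO_le_comap [Finite F] (h2 : (2 : F) ≠ 0)
    (hnd₀ : (QuadraticMap.polarBilin Q₀).Nondegenerate) :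
    omSO Q₀ ≤ (omSO Q).comap (soIncl i Q₀ Q hQ) := by
  intro t₀ ht₀
  rw [Subgroup.mem_comap, mem_omSO, soIncl_coe]
  exact isoIncl_mem_Omega i Q₀ Q hQ h2 hnd₀ ((mem_omSO Q₀ t₀).1 ht₀)

/-- restriction of an automorphism of `F` to a subfield which is a fixed field -/
theorem exists_restrict [Finite F] (τ ρ : F ≃+* F) (hi : ∀ a : F, τ a = a ↔ a ∈ i.range) :
    ∃ ρ₀ : F₀ ≃+* F₀, ∀ c : F₀, i (ρ₀ c) = ρ (i c) := by
  haveI : Finite F₀ := Finite.of_injective i i.injective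
  have hmem : ∀ c : F₀, ρ (i c) ∈ i.range := by
    intro c
    rw [← hi]
    have h1 : (τ * ρ) (i c) = (ρ * τ) (i c) := by rw [ringAut_comm τ ρ]
    have h2 : τ (i c) = i c := (hi _).2 ⟨c, rfl⟩
    calc τ (ρ (i c)) = (τ * ρ) (i c) := rfl
      _ = (ρ * τ) (i c) := h1
      _ = ρ (τ (i c)) := rfl
      _ = ρ (i c) := by rw [h2]
  choose g hg using hmem
  have hg' : ∀ c, i (g c) = ρ (i c) := hg
  let g' : F₀ →+* F₀ :=
    { toFun := g
      map_one' := i.injective (by rw [hg', map_one, map_one])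
      map_mul' := fun a b => i.injective (by rw [hg', map_mul, map_mul, map_mul, hg', hg'])
      map_zero' := i.injective (by rw [hg', map_zero, map_zero])
      map_add' := fun a b => i.injective (by rw [hg', map_add, map_add, map_add, hg', hg']) }
  have hbij : Function.Bijective g' :=
    ⟨g'.injective, Finite.surjective_of_injective g'.injective⟩
  exact ⟨RingEquiv.ofBijective g' hbij, hg'⟩

variable (hσQ : ∀ (σ : F ≃+* F) (v : ι → F), Q (vmap (σ : F →+* F) v) = σ (Q v))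
  (hσQ₀ : ∀ (σ : F₀ ≃+* F₀) (v : ι → F₀), Q₀ (vmap (σ : F₀ →+* F₀) v) = σ (Q₀ v))

theorem soSig_soIncl (ρ : F ≃+* F) (ρ₀ : F₀ ≃+* F₀) (hρ : ∀ c : F₀, i (ρ₀ c) = ρ (i c))
    (t₀ : ↥(detHom ⇑Q₀).ker) :
    soSig Q hσQ ρ (soIncl i Q₀ Q hQ t₀) = soIncl i Q₀ Q hQ (soSig Q₀ hσQ₀ ρ₀ t₀) := by
  apply Subtype.ext
  apply Subtype.ext
  apply Units.ext
  rw [soSig_coe, soIncl_coe, soIncl_coe, isoIncl_coe, isoIncl_coe, soSig_coe]
  ext a b
  simp only [Matrix.map_apply]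
  exact (hρ _).symm

end basechange

section main

variable [Fintype F₀] [Fintype F]
  (i : F₀ →+* F) (Q₀ : QuadraticForm F₀ (ι → F₀)) (Q : QuadraticForm F (ι → F))
  (hQ : ∀ v : ι → F₀, Q (vmap i v) = i (Q₀ v))
  (hσQ : ∀ (σ : F ≃+* F) (v : ι → F), Q (vmap (σ : F →+* F) v) = σ (Q v))
  (hσQ₀ : ∀ (σ : F₀ ≃+* F₀) (v : ι → F₀), Q₀ (vmap (σ : F₀ →+* F₀) v) = σ (Q₀ v))
  (τ : F ≃+* F) (hi : ∀ a : F, τ a = a ↔ a ∈ i.range)
  (h2 : (2 : F) ≠ 0) (hnd : (QuadraticMap.polarBilin Q).Nondegenerate)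
  (hnd₀ : (QuadraticMap.polarBilin Q₀).Nondegenerate) (hn : 7 ≤ Fintype.card ι)
  (ho : Odd (Fintype.card ι)) (htop : Cfsg.gammaPOmega F ⇑Q = ⊤)

include h2 hnd hn ho htop in
/-- every automorphism is a special isometry times a standard field automorphism -/
theorem exists_thetaSO_mul_phi (y : MulAut (Cfsg.POmega F ⇑Q)) :
    ∃ (s : ↥(detHom ⇑Q).ker) (ρ : F ≃+* F), y = thetaSO Q s * phi Q hσQ ρ := by
  obtain ⟨ρ, hρ⟩ : ∃ ρ, ρ = tau Q hnd hn htop y := ⟨_, rfl⟩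
  have h1 : y * (phi Q hσQ ρ)⁻¹ ∈ (tau Q hnd hn htop).ker := by
    rw [MonoidHom.mem_ker, map_mul, map_inv]
    have : tau Q hnd hn htop (phi Q hσQ ρ) = ρ := by
      unfold phi
      rw [tau_psi]
      rfl
    rw [this, ← hρ, mul_inv_cancel]
  rw [ker_tau, ← range_thetaSO Q h2 hnd ho] at h1
  obtain ⟨s, hs⟩ := h1
  refine ⟨s, ρ, ?_⟩
  rw [hs]
  group

theorem phi_comm (ρ : F ≃+* F) :
    phi Q hσQ τ * phi Q hσQ ρ = phi Q hσQ ρ * phi Q hσQ τ := by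
  rw [← phiHom_apply, ← phiHom_apply, ← map_mul, ← map_mul, ringAut_comm τ ρ]

include hi hQ hσQ₀ h2 hnd hnd₀ hn ho htop in
/-- an automorphism commuting with `phi τ` and centralising `Inn ∩ C(phi τ)` is a power of
`phi τ` -/
theorem mem_zpowers_phi (y : MulAut (Cfsg.POmega F ⇑Q))
    (hyφ : y * phi Q hσQ τ = phi Q hσQ τ * y)
    (hy : ∀ z ∈ innCent (phi Q hσQ τ), y * z = z * y) :
    y ∈ Subgroup.zpowers (phi Q hσQ τ) := by
  have h2₀ : (2 : F₀) ≠ 0 := two_ne_zero_of_map i Q₀ Q hQ h2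
  have hinj : Function.Injective (thetaSO Q) := thetaSO_injective Q h2 hnd hn ho
  have hinj₀ : Function.Injective (thetaSO Q₀) := thetaSO_injective Q₀ h2₀ hnd₀ hn ho
  obtain ⟨s, ρ, rfl⟩ := exists_thetaSO_mul_phi Q hσQ h2 hnd hn ho htop y
  have hcomm := phi_comm Q hσQ τ ρ
  -- step 1: `s` is fixed by `τ`
  have hs : soSig Q hσQ τ s = s := by
    have h3 : phi Q hσQ τ * (thetaSO Q s * phi Q hσQ ρ)
        = thetaSO Q (soSig Q hσQ τ s) * phi Q hσQ ρ * phi Q hσQ τ := by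
      rw [← mul_assoc, phi_mul_thetaSO, mul_assoc, hcomm, mul_assoc]
    rw [h3] at hyφ
    exact (hinj (mul_right_cancel (mul_right_cancel hyφ))).symm
  obtain ⟨s₀, rfl⟩ := (mem_range_soIncl_iff i Q₀ Q hQ hσQ τ hi s).2 hs
  obtain ⟨ρ₀, hρ₀⟩ := exists_restrict i τ ρ hi
  -- step 2: the relation over `F₀`
  have hkey : ∀ t₀ ∈ omSO Q₀, s₀ * soSig Q₀ hσQ₀ ρ₀ t₀ = t₀ * s₀ := by
    intro t₀ ht₀
    have hz : thetaSO Q (soIncl i Q₀ Q hQ t₀) ∈ innCent (phi Q hσQ τ) := by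
      refine Subgroup.mem_inf.2 ⟨?_, ?_⟩
      · rw [← map_omSO Q]
        exact ⟨_, omSO_le_comap i Q₀ Q hQ h2 hnd₀ ht₀, rfl⟩
      · have h4 : thetaSO Q (soIncl i Q₀ Q hQ t₀)
            ∈ ((soIncl i Q₀ Q hQ).range).map (thetaSO Q) := ⟨_, ⟨t₀, rfl⟩, rfl⟩
        rw [map_range_soIncl i Q₀ Q hQ hσQ τ hi hinj] at h4
        exact (Subgroup.mem_inf.1 h4).2
    have h5 := hy _ hz
    have h6 : thetaSO Q (soIncl i Q₀ Q hQ s₀) * phi Q hσQ ρ * thetaSO Q (soIncl i Q₀ Q hQ t₀)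
        = thetaSO Q (soIncl i Q₀ Q hQ (s₀ * soSig Q₀ hσQ₀ ρ₀ t₀)) * phi Q hσQ ρ := by
      rw [mul_assoc, phi_mul_thetaSO, ← mul_assoc, ← map_mul,
        soSig_soIncl i Q₀ Q hQ hσQ hσQ₀ ρ ρ₀ hρ₀, ← map_mul]
    have h7 : thetaSO Q (soIncl i Q₀ Q hQ t₀)
          * (thetaSO Q (soIncl i Q₀ Q hQ s₀) * phi Q hσQ ρ)
        = thetaSO Q (soIncl i Q₀ Q hQ (t₀ * s₀)) * phi Q hσQ ρ := by
      rw [← mul_assoc, ← map_mul, ← map_mul]
    rw [h6, h7] at h5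
    exact soIncl_injective i Q₀ Q hQ (hinj (mul_right_cancel h5))
  -- step 3: the induced automorphism of `PΩ(Q₀)` is trivial
  have hZ₀ : Subgroup.center (Cfsg.POmega F₀ ⇑Q₀) = ⊥ :=
    center_quot_center_eq_bot (commutator_Omega_eq_top Q₀ hnd₀ hn)
  have hy₀ : thetaSO Q₀ s₀ * phi Q₀ hσQ₀ ρ₀ = 1 := by
    apply eq_one_of_commute_Inn hZ₀
    intro z hz
    rw [← map_omSO Q₀] at hz
    obtain ⟨t₀, ht₀, rfl⟩ := hz
    rw [mul_assoc, phi_mul_thetaSO, ← mul_assoc, ← mul_assoc, ← map_mul, ← map_mul, hkey t₀ ht₀]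
  have hx : ofSim Q₀ (toGO Q₀ s₀.1) * stdField Q₀ (hstd_of Q₀ hσQ₀) ρ₀ ∈ (psi ⇑Q₀).ker := by
    rw [MonoidHom.mem_ker, map_mul, ← thetaSO_eq]
    exact hy₀
  have hρ₀1 : ρ₀ = 1 := by
    have h8 := (mem_ker_psi Q₀ hnd₀ hn _ hx).1
    have h9 : (ofSim Q₀ (toGO Q₀ s₀.1) * stdField Q₀ (hstd_of Q₀ hσQ₀) ρ₀).1.right
        = (1 : F₀ ≃+* F₀) * ρ₀ := rfl
    rw [h9, one_mul] at h8
    exact h8
  have hs₀1 : s₀ = 1 := by
    apply hinj₀
    have h10 : phi Q₀ hσQ₀ ρ₀ = 1 := by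
      rw [hρ₀1, ← phiHom_apply, map_one]
    rw [h10, mul_one] at hy₀
    rw [hy₀, map_one]
  -- step 4: `ρ` is a power of `τ`
  have hρ : ρ ∈ Subgroup.zpowers τ := by
    apply mem_zpowers_of_fixF
    intro c hc
    obtain ⟨c₀, rfl⟩ := (hi c).1 hc
    rw [← hρ₀, hρ₀1]
    rfl
  rw [hs₀1, map_one, map_one, one_mul, ← phiHom_apply, ← phiHom_apply, ← MonoidHom.map_zpowers]
  exact ⟨ρ, hρ, rfl⟩

end main

end Cfsg.Agent.Helper37.Bal
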