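import Mathlib
import Cfsg.Agent.Helper37.BalB

/-!
Helper37: the local-balance criterion for odd-dimensional orthogonal groups (S2731), part 2:
the structure of `Inn ∩ C(phi τ)`: it is isomorphic to
`Ω' = {s₀ ∈ SO(Q₀) : s₀ ∈ Ω(Q) over F}`, which has the simple normal subgroup `Ω(Q₀)` of index at
most two and with trivial centraliser.
-/

set_option autoImplicit false
set_option linter.unusedSectionVars false

namespace Cfsg.Agent.Helper37.Bal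

open Matrix Cfsg.Agent.Helper44 Cfsg.Agent.Helper12.GammaO Cfsg.Agent.Helper14.AutPSL
  Cfsg.Agent.Helper37.OddF

variable {F₀ F : Type*} [Field F₀] [Field F] {ι : Type} [Fintype ι] [DecidableEq ι]

section struct

variable [Fintype F₀] [Fintype F]
  (i : F₀ →+* F) (Q₀ : QuadraticForm F₀ (ι → F₀)) (Q : QuadraticForm F (ι → F))
  (hQ : ∀ v : ι → F₀, Q (vmap i v) = i (Q₀ v))
  (hσQ : ∀ (σ : F ≃+* F) (v : ι → F), Q (vmap (σ : F →+* F) v) = σ (Q v))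
  (τ : F ≃+* F) (hi : ∀ a : F, τ a = a ↔ a ∈ i.range)
  (h2 : (2 : F) ≠ 0) (hnd : (QuadraticMap.polarBilin Q).Nondegenerate)
  (hnd₀ : (QuadraticMap.polarBilin Q₀).Nondegenerate) (hn : 7 ≤ Fintype.card ι)
  (ho : Odd (Fintype.card ι))

/-- `Ω' = {s₀ ∈ SO(Q₀) : s₀ ∈ Ω(Q)}` -/
noncomputable def omPrime : Subgroup ↥(detHom ⇑Q₀).ker := (omSO Q).comap (soIncl i Q₀ Q hQ)

include hi h2 hnd hn ho in
theorem innCent_eq_map :
    innCent (phi Q hσQ τ)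
      = (omPrime i Q₀ Q hQ).map ((thetaSO Q).comp (soIncl i Q₀ Q hQ)) := by
  have hinj : Function.Injective (thetaSO Q) := thetaSO_injective Q h2 hnd hn ho
  ext z
  constructor
  · intro hz
    obtain ⟨hz1, hz2⟩ := Subgroup.mem_inf.1 hz
    rw [← map_omSO Q] at hz1
    obtain ⟨x, hx, rfl⟩ := hz1
    have h3 : thetaSO Q x ∈ (thetaSO Q).range ⊓ Subgroup.centralizer {phi Q hσQ τ} :=
      Subgroup.mem_inf.2 ⟨⟨x, rfl⟩, hz2⟩
    rw [← map_range_soIncl i Q₀ Q hQ hσQ τ hi hinj] at h3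
    obtain ⟨_, ⟨t₀, rfl⟩, ht⟩ := h3
    have h4 := hinj ht
    refine ⟨t₀, ?_, ht⟩
    show soIncl i Q₀ Q hQ t₀ ∈ omSO Q
    rw [h4]
    exact hx
  · rintro ⟨t₀, ht₀, rfl⟩
    refine Subgroup.mem_inf.2 ⟨?_, ?_⟩
    · rw [← map_omSO Q]
      exact ⟨_, ht₀, rfl⟩
    · have h4 : thetaSO Q (soIncl i Q₀ Q hQ t₀)
          ∈ ((soIncl i Q₀ Q hQ).range).map (thetaSO Q) := ⟨_, ⟨t₀, rfl⟩, rfl⟩
      rw [map_range_soIncl i Q₀ Q hQ hσQ τ hi hinj] at h4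
      exact (Subgroup.mem_inf.1 h4).2

include hi h2 hnd hn ho in
/-- `Ω' ≅ Inn ∩ C(phi τ)` -/
theorem nonempty_omPrime_equiv :
    Nonempty (↥(omPrime i Q₀ Q hQ) ≃* ↥(innCent (phi Q hσQ τ))) := by
  have hinj : Function.Injective (thetaSO Q) := thetaSO_injective Q h2 hnd hn ho
  have hinj' : Function.Injective ((thetaSO Q).comp (soIncl i Q₀ Q hQ)) :=
    hinj.comp (soIncl_injective i Q₀ Q hQ)
  exact ⟨((omPrime i Q₀ Q hQ).equivMapOfInjective _ hinj').trans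
    (MulEquiv.subgroupCongr (innCent_eq_map i Q₀ Q hQ hσQ τ hi h2 hnd hn ho).symm)⟩

/-- `Ω(Q₀) ≅ PΩ(Q₀)` inside `Ω'` -/
theorem nonempty_L_equiv (hle : omSO Q₀ ≤ omPrime i Q₀ Q hQ)
    (hZ : Subgroup.center ↥(Cfsg.Omega F₀ ⇑Q₀) = ⊥) :
    Nonempty (↥((omSO Q₀).subgroupOf (omPrime i Q₀ Q hQ)) ≃* Cfsg.POmega F₀ ⇑Q₀) := by
  have e1 := Subgroup.subgroupOfEquivOfLe hle
  have e2 : ↥(omSO Q₀) ≃* ↥(Cfsg.Omega F₀ ⇑Q₀) :=
    Subgroup.subgroupOfEquivOfLe (Omega_le_ker_detHom Q₀)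
  have e3 : Cfsg.POmega F₀ ⇑Q₀ ≃* ↥(Cfsg.Omega F₀ ⇑Q₀) :=
    (QuotientGroup.quotientMulEquivOfEq hZ).trans QuotientGroup.quotientBot
  exact ⟨(e1.trans e2).trans e3.symm⟩

include hQ hi h2 hnd hnd₀ hn ho in
/-- `Inn ∩ C(phi τ)` has no nontrivial normal `p'`-subgroup when `p` divides its order -/
theorem innCent_no_normal {p : ℕ} (hp : p.Prime)
    (hdvd : p ∣ Nat.card ↥(innCent (phi Q hσQ τ)))
    (hsimple : IsSimpleGroup (Cfsg.POmega F₀ ⇑Q₀))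
    (heven : 2 ∣ Nat.card (Cfsg.POmega F₀ ⇑Q₀))
    (M : Subgroup ↥(innCent (phi Q hσQ τ))) (hMn : M.Normal)
    (hMc : (Nat.card ↥M).Coprime p) : M = ⊥ := by
  have h2₀ : (2 : F₀) ≠ 0 := two_ne_zero_of_map i Q₀ Q hQ h2
  have hinj₀ : Function.Injective (thetaSO Q₀) := thetaSO_injective Q₀ h2₀ hnd₀ hn ho
  have hfr₀ : Module.finrank F₀ (ι → F₀) = Fintype.card ι := Module.finrank_fintype_fun_eq_card F₀
  have hle : omSO Q₀ ≤ omPrime i Q₀ Q hQ := omSO_le_comap i Q₀ Q hQ h2 hnd₀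
  have hZΩ : Subgroup.center ↥(Cfsg.Omega F₀ ⇑Q₀) = ⊥ := center_Omega_eq_bot_odd Q₀ h2₀ hnd₀ hn ho
  have hZ₀ : Subgroup.center (Cfsg.POmega F₀ ⇑Q₀) = ⊥ :=
    center_quot_center_eq_bot (commutator_Omega_eq_top Q₀ hnd₀ hn)
  obtain ⟨e⟩ := nonempty_omPrime_equiv i Q₀ Q hQ hσQ τ hi h2 hnd hn ho
  obtain ⟨eL⟩ := nonempty_L_equiv i Q₀ Q hQ hle hZΩ
  haveI hLs : IsSimpleGroup ↥((omSO Q₀).subgroupOf (omPrime i Q₀ Q hQ)) := eL.isSimpleGroup
  have hcardL : Nat.card ↥((omSO Q₀).subgroupOf (omPrime i Q₀ Q hQ))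
      = Nat.card (Cfsg.POmega F₀ ⇑Q₀) := Nat.card_congr eL.toEquiv
  -- `p` divides `|L|`
  have hpL : p ∣ Nat.card ↥((omSO Q₀).subgroupOf (omPrime i Q₀ Q hQ)) := by
    rw [← Nat.card_congr e.toEquiv,
      ← Subgroup.card_mul_index ((omSO Q₀).subgroupOf (omPrime i Q₀ Q hQ))] at hdvd
    rcases (Nat.Prime.dvd_mul hp).1 hdvd with h | h
    · exact h
    · have h3 : ((omSO Q₀).subgroupOf (omPrime i Q₀ Q hQ)).index ∣ 2 := by
        show (omSO Q₀).relIndex (omPrime i Q₀ Q hQ) ∣ 2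
        rw [← index_omSO Q₀ h2₀ hnd₀ (by rw [hfr₀]; omega)]
        exact Subgroup.relIndex_dvd_index_of_normal _ _
      have h4 : p = 2 := (Nat.prime_dvd_prime_iff_eq hp Nat.prime_two).1 (h.trans h3)
      rw [h4, hcardL]
      exact heven
  -- transport `M`
  have hM' : M.map e.symm.toMonoidHom = ⊥ := by
    haveI : (M.map e.symm.toMonoidHom).Normal := hMn.map _ e.symm.surjective
    apply eq_bot_of_normal_coprime hp.ne_one ((omSO Q₀).subgroupOf (omPrime i Q₀ Q hQ)) hLs hpL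
    · -- the centraliser of `L` is trivial
      intro x hx
      apply Subtype.ext
      apply hinj₀
      rw [Subgroup.coe_one, map_one]
      apply eq_one_of_commute_Inn hZ₀
      intro z hz
      rw [← map_omSO Q₀] at hz
      obtain ⟨t₀, ht₀, rfl⟩ := hz
      have h5 := hx ⟨t₀, hle ht₀⟩ (Subgroup.mem_subgroupOf.2 ht₀)
      have h6 : x.1 * t₀ = t₀ * x.1 := congrArg Subtype.val h5
      rw [← map_mul, ← map_mul, h6]
    · rw [Subgroup.card_map_of_injective e.symm.injective]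
      exact hMc
  exact (Subgroup.map_eq_bot_iff_of_injective _ e.symm.injective).1 hM'

include hQ hi h2 hnd hnd₀ hn ho in
/-- `Inn ∩ C(phi τ)` is nontrivial -/
theorem innCent_ne_bot (hsimple : IsSimpleGroup (Cfsg.POmega F₀ ⇑Q₀)) :
    innCent (phi Q hσQ τ) ≠ ⊥ := by
  have h2₀ : (2 : F₀) ≠ 0 := two_ne_zero_of_map i Q₀ Q hQ h2
  have hle : omSO Q₀ ≤ omPrime i Q₀ Q hQ := omSO_le_comap i Q₀ Q hQ h2 hnd₀
  have hZΩ : Subgroup.center ↥(Cfsg.Omega F₀ ⇑Q₀) = ⊥ := center_Omega_eq_bot_odd Q₀ h2₀ hnd₀ hn ho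
  obtain ⟨e⟩ := nonempty_omPrime_equiv i Q₀ Q hQ hσQ τ hi h2 hnd hn ho
  obtain ⟨eL⟩ := nonempty_L_equiv i Q₀ Q hQ hle hZΩ
  haveI : Nontrivial (Cfsg.POmega F₀ ⇑Q₀) := hsimple.toNontrivial
  obtain ⟨k, hk⟩ := exists_ne (1 : Cfsg.POmega F₀ ⇑Q₀)
  intro hbot
  have h3 : e (eL.symm k).1 = 1 := by
    have : (e (eL.symm k).1 : MulAut (Cfsg.POmega F ⇑Q)) ∈ innCent (phi Q hσQ τ) :=
      (e (eL.symm k).1).2
    exact Subtype.ext ((Subgroup.eq_bot_iff_forall _).1 hbot _ this)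
  have h4 : (eL.symm k).1 = 1 := e.injective (by rw [h3, map_one])
  have h5 : eL.symm k = 1 := Subtype.ext h4
  apply hk
  have := congrArg eL h5
  rwa [eL.apply_symm_apply, map_one] at this

end struct

end Cfsg.Agent.Helper37.Bal
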