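import Mathlib
import Cfsg.Agent.Helper37.BalC
import Cfsg.Agent.S2735
import Cfsg.Agent.S0295
import Cfsg.Agent.S0292

/-!
Helper37: the local-balance criterion for odd-dimensional orthogonal groups (S2731), assembly.
-/

set_option autoImplicit false
set_option linter.unusedSectionVars false

namespace Cfsg.Agent.Helper37.Bal

open Matrix Cfsg.Agent.Helper44 Cfsg.Agent.Helper12.GammaO Cfsg.Agent.Helper14.AutPSL
  Cfsg.Agent.Helper37.OddF

variable {F : Type*} [Field F]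

/-- `phi σ` is the field automorphism of `σ` in the sense of the Prelude -/
theorem isFieldAut_phi {ι : Type} [Fintype ι] [DecidableEq ι] (Q : QuadraticForm F (ι → F))
    (hσQ : ∀ (σ : F ≃+* F) (v : ι → F), Q (vmap (σ : F →+* F) v) = σ (Q v)) (σ : F ≃+* F) :
    Cfsg.IsFieldAutPOmegaOf ⇑Q σ (phi Q hσQ σ) := by
  have h1 := (Cfsg.Agent.Helper12.GammaO.isInduced_iff ⇑Q (stdField Q (hstd_of Q hσQ) σ)
    (phi Q hσQ σ)).2 rfl
  intro s s' hs
  apply h1 s s'
  rw [hs]
  show _ = (1 : Matrix _ _ F) * _ * ((1 : GL _ F)⁻¹ : GL _ F).1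
  rw [inv_one, Units.val_one, Matrix.one_mul, Matrix.mul_one]
  rfl

/-- the order of `PΩ_{2m+1}(q)` is even -/
theorem even_card_POmega_odd [Fintype F] (hodd : Odd (Fintype.card F)) {m : ℕ} (hm : 3 ≤ m) :
    2 ∣ Nat.card (Cfsg.POmega F (Cfsg.quadFormOdd m F)) := by
  have h1 := Cfsg.Agent.S0292.result (F := F) rfl hodd m hm
  obtain ⟨k, hk⟩ := hodd
  have h4 : 4 ∣ ∏ i ∈ Finset.range m, (Fintype.card F ^ (2 * (i + 1)) - 1) := by
    have h0 : 0 ∈ Finset.range m := Finset.mem_range.2 (by omega)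
    refine dvd_trans ?_ (Finset.dvd_prod_of_mem _ h0)
    rw [hk]
    refine ⟨k ^ 2 + k, ?_⟩
    have : (2 * k + 1) ^ (2 * (0 + 1)) = 4 * (k ^ 2 + k) + 1 := by ring
    rw [this]
    omega
  have h5 : 4 ∣ 2 * Nat.card (Cfsg.POmega F (Cfsg.quadFormOdd m F)) := by
    rw [h1]
    exact Dvd.dvd.mul_left h4 _
  omega

section main

variable [Fintype F] {m : ℕ}

/-- every automorphism is a special isometry times the standard field automorphism of its
`tau` -/
theorem exists_thetaSO_mul_phi_tau (h2 : (2 : F) ≠ 0)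
    (hnd : (QuadraticMap.polarBilin (oddForm m F)).Nondegenerate)
    (hn : 7 ≤ Fintype.card (Unit ⊕ (Fin m ⊕ Fin m)))
    (ho : Odd (Fintype.card (Unit ⊕ (Fin m ⊕ Fin m))))
    (htop : Cfsg.gammaPOmega F ⇑(oddForm m F) = ⊤)
    (y : MulAut (Cfsg.POmega F ⇑(oddForm m F))) :
    ∃ s : ↥(detHom ⇑(oddForm m F)).ker,
      y = thetaSO (oddForm m F) s
        * phi (oddForm m F) (oddForm_sigma m) (tau (oddForm m F) hnd hn htop y) := by
  have h1 : y * (phi (oddForm m F) (oddForm_sigma m) (tau (oddForm m F) hnd hn htop y))⁻¹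
      ∈ (tau (oddForm m F) hnd hn htop).ker := by
    rw [MonoidHom.mem_ker, map_mul, map_inv]
    have : tau (oddForm m F) hnd hn htop
        (phi (oddForm m F) (oddForm_sigma m) (tau (oddForm m F) hnd hn htop y))
        = tau (oddForm m F) hnd hn htop y := by
      unfold phi
      rw [tau_psi]
      rfl
    rw [this, mul_inv_cancel]
  rw [ker_tau, ← range_thetaSO (oddForm m F) h2 hnd ho] at h1
  obtain ⟨s, hs⟩ := h1
  refine ⟨s, ?_⟩
  rw [hs]
  group

/-- S2735, restated for `oddForm` -/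
theorem exists_conj_of_orderOf (hodd : Odd (Fintype.card F)) (hm : 3 ≤ m)
    (x δ : MulAut (Cfsg.POmega F ⇑(oddForm m F)))
    (hx : Cfsg.IsFieldAutClassPOmega ⇑(oddForm m F) x) {r : ℕ} (hr : r.Prime)
    (hxr : orderOf x = r) (hδ : δ ∈ Cfsg.pgoAut F ⇑(oddForm m F))
    (hord : orderOf (δ * x) = r) :
    ∃ h : MulAut (Cfsg.POmega F ⇑(oddForm m F)), δ * x = h * x * h⁻¹ := by
  obtain ⟨h, -, hh⟩ := (Cfsg.Agent.S2735.result hodd hm x δ hx hr hxr hδ).1 hord
  exact ⟨h, hh⟩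

/-- the local-balance criterion for `Ω_{2m+1}(q)` -/
theorem main_balance_odd (hodd : Odd (Fintype.card F)) (hm : 3 ≤ m)
    (A : Subgroup (MulAut (Cfsg.POmega F ⇑(oddForm m F))))
    (hinn : ∀ k : Cfsg.POmega F ⇑(oddForm m F), MulAut.conj k ∈ A) {p : ℕ} [hp : Fact p.Prime]
    (x : MulAut (Cfsg.POmega F ⇑(oddForm m F))) (hord : orderOf x = p)
    (hnot : ¬ Cfsg.IsSimilarityInducedAutPOmega ⇑(oddForm m F) x) :
    Cfsg.pPrimeCore p ↥(A ⊓ Subgroup.centralizer {x}) ≠ ⊥ ↔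
      (Cfsg.IsFieldAutClassPOmega ⇑(oddForm m F) x ∧
        Nat.Coprime p (Nat.card ↥(MonoidHom.eqLocus x.toMonoidHom
          (MonoidHom.id (Cfsg.POmega F ⇑(oddForm m F)))))) := by
  classical
  have h2 : (2 : F) ≠ 0 := Cfsg.Agent.Helper5.two_ne_zero_of_odd_card hodd
  have hnd := Cfsg.Agent.Helper5.nondegenerate_oddForm (F := F) h2 m
  have hn : 7 ≤ Fintype.card (Unit ⊕ (Fin m ⊕ Fin m)) := by
    rw [card_idx]
    omega
  have ho : Odd (Fintype.card (Unit ⊕ (Fin m ⊕ Fin m))) := by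
    rw [card_idx]
    exact ⟨m, rfl⟩
  have htop : Cfsg.gammaPOmega F ⇑(oddForm m F) = ⊤ := Cfsg.Agent.S2694.result hodd hm
  have hrange : (thetaSO (oddForm m F)).range = Cfsg.pgoAut F ⇑(oddForm m F) :=
    range_thetaSO (oddForm m F) h2 hnd ho
  have hZ : Subgroup.center (Cfsg.POmega F ⇑(oddForm m F)) = ⊥ :=
    center_quot_center_eq_bot (commutator_Omega_eq_top (oddForm m F) hnd hn)
  -- decompose `x`
  obtain ⟨s, hs⟩ := exists_thetaSO_mul_phi_tau h2 hnd hn ho htop x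
  obtain ⟨τ, hτ⟩ : ∃ τ, τ = tau (oddForm m F) hnd hn htop x := ⟨_, rfl⟩
  rw [← hτ] at hs
  have hτ1 : τ ≠ 1 := by
    intro h1
    apply hnot
    have h3 : phi (oddForm m F) (oddForm_sigma m) τ = 1 := by
      rw [h1, ← phiHom_apply, map_one]
    rw [h3, mul_one, thetaSO_eq] at hs
    refine ⟨s.1.1, isometryGroup_le_quadSimilarityGroup _ s.1.2, ?_⟩
    exact (Cfsg.Agent.Helper12.GammaO.isInduced_iff ⇑(oddForm m F)
      (ofSim (oddForm m F) (toGO (oddForm m F) s.1)) x).2 hs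
  have hτp : orderOf τ = p := by
    have h3 : τ ^ p = 1 := by
      rw [hτ, ← map_pow, ← hord, pow_orderOf_eq_one, map_one]
    have h4 := orderOf_dvd_of_pow_eq_one h3
    rcases (Nat.dvd_prime hp.out).1 h4 with h | h
    · exact absurd (orderOf_eq_one_iff.1 h) hτ1
    · exact h
  have hφp : orderOf (phi (oddForm m F) (oddForm_sigma m) τ) = p := by
    rw [← phiHom_apply, orderOf_injective _ (phiHom_injective h2 hm), hτp]
  have hφfield : Cfsg.IsFieldAutClassPOmega ⇑(oddForm m F)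
      (phi (oddForm m F) (oddForm_sigma m) τ) :=
    ⟨1, phi (oddForm m F) (oddForm_sigma m) τ, τ, hτ1,
      isFieldAut_phi (oddForm m F) (oddForm_sigma m) τ, by group⟩
  -- `x` is conjugate to the standard field automorphism
  have hδ : thetaSO (oddForm m F) s ∈ Cfsg.pgoAut F ⇑(oddForm m F) := by
    rw [← hrange]
    exact ⟨s, rfl⟩
  obtain ⟨h, hxh⟩ := exists_conj_of_orderOf hodd hm
    (phi (oddForm m F) (oddForm_sigma m) τ) (thetaSO (oddForm m F) s) hφfield hp.out hφp hδ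
    (by rw [← hs, hord])
  rw [← hs] at hxh
  have hxfield : Cfsg.IsFieldAutClassPOmega ⇑(oddForm m F) x :=
    ⟨h⁻¹, phi (oddForm m F) (oddForm_sigma m) τ, τ, hτ1,
      isFieldAut_phi (oddForm m F) (oddForm_sigma m) τ, by rw [hxh]; group⟩
  -- reduce to the standard field automorphism
  have hconj : h⁻¹ * x * h⁻¹⁻¹ = phi (oddForm m F) (oddForm_sigma m) τ := by
    rw [hxh]
    group
  have hcard : Nat.card ↥(MonoidHom.eqLocus x.toMonoidHom
      (MonoidHom.id (Cfsg.POmega F ⇑(oddForm m F))))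
      = Nat.card ↥(innCent (phi (oddForm m F) (oddForm_sigma m) τ)) := by
    rw [card_eqLocus_eq hZ x, ← hconj, card_innCent_conj]
  rw [pPrimeCore_ne_bot_conj_iff A x h⁻¹, hconj, hcard]
  have hinn' := conj_mem_map_conj A hinn h⁻¹
  -- the fixed field
  haveI hft : Fintype (fixF τ) := Fintype.ofFinite _
  have hi : ∀ a : F, τ a = a ↔ a ∈ ((fixF τ).subtype : ↥(fixF τ) →+* F).range := by
    intro a
    rw [← mem_fixF]
    constructor
    · intro ha
      exact ⟨⟨a, ha⟩, rfl⟩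
    · rintro ⟨b, rfl⟩
      exact b.2
  have hQi : ∀ v, (oddForm m F) (vmap (fixF τ).subtype v) = (fixF τ).subtype ((oddForm m ↥(fixF τ)) v) :=
    oddForm_vmap (fixF τ).subtype m
  have h2₀ : (2 : ↥(fixF τ)) ≠ 0 :=
    two_ne_zero_of_map (fixF τ).subtype (oddForm m ↥(fixF τ)) (oddForm m F) hQi h2
  have hnd₀ := Cfsg.Agent.Helper5.nondegenerate_oddForm (F := ↥(fixF τ)) h2₀ m
  have hodd₀ : Odd (Fintype.card ↥(fixF τ)) := by
    have h5 := card_fixF_pow τ
    rw [h5] at hodd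
    exact (Nat.odd_pow_iff (by rw [hτp]; exact hp.out.ne_zero)).1 hodd
  have hsimple : IsSimpleGroup (Cfsg.POmega ↥(fixF τ) ⇑(oddForm m ↥(fixF τ))) :=
    Cfsg.Agent.S0295.result hodd₀ m hm
  have heven : 2 ∣ Nat.card (Cfsg.POmega ↥(fixF τ) ⇑(oddForm m ↥(fixF τ))) :=
    even_card_POmega_odd hodd₀ hm
  constructor
  · intro hcore
    refine ⟨hxfield, ?_⟩
    by_contra hnc
    have hdvd : p ∣ Nat.card ↥(innCent (phi (oddForm m F) (oddForm_sigma m) τ)) := by
      by_contra hnd'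
      exact hnc ((Nat.Prime.coprime_iff_not_dvd hp.out).2 hnd')
    apply hcore
    apply pPrimeCore_eq_bot_of _ hinn' _ hφp
    · intro y hy1 hy2
      exact mem_zpowers_phi (fixF τ).subtype (oddForm m ↥(fixF τ)) (oddForm m F) hQi
        (oddForm_sigma m) (oddForm_sigma m) τ hi h2 hnd hnd₀ hn ho htop y hy1 hy2
    · intro M hMn hMc
      exact innCent_no_normal (fixF τ).subtype (oddForm m ↥(fixF τ)) (oddForm m F) hQi
        (oddForm_sigma m) τ hi h2 hnd hnd₀ hn ho hp.out hdvd hsimple heven M hMn hMc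
  · rintro ⟨-, hcop⟩
    apply pPrimeCore_ne_bot_of_coprime _ hinn'
    · exact innCent_ne_bot (fixF τ).subtype (oddForm m ↥(fixF τ)) (oddForm m F) hQi
        (oddForm_sigma m) τ hi h2 hnd hnd₀ hn ho hsimple
    · exact hcop.symm

end main

end Cfsg.Agent.Helper37.Bal
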