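-- (G1) of helper95's WANTED #4845 (Blichfeldt / Jordan, S4465 + S4469): a finite commutative group has a Hall
-- subgroup for every set of primes (helper37).
import Mathlib

set_option autoImplicit false

namespace Cfsg.Agent.Helper37.Blich

theorem exists_hall_of_comm {G : Type*} [Group G] [Finite G] (hcomm : ∀ x y : G, x * y = y * x)
    (P : ℕ → Prop) :
    ∃ A : Subgroup G, (∀ q : ℕ, q.Prime → q ∣ Nat.card A → P q) ∧
      (∀ q : ℕ, q.Prime → q ∣ A.index → ¬ P q) := by
  classical
  let A : Subgroup G :=
    { carrier := {g | ∀ q : ℕ, q.Prime → q ∣ orderOf g → P q}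
      one_mem' := by
        intro q hq hd
        rw [orderOf_one] at hd
        exact absurd (Nat.dvd_one.1 hd) hq.ne_one
      mul_mem' := by
        intro x y hx hy q hq hd
        have h1 : orderOf (x * y) ∣ Nat.lcm (orderOf x) (orderOf y) :=
          (show Commute x y from hcomm x y).orderOf_mul_dvd_lcm
        have h2 : q ∣ orderOf x * orderOf y :=
          (hd.trans h1).trans (Nat.lcm_dvd_mul _ _)
        rcases hq.dvd_mul.1 h2 with h | h
        · exact hx q hq h
        · exact hy q hq h
      inv_mem' := by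
        intro x hx q hq hd
        rw [orderOf_inv] at hd
        exact hx q hq hd }
  refine ⟨A, ?_, ?_⟩
  · intro q hq hd
    have : Fact q.Prime := ⟨hq⟩
    obtain ⟨a, ha⟩ := exists_prime_orderOf_dvd_card' q hd
    have hmem := a.2 q hq
    rw [← Subgroup.orderOf_coe] at ha
    exact hmem (by rw [ha])
  · intro q hq hd hPq
    have : Fact q.Prime := ⟨hq⟩
    obtain ⟨S⟩ : Nonempty (Sylow q G) := inferInstance
    have hSA : (S : Subgroup G) ≤ A := by
      intro g hg r hr hrd
      obtain ⟨k, hk⟩ := (IsPGroup.iff_orderOf.1 S.isPGroup') ⟨g, hg⟩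
      rw [Subgroup.orderOf_mk] at hk
      rw [hk] at hrd
      have : r = q := (Nat.prime_dvd_prime_iff_eq hr hq).1 (hr.dvd_of_dvd_pow hrd)
      rw [this]
      exact hPq
    have h1 : Nat.card (S : Subgroup G) ∣ Nat.card A := Subgroup.card_dvd_of_le hSA
    have h2 : Nat.card (S : Subgroup G) = q ^ (Nat.card G).factorization q :=
      Sylow.card_eq_multiplicity S
    rw [h2] at h1
    generalize he : (Nat.card G).factorization q = e at h1
    have h3 : q ^ (e + 1) ∣ Nat.card A * A.index := by
      rw [pow_succ]
      exact Nat.mul_dvd_mul h1 hd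
    rw [Subgroup.card_mul_index, ← he] at h3
    exact Nat.pow_succ_factorization_not_dvd (Nat.card_pos (α := G)).ne' hq h3

end Cfsg.Agent.Helper37.Blich
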