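-- (JC) of helper95's WANTED #4845 (Jordan bound, S4469): the arithmetic that assembles the prime-by-prime bounds
-- into `N ≤ n! * 12 ^ (n (π(n+1) + 1))` (helper37).
import Mathlib

set_option autoImplicit false

namespace Cfsg.Agent.Helper37.Blich

open Finset

/-- a product of powers of distinct primes, each dividing `M`, divides `M` -/
lemma prod_prime_pow_dvd (s : Finset ℕ) (e : ℕ → ℕ) (M : ℕ) (hs : ∀ p ∈ s, p.Prime)
    (hd : ∀ p ∈ s, p ^ e p ∣ M) : ∏ p ∈ s, p ^ e p ∣ M := by
  classical
  induction s using Finset.induction_on with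
  | empty => simp
  | insert a r har ih =>
    rw [Finset.prod_insert har]
    apply Nat.Coprime.mul_dvd_of_dvd_of_dvd
    · apply Nat.Coprime.prod_right
      intro i hi
      have hne : a ≠ i := fun h => har (h ▸ hi)
      exact Nat.Coprime.pow _ _
        ((Nat.coprime_primes (hs a (mem_insert_self _ _)) (hs i (mem_insert_of_mem hi))).2 hne)
    · exact hd a (mem_insert_self _ _)
    · exact ih (fun p hp => hs p (mem_insert_of_mem hp)) (fun p hp => hd p (mem_insert_of_mem hp))

theorem jordan_arith (N n : ℕ) (hN : 0 < N)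
    (h1 : ∀ p : ℕ, p.Prime → p ≤ n + 1 → ∃ a : ℕ, p ^ a ∣ n.factorial ∧ ordProj[p] N ≤ p ^ a * 12 ^ n)
    (h2 : ∃ M : ℕ, 0 < M ∧ M ≤ 12 ^ n ∧ ∀ q : ℕ, q.Prime → n + 1 < q → ordProj[q] N ∣ M) :
    N ≤ n.factorial * 12 ^ (n * (Nat.primeCounting (n + 1) + 1)) := by
  classical
  obtain ⟨M, hM0, hM12, hM⟩ := h2
  choose! a ha using h1
  have hNprod : ∏ p ∈ N.primeFactors, p ^ N.factorization p = N := by
    have := Nat.factorization_prod_pow_eq_self hN.ne'
    rwa [Finsupp.prod, Nat.support_factorization] at this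
  set S1 := N.primeFactors.filter (fun p => p ≤ n + 1) with hS1
  set S2 := N.primeFactors.filter (fun p => ¬ p ≤ n + 1) with hS2
  have hsplit : (∏ p ∈ S1, p ^ N.factorization p) * (∏ p ∈ S2, p ^ N.factorization p) = N := by
    rw [hS1, hS2, Finset.prod_filter_mul_prod_filter_not]
    exact hNprod
  have hprime1 : ∀ p ∈ S1, p.Prime := fun p hp => Nat.prime_of_mem_primeFactors (mem_filter.1 hp).1
  have hprime2 : ∀ p ∈ S2, p.Prime := fun p hp => Nat.prime_of_mem_primeFactors (mem_filter.1 hp).1
  -- the large primes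
  have hP2 : ∏ p ∈ S2, p ^ N.factorization p ≤ 12 ^ n := by
    have hdvd : ∏ p ∈ S2, p ^ N.factorization p ∣ M :=
      prod_prime_pow_dvd S2 _ M hprime2 (fun p hp => hM p (hprime2 p hp) (by
        have := (mem_filter.1 hp).2
        omega))
    exact (Nat.le_of_dvd hM0 hdvd).trans hM12
  -- the small primes
  have hcard : S1.card ≤ Nat.primeCounting (n + 1) := by
    have hsub : S1 ⊆ (Finset.range (n + 1 + 1)).filter Nat.Prime := by
      intro p hp
      rw [mem_filter, mem_range]
      exact ⟨by have := (mem_filter.1 hp).2; omega, hprime1 p hp⟩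
    have := Finset.card_le_card hsub
    rwa [← Nat.count_eq_card_filter_range] at this
  have hP1 : ∏ p ∈ S1, p ^ N.factorization p ≤
      n.factorial * 12 ^ (n * Nat.primeCounting (n + 1)) := by
    calc ∏ p ∈ S1, p ^ N.factorization p ≤ ∏ p ∈ S1, (p ^ a p * 12 ^ n) :=
          Finset.prod_le_prod (fun _ _ => Nat.zero_le _)
            (fun p hp => (ha p (hprime1 p hp) (mem_filter.1 hp).2).2)
      _ = (∏ p ∈ S1, p ^ a p) * 12 ^ (n * S1.card) := by
          rw [Finset.prod_mul_distrib, Finset.prod_const, ← pow_mul]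
      _ ≤ n.factorial * 12 ^ (n * Nat.primeCounting (n + 1)) := by
          apply Nat.mul_le_mul
          · exact Nat.le_of_dvd (Nat.factorial_pos n)
              (prod_prime_pow_dvd S1 a _ hprime1
                (fun p hp => (ha p (hprime1 p hp) (mem_filter.1 hp).2).1))
          · exact Nat.pow_le_pow_right (by norm_num) (Nat.mul_le_mul_left n hcard)
  calc N = (∏ p ∈ S1, p ^ N.factorization p) * (∏ p ∈ S2, p ^ N.factorization p) := hsplit.symm
    _ ≤ (n.factorial * 12 ^ (n * Nat.primeCounting (n + 1))) * 12 ^ n := Nat.mul_le_mul hP1 hP2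
    _ = n.factorial * 12 ^ (n * (Nat.primeCounting (n + 1) + 1)) := by
        rw [mul_assoc, ← pow_add, mul_add, mul_one]

end Cfsg.Agent.Helper37.Blich
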