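import Mathlib
import Cfsg.Agent.Helper77.Blk.Defs
import Cfsg.Agent.Helper67.ClassTwo

/-!
# (K2) of helper77's S3888 farm (Blackburn): on `{u | (u^p)^p = 1}` the `p`-power map is
multiplicative in a `p`-central `p`-group, `p` odd — from (K) and the class-two power formula.
-/

set_option autoImplicit false

universe u

namespace Cfsg.Agent.Helper37.Blk

open Subgroup Cfsg.Agent.Helper77.Blk

section pcentral
variable {p : ℕ} [hp : Fact p.Prime]

/-- (K2) consequence of (K): on `{u | (u^p)^p = 1}` the `p`-power map is multiplicative. -/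
theorem propK2 (hp2 : p ≠ 2) (hK : PropK.{u} p) : PropK2.{u} p := by
  intro C _ _ hC hPC u v hu hv
  have h2 : 2 < p := lt_of_le_of_ne hp.out.two_le (Ne.symm hp2)
  obtain ⟨k, hk⟩ : p ∣ p.choose 2 := hp.out.dvd_choose_self (by norm_num) h2
  set z : C := v * u * v⁻¹ * u⁻¹ with hz
  have hzrel : v * u = z * (u * v) := by rw [hz]; group
  have hzp : z ^ p = 1 := by
    have key := hK C hC hPC v⁻¹ u⁻¹ (by rw [inv_pow, inv_pow, hv, inv_one])
    simpa [hz, inv_inv] using key
  have hzc : z ∈ Subgroup.center C := hPC z hzp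
  rw [Subgroup.mem_center_iff] at hzc
  have hform := Cfsg.Agent.Helper67.mul_pow_of_commutator_commute hzrel
    (hzc u).symm (hzc v).symm p
  rw [hform, hk, pow_mul, hzp, one_pow, one_mul]

end pcentral

end Cfsg.Agent.Helper37.Blk
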