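import Mathlib

set_option autoImplicit false

namespace Cfsg.Agent.Helper37.Borel

open Matrix

variable {F : Type*} [Field F]

/-- the entrywise condition cutting out the invertible lower triangular matrices -/
def entryCond {n : ℕ} (i j : Fin n) (x : F) : Prop := (i < j → x = 0) ∧ (i = j → x ≠ 0)

lemma det_lower {n : ℕ} (M : Matrix (Fin n) (Fin n) F) (h : ∀ i j : Fin n, i < j → M i j = 0) :
    M.det = ∏ i, M i i := by
  apply Matrix.det_of_isLowerTriangular
  intro i j hij
  exact h i j hij

/-- invertible lower triangular matrices as a subtype of all matrices -/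
noncomputable def borelEquivMat (n : ℕ) :
    {g : GL (Fin n) F // ∀ i j : Fin n, i < j → (g : Matrix (Fin n) (Fin n) F) i j = 0} ≃
      {M : Fin n → Fin n → F // ∀ i j, entryCond i j (M i j)} where
  toFun g := ⟨g.1.1, fun i j => ⟨g.2 i j, by
    rintro rfl
    have hdet : (g.1.1).det ≠ 0 := ((Matrix.isUnit_iff_isUnit_det g.1.1).1 g.1.isUnit).ne_zero
    rw [det_lower _ g.2] at hdet
    exact fun h0 => hdet (Finset.prod_eq_zero (Finset.mem_univ i) h0)⟩⟩
  invFun M := ⟨GeneralLinearGroup.mkOfDetNeZero (Matrix.of M.1) (by
    rw [det_lower (Matrix.of M.1) (fun i j hij => (M.2 i j).1 hij)]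
    exact Finset.prod_ne_zero_iff.2 (fun i _ => (M.2 i i).2 rfl)), fun i j hij => (M.2 i j).1 hij⟩
  left_inv g := by
    apply Subtype.ext
    apply Units.ext
    rfl
  right_inv M := by
    apply Subtype.ext
    rfl

lemma card_entry [Fintype F] {n : ℕ} (i j : Fin n) :
    Nat.card {x : F // entryCond i j x} =
      if i.val < j.val then 1 else if i.val = j.val then Fintype.card F - 1 else Fintype.card F := by
  by_cases h1 : i < j
  · have h1' : i.val < j.val := h1
    rw [if_pos h1']
    have : {x : F // entryCond i j x} ≃ Unit :=
      { toFun := fun _ => ()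
        invFun := fun _ => ⟨0, fun _ => rfl, fun h => absurd h (ne_of_lt h1)⟩
        left_inv := by
          rintro ⟨x, hx⟩
          exact Subtype.ext (hx.1 h1).symm
        right_inv := fun _ => rfl }
    rw [Nat.card_congr this]
    simp
  · have h1' : ¬ i.val < j.val := h1
    rw [if_neg h1']
    by_cases h2 : i = j
    · have h2' : i.val = j.val := congrArg Fin.val h2
      rw [if_pos h2']
      have : {x : F // entryCond i j x} ≃ Fˣ :=
        { toFun := fun x => Units.mk0 x.1 (x.2.2 h2)
          invFun := fun u => ⟨u.1, fun h => absurd h h1, fun _ => u.ne_zero⟩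
          left_inv := fun x => rfl
          right_inv := fun u => Units.ext rfl }
      rw [Nat.card_congr this, Nat.card_units, Nat.card_eq_fintype_card]
    · have h2' : ¬ i.val = j.val := fun h => h2 (Fin.ext h)
      rw [if_neg h2']
      have : {x : F // entryCond i j x} ≃ F :=
        { toFun := fun x => x.1
          invFun := fun x => ⟨x, fun h => absurd h h1, fun h => absurd h h2⟩
          left_inv := fun x => rfl
          right_inv := fun x => rfl }
      rw [Nat.card_congr this, Nat.card_eq_fintype_card]

lemma prod_row (q a n : ℕ) :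
    ∏ k ∈ Finset.range n, (if a < k then 1 else if a = k then q - 1 else q) =
      if n ≤ a then q ^ n else (q - 1) * q ^ a := by
  induction n with
  | zero => simp
  | succ n ih =>
    rw [Finset.prod_range_succ, ih]
    rcases lt_trichotomy n a with h | h | h
    · rw [if_pos h.le, if_neg (by omega), if_neg (by omega), if_pos (by omega), pow_succ]
    · subst h
      rw [if_pos le_rfl, if_neg (lt_irrefl _), if_pos rfl, if_neg (by omega), mul_comm]
    · rw [if_neg (by omega), if_pos h, if_neg (by omega), mul_one]

theorem card_borel [Fintype F] (n : ℕ) :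
    Nat.card {g : GL (Fin n) F // ∀ i j : Fin n, i < j → (g : Matrix (Fin n) (Fin n) F) i j = 0} =
      Fintype.card F ^ (n * (n - 1) / 2) * (Fintype.card F - 1) ^ n := by
  rw [Nat.card_congr (borelEquivMat n),
    Nat.card_congr (Equiv.subtypePiEquivPi (p := fun i (f : Fin n → F) => ∀ j, entryCond i j (f j))),
    Nat.card_pi]
  have hrow : ∀ i : Fin n, Nat.card {f : Fin n → F // ∀ j, entryCond i j (f j)} =
      (Fintype.card F - 1) * Fintype.card F ^ i.val := by
    intro i
    rw [Nat.card_congr (Equiv.subtypePiEquivPi (p := fun j (x : F) => entryCond i j x)),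
      Nat.card_pi]
    simp_rw [card_entry]
    rw [Fin.prod_univ_eq_prod_range (fun k => if i.val < k then 1 else
      if i.val = k then Fintype.card F - 1 else Fintype.card F) n, prod_row,
      if_neg (by have := i.2; omega)]
  simp_rw [hrow]
  rw [Finset.prod_mul_distrib, Finset.prod_const, Finset.card_univ, Fintype.card_fin,
    Finset.prod_pow_eq_pow_sum, Fin.sum_univ_eq_sum_range (fun k => k) n, Finset.sum_range_id,
    mul_comm]

end Cfsg.Agent.Helper37.Borel
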