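import Mathlib
import Cfsg.Agent.Helper48.Averaging

/-!
# Piece (CG) of #6088 (S4284, helper2): coprime generation

`coprime_generation`: two commuting automorphisms `α, β` of order dividing `p` of a finite abelian `p'`-group `V`;
if the fixed points of `β` and of all `α β^i` lie in `Z₀` then `Z₀ = ⊤`.  `coprime_generation'` is the internal
form for an abelian subgroup `B` of a finite group normalized by two elements `g, h`.
-/

set_option autoImplicit false

namespace Cfsg.Agent.Helper37.CS2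

open Subgroup Cfsg.Agent.Helper48

theorem coprime_generation {V : Type*} [CommGroup V] [Finite V] {p : ℕ} [Fact p.Prime]
    (hp : ¬ p ∣ Nat.card V) (Z₀ : Subgroup V) (α β : MulAut V) (hα : α ^ p = 1) (hβ : β ^ p = 1)
    (hc : Commute α β) (hβfix : ∀ v, β v = v → v ∈ Z₀)
    (hfix : ∀ i : ℕ, ∀ v, (α * β ^ i) v = v → v ∈ Z₀) : Z₀ = ⊤ := by
  rw [eq_top_iff]
  intro v _
  have hid := averaging_identity (p := p) hβ hc v
  have hpow : ∀ i : ℕ, (α * β ^ i) ^ p = 1 := by
    intro i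
    rw [(hc.pow_right i).mul_pow, hα, one_mul, ← pow_mul, mul_comm, pow_mul, hβ, one_pow]
  have h1 : ∀ i : ZMod p, trAut p (α * β ^ i.val) v ∈ Z₀ :=
    fun i => hfix i.val _ (trAut_fixed (hpow i.val) v)
  have h2 : trAut p β v ∈ Z₀ := hβfix _ (trAut_fixed hβ v)
  have h3 : trAut p α (trAut p β v) ∈ Z₀ := by
    have h := hfix 0 (trAut p α (trAut p β v))
    rw [pow_zero, mul_one] at h
    exact h (trAut_fixed hα _)
  have hprod : (∏ i : ZMod p, trAut p (α * β ^ i.val) v) ∈ Z₀ :=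
    Subgroup.prod_mem _ (fun i _ => h1 i)
  have hvp : v ^ p ∈ Z₀ := by
    have h : v ^ p = (∏ i : ZMod p, trAut p (α * β ^ i.val) v) * trAut p β v *
        (trAut p α (trAut p β v))⁻¹ := by
      rw [hid, mul_inv_cancel_right]
    rw [h]
    exact Z₀.mul_mem (Z₀.mul_mem hprod h2) (Z₀.inv_mem h3)
  have hcop : p.Coprime (orderOf v) := by
    rw [(Fact.out : p.Prime).coprime_iff_not_dvd]
    exact fun h => hp (h.trans (orderOf_dvd_natCard v))
  obtain ⟨k, hk⟩ := exists_pow_eq_self_of_coprime hcop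
  rw [← hk]
  exact Z₀.pow_mem hvp k

/-- In a finite group, an element conjugating a subgroup into itself normalizes it. -/
theorem mem_normalizer_of_conj_mem {G : Type*} [Group G] [Finite G] (B : Subgroup G) (g : G)
    (hg : ∀ b ∈ B, g * b * g⁻¹ ∈ B) : g ∈ normalizer (B : Set G) := by
  have hpow : ∀ k : ℕ, ∀ b ∈ B, g ^ k * b * (g ^ k)⁻¹ ∈ B := by
    intro k
    induction k with
    | zero => intro b hb; simpa using hb
    | succ k ih =>
      intro b hb
      have h := hg _ (ih b hb)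
      have e : g ^ (k + 1) * b * (g ^ (k + 1))⁻¹ = g * (g ^ k * b * (g ^ k)⁻¹) * g⁻¹ := by
        rw [pow_succ']; group
      rw [e]
      exact h
  rw [Subgroup.mem_normalizer_iff]
  intro x
  refine ⟨hg x, fun hx => ?_⟩
  have hn : 0 < orderOf g := orderOf_pos g
  have hinv : g ^ (orderOf g - 1) = g⁻¹ := by
    rw [eq_inv_iff_mul_eq_one, ← pow_succ, Nat.sub_add_cancel hn, pow_orderOf_eq_one]
  have h := hpow (orderOf g - 1) _ hx
  rw [hinv] at h
  have e : g⁻¹ * (g * x * g⁻¹) * g⁻¹⁻¹ = x := by group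
  rwa [e] at h

theorem coprime_generation' {G : Type*} [Group G] [Finite G] {p : ℕ} [Fact p.Prime] (B : Subgroup G)
    (hBab : ∀ a ∈ B, ∀ b ∈ B, a * b = b * a) (hBp : ¬ p ∣ Nat.card B) (g h : G)
    (hg : ∀ b ∈ B, g * b * g⁻¹ ∈ B) (hh : ∀ b ∈ B, h * b * h⁻¹ ∈ B)
    (hgp : ∀ b ∈ B, g ^ p * b = b * g ^ p) (hhp : ∀ b ∈ B, h ^ p * b = b * h ^ p)
    (hgh : ∀ b ∈ B, (g * h * g⁻¹ * h⁻¹) * b = b * (g * h * g⁻¹ * h⁻¹)) (Z₀ : Subgroup G)
    (hfixh : ∀ b ∈ B, h * b = b * h → b ∈ Z₀)
    (hfix : ∀ i : ℕ, ∀ b ∈ B, (g * h ^ i) * b = b * (g * h ^ i) → b ∈ Z₀) : B ≤ Z₀ := by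
  let _ : CommGroup B := { (inferInstance : Group B) with
    mul_comm := fun u v => Subtype.ext (hBab u u.2 v v.2) }
  let φ : normalizer (B : Set G) →* MulAut B := Subgroup.normalizerMonoidHom B
  have hφ : ∀ (c : normalizer (B : Set G)) (w : B), ((φ c w : B) : G) = (c : G) * w * (c : G)⁻¹ :=
    fun c w => rfl
  -- an element of the normalizer centralizing `B` acts trivially
  have hφ1 : ∀ c : normalizer (B : Set G), (∀ b ∈ B, (c : G) * b = b * (c : G)) → φ c = 1 := by
    intro c hcb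
    ext w
    rw [hφ, hcb w w.2, mul_inv_cancel_right]
    rfl
  -- fixed points
  have hφfix : ∀ (c : normalizer (B : Set G)) (w : B), φ c w = w → (c : G) * w = w * (c : G) := by
    intro c w hw
    have h1 : (c : G) * w * (c : G)⁻¹ = w := by rw [← hφ, hw]
    calc (c : G) * w = ((c : G) * w * (c : G)⁻¹) * (c : G) := by group
      _ = w * (c : G) := by rw [h1]
  let g' : normalizer (B : Set G) := ⟨g, mem_normalizer_of_conj_mem B g hg⟩
  let h' : normalizer (B : Set G) := ⟨h, mem_normalizer_of_conj_mem B h hh⟩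
  have hαp : (φ g') ^ p = 1 := by
    rw [← map_pow]
    exact hφ1 _ (fun b hb => by simpa using hgp b hb)
  have hβp : (φ h') ^ p = 1 := by
    rw [← map_pow]
    exact hφ1 _ (fun b hb => by simpa using hhp b hb)
  have hcomm : Commute (φ g') (φ h') := by
    have h1 : φ (g' * h' * g'⁻¹ * h'⁻¹) = 1 := hφ1 _ (fun b hb => by simpa using hgh b hb)
    rw [map_mul, map_mul, map_mul, map_inv, map_inv, mul_inv_eq_one, mul_inv_eq_iff_eq_mul] at h1
    exact h1
  have key := coprime_generation (p := p) hBp (Z₀.subgroupOf B) (φ g') (φ h') hαp hβp hcomm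
    (fun v hv => by
      rw [Subgroup.mem_subgroupOf]
      exact hfixh v v.2 (hφfix h' v hv))
    (fun i v hv => by
      rw [Subgroup.mem_subgroupOf]
      have h1 : φ g' * φ h' ^ i = φ (g' * h' ^ i) := by rw [map_mul, map_pow]
      rw [h1] at hv
      have h2 := hφfix _ v hv
      exact hfix i v v.2 (by simpa using h2))
  intro b hb
  have h1 : (⟨b, hb⟩ : B) ∈ Z₀.subgroupOf B := by rw [key]; exact Subgroup.mem_top _
  rw [Subgroup.mem_subgroupOf] at h1
  exact h1

end Cfsg.Agent.Helper37.CS2
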