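import Mathlib
import Cfsg.Agent.Helper37.CS2CG

/-!
# Piece (Acyc) of #6088 (S4284, helper2)

`caseA_index`: `M` abelian normal of `t`-power index, `G/M` of exponent `t`, elements outside `M` act semiregularly
on `M` modulo the centre, and `M` has a noncentral `t'`-element: then `|G : M| = t`.
-/

set_option autoImplicit false

namespace Cfsg.Agent.Helper37.CS2

open Subgroup

/-- The elements of order prime to `t` of an abelian subgroup `M`. -/
def primeToPart {G : Type*} [Group G] (M : Subgroup G) (hMab : ∀ u ∈ M, ∀ v ∈ M, u * v = v * u)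
    (t : ℕ) : Subgroup G where
  carrier := {v | v ∈ M ∧ (orderOf v).Coprime t}
  one_mem' := ⟨M.one_mem, by simp⟩
  mul_mem' := by
    rintro a b ⟨haM, ha⟩ ⟨hbM, hb⟩
    refine ⟨M.mul_mem haM hbM, ?_⟩
    have hc : Commute a b := hMab a haM b hbM
    exact Nat.Coprime.coprime_dvd_left (hc.orderOf_mul_dvd_lcm.trans (Nat.lcm_dvd_mul _ _))
      (Nat.Coprime.mul_left ha hb)
  inv_mem' := by
    rintro a ⟨haM, ha⟩
    exact ⟨M.inv_mem haM, by rwa [orderOf_inv]⟩

theorem mem_primeToPart {G : Type*} [Group G] (M : Subgroup G)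
    (hMab : ∀ u ∈ M, ∀ v ∈ M, u * v = v * u) (t : ℕ) (v : G) :
    v ∈ primeToPart M hMab t ↔ v ∈ M ∧ (orderOf v).Coprime t := Iff.rfl

theorem primeToPart_card {G : Type*} [Group G] [Finite G] (M : Subgroup G)
    (hMab : ∀ u ∈ M, ∀ v ∈ M, u * v = v * u) (t : ℕ) [Fact t.Prime] :
    ¬ t ∣ Nat.card (primeToPart M hMab t) := by
  intro hdvd
  obtain ⟨x, hx⟩ := exists_prime_orderOf_dvd_card' t hdvd
  have h1 : (orderOf (x : G)).Coprime t := x.2.2
  rw [Subgroup.orderOf_coe, hx, Nat.coprime_self] at h1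
  exact (Fact.out : t.Prime).one_lt.ne' h1

theorem primeToPart_conj_mem {G : Type*} [Group G] (M : Subgroup G) [M.Normal]
    (hMab : ∀ u ∈ M, ∀ v ∈ M, u * v = v * u) (t : ℕ) (g : G) :
    ∀ b ∈ primeToPart M hMab t, g * b * g⁻¹ ∈ primeToPart M hMab t := by
  rintro b ⟨hbM, hb⟩
  refine ⟨‹M.Normal›.conj_mem b hbM g, ?_⟩
  have h := (MulAut.conj g).orderOf_eq b
  rw [MulAut.conj_apply] at h
  rwa [h]

theorem caseA_index {G : Type*} [Group G] [Finite G] {t : ℕ} [Fact t.Prime] (M : Subgroup G) [M.Normal]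
    (hMab : ∀ u ∈ M, ∀ v ∈ M, u * v = v * u)
    (hsr : ∀ g : G, g ∉ M → ∀ v ∈ M, g * v = v * g → v ∈ center G)
    (hexp : ∀ g : G, g ^ t ∈ M) (hidx : ∃ a : ℕ, M.index = t ^ a) (hMne : M ≠ ⊤)
    (hu : ∃ u ∈ M, (orderOf u).Coprime t ∧ u ∉ center G) : M.index = t := by
  have htp : t.Prime := Fact.out
  by_contra hne
  obtain ⟨a, ha⟩ := hidx
  have ha2 : 2 ≤ a := by
    rcases a with _ | _ | a
    · exact absurd (Subgroup.index_eq_one.mp (by simpa using ha)) hMne
    · exact absurd (by simpa using ha) hne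
    · omega
  -- the quotient
  have hcardQ : Nat.card (G ⧸ M) = t ^ a := by rw [← Subgroup.index_eq_card, ha]
  have hQp : IsPGroup t (G ⧸ M) := IsPGroup.of_card hcardQ
  have hQnt : Nontrivial (G ⧸ M) := by
    apply Finite.one_lt_card_iff_nontrivial.mp
    rw [hcardQ]
    exact Nat.one_lt_pow (by omega) htp.one_lt
  have hcnt := hQp.center_nontrivial
  obtain ⟨z, hz⟩ := exists_ne (1 : center (G ⧸ M))
  obtain ⟨g, hg⟩ := QuotientGroup.mk_surjective (z : G ⧸ M)
  have hg1 : (g : G ⧸ M) ≠ 1 := by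
    intro h
    apply hz
    apply Subtype.ext
    rw [← hg, h]
    rfl
  have hgM : g ∉ M := fun h => hg1 ((QuotientGroup.eq_one_iff g).mpr h)
  have hgcen : ∀ y : G ⧸ M, y * (g : G ⧸ M) = (g : G ⧸ M) * y := by
    intro y
    rw [hg]
    exact Subgroup.mem_center_iff.mp z.2 y
  have hpowQ : ∀ y : G ⧸ M, y ^ t = 1 := by
    intro y
    obtain ⟨y', rfl⟩ := QuotientGroup.mk_surjective y
    rw [← QuotientGroup.mk_pow]
    exact (QuotientGroup.eq_one_iff _).mpr (hexp y')
  have hordg : orderOf (g : G ⧸ M) = t := orderOf_eq_prime (hpowQ _) hg1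
  -- an element outside the cyclic group generated by the image of `g`
  obtain ⟨hbar, hhbar⟩ : ∃ y : G ⧸ M, y ∉ zpowers (g : G ⧸ M) := by
    by_contra hall
    simp only [not_exists, not_not] at hall
    have htop : zpowers (g : G ⧸ M) = ⊤ := (Subgroup.eq_top_iff' _).mpr hall
    have h1 : Nat.card (zpowers (g : G ⧸ M)) = Nat.card (G ⧸ M) := by
      rw [htop]
      exact Nat.card_congr Subgroup.topEquiv.toEquiv
    rw [Nat.card_zpowers, hordg, hcardQ] at h1
    have h2 : t ^ 1 < t ^ a := Nat.pow_lt_pow_right htp.one_lt (by omega)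
    rw [pow_one] at h2
    omega
  obtain ⟨h, rfl⟩ := QuotientGroup.mk_surjective hbar
  have hh1 : (h : G ⧸ M) ≠ 1 := fun h1 => hhbar (h1 ▸ Subgroup.one_mem _)
  have hhM : h ∉ M := fun hm => hh1 ((QuotientGroup.eq_one_iff h).mpr hm)
  have hordh : orderOf (h : G ⧸ M) = t := orderOf_eq_prime (hpowQ _) hh1
  have hghM : ∀ i : ℕ, g * h ^ i ∉ M := by
    intro i hm
    have h1 : (g : G ⧸ M) * (h : G ⧸ M) ^ i = 1 := by
      rw [← QuotientGroup.mk_pow, ← QuotientGroup.mk_mul]
      exact (QuotientGroup.eq_one_iff _).mpr hm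
    have h2 : (h : G ⧸ M) ^ i = (g : G ⧸ M)⁻¹ := (eq_inv_of_mul_eq_one_right h1)
    by_cases hti : t ∣ i
    · obtain ⟨j, rfl⟩ := hti
      rw [pow_mul, hpowQ, one_pow] at h2
      exact hg1 (inv_eq_one.mp h2.symm)
    · have hcop : i.Coprime (orderOf (h : G ⧸ M)) := by
        rw [hordh]
        exact ((Nat.Prime.coprime_iff_not_dvd htp).mpr hti).symm
      obtain ⟨j, hj⟩ := exists_pow_eq_self_of_coprime hcop
      apply hhbar
      rw [← hj, h2]
      exact Subgroup.pow_mem _ (Subgroup.inv_mem _ (Subgroup.mem_zpowers _)) _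
  -- the commutator of `g` and `h` lies in `M`
  have hcommM : g * h * g⁻¹ * h⁻¹ ∈ M := by
    rw [← QuotientGroup.eq_one_iff]
    simp only [QuotientGroup.mk_mul, QuotientGroup.mk_inv]
    rw [← hgcen (h : G ⧸ M)]
    group
  -- coprime generation
  have hB := coprime_generation' (p := t) (primeToPart M hMab t)
    (fun x hx y hy => hMab x hx.1 y hy.1) (primeToPart_card M hMab t) g h
    (primeToPart_conj_mem M hMab t g) (primeToPart_conj_mem M hMab t h)
    (fun b hb => hMab _ (hexp g) b hb.1) (fun b hb => hMab _ (hexp h) b hb.1)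
    (fun b hb => hMab _ hcommM b hb.1) (center G)
    (fun b hb hc => hsr h hhM b hb.1 hc)
    (fun i b hb hc => hsr _ (hghM i) b hb.1 hc)
  obtain ⟨u, huM, huc, huZ⟩ := hu
  exact huZ (hB ⟨huM, huc⟩)

end Cfsg.Agent.Helper37.CS2
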