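import Cfsg.Agent.Helper40.E6Tor.Defs2

/-!
# helper40's S2373 farm #14814, piece (SIG27): `sigmaGL_x27GL` (helper37)

Also the general `mapGL_x27GL`: a ring homomorphism applied entrywise to a root element of the
`27`-dimensional model.
-/

set_option autoImplicit false
set_option linter.unusedVariables false
set_option linter.unusedSectionVars false

namespace Cfsg.Agent.Helper37.E6Tor

open Cfsg Cfsg.Lie Cfsg.Agent.Helper18 Cfsg.Agent.Helper19.Cox Cfsg.Agent.Helper19.Poinc
  Cfsg.Agent.Helper80.Tor Cfsg.Agent.Helper36.TorD Cfsg.Agent.Helper83.E6C Cfsg.Agent.Helper40.E6Tor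
open Polynomial

/-- a ring homomorphism applied entrywise to a root element of the `27`-dimensional model -/
theorem mapGL_x27GL {A B : Type*} [Field A] [Field B] (f : A →+* B) (r : ℕ) (t : A) :
    Matrix.GeneralLinearGroup.map f (x27GL A r t) = x27GL B r (f t) := by
  apply Units.ext
  ext a b
  show f ((x27 A r t) a b) = (x27 B r (f t)) a b
  unfold x27 xr
  simp only [Matrix.add_apply, Matrix.smul_apply, Matrix.one_apply, Emat_apply, smul_eq_mul,
    map_add, map_mul, map_intCast]
  split_ifs <;> simp

section SC

variable {F : Type*} {K : Type*} [Field F] [Fintype F] [Field K] [Fintype K] [Algebra F K]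

/-- (SIG27) the Frobenius on root elements, `27`-dimensional model -/
theorem sigmaGL_x27GL (r : ℕ) (t : K) :
    sigmaGL I27 F K (x27GL K r t) = x27GL K r (t ^ Fintype.card F) := by
  unfold sigmaGL
  rw [mapGL_x27GL, frobK_apply]

end SC

end Cfsg.Agent.Helper37.E6Tor
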