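import Cfsg.Agent.Helper40.E6Tor.Defs2
import Cfsg.Agent.Helper37.E6Tor_SIG27

/-!
# helper40's S2373 farm #14814, piece (IOTA27): `iotaGL_word27` (helper37)
-/

set_option autoImplicit false
set_option linter.unusedVariables false
set_option linter.unusedSectionVars false

namespace Cfsg.Agent.Helper37.E6Tor

open Cfsg Cfsg.Lie Cfsg.Agent.Helper18 Cfsg.Agent.Helper19.Cox Cfsg.Agent.Helper19.Poinc
  Cfsg.Agent.Helper80.Tor Cfsg.Agent.Helper36.TorD Cfsg.Agent.Helper83.E6C Cfsg.Agent.Helper40.E6Tor
open Polynomial

/-- a ring homomorphism applied entrywise to a word of root elements of the `27`-dimensional model -/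
theorem mapGL_word27 {A B : Type*} [Field A] [Field B] (f : A →+* B) (w : List (ℕ × A)) :
    Matrix.GeneralLinearGroup.map f (word27 A w) = word27 B (w.map fun p => (p.1, f p.2)) := by
  unfold word27
  rw [map_list_prod, List.map_map, List.map_map]
  congr 1
  apply List.map_congr_left
  intro p _
  exact mapGL_x27GL f p.1 p.2

section SC

variable {F : Type*} {K : Type*} [Field F] [Fintype F] [Field K] [Fintype K] [Algebra F K]

/-- (IOTA27) scalar extension of words, `27`-dimensional model -/
theorem iotaGL_word27 (w : List (ℕ × F)) :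
    iotaGL I27 F K (word27 F w) = word27 K (w.map fun p => (p.1, algebraMap F K p.2)) := by
  unfold iotaGL
  exact mapGL_word27 (algebraMap F K) w

end SC

end Cfsg.Agent.Helper37.E6Tor
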