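import Cfsg.Agent.Helper40.E6Tor.Defs2

/-!
# helper40's S2373 farm #14814, piece (TSIG27): `sigmaGL_tauT` (helper37)
-/

set_option autoImplicit false
set_option linter.unusedVariables false
set_option linter.unusedSectionVars false

namespace Cfsg.Agent.Helper37.E6Tor

open Cfsg Cfsg.Lie Cfsg.Agent.Helper18 Cfsg.Agent.Helper19.Cox Cfsg.Agent.Helper19.Poinc
  Cfsg.Agent.Helper80.Tor Cfsg.Agent.Helper36.TorD Cfsg.Agent.Helper83.E6C Cfsg.Agent.Helper40.E6Tor
open Polynomial

section SC

variable {F : Type*} {K : Type*} [Field F] [Fintype F] [Field K] [Fintype K] [Algebra F K]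

/-- (TSIG27) the Frobenius on the torus -/
theorem sigmaGL_tauT (c : Fin 6 → Kˣ) : sigmaGL I27 F K (tauT K c) = tauT K (c ^ Fintype.card F) := by
  apply Units.ext
  ext a b
  show frobK F K (((tauT K c : GL I27 K) : Matrix I27 I27 K) a b) =
    ((tauT K (c ^ Fintype.card F) : GL I27 K) : Matrix I27 I27 K) a b
  rw [tauT_val, tauT_val, map_pow, Matrix.diagonal_apply, Matrix.diagonal_apply]
  split_ifs with h
  · rw [frobK_apply, Pi.pow_apply, Units.val_pow_eq_pow_val]
  · rw [map_zero]

end SC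

end Cfsg.Agent.Helper37.E6Tor
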