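import Mathlib
import Cfsg.Agent.Helper37.EvFG
import Cfsg.Agent.Helper37.BalA

/-!
Helper37: the local-balance criterion for minus-type orthogonal groups (S2733), field part A:
generic lemmas.
-/

set_option autoImplicit false
set_option linter.unusedSectionVars false

namespace Cfsg.Agent.Helper37.Fld

open Matrix Cfsg.Agent.Helper44 Cfsg.Agent.Helper12.GammaO Cfsg.Agent.Helper14.AutPSL
  Cfsg.Agent.Helper37.OddF

/-- if `P / N` has order at most two, `δ ∈ P`, and `x₀`, `δ x₀` both have odd order `p`, then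
`δ ∈ N` -/
theorem mem_of_pow_eq_one {G : Type*} [Group G] (N P : Subgroup G) [hN : N.Normal]
    [hP : P.Normal]
    (h2 : ∀ u v : G, u ∈ P → v ∈ P → u ∉ N → v ∉ N → u * v ∈ N)
    {p : ℕ} (hp : Odd p) (δ x₀ : G) (hδ : δ ∈ P) (hx₀ : x₀ ^ p = 1) (hx : (δ * x₀) ^ p = 1) :
    δ ∈ N := by
  by_contra hδN
  have hdd : ((δ : G) : G ⧸ N) * ((δ : G) : G ⧸ N) = 1 := by
    rw [← QuotientGroup.mk_mul, QuotientGroup.eq_one_iff]
    exact h2 δ δ hδ hδ hδN hδN
  have hc1 : x₀ * δ * x₀⁻¹ ∈ P := hP.conj_mem δ hδ x₀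
  have hc2 : x₀ * δ * x₀⁻¹ ∉ N := by
    intro h
    apply hδN
    have := hN.conj_mem _ h x₀⁻¹
    have e : x₀⁻¹ * (x₀ * δ * x₀⁻¹) * x₀⁻¹⁻¹ = δ := by group
    rwa [e] at this
  have hc3 : ((x₀ : G) : G ⧸ N) * ((δ : G) : G ⧸ N) * ((x₀ : G) : G ⧸ N)⁻¹ * ((δ : G) : G ⧸ N) = 1 := by
    rw [← QuotientGroup.mk_inv, ← QuotientGroup.mk_mul, ← QuotientGroup.mk_mul,
      ← QuotientGroup.mk_mul, QuotientGroup.eq_one_iff]
    exact h2 _ _ hc1 hδ hc2 hδN
  have hcomm : Commute ((δ : G) : G ⧸ N) ((x₀ : G) : G ⧸ N) := by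
    have h3 : ((x₀ : G) : G ⧸ N) * ((δ : G) : G ⧸ N) * ((x₀ : G) : G ⧸ N)⁻¹
        = ((δ : G) : G ⧸ N) := by
      have h4 : ((δ : G) : G ⧸ N)⁻¹ = ((δ : G) : G ⧸ N) := inv_eq_of_mul_eq_one_left hdd
      rw [eq_inv_of_mul_eq_one_left hc3, h4]
    show ((δ : G) : G ⧸ N) * ((x₀ : G) : G ⧸ N) = ((x₀ : G) : G ⧸ N) * ((δ : G) : G ⧸ N)
    calc ((δ : G) : G ⧸ N) * ((x₀ : G) : G ⧸ N)
        = (((x₀ : G) : G ⧸ N) * ((δ : G) : G ⧸ N) * ((x₀ : G) : G ⧸ N)⁻¹) * ((x₀ : G) : G ⧸ N) := by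
          rw [h3]
      _ = ((x₀ : G) : G ⧸ N) * ((δ : G) : G ⧸ N) := by group
  have h5 : (((δ : G) : G ⧸ N) * ((x₀ : G) : G ⧸ N)) ^ p = 1 := by
    rw [← QuotientGroup.mk_mul, ← QuotientGroup.mk_pow, hx]
    rfl
  rw [hcomm.mul_pow, ← QuotientGroup.mk_pow N x₀, hx₀, QuotientGroup.mk_one, mul_one] at h5
  obtain ⟨k, rfl⟩ := hp
  rw [pow_succ, pow_mul, pow_two, hdd, one_pow, one_mul] at h5
  exact hδN ((QuotientGroup.eq_one_iff δ).1 h5)

/-- a binary form with coefficients fixed by an automorphism `σ` of odd order, anisotropic over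
the fixed field of `σ`, is anisotropic -/
theorem aniso_of_fixed {F : Type*} [Field F] (σ : F ≃+* F) {p : ℕ} (hp : Odd p) (hσp : σ ^ p = 1)
    (a b : F) (ha : σ a = a) (hb : σ b = b)
    (h₀ : ∀ z₁ z₂ : F, σ z₁ = z₁ → σ z₂ = z₂ → z₁ ^ 2 + a * z₁ * z₂ + b * z₂ ^ 2 = 0 →
      z₁ = 0 ∧ z₂ = 0) :
    ∀ z₁ z₂ : F, z₁ ^ 2 + a * z₁ * z₂ + b * z₂ ^ 2 = 0 → z₁ = 0 ∧ z₂ = 0 := by
  intro z₁ z₂ h
  by_cases hz₂ : z₂ = 0
  · rw [hz₂] at h
    have : z₁ ^ 2 = 0 := by linear_combination h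
    exact ⟨pow_eq_zero_iff (two_ne_zero) |>.1 this, hz₂⟩
  exfalso
  -- a root `t` of `T² + aT + b`
  obtain ⟨t, ht⟩ : ∃ t : F, t ^ 2 + a * t + b = 0 := by
    refine ⟨z₁ / z₂, ?_⟩
    field_simp
    linear_combination h
  have hroot : ∀ u : F, u ^ 2 + a * u + b = 0 → σ u ^ 2 + a * σ u + b = 0 := by
    intro u hu
    have := congrArg σ hu
    rw [map_add, map_add, map_pow, map_mul, ha, hb, map_zero] at this
    exact this
  have hfix : σ t = t := by
    by_contra hne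
    have h1 := hroot t ht
    -- any root is `t` or `σ t`
    have hall : ∀ u : F, u ^ 2 + a * u + b = 0 → u = t ∨ u = σ t := by
      intro u hu
      have e1 : (σ t - t) * (σ t + t + a) = 0 := by linear_combination h1 - ht
      have e2 : σ t + t + a = 0 := by
        rcases mul_eq_zero.1 e1 with h | h
        · exact absurd (sub_eq_zero.1 h) hne
        · exact h
      have e3 : (u - t) * (u + t + a) = 0 := by linear_combination hu - ht
      rcases mul_eq_zero.1 e3 with h | h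
      · exact Or.inl (sub_eq_zero.1 h)
      · right
        linear_combination h - e2
    have h2 : σ (σ t) = t := by
      rcases hall _ (hroot _ h1) with h | h
      · exact h
      · exact absurd (σ.injective h) hne
    have h3 : ∀ k : ℕ, (σ ^ (2 * k)) t = t := by
      intro k
      induction k with
      | zero => simp
      | succ k ih =>
        have : 2 * (k + 1) = 2 * k + 2 := by ring
        rw [this, pow_add, RingAut.mul_apply, pow_two, RingAut.mul_apply, h2, ih]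
    obtain ⟨k, rfl⟩ := hp
    have h4 : (σ ^ (2 * k + 1)) t = σ t := by
      rw [pow_succ', RingAut.mul_apply, h3]
    rw [hσp] at h4
    exact hne h4.symm
  obtain ⟨h5, h6⟩ := h₀ t 1 hfix (map_one σ) (by linear_combination ht)
  exact one_ne_zero h6

end Cfsg.Agent.Helper37.Fld
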