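import Mathlib
import Cfsg.Agent.Helper37.FldA
import Cfsg.Agent.Helper37.BalB

/-!
Helper37: the local-balance criterion for minus-type orthogonal groups (S2733), field part B:
squares of isometries lie in `Ω`; fourth powers of similarity-induced automorphisms are inner;
the structure of `Inn ∩ C(phi1 σ)`.
-/

set_option autoImplicit false
set_option linter.unusedSectionVars false

namespace Cfsg.Agent.Helper37.Fld

open Matrix Cfsg.Agent.Helper44 Cfsg.Agent.Helper12.GammaO Cfsg.Agent.Helper14.AutPSL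
  Cfsg.Agent.Helper37.OddF Cfsg.Agent.Helper37.Bal

variable {F₀ F : Type*} [Field F₀] [Field F] {ι : Type} [Fintype ι] [DecidableEq ι]

section single

variable [Fintype F] (Q : QuadraticForm F (ι → F))

/-- the square of an isometry lies in `Ω` -/
theorem sq_mem_Omega (hnd : (QuadraticMap.polarBilin Q).Nondegenerate)
    (h4 : Fintype.card ι ≠ 4) (s : ↥(Cfsg.isometryGroup F ⇑Q)) : s * s ∈ Cfsg.Omega F ⇑Q := by
  obtain ⟨vs, hvs, rfl⟩ := exists_list_reflT Q hnd (Or.inr h4) s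
  have h1 : (vs.map (reflT Q)).prod * (vs.map (reflT Q)).prod
      = ((vs ++ vs).map (reflT Q)).prod := by
    rw [List.map_append, List.prod_append]
  have hvs' : ∀ v ∈ vs ++ vs, Q v ≠ 0 := by
    intro v hv
    rcases List.mem_append.1 hv with h | h <;> exact hvs v h
  rw [h1]
  by_cases h2 : (2 : F) = 0
  · haveI : CharP F 2 := CharTwo.of_one_ne_zero_of_two_eq_zero one_ne_zero h2
    rw [prod_reflT_mem_Omega_iff_two Q hnd (Or.inr h4) _ hvs', List.length_append]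
    exact ⟨vs.length, rfl⟩
  · rw [Cfsg.Agent.Helper44.prod_reflT_mem_Omega_iff Q h2 _ hvs', List.length_append,
      List.map_append, List.prod_append]
    exact ⟨⟨vs.length, rfl⟩, ⟨_, rfl⟩⟩

/-- the fourth power of a similarity-induced automorphism is inner -/
theorem conjAut_pow_four_mem_Inn (hnd : (QuadraticMap.polarBilin Q).Nondegenerate)
    (h4 : Fintype.card ι ≠ 4) {t : ι → F} (ht : Q t ≠ 0)
    (g : ↥(Cfsg.Geo.quadSimilarityGroup (F := F) ⇑Q)) :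
    conjAut ⇑Q g ^ 4 ∈ Cfsg.Inn (Cfsg.POmega F ⇑Q) := by
  obtain ⟨μ, hμ⟩ : ∃ μ, μ = multHom ⇑Q ht g := ⟨_, rfl⟩
  have h1 : multHom ⇑Q ht (g * g * (scalarGO Q μ)⁻¹) = 1 := by
    rw [map_mul, map_mul, map_inv, multHom_scalarGO, ← hμ]
    exact mul_inv_cancel _
  have h2 := mem_isometryGroup_of_multHom ⇑Q ht _ h1
  obtain ⟨s, hs⟩ : ∃ s : ↥(Cfsg.isometryGroup F ⇑Q), toGO Q s = g * g * (scalarGO Q μ)⁻¹ :=
    ⟨⟨(g * g * (scalarGO Q μ)⁻¹).1, h2⟩, Subtype.ext rfl⟩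
  have hk : conjAut ⇑Q (scalarGO Q μ) = 1 :=
    MonoidHom.mem_ker.1 (mem_ker_of_mem_scalars ⇑Q _ (scalarGO_mem_scalars Q μ))
  have h5 : conjAut ⇑Q (toGO Q s) = conjAut ⇑Q g ^ 2 := by
    rw [hs, map_mul, map_mul, map_inv, hk, inv_one, mul_one, pow_two]
  have h6 : conjAut ⇑Q g ^ 4 = conjAut ⇑Q (toGO Q (s * s)) := by
    rw [map_mul, map_mul, h5, ← pow_add]
  rw [h6, Inn_eq_map]
  exact ⟨toGO Q (s * s), Subgroup.mem_subgroupOf.2 ⟨s * s, sq_mem_Omega Q hnd h4 s, rfl⟩, rfl⟩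

/-- the preimage of `Inn` in the similarity group -/
noncomputable def GI : Subgroup ↥(Cfsg.Geo.quadSimilarityGroup (F := F) ⇑Q) :=
  (Cfsg.Inn (Cfsg.POmega F ⇑Q)).comap (conjAut ⇑Q)

theorem map_GI : (GI Q).map (conjAut ⇑Q) = Cfsg.Inn (Cfsg.POmega F ⇑Q) := by
  unfold GI
  rw [Subgroup.map_comap_eq, inf_eq_right, Inn_eq_map]
  exact Subgroup.map_le_range _ _

theorem scalarGO_mem_GI (c : Fˣ) : scalarGO Q c ∈ GI Q := by
  have hk : scalarGO Q c ∈ (conjAut ⇑Q).ker :=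
    mem_ker_of_mem_scalars ⇑Q _ (scalarGO_mem_scalars _ c)
  show conjAut ⇑Q (scalarGO Q c) ∈ Cfsg.Inn (Cfsg.POmega F ⇑Q)
  rw [MonoidHom.mem_ker.1 hk]
  exact Subgroup.one_mem _

end single

section descent

variable [Fintype F₀] [Fintype F] (i : F₀ →+* F) (Q₀ : QuadraticForm F₀ (ι → F₀))
  (Q : QuadraticForm F (ι → F)) (hQ : ∀ v : ι → F₀, Q (vmap i v) = i (Q₀ v))
  (σ : F ≃+* F) (hσ : ∀ v : ι → F, Q (vmap (σ : F →+* F) v) = σ (Q v))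
  (hi : ∀ a : F, σ a = a ↔ a ∈ i.range)

/-- the similarities over `F₀` inducing inner automorphisms of `PΩ(Q)` -/
noncomputable def GI₀ : Subgroup ↥(Cfsg.Geo.quadSimilarityGroup (F := F₀) ⇑Q₀) :=
  (GI Q).comap (goIncl i Q₀ Q hQ)

theorem isoIncl_mem_Omega_gen {s₀ : ↥(Cfsg.isometryGroup F₀ ⇑Q₀)}
    (hs₀ : s₀ ∈ Cfsg.Omega F₀ ⇑Q₀) : isoIncl i Q₀ Q hQ s₀ ∈ Cfsg.Omega F ⇑Q :=
  map_mem_commutator (isoIncl i Q₀ Q hQ) hs₀

theorem Inn_le_map_GI₀ :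
    Cfsg.Inn (Cfsg.POmega F₀ ⇑Q₀) ≤ (GI₀ i Q₀ Q hQ).map (conjAut ⇑Q₀) := by
  rw [Inn_eq_map]
  rintro _ ⟨g, hg, rfl⟩
  obtain ⟨s, hs, hsg⟩ := Subgroup.mem_subgroupOf.1 hg
  refine ⟨g, ?_, rfl⟩
  have hgs : g = toGO Q₀ s := Subtype.ext hsg.symm
  show conjAut ⇑Q (goIncl i Q₀ Q hQ g) ∈ Cfsg.Inn (Cfsg.POmega F ⇑Q)
  rw [hgs, goIncl_toGO, Inn_eq_map]
  exact ⟨toGO Q (isoIncl i Q₀ Q hQ s),
    Subgroup.mem_subgroupOf.2 ⟨_, isoIncl_mem_Omega_gen i Q₀ Q hQ hs, rfl⟩, rfl⟩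

include hi in
/-- `Inn ∩ C(phi1 σ)` is isomorphic to a group between `Inn(PΩ(Q₀))` and `PGO(Q₀)` -/
theorem nonempty_innCent_equiv {t₀ : ι → F₀} (ht₀ : Q₀ t₀ ≠ 0)
    (hnd : (QuadraticMap.polarBilin Q).Nondegenerate)
    (hnd₀ : (QuadraticMap.polarBilin Q₀).Nondegenerate) (hn : 7 ≤ Fintype.card ι) :
    Nonempty (↥(innCent (phi1 Q σ hσ)) ≃* ↥((GI₀ i Q₀ Q hQ).map (conjAut ⇑Q₀))) := by
  obtain ⟨e2⟩ := nonempty_centralizer_equiv_G i Q₀ Q hQ σ hσ hi (GI Q) (GI₀ i Q₀ Q hQ)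
    (scalarGO_mem_GI Q) (fun _ => Iff.rfl) ht₀ hnd hnd₀ hn
  rw [map_GI] at e2
  exact ⟨e2⟩

include hQ hi in
/-- `Inn ∩ C(phi1 σ)` has no nontrivial normal `p'`-subgroup when `p` is odd and divides its
order -/
theorem innCent_no_normal_minus {p : ℕ} (hp : p.Prime) (hpodd : Odd p)
    (hdvd : p ∣ Nat.card ↥(innCent (phi1 Q σ hσ)))
    (hsimple : IsSimpleGroup (Cfsg.POmega F₀ ⇑Q₀)) {t₀ : ι → F₀} (ht₀ : Q₀ t₀ ≠ 0)
    (hnd : (QuadraticMap.polarBilin Q).Nondegenerate)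
    (hnd₀ : (QuadraticMap.polarBilin Q₀).Nondegenerate) (hn : 7 ≤ Fintype.card ι)
    (M : Subgroup ↥(innCent (phi1 Q σ hσ))) (hMn : M.Normal)
    (hMc : (Nat.card ↥M).Coprime p) : M = ⊥ := by
  have h4 : Fintype.card ι ≠ 4 := by omega
  have hZ₀ : Subgroup.center (Cfsg.POmega F₀ ⇑Q₀) = ⊥ :=
    center_quot_center_eq_bot (commutator_Omega_eq_top Q₀ hnd₀ hn)
  obtain ⟨e⟩ := nonempty_innCent_equiv i Q₀ Q hQ σ hσ hi ht₀ hnd hnd₀ hn
  have hle := Inn_le_map_GI₀ i Q₀ Q hQ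
  -- `L = Inn(PΩ(Q₀))` inside `I₀`
  have e1 := Subgroup.subgroupOfEquivOfLe hle
  have hinj : Function.Injective (MulAut.conj : Cfsg.POmega F₀ ⇑Q₀ →* MulAut _) := by
    rw [injective_iff_map_eq_one]
    intro x hx
    have : x ∈ Subgroup.center (Cfsg.POmega F₀ ⇑Q₀) := by
      rw [Subgroup.mem_center_iff]
      intro g
      have h5 := congrArg (fun ψ : MulAut (Cfsg.POmega F₀ ⇑Q₀) => ψ g) hx
      simp only [MulAut.conj_apply, MulAut.one_apply] at h5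
      calc g * x = (x * g * x⁻¹) * x := by rw [h5]
        _ = x * g := by group
    rwa [hZ₀, Subgroup.mem_bot] at this
  have e2 : Cfsg.POmega F₀ ⇑Q₀ ≃* ↥(Cfsg.Inn (Cfsg.POmega F₀ ⇑Q₀)) :=
    MonoidHom.ofInjective hinj
  haveI hLs : IsSimpleGroup ↥((Cfsg.Inn (Cfsg.POmega F₀ ⇑Q₀)).subgroupOf
      ((GI₀ i Q₀ Q hQ).map (conjAut ⇑Q₀))) := (e1.trans e2.symm).isSimpleGroup
  -- `p` divides `|L|`
  have hpL : p ∣ Nat.card ↥((Cfsg.Inn (Cfsg.POmega F₀ ⇑Q₀)).subgroupOf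
      ((GI₀ i Q₀ Q hQ).map (conjAut ⇑Q₀))) := by
    rw [Nat.card_congr e.toEquiv] at hdvd
    haveI : Fact p.Prime := ⟨hp⟩
    obtain ⟨z, hz⟩ := exists_prime_orderOf_dvd_card' p hdvd
    have hz4 : z ^ 4 ∈ (Cfsg.Inn (Cfsg.POmega F₀ ⇑Q₀)).subgroupOf
        ((GI₀ i Q₀ Q hQ).map (conjAut ⇑Q₀)) := by
      rw [Subgroup.mem_subgroupOf]
      obtain ⟨g₀, -, hg₀⟩ := z.2
      rw [Subgroup.coe_pow, ← hg₀]
      exact conjAut_pow_four_mem_Inn Q₀ hnd₀ h4 ht₀ g₀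
    have ho : orderOf (z ^ 4) = p := by
      rw [Nat.Coprime.orderOf_pow, hz]
      rw [hz]
      have : Nat.Coprime p 2 := (Nat.coprime_primes hp Nat.prime_two).2 (by
        rintro rfl
        exact absurd hpodd (by decide))
      have h22 : (4 : ℕ) = 2 * 2 := rfl
      rw [h22]
      exact Nat.Coprime.mul_right this this
    rw [← ho]
    exact Subgroup.orderOf_dvd_natCard _ hz4
  have hM' : M.map e.toMonoidHom = ⊥ := by
    haveI : (M.map e.toMonoidHom).Normal := hMn.map _ e.surjective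
    apply eq_bot_of_normal_coprime hp.ne_one ((Cfsg.Inn (Cfsg.POmega F₀ ⇑Q₀)).subgroupOf
      ((GI₀ i Q₀ Q hQ).map (conjAut ⇑Q₀))) hLs hpL
    · intro x hx
      apply Subtype.ext
      rw [Subgroup.coe_one]
      apply eq_one_of_commute_Inn hZ₀
      intro z hz
      have h5 := hx ⟨z, hle hz⟩ (Subgroup.mem_subgroupOf.2 hz)
      exact congrArg Subtype.val h5
    · rw [Subgroup.card_map_of_injective e.injective]
      exact hMc
  exact (Subgroup.map_eq_bot_iff_of_injective _ e.injective).1 hM'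

include hQ hi in
/-- `Inn ∩ C(phi1 σ)` is nontrivial -/
theorem innCent_ne_bot_minus (hsimple : IsSimpleGroup (Cfsg.POmega F₀ ⇑Q₀)) {t₀ : ι → F₀}
    (ht₀ : Q₀ t₀ ≠ 0) (hnd : (QuadraticMap.polarBilin Q).Nondegenerate)
    (hnd₀ : (QuadraticMap.polarBilin Q₀).Nondegenerate) (hn : 7 ≤ Fintype.card ι) :
    innCent (phi1 Q σ hσ) ≠ ⊥ := by
  have hZ₀ : Subgroup.center (Cfsg.POmega F₀ ⇑Q₀) = ⊥ :=
    center_quot_center_eq_bot (commutator_Omega_eq_top Q₀ hnd₀ hn)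
  obtain ⟨e⟩ := nonempty_innCent_equiv i Q₀ Q hQ σ hσ hi ht₀ hnd hnd₀ hn
  have hle := Inn_le_map_GI₀ i Q₀ Q hQ
  haveI : Nontrivial (Cfsg.POmega F₀ ⇑Q₀) := hsimple.toNontrivial
  obtain ⟨k, hk⟩ := exists_ne (1 : Cfsg.POmega F₀ ⇑Q₀)
  intro hbot
  have h1 : e.symm ⟨MulAut.conj k, hle ⟨k, rfl⟩⟩ = 1 := by
    apply Subtype.ext
    exact (Subgroup.eq_bot_iff_forall _).1 hbot _ (e.symm ⟨MulAut.conj k, hle ⟨k, rfl⟩⟩).2
  have h2 : (⟨MulAut.conj k, hle ⟨k, rfl⟩⟩ : ↥((GI₀ i Q₀ Q hQ).map (conjAut ⇑Q₀))) = 1 := by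
    have := congrArg e h1
    rwa [e.apply_symm_apply, map_one] at this
  have h3 : MulAut.conj k = 1 := congrArg Subtype.val h2
  apply hk
  have h4 : k ∈ Subgroup.center (Cfsg.POmega F₀ ⇑Q₀) := by
    rw [Subgroup.mem_center_iff]
    intro g
    have h5 := congrArg (fun ψ : MulAut (Cfsg.POmega F₀ ⇑Q₀) => ψ g) h3
    simp only [MulAut.conj_apply, MulAut.one_apply] at h5
    calc g * k = (k * g * k⁻¹) * k := by rw [h5]
      _ = k * g := by group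
  rwa [hZ₀, Subgroup.mem_bot] at h4

end descent

end Cfsg.Agent.Helper37.Fld
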