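import Mathlib
import Cfsg.Agent.Helper37.BalA

/-!
Helper37: local balance for minus-type orthogonal groups (S2733), graph involutions, part A:
an abstract criterion for the absence of normal subgroups of odd order.
-/

set_option autoImplicit false
set_option linter.unusedSectionVars false

namespace Cfsg.Agent.Helper37.Gr

/-- an element of odd order whose square is trivial is trivial -/
theorem eq_one_of_sq_of_odd {G : Type*} [Group G] {z : G} {o : ℕ} (ho : Odd o) (hzo : z ^ o = 1)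
    (hz2 : z * z = 1) : z = 1 := by
  obtain ⟨j, rfl⟩ := ho
  have h1 : z ^ (2 * j + 1) = (z * z) ^ j * z := by
    rw [pow_succ, pow_mul, pow_two]
  rw [h1, hz2, one_pow, one_mul] at hzo
  exact hzo

/-- an element of odd order is a power of its square -/
theorem eq_pow_sq_of_odd {G : Type*} [Group G] {z : G} {o : ℕ} (ho : Odd o) (hzo : z ^ o = 1) :
    ∃ j : ℕ, z = (z * z) ^ j := by
  obtain ⟨j, rfl⟩ := ho
  refine ⟨j + 1, ?_⟩
  have h1 : (z * z) ^ (j + 1) = z ^ (2 * j + 1) * z := by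
    rw [← pow_two, ← pow_mul, ← pow_succ]
    congr 1
  rw [h1, hzo, one_mul]

/-- **no normal subgroups of odd order**: `I` a finite group, `Cb ≤ I` containing all squares,
`L₁, L₂ ≤ Cb` normalised by `Cb`, without non-trivial normal subgroups of odd order, such that
the elements of `Cb` centralising `L₁` and `L₂` have trivial square. -/
theorem eq_bot_of_blocks {G : Type*} [Group G] (I Cb L₁ L₂ : Subgroup G) [Finite ↥I]
    (hL₁I : L₁ ≤ I) (hL₂I : L₂ ≤ I)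
    (hsq : ∀ z ∈ I, z * z ∈ Cb)
    (hn₁ : ∀ c ∈ Cb, ∀ l ∈ L₁, c * l * c⁻¹ ∈ L₁) (hn₂ : ∀ c ∈ Cb, ∀ l ∈ L₂, c * l * c⁻¹ ∈ L₂)
    (hS₁ : ∀ N : Subgroup G, N ≤ L₁ → (∀ l ∈ L₁, ∀ n ∈ N, l * n * l⁻¹ ∈ N) → Finite ↥N →
      Odd (Nat.card ↥N) → N = ⊥)
    (hS₂ : ∀ N : Subgroup G, N ≤ L₂ → (∀ l ∈ L₂, ∀ n ∈ N, l * n * l⁻¹ ∈ N) → Finite ↥N →
      Odd (Nat.card ↥N) → N = ⊥)
    (hZ : ∀ z ∈ Cb, (∀ l ∈ L₁, z * l = l * z) → (∀ l ∈ L₂, z * l = l * z) → z * z = 1)
    (M : Subgroup ↥I) (hM : M.Normal) (hodd : Odd (Nat.card ↥M)) : M = ⊥ := by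
  classical
  -- the image of `M` in `G`
  set M' : Subgroup G := M.map I.subtype with hM'
  have hM'I : M' ≤ I := by
    rintro _ ⟨z, _, rfl⟩
    exact z.2
  have hcard : Nat.card ↥M' = Nat.card ↥M :=
    Nat.card_congr (M.equivMapOfInjective I.subtype I.subtype_injective).symm.toEquiv
  haveI : Finite ↥M' := Finite.of_injective
    (fun z : ↥M' => (⟨z.1, hM'I z.2⟩ : ↥I)) (fun a b h => Subtype.ext (by
      have := congrArg Subtype.val h
      exact this))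
  have hM'n : ∀ c ∈ I, ∀ n ∈ M', c * n * c⁻¹ ∈ M' := by
    rintro c hc _ ⟨z, hz, rfl⟩
    exact ⟨⟨c, hc⟩ * z * ⟨c, hc⟩⁻¹, hM.conj_mem z hz ⟨c, hc⟩, rfl⟩
  -- elements of `M'` have odd order
  have hord : ∀ z ∈ M', z ^ (Nat.card ↥M') = 1 := by
    intro z hz
    have h1 : (⟨z, hz⟩ : ↥M') ^ (Nat.card ↥M') = 1 := pow_card_eq_one'
    exact congrArg Subtype.val h1
  have hodd' : Odd (Nat.card ↥M') := by rw [hcard]; exact hodd
  -- `M' ≤ Cb`
  have hMC : M' ≤ Cb := by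
    intro z hz
    obtain ⟨j, hj⟩ := eq_pow_sq_of_odd hodd' (hord z hz)
    rw [hj]
    exact Subgroup.pow_mem _ (hsq z (hM'I hz)) j
  -- the intersections with the blocks are trivial
  have key : ∀ (L : Subgroup G), L ≤ I →
      (∀ N : Subgroup G, N ≤ L → (∀ l ∈ L, ∀ n ∈ N, l * n * l⁻¹ ∈ N) → Finite ↥N →
        Odd (Nat.card ↥N) → N = ⊥) →
      (∀ c ∈ Cb, ∀ l ∈ L, c * l * c⁻¹ ∈ L) → ∀ z ∈ M', ∀ l ∈ L, z * l = l * z := by
    intro L hLI hS hn z hz l hl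
    have hbot : M' ⊓ L = ⊥ := by
      haveI : Finite ↥(M' ⊓ L) := Finite.of_injective
        (fun w : ↥(M' ⊓ L) => (⟨w.1, (Subgroup.mem_inf.1 w.2).1⟩ : ↥M'))
        (fun a b h => Subtype.ext (by
          have := congrArg Subtype.val h
          exact this))
      apply hS _ inf_le_right
      · intro l' hl' n hn'
        obtain ⟨hn1, hn2⟩ := Subgroup.mem_inf.1 hn'
        exact Subgroup.mem_inf.2 ⟨hM'n l' (hLI hl') n hn1,
          Subgroup.mul_mem _ (Subgroup.mul_mem _ hl' hn2) (Subgroup.inv_mem _ hl')⟩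
      · infer_instance
      · have hdvd : Nat.card ↥(M' ⊓ L) ∣ Nat.card ↥M' :=
          Subgroup.card_dvd_of_le inf_le_left
        exact Odd.of_dvd_nat hodd' hdvd
    have h1 : z * l * z⁻¹ * l⁻¹ ∈ M' ⊓ L := by
      refine Subgroup.mem_inf.2 ⟨?_, ?_⟩
      · have h2 : l * z⁻¹ * l⁻¹ ∈ M' := hM'n l (hLI hl) _ (Subgroup.inv_mem _ hz)
        have h3 : z * l * z⁻¹ * l⁻¹ = z * (l * z⁻¹ * l⁻¹) := by group
        rw [h3]
        exact Subgroup.mul_mem _ hz h2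
      · exact Subgroup.mul_mem _ (hn z (hMC hz) l hl) (Subgroup.inv_mem _ hl)
    rw [hbot, Subgroup.mem_bot] at h1
    calc z * l = (z * l * z⁻¹ * l⁻¹) * (l * z) := by group
      _ = l * z := by rw [h1, one_mul]
  have hM'bot : M' = ⊥ := by
    rw [Subgroup.eq_bot_iff_forall]
    intro z hz
    have h2 := hZ z (hMC hz) (key L₁ hL₁I hS₁ hn₁ z hz) (key L₂ hL₂I hS₂ hn₂ z hz)
    exact eq_one_of_sq_of_odd hodd' (hord z hz) h2
  rw [Subgroup.eq_bot_iff_forall]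
  intro z hz
  have h3 : (z : G) ∈ M' := ⟨z, hz, rfl⟩
  rw [hM'bot, Subgroup.mem_bot] at h3
  exact Subtype.ext h3

end Cfsg.Agent.Helper37.Gr
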