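import Mathlib
import Cfsg.Agent.Helper37.GrA
import Cfsg.Agent.Helper44.GraphSplit2
import Cfsg.Agent.Helper12.GammaOR

/-!
Helper37: local balance for minus-type orthogonal groups (S2733), graph involutions, part B:
lifting elements of `Inn ∩ C(x)` to matrices.
-/

set_option autoImplicit false
set_option linter.unusedSectionVars false

namespace Cfsg.Agent.Helper37.Gr

open Matrix Cfsg.Agent.Helper44 Cfsg.Agent.Helper12.GammaO Cfsg.Agent.Helper37.Bal

variable {F : Type*} [Field F] {ι : Type} [Fintype ι] [DecidableEq ι]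
variable (Q : QuadraticForm F (ι → F))

/-- the matrix of an element of `Ω(Q)` -/
abbrev mat (s : ↥(Cfsg.Omega F ⇑Q)) : Matrix ι ι F :=
  (((s : ↥(Cfsg.isometryGroup F ⇑Q)) : GL ι F) : Matrix ι ι F)

theorem mat_mul (s t : ↥(Cfsg.Omega F ⇑Q)) : mat Q (s * t) = mat Q s * mat Q t := rfl

theorem mat_one : mat Q 1 = 1 := rfl

theorem mat_injective : Function.Injective (mat Q) := by
  intro s t h
  apply Subtype.ext
  apply Subtype.ext
  apply Units.ext
  exact h

/-- the inner automorphism of `PΩ(Q)` given by an element of `Ω(Q)` -/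
noncomputable def cj : ↥(Cfsg.Omega F ⇑Q) →* MulAut (Cfsg.POmega F ⇑Q) :=
  (MulAut.conj).comp (QuotientGroup.mk' (Subgroup.center ↥(Cfsg.Omega F ⇑Q)))

theorem cj_apply (s : ↥(Cfsg.Omega F ⇑Q)) :
    cj Q s = MulAut.conj (QuotientGroup.mk s : Cfsg.POmega F ⇑Q) := rfl

theorem cj_mem_Inn (s : ↥(Cfsg.Omega F ⇑Q)) : cj Q s ∈ Cfsg.Inn (Cfsg.POmega F ⇑Q) :=
  ⟨_, rfl⟩

theorem exists_cj_of_mem_Inn {z : MulAut (Cfsg.POmega F ⇑Q)}
    (hz : z ∈ Cfsg.Inn (Cfsg.POmega F ⇑Q)) : ∃ s : ↥(Cfsg.Omega F ⇑Q), z = cj Q s := by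
  obtain ⟨k, rfl⟩ := hz
  induction k using QuotientGroup.induction_on with
  | H s => exact ⟨s, rfl⟩

section finite

variable [Fintype F] (hQ : (QuadraticMap.polarBilin Q).Nondegenerate)
  (hn : 7 ≤ Fintype.card ι)

include hQ hn

/-- central elements of `Ω(Q)` are `±1` -/
theorem mat_center {z : ↥(Cfsg.Omega F ⇑Q)} (hz : z ∈ Subgroup.center ↥(Cfsg.Omega F ⇑Q)) :
    mat Q z = 1 ∨ mat Q z = -1 := by
  have hfr : Module.finrank F (ι → F) = Fintype.card ι := Module.finrank_fintype_fun_eq_card F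
  have hker : toGO Q z.1 ∈ (conjAut ⇑Q).ker := by
    rw [MonoidHom.mem_ker]
    ext y
    induction y using QuotientGroup.induction_on with
    | H s =>
      rw [conjAut_mk, MulAut.one_apply]
      congr 1
      apply Subtype.ext
      apply Subtype.ext
      rw [coe_conj_Omega]
      have h1 := Subgroup.mem_center_iff.1 hz s
      have h2 : ((s : ↥(Cfsg.isometryGroup F ⇑Q)) : GL ι F) * ((z : ↥(Cfsg.isometryGroup F ⇑Q)) : GL ι F)
          = ((z : ↥(Cfsg.isometryGroup F ⇑Q)) : GL ι F) * ((s : ↥(Cfsg.isometryGroup F ⇑Q)) : GL ι F) :=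
        congrArg (fun t : ↥(Cfsg.Omega F ⇑Q) => ((t : ↥(Cfsg.isometryGroup F ⇑Q)) : GL ι F)) h1
      show ((z : ↥(Cfsg.isometryGroup F ⇑Q)) : GL ι F) * ((s : ↥(Cfsg.isometryGroup F ⇑Q)) : GL ι F)
        * ((z : ↥(Cfsg.isometryGroup F ⇑Q)) : GL ι F)⁻¹ = _
      rw [← h2]
      group
  have h3 := mem_scalars_of_mem_ker Q hQ hn _ hker
  obtain ⟨c, hc⟩ := (mem_scalars_iff_eq_scalarGO Q _).1 h3
  obtain ⟨t, -, -, ht⟩ := exists_nonsingular_perp_pair Q hQ (by rw [hfr]; omega) 0 0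
  have h4 : ((scalarGO Q c : ↥(Cfsg.Geo.quadSimilarityGroup (F := F) ⇑Q)) : GL ι F)
      ∈ Cfsg.isometryGroup F ⇑Q := by
    rw [← hc]
    exact z.1.2
  have h5 : mat Q z = (c : F) • (1 : Matrix ι ι F) := by
    have h6 : (((toGO Q z.1 : ↥(Cfsg.Geo.quadSimilarityGroup (F := F) ⇑Q)) : GL ι F) : Matrix ι ι F)
        = mat Q z := rfl
    rw [← h6, hc]
    show ((Matrix.GeneralLinearGroup.scalar ι c : GL ι F) : Matrix ι ι F) = _
    rw [Matrix.GeneralLinearGroup.coe_scalar]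
    simp [Matrix.smul_one_eq_diagonal]
  rcases eq_one_or_neg_one_of_scalarGO_isometry Q c h4 ht with h | h
  · left
    rw [h5, h, Units.val_one, one_smul]
  · right
    rw [h5, h, Units.val_neg, Units.val_one, neg_smul, one_smul]

/-- equal classes in `PΩ(Q)` have matrices equal up to sign -/
theorem mat_eq_or_neg_of_mk_eq {s t : ↥(Cfsg.Omega F ⇑Q)}
    (h : (QuotientGroup.mk s : Cfsg.POmega F ⇑Q) = QuotientGroup.mk t) :
    mat Q t = mat Q s ∨ mat Q t = -mat Q s := by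
  have h1 := QuotientGroup.eq.1 h
  have h2 : mat Q t = mat Q s * mat Q (s⁻¹ * t) := by
    rw [← mat_mul, mul_inv_cancel_left]
  rcases mat_center Q hQ hn h1 with h3 | h3
  · left
    rw [h2, h3, Matrix.mul_one]
  · right
    rw [h2, h3, Matrix.mul_neg, Matrix.mul_one]

/-- the centre of `PΩ(Q)` is trivial -/
theorem center_POmega : Subgroup.center (Cfsg.POmega F ⇑Q) = ⊥ :=
  center_quot_center_eq_bot (commutator_Omega_eq_top Q hQ hn)

/-- an inner automorphism commuting with `x` comes from a fixed point of `x` -/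
theorem apply_eq_of_cj_mem_centralizer (x : MulAut (Cfsg.POmega F ⇑Q)) (s : ↥(Cfsg.Omega F ⇑Q))
    (h : cj Q s ∈ Subgroup.centralizer {x}) :
    x (QuotientGroup.mk s) = (QuotientGroup.mk s : Cfsg.POmega F ⇑Q) := by
  have h1 : x * cj Q s = cj Q s * x := Subgroup.mem_centralizer_iff.1 h x rfl
  have h2 : MulAut.conj (x (QuotientGroup.mk s)) = MulAut.conj (QuotientGroup.mk s : Cfsg.POmega F ⇑Q) := by
    have h3 : x * cj Q s * x⁻¹ = MulAut.conj (x (QuotientGroup.mk s)) := by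
      ext k
      simp [cj_apply, MulAut.mul_apply, MulAut.conj_apply]
    rw [← h3, h1, mul_inv_cancel_right]
    rfl
  have h4 : (x (QuotientGroup.mk s))⁻¹ * (QuotientGroup.mk s : Cfsg.POmega F ⇑Q)
      ∈ Subgroup.center (Cfsg.POmega F ⇑Q) := by
    rw [Subgroup.mem_center_iff]
    intro k
    have h5 := congrArg (fun ψ : MulAut (Cfsg.POmega F ⇑Q) => ψ k) h2
    simp only [MulAut.conj_apply] at h5
    set a := x (QuotientGroup.mk s) with ha
    set b : Cfsg.POmega F ⇑Q := QuotientGroup.mk s with hb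
    calc k * (a⁻¹ * b) = a⁻¹ * (a * k * a⁻¹) * b := by group
      _ = a⁻¹ * (b * k * b⁻¹) * b := by rw [h5]
      _ = a⁻¹ * b * k := by group
  rw [center_POmega Q hQ hn, Subgroup.mem_bot] at h4
  exact (inv_mul_eq_one.1 h4)

/-- fixed points of `conjAut δ` -/
theorem conj_eq_or_neg_of_fixed (δ : ↥(Cfsg.Geo.quadSimilarityGroup (F := F) ⇑Q))
    (s : ↥(Cfsg.Omega F ⇑Q))
    (h : conjAut ⇑Q δ (QuotientGroup.mk s) = (QuotientGroup.mk s : Cfsg.POmega F ⇑Q)) :
    (δ.1 : Matrix ι ι F) * mat Q s = mat Q s * (δ.1 : Matrix ι ι F)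
      ∨ (δ.1 : Matrix ι ι F) * mat Q s = -(mat Q s * (δ.1 : Matrix ι ι F)) := by
  rw [conjAut_mk] at h
  have h1 := mat_eq_or_neg_of_mk_eq Q hQ hn h
  have h2 : mat Q (MulAut.characteristic (Cfsg.Omega F ⇑Q) (simConj ⇑Q δ) s)
      = (δ.1 : Matrix ι ι F) * mat Q s * ((δ.1⁻¹ : GL ι F) : Matrix ι ι F) := by
    show (((MulAut.characteristic (Cfsg.Omega F ⇑Q) (simConj ⇑Q δ) s : ↥(Cfsg.Omega F ⇑Q)) :
      ↥(Cfsg.isometryGroup F ⇑Q)) : GL ι F).1 = _
    rw [coe_conj_Omega]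
    rfl
  have h3 : ((δ.1⁻¹ : GL ι F) : Matrix ι ι F) * (δ.1 : Matrix ι ι F) = 1 := by
    rw [← Units.val_mul, inv_mul_cancel, Units.val_one]
  have h4 : (δ.1 : Matrix ι ι F) * mat Q s
      = mat Q (MulAut.characteristic (Cfsg.Omega F ⇑Q) (simConj ⇑Q δ) s) * (δ.1 : Matrix ι ι F) := by
    rw [h2, Matrix.mul_assoc, h3, Matrix.mul_one]
  rcases h1 with h5 | h5
  · left
    rw [h4, ← h5]
  · right
    rw [h4]
    have : mat Q (MulAut.characteristic (Cfsg.Omega F ⇑Q) (simConj ⇑Q δ) s) = -mat Q s := by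
      rw [h5, neg_neg]
    rw [this, Matrix.neg_mul]

end finite

end Cfsg.Agent.Helper37.Gr
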