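import Mathlib
import Cfsg.Agent.Helper37.FldB
import Cfsg.Agent.Helper37.GrB

/-!
Helper37: the local-balance criterion for minus-type orthogonal groups (S2733), field part C:
automorphisms commuting with `phi1 σ` and centralising `Inn ∩ C(phi1 σ)` are powers of `phi1 σ`.
-/

set_option autoImplicit false
set_option linter.unusedSectionVars false

namespace Cfsg.Agent.Helper37.Fld

open Matrix Cfsg.Agent.Helper44 Cfsg.Agent.Helper12.GammaO
  Cfsg.Agent.Helper37.OddF Cfsg.Agent.Helper37.Bal Cfsg.Agent.Helper37.Gr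

variable {F₀ F : Type*} [Field F₀] [Field F] {ι : Type} [Fintype ι] [DecidableEq ι]

section rational

variable [Fintype F] (Q : QuadraticForm F (ι → F))
  (σ : F ≃+* F) (hσ : ∀ v : ι → F, Q (vmap (σ : F →+* F) v) = σ (Q v))

/-- an automorphism commuting with `phi1 σ` is induced by a pair whose matrix is `σ`-fixed -/
theorem exists_fixed_rep (hnd : (QuadraticMap.polarBilin Q).Nondegenerate)
    (hn : 7 ≤ Fintype.card ι) (htop : Cfsg.gammaPOmega F ⇑Q = ⊤)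
    (y : MulAut (Cfsg.POmega F ⇑Q)) (hyφ : y * phi1 Q σ hσ = phi1 Q σ hσ * y) :
    ∃ Y : ↥(GamO ⇑Q), psi ⇑Q Y = y ∧
      ((Y.1.left : GL ι F) : Matrix ι ι F).map σ = ((Y.1.left : GL ι F) : Matrix ι ι F) := by
  obtain ⟨Y, rfl⟩ := psi_surjective Q htop y
  have hZ : (Y * fld Q σ hσ) * (fld Q σ hσ * Y)⁻¹ ∈ (psi ⇑Q).ker := by
    rw [MonoidHom.mem_ker, map_mul, map_inv, map_mul, map_mul]
    show psi ⇑Q Y * phi1 Q σ hσ * (phi1 Q σ hσ * psi ⇑Q Y)⁻¹ = 1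
    rw [hyφ, mul_inv_cancel]
  obtain ⟨hZr, hZl⟩ := mem_ker_psi Q hnd hn _ hZ
  obtain ⟨c, hc⟩ := (Cfsg.Geo.mem_scalars_iff _).1 hZl
  have h1 : Y * fld Q σ hσ = ((Y * fld Q σ hσ) * (fld Q σ hσ * Y)⁻¹) * (fld Q σ hσ * Y) := by
    group
  have h2 := congrArg (fun W : ↥(GamO ⇑Q) => ((W.1.left : GL ι F) : Matrix ι ι F)) h1
  have h3 : ((Y * fld Q σ hσ).1.left : GL ι F) = Y.1.left := by
    show Y.1.left * fieldAct Y.1.right (1 : GL ι F) = Y.1.left
    rw [map_one, mul_one]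
  have h4 : ((fld Q σ hσ * Y).1.left : GL ι F) = glMap σ Y.1.left := by
    show (1 : GL ι F) * fieldAct σ Y.1.left = glMap σ Y.1.left
    rw [one_mul, fieldAct_apply]
  have h5 : ((Y.1.left : GL ι F) : Matrix ι ι F)
      = (c : F) • ((Y.1.left : GL ι F) : Matrix ι ι F).map σ := by
    have h6 : ((((Y * fld Q σ hσ) * (fld Q σ hσ * Y)⁻¹) * (fld Q σ hσ * Y)).1.left : GL ι F)
        = ((Y * fld Q σ hσ) * (fld Q σ hσ * Y)⁻¹).1.left
          * fieldAct ((Y * fld Q σ hσ) * (fld Q σ hσ * Y)⁻¹).1.right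
            ((fld Q σ hσ * Y).1.left) := rfl
    rw [h6, hZr, h3, h4] at h2
    have : (fieldAct (RingEquiv.refl F) (glMap σ Y.1.left) : GL ι F) = glMap σ Y.1.left := by
      have : (RingEquiv.refl F : F ≃+* F) = 1 := rfl
      rw [this, map_one]
      rfl
    refine h2.trans ?_
    rw [Units.val_mul, hc, this, coe_glMap, Matrix.smul_mul, Matrix.one_mul]
  have h7 : ((Y.1.left : GL ι F) : Matrix ι ι F).map σ
      = ((c : F)⁻¹) • ((Y.1.left : GL ι F) : Matrix ι ι F) := by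
    rw [eq_inv_smul_iff₀ c.ne_zero]
    exact h5.symm
  have hne : ((Y.1.left : GL ι F) : Matrix ι ι F) ≠ 0 := by
    intro h0
    have h8 : ((Y.1.left : GL ι F) : Matrix ι ι F) * ((Y.1.left⁻¹ : GL ι F) : Matrix ι ι F) = 1 := by
      rw [← Units.val_mul, mul_inv_cancel, Units.val_one]
    rw [h0, Matrix.zero_mul] at h8
    have hne' : Nonempty ι := by
      rw [← Fintype.card_pos_iff]
      omega
    obtain ⟨a⟩ := hne'
    have := congrFun (congrFun h8 a) a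
    rw [Matrix.zero_apply, Matrix.one_apply_eq] at this
    exact zero_ne_one this
  obtain ⟨μ, hμ, hfix⟩ := Cfsg.Agent.Helper14.AutPSL.exists_smul_fixed σ h7 hne
  refine ⟨ofSim Q (scalarGO Q (Units.mk0 μ hμ)) * Y, ?_, ?_⟩
  · rw [map_mul, psi_ofSim,
      MonoidHom.mem_ker.1 (mem_ker_of_mem_scalars ⇑Q _ (scalarGO_mem_scalars Q _)), one_mul]
  · have h9 : (((ofSim Q (scalarGO Q (Units.mk0 μ hμ)) * Y).1.left : GL ι F) : Matrix ι ι F)
        = μ • ((Y.1.left : GL ι F) : Matrix ι ι F) := by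
      show (((scalarGO Q (Units.mk0 μ hμ)).1 * fieldAct (1 : F ≃+* F) Y.1.left : GL ι F) :
        Matrix ι ι F) = _
      rw [map_one, Units.val_mul]
      apply Matrix.mulVec_injective
      funext v
      rw [← Matrix.mulVec_mulVec, scalarGO_mulVec, Units.val_mk0, Matrix.smul_mulVec]
      rfl
    rw [h9]
    exact hfix

end rational

section descent

variable [Fintype F₀] [Fintype F] (i : F₀ →+* F) (Q₀ : QuadraticForm F₀ (ι → F₀))
  (Q : QuadraticForm F (ι → F)) (hQ : ∀ v : ι → F₀, Q (vmap i v) = i (Q₀ v))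
  (σ : F ≃+* F) (hi : ∀ a : F, σ a = a ↔ a ∈ i.range)

include hQ hi in
/-- descent of a semisimilarity pair with `σ`-fixed matrix -/
theorem exists_descent {t₀ : ι → F₀} (ht₀ : Q₀ t₀ ≠ 0) (Y : ↥(GamO ⇑Q))
    (hY : ((Y.1.left : GL ι F) : Matrix ι ι F).map σ = ((Y.1.left : GL ι F) : Matrix ι ι F)) :
    ∃ Y₀ : ↥(GamO ⇑Q₀), Matrix.GeneralLinearGroup.map i Y₀.1.left = Y.1.left ∧
      ∀ c : F₀, i (Y₀.1.right c) = Y.1.right (i c) := by
  classical
  have hmem : ∀ a b, ((Y.1.left : GL ι F) : Matrix ι ι F) a b ∈ i.range := by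
    intro a b
    rw [← hi]
    have := congrFun (congrFun hY a) b
    rwa [Matrix.map_apply] at this
  choose M₀ hM₀ using hmem
  have hmap : (Matrix.of M₀).map i = ((Y.1.left : GL ι F) : Matrix ι ι F) := by
    ext a b
    rw [Matrix.map_apply, Matrix.of_apply, hM₀]
  have hdet : (Matrix.of M₀).det ≠ 0 := by
    intro h0
    have h1 : (((Y.1.left : GL ι F) : Matrix ι ι F)).det = 0 := by
      rw [← hmap, ← RingHom.mapMatrix_apply, ← RingHom.map_det, h0, map_zero]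
    exact ((Matrix.isUnit_iff_isUnit_det _).mp (Units.isUnit (Y.1.left : GL ι F))).ne_zero h1
  obtain ⟨G₀, hG₀⟩ : ∃ G₀ : GL ι F₀, (G₀ : Matrix ι ι F₀) = Matrix.of M₀ :=
    ⟨Matrix.GeneralLinearGroup.mkOfDetNeZero _ hdet, rfl⟩
  obtain ⟨ρ₀, hρ₀⟩ := exists_restrict i σ Y.1.right hi
  obtain ⟨c, hc⟩ := Y.2
  have key : ∀ v₀ : ι → F₀, vmap i ((G₀ : Matrix ι ι F₀) *ᵥ fun k => ρ₀ (v₀ k))
      = ((Y.1.left : GL ι F) : Matrix ι ι F) *ᵥ fun k => Y.1.right (vmap i v₀ k) := by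
    intro v₀
    rw [vmap_mulVec, hG₀, hmap]
    congr 1
    funext k
    exact hρ₀ _
  have hval : ∀ v₀ : ι → F₀, i (Q₀ ((G₀ : Matrix ι ι F₀) *ᵥ fun k => ρ₀ (v₀ k)))
      = (c : F) * i (ρ₀ (Q₀ v₀)) := by
    intro v₀
    rw [← hQ, key, hρ₀, ← hQ]
    exact hc _
  set c₀ : F₀ := Q₀ ((G₀ : Matrix ι ι F₀) *ᵥ fun k => ρ₀ (t₀ k)) / ρ₀ (Q₀ t₀) with hc₀
  have hB : i (ρ₀ (Q₀ t₀)) ≠ 0 := by
    intro h
    apply ht₀
    apply ρ₀.injective
    apply i.injective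
    rw [h, map_zero, map_zero]
  have hcc₀ : (c : F) = i c₀ := by
    rw [hc₀, map_div₀, hval t₀]
    field_simp
  have hc₀0 : c₀ ≠ 0 := by
    intro h
    rw [h, map_zero] at hcc₀
    exact c.ne_zero hcc₀
  have hmemG : (⟨G₀, ρ₀⟩ : Gam ι F₀) ∈ GamO ⇑Q₀ := by
    refine ⟨Units.mk0 c₀ hc₀0, fun u => ?_⟩
    apply i.injective
    rw [Units.val_mk0, map_mul, ← hcc₀]
    exact hval u
  refine ⟨⟨⟨G₀, ρ₀⟩, hmemG⟩, ?_, hρ₀⟩
  apply Units.ext
  show (G₀ : Matrix ι ι F₀).map i = _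
  rw [hG₀, hmap]

/-- base change of the twisted conjugation -/
theorem map_conjLeft (Y : Gam ι F) (Y₀ : Gam ι F₀)
    (h1 : Matrix.GeneralLinearGroup.map i Y₀.left = Y.left)
    (h2 : ∀ c : F₀, i (Y₀.right c) = Y.right (i c)) (t₀ : GL ι F₀) :
    Matrix.GeneralLinearGroup.map i (conjLeft Y₀ t₀)
      = conjLeft Y (Matrix.GeneralLinearGroup.map i t₀) := by
  rw [conjLeft_eq, conjLeft_eq, map_mul, map_mul, map_inv, h1]
  congr 2
  apply Units.ext
  ext a b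
  show i (Y₀.right ((t₀ : Matrix ι ι F₀) a b)) = Y.right (i ((t₀ : Matrix ι ι F₀) a b))
  exact h2 _

end descent

/-- two elements of `Ω` whose matrices agree up to sign have the same class -/
theorem mk_eq_of_mat (Q : QuadraticForm F (ι → F)) {s t : ↥(Cfsg.Omega F ⇑Q)}
    (h : mat Q t = mat Q s ∨ mat Q t = -mat Q s) :
    (QuotientGroup.mk s : Cfsg.POmega F ⇑Q) = QuotientGroup.mk t := by
  rw [QuotientGroup.eq, Subgroup.mem_center_iff]
  intro g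
  apply mat_injective
  rw [mat_mul, mat_mul, mat_mul, mat_mul]
  have h1 : mat Q s⁻¹ * mat Q s = 1 := by rw [← mat_mul, inv_mul_cancel, mat_one]
  rcases h with h | h
  · rw [h, h1, mul_one, one_mul]
  · rw [h, Matrix.mul_neg, h1, Matrix.mul_neg, mul_one, Matrix.neg_mul, one_mul]

section main

variable [Fintype F₀] [Fintype F] (i : F₀ →+* F) (Q₀ : QuadraticForm F₀ (ι → F₀))
  (Q : QuadraticForm F (ι → F)) (hQ : ∀ v : ι → F₀, Q (vmap i v) = i (Q₀ v))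
  (σ : F ≃+* F) (hσ : ∀ v : ι → F, Q (vmap (σ : F →+* F) v) = σ (Q v))
  (hi : ∀ a : F, σ a = a ↔ a ∈ i.range)

include hi in
/-- the image of `Ω(Q₀)` in `Inn` centralises `phi1 σ` -/
theorem cj_isoIncl_mem_innCent (hnd : (QuadraticMap.polarBilin Q).Nondegenerate)
    (hn : 7 ≤ Fintype.card ι) (s₀ : ↥(Cfsg.Omega F₀ ⇑Q₀)) :
    cj Q ⟨isoIncl i Q₀ Q hQ s₀.1, isoIncl_mem_Omega_gen i Q₀ Q hQ s₀.2⟩
      ∈ innCent (phi1 Q σ hσ) := by
  refine Subgroup.mem_inf.2 ⟨cj_mem_Inn Q _, ?_⟩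
  rw [Subgroup.mem_centralizer_iff]
  intro w hw
  rw [Set.mem_singleton_iff] at hw
  rw [hw]
  have h1 : cj Q ⟨isoIncl i Q₀ Q hQ s₀.1, isoIncl_mem_Omega_gen i Q₀ Q hQ s₀.2⟩
      = conjAut ⇑Q (goIncl i Q₀ Q hQ (toGO Q₀ s₀.1)) := by
    rw [goIncl_toGO, cj_apply]
    exact (conjAut_of_mem_Omega ⇑Q _ _).symm
  rw [h1, comm_conjAut_iff Q σ hσ hnd hn]
  refine ⟨1, ?_⟩
  rw [goSig_goIncl i Q₀ Q hQ σ hσ hi, scalarGO_one, one_mul]

include hQ hi in
/-- an automorphism commuting with `phi1 σ` and centralising `Inn ∩ C(phi1 σ)` is a power of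
`phi1 σ` -/
theorem mem_zpowers_phi1 {t₀ : ι → F₀} (ht₀ : Q₀ t₀ ≠ 0)
    (hnd : (QuadraticMap.polarBilin Q).Nondegenerate)
    (hnd₀ : (QuadraticMap.polarBilin Q₀).Nondegenerate) (hn : 7 ≤ Fintype.card ι)
    (htop : Cfsg.gammaPOmega F ⇑Q = ⊤)
    (y : MulAut (Cfsg.POmega F ⇑Q)) (hyφ : y * phi1 Q σ hσ = phi1 Q σ hσ * y)
    (hy : ∀ z ∈ innCent (phi1 Q σ hσ), y * z = z * y) :
    y ∈ Subgroup.zpowers (phi1 Q σ hσ) := by
  obtain ⟨Y, rfl, hYfix⟩ := exists_fixed_rep Q σ hσ hnd hn htop y hyφ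
  obtain ⟨Y₀, hY₀l, hY₀r⟩ := exists_descent i Q₀ Q hQ σ hi ht₀ Y hYfix
  have hone : psi ⇑Q₀ Y₀ = 1 := by
    ext k
    induction k using QuotientGroup.induction_on with
    | H s₀ =>
      rw [MulAut.one_apply, psi_mk]
      apply mk_eq_of_mat
      have hz := cj_isoIncl_mem_innCent i Q₀ Q hQ σ hσ hi hnd hn s₀
      have h1 := hy _ hz
      have h2 : cj Q ⟨isoIncl i Q₀ Q hQ s₀.1, isoIncl_mem_Omega_gen i Q₀ Q hQ s₀.2⟩
          ∈ Subgroup.centralizer {psi ⇑Q Y} := by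
        rw [Subgroup.mem_centralizer_iff]
        intro w hw
        rw [Set.mem_singleton_iff] at hw
        rw [hw]
        exact h1
      have h3 := apply_eq_of_cj_mem_centralizer Q hnd hn (psi ⇑Q Y) _ h2
      rw [psi_mk] at h3
      have h4 := mat_eq_or_neg_of_mk_eq Q hnd hn h3
      have h5 : mat Q (MulAut.characteristic (Cfsg.Omega F ⇑Q) (psi0 ⇑Q Y)
            ⟨isoIncl i Q₀ Q hQ s₀.1, isoIncl_mem_Omega_gen i Q₀ Q hQ s₀.2⟩)
          = (mat Q₀ (MulAut.characteristic (Cfsg.Omega F₀ ⇑Q₀) (psi0 ⇑Q₀ Y₀) s₀)).map i := by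
        show ((conjLeft Y.1 ((isoIncl i Q₀ Q hQ s₀.1 : ↥(Cfsg.isometryGroup F ⇑Q)) : GL ι F) :
          GL ι F) : Matrix ι ι F)
          = ((conjLeft Y₀.1 ((s₀.1 : ↥(Cfsg.isometryGroup F₀ ⇑Q₀)) : GL ι F₀) : GL ι F₀) :
            Matrix ι ι F₀).map i
        have h6 : ((isoIncl i Q₀ Q hQ s₀.1 : ↥(Cfsg.isometryGroup F ⇑Q)) : GL ι F)
            = Matrix.GeneralLinearGroup.map i ((s₀.1 : ↥(Cfsg.isometryGroup F₀ ⇑Q₀)) : GL ι F₀) :=
          rfl
        rw [h6, ← map_conjLeft i Y.1 Y₀.1 hY₀l hY₀r]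
        rfl
      have h6 : mat Q ⟨isoIncl i Q₀ Q hQ s₀.1, isoIncl_mem_Omega_gen i Q₀ Q hQ s₀.2⟩
          = (mat Q₀ s₀).map i := rfl
      rw [h5, h6] at h4
      have hinj : Function.Injective (fun M : Matrix ι ι F₀ => M.map i) :=
        Matrix.map_injective i.injective
      rcases h4 with h | h
      · left
        exact hinj h
      · right
        apply hinj
        show (mat Q₀ s₀).map i = (-mat Q₀ _).map i
        rw [h]
        ext a b
        simp [Matrix.map_apply]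
  have hker : Y₀ ∈ (psi ⇑Q₀).ker := MonoidHom.mem_ker.2 hone
  obtain ⟨hr, hl⟩ := mem_ker_psi Q₀ hnd₀ hn Y₀ hker
  have hρ : Y.1.right ∈ Subgroup.zpowers σ := by
    apply mem_zpowers_of_fixF
    intro c hc
    obtain ⟨c₀, rfl⟩ := (hi c).1 hc
    rw [← hY₀r, hr]
    rfl
  haveI : Finite (F ≃+* F) := DFunLike.finite _
  rw [← mem_powers_iff_mem_zpowers] at hρ
  obtain ⟨n, hn'⟩ := hρ
  obtain ⟨c₀, hc₀⟩ := (Cfsg.Geo.mem_scalars_iff _).1 hl
  have hYeq : Y = ofSim Q (scalarGO Q (Units.map (i : F₀ →* F) c₀)) * (fld Q σ hσ) ^ n := by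
    apply Subtype.ext
    apply SemidirectProduct.ext
    · show Y.1.left = (scalarGO Q (Units.map (i : F₀ →* F) c₀)).1
        * fieldAct (1 : F ≃+* F) ((fld Q σ hσ ^ n).1.left)
      rw [fld_pow_left, map_one, mul_one, ← hY₀l]
      apply Units.ext
      show ((Y₀.1.left : GL ι F₀) : Matrix ι ι F₀).map i
        = ((Matrix.GeneralLinearGroup.scalar ι (Units.map (i : F₀ →* F) c₀) : GL ι F) :
          Matrix ι ι F)
      rw [hc₀, Matrix.GeneralLinearGroup.coe_scalar]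
      ext a b
      by_cases hab : a = b
      · subst hab
        simp [Matrix.map_apply, Matrix.smul_apply]
      · simp [Matrix.map_apply, Matrix.smul_apply, hab]
    · show Y.1.right = 1 * (fld Q σ hσ ^ n).1.right
      rw [fld_pow_right, one_mul]
      exact hn'.symm
  rw [hYeq, map_mul, psi_ofSim,
    MonoidHom.mem_ker.1 (mem_ker_of_mem_scalars ⇑Q _ (scalarGO_mem_scalars Q _)), one_mul, map_pow]
  exact Subgroup.pow_mem _ (Subgroup.mem_zpowers _) n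

end main

end Cfsg.Agent.Helper37.Fld
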