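import Mathlib
import Cfsg.Agent.Helper37.FldC
import Cfsg.Agent.S0297
import Cfsg.Agent.S2696

/-!
Helper37: the local-balance criterion for minus-type orthogonal groups (S2733), field part D:
the criterion for a standard field automorphism, and its transport.
-/

set_option autoImplicit false
set_option linter.unusedSectionVars false

namespace Cfsg.Agent.Helper37.Fld

open Matrix Cfsg.Agent.Helper44 Cfsg.Agent.Helper12.GammaO
  Cfsg.Agent.Helper37.OddF Cfsg.Agent.Helper37.Bal Cfsg.Agent.Helper37.Gr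
  Cfsg.Agent.Helper14.AutPSL

variable {F : Type*} [Field F] [Fintype F] {m : ℕ}

/-- the criterion for a standard field automorphism of odd prime order -/
theorem balance_std (hm : 3 ≤ m) (a' b' : F)
    (hab' : ∀ z₁ z₂ : F, z₁ ^ 2 + a' * z₁ * z₂ + b' * z₂ ^ 2 = 0 → z₁ = 0 ∧ z₂ = 0)
    (σ : F ≃+* F) (hσa : σ a' = a') (hσb : σ b' = b')
    (hσQ : ∀ v, minusForm m F a' b' (vmap (σ : F →+* F) v) = σ (minusForm m F a' b' v))
    {p : ℕ} [hp : Fact p.Prime] (hpodd : Odd p) (hσp : orderOf σ = p)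
    (A' : Subgroup (MulAut (Cfsg.POmega F ⇑(minusForm m F a' b'))))
    (hinn' : ∀ k, MulAut.conj k ∈ A') :
    Cfsg.pPrimeCore p ↥(A' ⊓ Subgroup.centralizer {phi1 (minusForm m F a' b') σ hσQ}) ≠ ⊥ ↔
      Nat.Coprime p (Nat.card ↥(innCent (phi1 (minusForm m F a' b') σ hσQ))) := by
  classical
  haveI hft : Fintype (fixF σ) := Fintype.ofFinite _
  obtain ⟨i, hidef⟩ : ∃ i : ↥(fixF σ) →+* F, i = (fixF σ).subtype := ⟨_, rfl⟩
  have hi : ∀ c : F, σ c = c ↔ c ∈ i.range := by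
    intro c
    rw [← mem_fixF, hidef]
    constructor
    · intro hc
      exact ⟨⟨c, hc⟩, rfl⟩
    · rintro ⟨d, rfl⟩
      exact d.2
  obtain ⟨a₀, ha₀⟩ := (hi a').1 hσa
  obtain ⟨b₀, hb₀⟩ := (hi b').1 hσb
  have hab₀ : ∀ z₁ z₂ : ↥(fixF σ), z₁ ^ 2 + a₀ * z₁ * z₂ + b₀ * z₂ ^ 2 = 0 → z₁ = 0 ∧ z₂ = 0 := by
    apply aniso_of_map i
    rw [ha₀, hb₀]
    exact hab'
  have hQi : ∀ v, minusForm m F a' b' (vmap i v) = i (minusForm m ↥(fixF σ) a₀ b₀ v) := by
    intro v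
    rw [← minusForm_vmap, ha₀, hb₀]
  have hnd := Cfsg.Agent.Helper5.nondegenerate_minusForm_of_aniso m a' b' hab'
  have hnd₀ := Cfsg.Agent.Helper5.nondegenerate_minusForm_of_aniso m a₀ b₀ hab₀
  have hn : 7 ≤ Fintype.card ((Fin m ⊕ Fin m) ⊕ Fin 2) := by
    rw [card_idx_minus]
    omega
  have ht₀ : minusForm m ↥(fixF σ) a₀ b₀ (Pi.single (Sum.inr 0) 1) ≠ 0 := by
    rw [minusForm_single]
    exact one_ne_zero
  have htop : Cfsg.gammaPOmega F ⇑(minusForm m F a' b') = ⊤ :=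
    Cfsg.Agent.S2696.result hm a' b' hab'
  have hsimple : IsSimpleGroup (Cfsg.POmega ↥(fixF σ) ⇑(minusForm m ↥(fixF σ) a₀ b₀)) :=
    Cfsg.Agent.S0297.result (m + 1) (by omega) a₀ b₀ hab₀
  have hφp : orderOf (phi1 (minusForm m F a' b') σ hσQ) = p := by
    rw [orderOf_phi1 _ _ _ hnd hn, hσp]
  constructor
  · intro hcore
    by_contra hnc
    have hdvd : p ∣ Nat.card ↥(innCent (phi1 (minusForm m F a' b') σ hσQ)) := by
      by_contra hnd'
      exact hnc ((Nat.Prime.coprime_iff_not_dvd hp.out).2 hnd')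
    apply hcore
    apply pPrimeCore_eq_bot_of A' hinn' _ hφp
    · intro y hy1 hy2
      exact mem_zpowers_phi1 i (minusForm m ↥(fixF σ) a₀ b₀) (minusForm m F a' b') hQi σ hσQ hi
        ht₀ hnd hnd₀ hn htop y hy1 hy2
    · intro M hMn hMc
      exact innCent_no_normal_minus i (minusForm m ↥(fixF σ) a₀ b₀) (minusForm m F a' b') hQi σ
        hσQ hi hp.out hpodd hdvd hsimple ht₀ hnd hnd₀ hn M hMn hMc
  · intro hcop
    apply pPrimeCore_ne_bot_of_coprime A' hinn'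
    · exact innCent_ne_bot_minus i (minusForm m ↥(fixF σ) a₀ b₀) (minusForm m F a' b') hQi σ
        hσQ hi hsimple ht₀ hnd hnd₀ hn
    · exact hcop.symm

/-- the criterion for an automorphism which is a field automorphism of odd prime order -/
theorem balance_of_minusData (hm : 3 ≤ m) (a b : F)
    (hab : ∀ z₁ z₂ : F, z₁ ^ 2 + a * z₁ * z₂ + b * z₂ ^ 2 = 0 → z₁ = 0 ∧ z₂ = 0)
    (A : Subgroup (MulAut (Cfsg.POmega F (Cfsg.quadFormMinus m F a b))))
    (hinn : ∀ k : Cfsg.POmega F (Cfsg.quadFormMinus m F a b), MulAut.conj k ∈ A)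
    {p : ℕ} [hp : Fact p.Prime]
    (x : MulAut (Cfsg.POmega F (Cfsg.quadFormMinus m F a b))) (hord : orderOf x = p)
    (D : MinusData m a b x) :
    Cfsg.pPrimeCore p ↥(A ⊓ Subgroup.centralizer {x}) ≠ ⊥ ↔
      Nat.Coprime p (Nat.card ↥(MonoidHom.eqLocus x.toMonoidHom
        (MonoidHom.id (Cfsg.POmega F (Cfsg.quadFormMinus m F a b))))) := by
  have hpodd : Odd p := D.odd_order hm hp.out hord
  have hσp : orderOf D.σ = p := by rw [D.orderOf_sigma hm, hord]
  have hnd := Cfsg.Agent.Helper5.nondegenerate_minusForm_of_aniso m a b hab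
  have hn : 7 ≤ Fintype.card ((Fin m ⊕ Fin m) ⊕ Fin 2) := by
    rw [card_idx_minus]
    omega
  have hZ : Subgroup.center (Cfsg.POmega F (Cfsg.quadFormMinus m F a b)) = ⊥ :=
    center_quot_center_eq_bot (commutator_Omega_eq_top (minusForm m F a b) hnd hn)
  have hx' := D.congr_eq_phi1
  -- transport
  have e := centralizerMapEquiv (MulAut.congr D.ψ) A x
  rw [hx'] at e
  have e' := centralizerMapEquiv (MulAut.congr D.ψ)
    (Cfsg.Inn (Cfsg.POmega F (Cfsg.quadFormMinus m F a b))) x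
  rw [hx', map_Inn] at e'
  have hcard : Nat.card ↥(MonoidHom.eqLocus x.toMonoidHom
      (MonoidHom.id (Cfsg.POmega F (Cfsg.quadFormMinus m F a b))))
      = Nat.card ↥(innCent (phi1 (minusForm m F D.a' D.b') D.σ D.hσQ)) := by
    rw [card_eqLocus_eq hZ x]
    exact Nat.card_congr e'.toEquiv
  have hinn' : ∀ k, MulAut.conj k ∈ A.map (MulAut.congr D.ψ).toMonoidHom := by
    intro k
    refine ⟨MulAut.conj (D.ψ.symm k), hinn _, ?_⟩
    ext c
    show D.ψ (D.ψ.symm k * D.ψ.symm c * (D.ψ.symm k)⁻¹) = k * c * k⁻¹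
    rw [map_mul, map_mul, map_inv, D.ψ.apply_symm_apply, D.ψ.apply_symm_apply]
  rw [hcard, ← balance_std hm D.a' D.b' D.hab' D.σ D.hσa D.hσb D.hσQ hpodd hσp _ hinn',
    ← Cfsg.Agent.Helper11.pPrimeCore_map_mulEquiv p e, Ne, Ne,
    Subgroup.map_eq_bot_iff_of_injective _ e.injective]

end Cfsg.Agent.Helper37.Fld
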