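import Mathlib
import Cfsg.Agent.Helper37.FldD

/-!
Helper37: the local-balance criterion for minus-type orthogonal groups (S2733), field part E:
`Inndiag ≤ PGO ≤ Aut` for the minus-type group: normality, index at most two, and the elements of
`Inndiag` satisfy the Prelude's predicate.
-/

set_option autoImplicit false
set_option linter.unusedSectionVars false

namespace Cfsg.Agent.Helper37.Fld

open Matrix Module QuadraticMap Cfsg.Agent.Helper44 Cfsg.Agent.Helper12.GammaO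
  Cfsg.Agent.Helper37.OddF Cfsg.Agent.Helper37.Bal Cfsg.Agent.Helper12.ClassPres

variable {F : Type*} [Field F] [Fintype F] {m : ℕ}

theorem ht_single (m : ℕ) (a b : F) : minusForm m F a b (Pi.single (Sum.inr 0) 1) ≠ 0 := by
  rw [minusForm_single]
  exact one_ne_zero

section oddq

/-- `q` odd: the elements of `Inndiag` satisfy the predicate -/
theorem isInnerDiagonal_of_mem_odd (h2 : (2 : F) ≠ 0) (hm : 3 ≤ m) (a b : F)
    (hab : ∀ z₁ z₂ : F, z₁ ^ 2 + a * z₁ * z₂ + b * z₂ ^ 2 = 0 → z₁ = 0 ∧ z₂ = 0)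
    (x : MulAut (Cfsg.POmega F (Cfsg.quadFormMinus m F a b)))
    (hx : x ∈ Cfsg.inndiagPOmegaMinus m F a b) :
    Cfsg.IsInnerDiagonalAutPOmegaMinus m a b x := by
  rw [inndiagMinus_eq_map h2 (by omega) a b hab (ht_single m a b)] at hx
  obtain ⟨g, hg, rfl⟩ := hx
  exact ⟨g.1, g.2,
    (preservesSingularClassesMinus_iff h2 (by omega) a b hab (ht_single m a b) g).2
      (MonoidHom.mem_ker.1 hg),
    (Cfsg.Agent.Helper44.isInduced_iff ⇑(minusForm m F a b) g.1 g.2 _).2 rfl⟩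

theorem normal_inndiag_odd (h2 : (2 : F) ≠ 0) (hm : 3 ≤ m) (a b : F)
    (hab : ∀ z₁ z₂ : F, z₁ ^ 2 + a * z₁ * z₂ + b * z₂ ^ 2 = 0 → z₁ = 0 ∧ z₂ = 0) :
    (Cfsg.inndiagPOmegaMinus m F a b).Normal := by
  rw [inndiagMinus_eq_map h2 (by omega) a b hab (ht_single m a b)]
  exact normal_map_ker_dHom (minusForm m F a b) (ht_single m a b) (m + 1)
    (Cfsg.Agent.S2696.result hm a b hab)

theorem index_two_odd (h2 : (2 : F) ≠ 0) (hm : 3 ≤ m) (a b : F)
    (hab : ∀ z₁ z₂ : F, z₁ ^ 2 + a * z₁ * z₂ + b * z₂ ^ 2 = 0 → z₁ = 0 ∧ z₂ = 0)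
    (u v : MulAut (Cfsg.POmega F (Cfsg.quadFormMinus m F a b)))
    (hu : u ∈ Cfsg.pgoAut F (Cfsg.quadFormMinus m F a b))
    (hv : v ∈ Cfsg.pgoAut F (Cfsg.quadFormMinus m F a b))
    (huN : u ∉ Cfsg.inndiagPOmegaMinus m F a b) (hvN : v ∉ Cfsg.inndiagPOmegaMinus m F a b) :
    u * v ∈ Cfsg.inndiagPOmegaMinus m F a b := by
  have hnd := Cfsg.Agent.Helper5.nondegenerate_minusForm_of_aniso m a b hab
  rw [inndiagMinus_eq_map h2 (by omega) a b hab (ht_single m a b)] at huN hvN ⊢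
  have hu' : u ∈ (conjAut ⇑(minusForm m F a b)).range := by
    rw [← pgoAut_eq_map]
    exact hu
  have hv' : v ∈ (conjAut ⇑(minusForm m F a b)).range := by
    rw [← pgoAut_eq_map]
    exact hv
  obtain ⟨g, rfl⟩ := hu'
  obtain ⟨h, rfl⟩ := hv'
  have hg : dHom (minusForm m F a b) (ht_single m a b) (m + 1) g = -1 := by
    rcases dHom_eq_one_or (minusForm m F a b) (ht_single m a b) (m + 1) (card_idx_minus m) hnd g
      with h1 | h1
    · exact absurd ⟨g, MonoidHom.mem_ker.2 h1, rfl⟩ huN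
    · exact h1
  have hh : dHom (minusForm m F a b) (ht_single m a b) (m + 1) h = -1 := by
    rcases dHom_eq_one_or (minusForm m F a b) (ht_single m a b) (m + 1) (card_idx_minus m) hnd h
      with h1 | h1
    · exact absurd ⟨h, MonoidHom.mem_ker.2 h1, rfl⟩ hvN
    · exact h1
  refine ⟨g * h, ?_, map_mul _ _ _⟩
  rw [SetLike.mem_coe, MonoidHom.mem_ker, map_mul, hg, hh]
  simp

end oddq

section evenq

variable [CharP F 2]

/-- `q` even: the elements of `Inndiag = Inn` satisfy the predicate -/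
theorem isInnerDiagonal_of_mem_two (hm : 3 ≤ m) (a b : F)
    (hab : ∀ z₁ z₂ : F, z₁ ^ 2 + a * z₁ * z₂ + b * z₂ ^ 2 = 0 → z₁ = 0 ∧ z₂ = 0)
    (x : MulAut (Cfsg.POmega F (Cfsg.quadFormMinus m F a b)))
    (hx : x ∈ Cfsg.inndiagPOmegaMinus m F a b) :
    Cfsg.IsInnerDiagonalAutPOmegaMinus m a b x := by
  have hQnd := Cfsg.Agent.Helper5.nondegenerate_minusForm_of_aniso m a b hab
  have hcard : Fintype.card ((Fin m ⊕ Fin m) ⊕ Fin 2) ≠ 4 := by
    rw [card_idx_minus]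
    omega
  have h4' : Fintype.card F ≠ 2 ∨ Fintype.card ((Fin m ⊕ Fin m) ⊕ Fin 2) ≠ 4 := Or.inr hcard
  rw [inndiagPOmegaMinus_eq_Inn_two a b (by omega) hab] at hx
  have hx' : x ∈ ((OmegaGL ⇑(minusForm m F a b)).subgroupOf
      (Cfsg.Geo.quadSimilarityGroup (F := F) ⇑(minusForm m F a b))).map
      (conjAut ⇑(minusForm m F a b)) := by
    rw [← Inn_eq_map]
    exact hx
  obtain ⟨g, ⟨s, hsΩ, hsg⟩, rfl⟩ := hx'
  obtain ⟨vs, hvs, hs⟩ := exists_list_reflT (minusForm m F a b) hQnd h4' s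
  have hev : Even vs.length := by
    apply even_length_of_prod_reflT_mem_Omega (minusForm m F a b) hQnd vs hvs
    rw [← hs]
    exact hsΩ
  obtain ⟨f, hf, hfin⟩ := exists_quadratic_extension a b hab
  have hH : IsHyp (minusForm m (AdjoinRoot f) (algebraMap F (AdjoinRoot f) a)
      (algebraMap F (AdjoinRoot f) b)) (m + 1) := by
    have : Module.Finite F (AdjoinRoot f) :=
      Module.finite_of_finrank_pos (by rw [hfin]; norm_num)
    have : Finite (AdjoinRoot f) := Module.finite_of_finite F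
    haveI : Fintype (AdjoinRoot f) := Fintype.ofFinite _
    obtain ⟨ζ, hζ, hζ2⟩ := Cfsg.Agent.Helper45.exists_root_of_aniso hfin a b hab
    exact isHyp_minusForm_of_root m _ _ ζ hζ hζ2
  refine ⟨g.1, g.2, ⟨AdjoinRoot f, inferInstance, inferInstance, hfin, ?_⟩,
    (Cfsg.Agent.Helper44.isInduced_iff ⇑(minusForm m F a b) g.1 g.2 _).2 rfl⟩
  have hg1 : (g.1 : GL ((Fin m ⊕ Fin m) ⊕ Fin 2) F)
      = (((vs.map (reflT (minusForm m F a b))).prod :
          Cfsg.isometryGroup F ⇑(minusForm m F a b)).1 :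
        GL ((Fin m ⊕ Fin m) ⊕ Fin 2) F) := by
    rw [← hs]
    exact hsg.symm
  rw [hg1]
  exact (preservesSingularClasses_map_prod_reflT_iff (algebraMap F (AdjoinRoot f))
    (minusForm m F a b) _ (Cfsg.Agent.Helper37.OddF.minusForm_vmap _ m a b) hH vs hvs).2 hev

theorem normal_inndiag_two (hm : 3 ≤ m) (a b : F)
    (hab : ∀ z₁ z₂ : F, z₁ ^ 2 + a * z₁ * z₂ + b * z₂ ^ 2 = 0 → z₁ = 0 ∧ z₂ = 0) :
    (Cfsg.inndiagPOmegaMinus m F a b).Normal := by
  rw [inndiagPOmegaMinus_eq_Inn_two a b (by omega) hab]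
  exact Cfsg.innNormal _

theorem index_two_two (hm : 3 ≤ m) (a b : F)
    (hab : ∀ z₁ z₂ : F, z₁ ^ 2 + a * z₁ * z₂ + b * z₂ ^ 2 = 0 → z₁ = 0 ∧ z₂ = 0)
    (u v : MulAut (Cfsg.POmega F (Cfsg.quadFormMinus m F a b)))
    (hu : u ∈ Cfsg.pgoAut F (Cfsg.quadFormMinus m F a b))
    (hv : v ∈ Cfsg.pgoAut F (Cfsg.quadFormMinus m F a b))
    (huN : u ∉ Cfsg.inndiagPOmegaMinus m F a b) (hvN : v ∉ Cfsg.inndiagPOmegaMinus m F a b) :
    u * v ∈ Cfsg.inndiagPOmegaMinus m F a b := by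
  have hnd := Cfsg.Agent.Helper5.nondegenerate_minusForm_of_aniso m a b hab
  have hn : 7 ≤ Fintype.card ((Fin m ⊕ Fin m) ⊕ Fin 2) := by
    rw [card_idx_minus]
    omega
  have hcard : Fintype.card ((Fin m ⊕ Fin m) ⊕ Fin 2) ≠ 4 := by
    rw [card_idx_minus]
    omega
  have h4 : (∃ s : F, s ≠ 0 ∧ s ≠ 1) ∨ Fintype.card ((Fin m ⊕ Fin m) ⊕ Fin 2) ≠ 4 :=
    Or.inr hcard
  have h4' : Fintype.card F ≠ 2 ∨ Fintype.card ((Fin m ⊕ Fin m) ⊕ Fin 2) ≠ 4 := Or.inr hcard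
  rw [inndiagPOmegaMinus_eq_Inn_two a b (by omega) hab] at huN hvN ⊢
  have hu' : u ∈ (thetaO (minusForm m F a b)).range := by
    rw [range_thetaO]
    exact hu
  have hv' : v ∈ (thetaO (minusForm m F a b)).range := by
    rw [range_thetaO]
    exact hv
  obtain ⟨s, rfl⟩ := hu'
  obtain ⟨t, rfl⟩ := hv'
  obtain ⟨vs, hvs, rfl⟩ := exists_list_reflT (minusForm m F a b) hnd h4' s
  obtain ⟨ws, hws, rfl⟩ := exists_list_reflT (minusForm m F a b) hnd h4' t
  have hvo : ¬ Even vs.length := by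
    intro he
    apply huN
    exact (conjAut_toGO_mem_Inn_iff_two (minusForm m F a b) hnd hn _).2
      ((prod_reflT_mem_Omega_iff_two (minusForm m F a b) hnd h4 vs hvs).2 he)
  have hwo : ¬ Even ws.length := by
    intro he
    apply hvN
    exact (conjAut_toGO_mem_Inn_iff_two (minusForm m F a b) hnd hn _).2
      ((prod_reflT_mem_Omega_iff_two (minusForm m F a b) hnd h4 ws hws).2 he)
  show (thetaO (minusForm m F a b)) (vs.map (reflT (minusForm m F a b))).prod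
    * (thetaO (minusForm m F a b)) (ws.map (reflT (minusForm m F a b))).prod
    ∈ Cfsg.Inn (Cfsg.POmega F ⇑(minusForm m F a b))
  rw [← map_mul]
  have h1 : (vs.map (reflT (minusForm m F a b))).prod * (ws.map (reflT (minusForm m F a b))).prod
      = ((vs ++ ws).map (reflT (minusForm m F a b))).prod := by
    rw [List.map_append, List.prod_append]
  rw [h1]
  apply (conjAut_toGO_mem_Inn_iff_two (minusForm m F a b) hnd hn _).2
  rw [prod_reflT_mem_Omega_iff_two (minusForm m F a b) hnd h4 _ (by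
    intro x hx
    rcases List.mem_append.1 hx with h | h
    · exact hvs x h
    · exact hws x h), List.length_append]
  rw [Nat.not_even_iff_odd] at hvo hwo
  exact hvo.add_odd hwo

end evenq

/-- `Inndiag` is normal in `Aut` -/
theorem normal_inndiag (hm : 3 ≤ m) (a b : F)
    (hab : ∀ z₁ z₂ : F, z₁ ^ 2 + a * z₁ * z₂ + b * z₂ ^ 2 = 0 → z₁ = 0 ∧ z₂ = 0) :
    (Cfsg.inndiagPOmegaMinus m F a b).Normal := by
  by_cases h2 : (2 : F) = 0
  · haveI : CharP F 2 := CharTwo.of_one_ne_zero_of_two_eq_zero one_ne_zero h2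
    exact normal_inndiag_two hm a b hab
  · exact normal_inndiag_odd h2 hm a b hab

/-- the elements of `Inndiag` satisfy the predicate -/
theorem isInnerDiagonal_of_mem (hm : 3 ≤ m) (a b : F)
    (hab : ∀ z₁ z₂ : F, z₁ ^ 2 + a * z₁ * z₂ + b * z₂ ^ 2 = 0 → z₁ = 0 ∧ z₂ = 0)
    (x : MulAut (Cfsg.POmega F (Cfsg.quadFormMinus m F a b)))
    (hx : x ∈ Cfsg.inndiagPOmegaMinus m F a b) :
    Cfsg.IsInnerDiagonalAutPOmegaMinus m a b x := by
  by_cases h2 : (2 : F) = 0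
  · haveI : CharP F 2 := CharTwo.of_one_ne_zero_of_two_eq_zero one_ne_zero h2
    exact isInnerDiagonal_of_mem_two hm a b hab x hx
  · exact isInnerDiagonal_of_mem_odd h2 hm a b hab x hx

/-- `PGO / Inndiag` has order at most two -/
theorem index_two (hm : 3 ≤ m) (a b : F)
    (hab : ∀ z₁ z₂ : F, z₁ ^ 2 + a * z₁ * z₂ + b * z₂ ^ 2 = 0 → z₁ = 0 ∧ z₂ = 0)
    (u v : MulAut (Cfsg.POmega F (Cfsg.quadFormMinus m F a b)))
    (hu : u ∈ Cfsg.pgoAut F (Cfsg.quadFormMinus m F a b))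
    (hv : v ∈ Cfsg.pgoAut F (Cfsg.quadFormMinus m F a b))
    (huN : u ∉ Cfsg.inndiagPOmegaMinus m F a b) (hvN : v ∉ Cfsg.inndiagPOmegaMinus m F a b) :
    u * v ∈ Cfsg.inndiagPOmegaMinus m F a b := by
  by_cases h2 : (2 : F) = 0
  · haveI : CharP F 2 := CharTwo.of_one_ne_zero_of_two_eq_zero one_ne_zero h2
    exact index_two_two hm a b hab u v hu hv huN hvN
  · exact index_two_odd h2 hm a b hab u v hu hv huN hvN

end Cfsg.Agent.Helper37.Fld
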