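import Mathlib
import Cfsg.Agent.Helper37.FldE
import Cfsg.Agent.S2737
import Cfsg.Agent.Helper45.UnitaryOrth

/-!
Helper37: the local-balance criterion for minus-type orthogonal groups (S2733), field part F:
an automorphism of odd prime order which is not inner-diagonal is a field automorphism; the
criterion for such automorphisms.
-/

set_option autoImplicit false
set_option linter.unusedSectionVars false

namespace Cfsg.Agent.Helper37.Fld

open Matrix Module QuadraticMap Cfsg.Agent.Helper44 Cfsg.Agent.Helper12.GammaO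
  Cfsg.Agent.Helper37.OddF Cfsg.Agent.Helper37.Bal
open Cfsg.Agent.Helper5.LangO Cfsg.Agent.Helper44.QType Cfsg.Agent.Helper5.Coset

variable {F : Type*} [Field F] [Fintype F] {m : ℕ}

/-- two minus-type forms are isometric -/
theorem exists_isometry_minus (m : ℕ) (a b a' b' : F)
    (hab : ∀ z₁ z₂ : F, z₁ ^ 2 + a * z₁ * z₂ + b * z₂ ^ 2 = 0 → z₁ = 0 ∧ z₂ = 0)
    (hab' : ∀ z₁ z₂ : F, z₁ ^ 2 + a' * z₁ * z₂ + b' * z₂ ^ 2 = 0 → z₁ = 0 ∧ z₂ = 0) :
    ∃ k : GL ((Fin m ⊕ Fin m) ⊕ Fin 2) F, ∀ v, Cfsg.quadFormMinus m F a' b'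
      ((k : Matrix _ _ F) *ᵥ v) = minusForm m F a b v := by
  have hQ := Cfsg.Agent.Helper5.nondegenerate_minusForm_of_aniso m a b hab
  have hQ' := Cfsg.Agent.Helper5.nondegenerate_minusForm_of_aniso m a' b' hab'
  have hfr : Module.finrank F ((Fin m ⊕ Fin m) ⊕ Fin 2 → F) = 2 * (m + 1) := by
    rw [finrank_minus_idx]; ring
  have hnd : ∀ (A : QuadraticForm F ((Fin m ⊕ Fin m) ⊕ Fin 2 → F)),
      (QuadraticMap.polarBilin A).Nondegenerate →
      ∀ u : (Fin m ⊕ Fin m) ⊕ Fin 2 → F, (∀ y, polar A u y = 0) → u = 0 := by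
    intro A hA u hu
    exact hA.1 u hu
  have hiso := exists_isometry_of_hasType (minusForm m F a b) (minusForm m F a' b') hfr hfr
    (hnd _ hQ) (hnd _ hQ') (ε := -1) (hasType_minus m a b hab) (hasType_minus m a' b' hab')
  obtain ⟨G, hG⟩ := hiso
  obtain ⟨k, hkG⟩ := exists_gl_of_linearEquiv G
  refine ⟨k, fun v => ?_⟩
  rw [hkG]
  exact hG v

/-- the standard field automorphism is a field automorphism in the sense of the Prelude -/
theorem isFieldAut_phi1 {ι : Type} [Fintype ι] [DecidableEq ι] (Q : QuadraticForm F (ι → F))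
    (σ : F ≃+* F) (hσ : ∀ v : ι → F, Q (vmap (σ : F →+* F) v) = σ (Q v)) :
    Cfsg.IsFieldAutPOmegaOf ⇑Q σ (phi1 Q σ hσ) := by
  have h1 := (Cfsg.Agent.Helper12.GammaO.isInduced_iff ⇑Q (fld Q σ hσ) (phi1 Q σ hσ)).2 rfl
  intro s s' hs
  apply h1 s s'
  rw [hs]
  show _ = (1 : Matrix _ _ F) * _ * ((1 : GL _ F)⁻¹ : GL _ F).1
  rw [inv_one, Units.val_one, Matrix.one_mul, Matrix.mul_one]
  rfl

/-- an automorphism of odd prime order which is not inner-diagonal is a field automorphism -/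
theorem exists_minusData (hm : 3 ≤ m) (a b : F)
    (hab : ∀ z₁ z₂ : F, z₁ ^ 2 + a * z₁ * z₂ + b * z₂ ^ 2 = 0 → z₁ = 0 ∧ z₂ = 0)
    {p : ℕ} [hp : Fact p.Prime] (hpodd : Odd p)
    (x : MulAut (Cfsg.POmega F ⇑(minusForm m F a b))) (hord : orderOf x = p)
    (hnot : ¬ Cfsg.IsInnerDiagonalAutPOmegaMinus m a b x) :
    Nonempty (MinusData m a b x) := by
  classical
  have hnd := Cfsg.Agent.Helper5.nondegenerate_minusForm_of_aniso m a b hab
  have hn : 7 ≤ Fintype.card ((Fin m ⊕ Fin m) ⊕ Fin 2) := by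
    rw [card_idx_minus]
    omega
  have htop : Cfsg.gammaPOmega F ⇑(minusForm m F a b) = ⊤ := Cfsg.Agent.S2696.result hm a b hab
  have hker := ker_tau (minusForm m F a b) hnd hn htop
  haveI hNn : (Cfsg.inndiagPOmegaMinus m F a b).Normal := normal_inndiag hm a b hab
  haveI hPn : (Cfsg.pgoAut F (Cfsg.quadFormMinus m F a b)).Normal := by
    have : (Cfsg.pgoAut F ⇑(minusForm m F a b)).Normal := by
      rw [← hker]
      exact MonoidHom.normal_ker _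
    exact this
  obtain ⟨σ, hσdef⟩ : ∃ σ, σ = tau (minusForm m F a b) hnd hn htop x := ⟨_, rfl⟩
  have hxp : x ^ p = 1 := by
    rw [← hord]
    exact pow_orderOf_eq_one x
  -- `σ ≠ 1`
  have hσ1 : σ ≠ 1 := by
    intro h1
    apply hnot
    apply isInnerDiagonal_of_mem hm a b hab
    have hxP : x ∈ Cfsg.pgoAut F ⇑(minusForm m F a b) := by
      rw [← hker, MonoidHom.mem_ker, ← hσdef, h1]
    have h3 : (x * 1) ^ p = 1 := by rw [mul_one]; exact hxp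
    exact mem_of_pow_eq_one (Cfsg.inndiagPOmegaMinus m F a b)
      (Cfsg.pgoAut F (Cfsg.quadFormMinus m F a b)) (index_two hm a b hab) hpodd x 1 hxP
      (one_pow p) h3
  have hσp : σ ^ p = 1 := by rw [hσdef, ← map_pow, hxp, map_one]
  have hσord : orderOf σ = p := by
    rcases (Nat.dvd_prime hp.out).1 (orderOf_dvd_of_pow_eq_one hσp) with h | h
    · exact absurd (orderOf_eq_one_iff.1 h) hσ1
    · exact h
  -- anisotropic coefficients in the fixed field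
  obtain ⟨a₀, b₀, hab₀⟩ := Cfsg.Agent.Helper45.exists_aniso ↥(Cfsg.Agent.Helper14.AutPSL.fixF σ)
  have hσa : σ (a₀ : F) = a₀ := (Cfsg.Agent.Helper14.AutPSL.mem_fixF σ).1 a₀.2
  have hσb : σ (b₀ : F) = b₀ := (Cfsg.Agent.Helper14.AutPSL.mem_fixF σ).1 b₀.2
  have hab' : ∀ z₁ z₂ : F, z₁ ^ 2 + (a₀ : F) * z₁ * z₂ + (b₀ : F) * z₂ ^ 2 = 0 →
      z₁ = 0 ∧ z₂ = 0 := by
    apply aniso_of_fixed σ hpodd hσp (a₀ : F) (b₀ : F) hσa hσb
    intro z₁ z₂ h1 h2 h
    have h3 := hab₀ ⟨z₁, (Cfsg.Agent.Helper14.AutPSL.mem_fixF σ).2 h1⟩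
      ⟨z₂, (Cfsg.Agent.Helper14.AutPSL.mem_fixF σ).2 h2⟩ (Subtype.ext (by simpa using h))
    exact ⟨congrArg Subtype.val h3.1, congrArg Subtype.val h3.2⟩
  have hnd' := Cfsg.Agent.Helper5.nondegenerate_minusForm_of_aniso m (a₀ : F) (b₀ : F) hab'
  -- the isometry and the transported standard field automorphism
  obtain ⟨k, hk⟩ := exists_isometry_minus m a b (a₀ : F) (b₀ : F) hab hab'
  have hQ'σ : ∀ v : (Fin m ⊕ Fin m) ⊕ Fin 2 → F,
      Cfsg.quadFormMinus m F (a₀ : F) (b₀ : F) (fun i => σ (v i))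
        = σ (Cfsg.quadFormMinus m F (a₀ : F) (b₀ : F) v) :=
    Cfsg.Agent.Helper5.Coset.quadFormMinus_map m (a₀ : F) (b₀ : F) σ hσa hσb
  have hσQ : ∀ v, minusForm m F (a₀ : F) (b₀ : F) (vmap (σ : F →+* F) v)
      = σ (minusForm m F (a₀ : F) (b₀ : F) v) := hQ'σ
  obtain ⟨φ', hφ'⟩ : ∃ φ' : MulAut (Cfsg.POmega F ⇑(minusForm m F (a₀ : F) (b₀ : F))),
      φ' = phi1 (minusForm m F (a₀ : F) (b₀ : F)) σ hσQ := ⟨_, rfl⟩
  have hφ'f : Cfsg.IsFieldAutPOmegaOf ⇑(minusForm m F (a₀ : F) (b₀ : F)) σ φ' := by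
    rw [hφ']
    exact isFieldAut_phi1 (minusForm m F (a₀ : F) (b₀ : F)) σ hσQ
  obtain ⟨κ, hκ⟩ : ∃ κ : Cfsg.POmega F ⇑(minusForm m F a b)
      ≃* Cfsg.POmega F ⇑(minusForm m F (a₀ : F) (b₀ : F)),
      κ = kappa ⇑(minusForm m F a b) (Cfsg.quadFormMinus m F (a₀ : F) (b₀ : F)) k hk := ⟨_, rfl⟩
  obtain ⟨x₀, hx₀⟩ : ∃ x₀ : MulAut (Cfsg.POmega F ⇑(minusForm m F a b)),
      x₀ = (κ.trans φ').trans κ.symm := ⟨_, rfl⟩
  have hkc : x₀ = psi ⇑(minusForm m F a b) (mkG (minusForm m F a b) (k⁻¹ * glMap σ k) σ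
      (twisted_isSemisimilarityPair ⇑(minusForm m F a b)
        (Cfsg.quadFormMinus m F (a₀ : F) (b₀ : F)) k hk σ hQ'σ)) := by
    rw [hx₀, hκ]
    exact kappa_conj_field (minusForm m F a b) (Cfsg.quadFormMinus m F (a₀ : F) (b₀ : F)) k hk
      σ hQ'σ φ' hφ'f
  have hτx₀ : tau (minusForm m F a b) hnd hn htop x₀ = σ := by
    rw [hkc, tau_psi]
    rfl
  have hx₀field : Cfsg.IsFieldAutClassPOmegaMinus m (a := a) (b := b) x₀ := by
    refine ⟨(a₀ : F), (b₀ : F), κ, σ, hab', hσ1, hσa, hσb, ?_⟩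
    have h3 : (κ.symm.trans x₀).trans κ = φ' := by
      rw [hx₀]
      apply MulEquiv.ext
      intro t
      show κ (κ.symm (φ' (κ (κ.symm t)))) = φ' t
      rw [κ.apply_symm_apply, κ.apply_symm_apply]
    have h4 : Cfsg.IsFieldAutPOmegaOf ⇑(minusForm m F (a₀ : F) (b₀ : F)) σ
        ((κ.symm.trans x₀).trans κ) := by
      rw [h3]
      exact hφ'f
    exact h4
  have hx₀ord : orderOf x₀ = p := by
    have h1 : x₀ = MulAut.congr κ.symm φ' := by
      rw [hx₀]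
      rfl
    rw [h1, MulEquiv.orderOf_eq, hφ', orderOf_phi1 _ _ _ hnd' hn, hσord]
  -- `x = δ x₀` with `δ` inner-diagonal
  obtain ⟨δ, hδ⟩ : ∃ δ : MulAut (Cfsg.POmega F ⇑(minusForm m F a b)), δ = x * x₀⁻¹ := ⟨_, rfl⟩
  have hδx : δ * x₀ = x := by rw [hδ, inv_mul_cancel_right]
  have hδP : δ ∈ Cfsg.pgoAut F ⇑(minusForm m F a b) := by
    rw [← hker, MonoidHom.mem_ker, hδ, map_mul, map_inv, hτx₀, ← hσdef, mul_inv_cancel]
  have hx₀p : x₀ ^ p = 1 := by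
    rw [← hx₀ord]
    exact pow_orderOf_eq_one x₀
  have hδxp : (δ * x₀) ^ p = 1 := by
    rw [hδx]
    exact hxp
  have hδN : δ ∈ Cfsg.inndiagPOmegaMinus m F a b :=
    mem_of_pow_eq_one (Cfsg.inndiagPOmegaMinus m F a b)
      (Cfsg.pgoAut F (Cfsg.quadFormMinus m F a b)) (index_two hm a b hab) hpodd δ x₀ hδP
      hx₀p hδxp
  have hδord : orderOf (δ * x₀) = p := by rw [hδx, hord]
  have h7 : ∃ g : MulAut (Cfsg.POmega F ⇑(minusForm m F a b)), x = g * x₀ * g⁻¹ := by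
    obtain ⟨g, -, hg⟩ := (Cfsg.Agent.S2737.result hm a b hab x₀ δ hx₀field hp.out hx₀ord hδN).1
      hδord
    refine ⟨g, ?_⟩
    rw [← hδx]
    exact hg
  obtain ⟨g, hg'⟩ := h7
  -- the identification
  obtain ⟨ψ, hψ⟩ : ∃ ψ : Cfsg.POmega F ⇑(minusForm m F a b)
      ≃* Cfsg.POmega F ⇑(minusForm m F (a₀ : F) (b₀ : F)), ψ = (g.symm : _ ≃* _).trans κ :=
    ⟨_, rfl⟩
  have h5 : (ψ.symm.trans x).trans ψ = φ' := by
    apply MulEquiv.ext
    intro t
    rw [hψ]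
    show κ (g.symm (x (g (κ.symm t)))) = φ' t
    have h1 : x (g (κ.symm t)) = g (x₀ (κ.symm t)) := by
      rw [hg']
      show g (x₀ (g⁻¹ (g (κ.symm t)))) = _
      rw [MulAut.inv_apply_self]
    rw [h1, MulEquiv.symm_apply_apply, hx₀]
    show κ (κ.symm (φ' (κ (κ.symm t)))) = φ' t
    rw [κ.apply_symm_apply, κ.apply_symm_apply]
  have h6 : Cfsg.IsFieldAutPOmegaOf ⇑(minusForm m F (a₀ : F) (b₀ : F)) σ
      ((ψ.symm.trans x).trans ψ) := by
    rw [h5]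
    exact hφ'f
  exact ⟨⟨(a₀ : F), (b₀ : F), ψ, σ, hab', hσa, hσb, h6⟩⟩

/-- the criterion for automorphisms of odd prime order which are not inner-diagonal -/
theorem field_case (hm : 3 ≤ m) (a b : F)
    (hab : ∀ z₁ z₂ : F, z₁ ^ 2 + a * z₁ * z₂ + b * z₂ ^ 2 = 0 → z₁ = 0 ∧ z₂ = 0)
    (A : Subgroup (MulAut (Cfsg.POmega F (Cfsg.quadFormMinus m F a b))))
    (hinn : ∀ k : Cfsg.POmega F (Cfsg.quadFormMinus m F a b), MulAut.conj k ∈ A)
    {p : ℕ} [hp : Fact p.Prime] (hpodd : Odd p)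
    (x : MulAut (Cfsg.POmega F (Cfsg.quadFormMinus m F a b))) (hord : orderOf x = p)
    (hnot : ¬ Cfsg.IsInnerDiagonalAutPOmegaMinus m a b x) :
    Cfsg.pPrimeCore p ↥(A ⊓ Subgroup.centralizer {x}) ≠ ⊥ ↔
      (Cfsg.IsFieldAutClassPOmegaMinus m x ∧
        Nat.Coprime p (Nat.card ↥(MonoidHom.eqLocus x.toMonoidHom
          (MonoidHom.id (Cfsg.POmega F (Cfsg.quadFormMinus m F a b)))))) := by
  obtain ⟨D⟩ := exists_minusData hm a b hab hpodd x hord hnot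
  have hσ1 : D.σ ≠ RingEquiv.refl F := by
    intro h
    have h1 := D.orderOf_sigma hm
    rw [hord, h] at h1
    have h2 : orderOf (RingEquiv.refl F : F ≃+* F) = 1 := orderOf_one
    rw [h2] at h1
    exact hp.out.one_lt.ne h1
  have hfield : Cfsg.IsFieldAutClassPOmegaMinus m x :=
    ⟨D.a', D.b', D.ψ, D.σ, D.hab', hσ1, D.hσa, D.hσb, D.hstd⟩
  rw [balance_of_minusData hm a b hab A hinn x hord D]
  exact (and_iff_right hfield).symm

end Cfsg.Agent.Helper37.Fld
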