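import Mathlib
import Cfsg.Agent.Helper37.FldF
import Cfsg.Agent.Helper99.GRC
import Cfsg.Agent.Helper5.BalL
import Cfsg.Agent.Helper12.GammaOR

/-!
Helper37: the local-balance criterion for minus-type orthogonal groups (S2733), assembly.  The
graph involutions whose square is a non-square scalar (case (ii)) enter as a hypothesis.
-/

set_option autoImplicit false
set_option linter.unusedSectionVars false

namespace Cfsg.Agent.Helper37.Fld

open Matrix Module QuadraticMap Cfsg.Agent.Helper44 Cfsg.Agent.Helper12.GammaO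
  Cfsg.Agent.Helper37.OddF Cfsg.Agent.Helper37.Bal

variable {F : Type*} [Field F] [Fintype F] {m : ℕ}

/-- the graph involutions: the `2'`-core of the centraliser is trivial -/
theorem graph_case (hodd : Odd (Fintype.card F)) (hm : 3 ≤ m) (a b : F)
    (hab : ∀ z₁ z₂ : F, z₁ ^ 2 + a * z₁ * z₂ + b * z₂ ^ 2 = 0 → z₁ = 0 ∧ z₂ = 0)
    (A : Subgroup (MulAut (Cfsg.POmega F (Cfsg.quadFormMinus m F a b))))
    (hinn : ∀ k : Cfsg.POmega F (Cfsg.quadFormMinus m F a b), MulAut.conj k ∈ A)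
    (x : MulAut (Cfsg.POmega F ⇑(minusForm m F a b))) (hord : orderOf x = 2)
    (hnot : ¬ Cfsg.IsInnerDiagonalAutPOmegaMinus m a b x)
    (hII : ∀ (δ : ↥(Cfsg.Geo.quadSimilarityGroup (F := F) ⇑(minusForm m F a b))),
      Odd (m + 1) → ∀ lam : F, ¬ IsSquare lam →
      ((δ.1 : GL ((Fin m ⊕ Fin m) ⊕ Fin 2) F) :
          Matrix ((Fin m ⊕ Fin m) ⊕ Fin 2) ((Fin m ⊕ Fin m) ⊕ Fin 2) F)
        * ((δ.1 : GL ((Fin m ⊕ Fin m) ⊕ Fin 2) F) :
          Matrix ((Fin m ⊕ Fin m) ⊕ Fin 2) ((Fin m ⊕ Fin m) ⊕ Fin 2) F)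
        = lam • (1 : Matrix ((Fin m ⊕ Fin m) ⊕ Fin 2) ((Fin m ⊕ Fin m) ⊕ Fin 2) F) →
      (∀ v, minusForm m F a b (((δ.1 : GL ((Fin m ⊕ Fin m) ⊕ Fin 2) F) :
          Matrix ((Fin m ⊕ Fin m) ⊕ Fin 2) ((Fin m ⊕ Fin m) ⊕ Fin 2) F) *ᵥ v)
        = lam * minusForm m F a b v) →
      Cfsg.pPrimeCore 2 ↥(A ⊓ Subgroup.centralizer {conjAut ⇑(minusForm m F a b) δ}) = ⊥) :
    Cfsg.pPrimeCore 2 ↥(A ⊓ Subgroup.centralizer {x}) = ⊥ := by
  have h2 : (2 : F) ≠ 0 := Cfsg.Agent.Helper5.two_ne_zero_of_odd_card hodd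
  have hnd := Cfsg.Agent.Helper5.nondegenerate_minusForm_of_aniso m a b hab
  have hn : 7 ≤ Fintype.card ((Fin m ⊕ Fin m) ⊕ Fin 2) := by
    rw [card_idx_minus]
    omega
  have htop : Cfsg.gammaPOmega F ⇑(minusForm m F a b) = ⊤ := Cfsg.Agent.S2696.result hm a b hab
  have hx2 : x * x = 1 := by
    have h3 := pow_orderOf_eq_one x
    rw [hord] at h3
    rw [← pow_two]
    exact h3
  have hxΓ : x ∈ Cfsg.gammaPOmega F ⇑(minusForm m F a b) := by
    rw [htop]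
    exact Subgroup.mem_top x
  have hxP : x ∈ Cfsg.pgoAut F ⇑(minusForm m F a b) :=
    Cfsg.Agent.Helper12.GammaO.involution_mem_pgoAut_minus hodd hm a b hab x hxΓ hx2
  rw [pgoAut_eq_map] at hxP
  obtain ⟨δ, rfl⟩ := hxP
  -- `dHom δ = -1`
  have hd : dHom (minusForm m F a b) (ht_single m a b) (m + 1) δ = -1 := by
    rcases dHom_eq_one_or (minusForm m F a b) (ht_single m a b) (m + 1) (card_idx_minus m) hnd δ
      with h1 | h1
    · exfalso
      apply hnot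
      exact ⟨δ.1, δ.2,
        (preservesSingularClassesMinus_iff h2 (by omega) a b hab (ht_single m a b) δ).2 h1,
        (Cfsg.Agent.Helper44.isInduced_iff ⇑(minusForm m F a b) δ.1 δ.2 _).2 rfl⟩
    · exact h1
  -- `δ²` is a scalar
  have hsq : ∃ μ : F, ((δ.1 : GL ((Fin m ⊕ Fin m) ⊕ Fin 2) F) :
        Matrix ((Fin m ⊕ Fin m) ⊕ Fin 2) ((Fin m ⊕ Fin m) ⊕ Fin 2) F)
      * ((δ.1 : GL ((Fin m ⊕ Fin m) ⊕ Fin 2) F) :
        Matrix ((Fin m ⊕ Fin m) ⊕ Fin 2) ((Fin m ⊕ Fin m) ⊕ Fin 2) F)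
      = μ • (1 : Matrix ((Fin m ⊕ Fin m) ⊕ Fin 2) ((Fin m ⊕ Fin m) ⊕ Fin 2) F) := by
    have h3 : δ * δ ∈ (conjAut ⇑(minusForm m F a b)).ker := by
      rw [MonoidHom.mem_ker, map_mul]
      exact hx2
    rw [ker_conjAut (minusForm m F a b) hnd hn, Subgroup.mem_subgroupOf] at h3
    obtain ⟨c, hc⟩ := (Cfsg.Geo.mem_scalars_iff _).1 h3
    exact ⟨c, hc⟩
  rcases Cfsg.Agent.Helper99.GRC.classify_graph_invol h2 (minusForm m F a b) hnd (m + 1)
    (card_idx_minus m) (ht_single m a b) δ hsq hd with ⟨c, g, hδ, hg2, hdet⟩ | ⟨hmo, lam, hlam, hsq', hmul⟩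
  · have hgg : g * g = 1 := by
      apply Subtype.ext
      apply Units.ext
      exact hg2
    have h4 : conjAut ⇑(minusForm m F a b) δ
        = conjAut ⇑(minusForm m F a b) (toGO (minusForm m F a b) g) := by
      rw [hδ, map_mul, MonoidHom.mem_ker.1 (mem_ker_of_mem_scalars ⇑(minusForm m F a b) _
        (scalarGO_mem_scalars (minusForm m F a b) c)), one_mul]
    rw [h4]
    exact Cfsg.Agent.Helper5.Bal.core_eq_bot_of_invol hodd hm a b hab A hinn g hgg hdet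
  · exact hII δ hmo lam hlam hsq' hmul

/-- the local-balance criterion for `PΩ⁻_{2m+2}(q)`, modulo case (ii) of the graph involutions -/
theorem main_balance_minus {r : ℕ} [Fact r.Prime] [CharP F r] (hm : 3 ≤ m) (a b : F)
    (hab : ∀ z₁ z₂ : F, z₁ ^ 2 + a * z₁ * z₂ + b * z₂ ^ 2 = 0 → z₁ = 0 ∧ z₂ = 0)
    (A : Subgroup (MulAut (Cfsg.POmega F (Cfsg.quadFormMinus m F a b))))
    (hinn : ∀ k : Cfsg.POmega F (Cfsg.quadFormMinus m F a b), MulAut.conj k ∈ A)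
    {p : ℕ} [hp : Fact p.Prime] (hpr : p ≠ r)
    (x : MulAut (Cfsg.POmega F (Cfsg.quadFormMinus m F a b))) (hord : orderOf x = p)
    (hnot : ¬ Cfsg.IsInnerDiagonalAutPOmegaMinus m a b x)
    (hII : Odd (Fintype.card F) →
      ∀ (δ : ↥(Cfsg.Geo.quadSimilarityGroup (F := F) ⇑(minusForm m F a b))),
      Odd (m + 1) → ∀ lam : F, ¬ IsSquare lam →
      ((δ.1 : GL ((Fin m ⊕ Fin m) ⊕ Fin 2) F) :
          Matrix ((Fin m ⊕ Fin m) ⊕ Fin 2) ((Fin m ⊕ Fin m) ⊕ Fin 2) F)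
        * ((δ.1 : GL ((Fin m ⊕ Fin m) ⊕ Fin 2) F) :
          Matrix ((Fin m ⊕ Fin m) ⊕ Fin 2) ((Fin m ⊕ Fin m) ⊕ Fin 2) F)
        = lam • (1 : Matrix ((Fin m ⊕ Fin m) ⊕ Fin 2) ((Fin m ⊕ Fin m) ⊕ Fin 2) F) →
      (∀ v, minusForm m F a b (((δ.1 : GL ((Fin m ⊕ Fin m) ⊕ Fin 2) F) :
          Matrix ((Fin m ⊕ Fin m) ⊕ Fin 2) ((Fin m ⊕ Fin m) ⊕ Fin 2) F) *ᵥ v)
        = lam * minusForm m F a b v) →
      Cfsg.pPrimeCore 2 ↥(A ⊓ Subgroup.centralizer {conjAut ⇑(minusForm m F a b) δ}) = ⊥) :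
    Cfsg.pPrimeCore p ↥(A ⊓ Subgroup.centralizer {x}) ≠ ⊥ ↔
      (Cfsg.IsFieldAutClassPOmegaMinus m x ∧
        Nat.Coprime p (Nat.card ↥(MonoidHom.eqLocus x.toMonoidHom
          (MonoidHom.id (Cfsg.POmega F (Cfsg.quadFormMinus m F a b)))))) := by
  rcases hp.out.eq_two_or_odd' with h2p | hpodd
  · subst h2p
    have hr2 : ringChar F ≠ 2 := by
      rw [ringChar.eq F r]
      exact fun h => hpr h.symm
    have hodd : Odd (Fintype.card F) := Nat.odd_iff.2 (FiniteField.odd_card_of_char_ne_two hr2)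
    have hR : ¬ Cfsg.IsFieldAutClassPOmegaMinus m x := by
      intro hx
      obtain ⟨D⟩ := minusData_of m a b x hx
      have := D.odd_order hm Nat.prime_two hord
      exact absurd this (by decide)
    have hL := graph_case hodd hm a b hab A hinn x hord hnot (hII hodd)
    constructor
    · intro h
      exact absurd hL h
    · rintro ⟨h, -⟩
      exact absurd h hR
  · exact field_case hm a b hab A hinn hpodd x hord hnot

end Cfsg.Agent.Helper37.Fld
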