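import Mathlib

/-!
# S4385 (helper42's GD farm #14513), leaf (DC): two involutions `a`, `b` with `(a b)^m = 1` generate a group of
order at most `2 m`.
-/

set_option autoImplicit false

universe u

namespace Cfsg.Agent.Helper37.GD

open Pointwise

/-- left multiplication by `a` preserves the set `⟨ρ⟩ ∪ ⟨ρ⟩ a`, `ρ = a * b` -/
theorem DC_step {Γ : Type*} [Group Γ] (a b : Γ) (ha : a * a = 1) (hb : b * b = 1) (y : Γ)
    (hy : ∃ c ∈ Subgroup.zpowers (a * b), y = c ∨ y = c * a) :
    ∃ c ∈ Subgroup.zpowers (a * b), a * y = c ∨ a * y = c * a := by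
  have hainv : a⁻¹ = a := inv_eq_of_mul_eq_one_right ha
  have hbinv : b⁻¹ = b := inv_eq_of_mul_eq_one_right hb
  have hconj : a * (a * b) * a⁻¹ = (a * b)⁻¹ := by
    rw [mul_inv_rev, hainv, hbinv, ← mul_assoc, ha, one_mul]
  have hc : ∀ c ∈ Subgroup.zpowers (a * b), a * c = c⁻¹ * a := by
    intro c hc
    obtain ⟨k, rfl⟩ := Subgroup.mem_zpowers_iff.mp hc
    have h1 : a * (a * b) ^ k * a⁻¹ = ((a * b) ^ k)⁻¹ := by
      rw [← conj_zpow, hconj, inv_zpow]
    rw [← h1, inv_mul_cancel_right]
  obtain ⟨c, hcm, h | h⟩ := hy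
  · rw [h]
    exact ⟨c⁻¹, inv_mem hcm, Or.inr (hc c hcm)⟩
  · rw [h]
    refine ⟨c⁻¹, inv_mem hcm, Or.inl ?_⟩
    rw [← mul_assoc, hc c hcm, mul_assoc, ha, mul_one]

/-- (DC) two involutions generate a group of order at most `2m` if `(a b)^m = 1`. -/
theorem card_closure_pair_le {Γ : Type*} [Group Γ] (a b : Γ) (ha : a * a = 1) (hb : b * b = 1)
    (m : ℕ) (hm : 0 < m) (hab : (a * b) ^ m = 1) : Nat.card (Subgroup.closure {a, b}) ≤ 2 * m := by
  classical
  have hainv : a⁻¹ = a := inv_eq_of_mul_eq_one_right ha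
  have hbinv : b⁻¹ = b := inv_eq_of_mul_eq_one_right hb
  have hfo : IsOfFinOrder (a * b) := isOfFinOrder_iff_pow_eq_one.mpr ⟨m, hm, hab⟩
  have hcardZ : Nat.card (Subgroup.zpowers (a * b)) = orderOf (a * b) := Nat.card_zpowers _
  have hordpos : 0 < orderOf (a * b) := orderOf_pos_iff.mpr hfo
  have hfin : Finite (Subgroup.zpowers (a * b)) := Nat.finite_of_card_ne_zero (by omega)
  have hordle : orderOf (a * b) ≤ m := Nat.le_of_dvd hm (orderOf_dvd_of_pow_eq_one hab)
  -- the map onto `⟨ρ⟩ ∪ ⟨ρ⟩ a`
  let g : Subgroup.zpowers (a * b) × Bool → Γ := fun x => if x.2 then (x.1 : Γ) * a else (x.1 : Γ)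
  have hsub : ((Subgroup.closure {a, b} : Subgroup Γ) : Set Γ) ⊆ Set.range g := by
    intro x hx
    have key : ∃ c ∈ Subgroup.zpowers (a * b), x = c ∨ x = c * a := by
      induction hx using Subgroup.closure_induction_left with
      | one => exact ⟨1, one_mem _, Or.inl rfl⟩
      | mul_left s hs y _ ih =>
        rcases hs with rfl | hs
        · exact DC_step s b ha hb y ih
        · rw [Set.mem_singleton_iff] at hs
          subst hs
          -- `b = a * ρ`
          have hb' : s = a * (a * s) := by rw [← mul_assoc, ha, one_mul]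
          obtain ⟨c, hcm, hc⟩ := ih
          have h2 : ∃ c' ∈ Subgroup.zpowers (a * s), (a * s) * y = c' ∨ (a * s) * y = c' * a := by
            refine ⟨(a * s) * c, mul_mem (Subgroup.mem_zpowers _) hcm, ?_⟩
            rcases hc with h | h
            · exact Or.inl (by rw [h])
            · exact Or.inr (by rw [h]; simp only [mul_assoc])
          have h3 := DC_step a s ha hb ((a * s) * y) h2
          rw [← mul_assoc, ← hb'] at h3
          exact h3
      | inv_mul_cancel s hs y _ ih =>
        rcases hs with rfl | hs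
        · rw [hainv]
          exact DC_step s b ha hb y ih
        · rw [Set.mem_singleton_iff] at hs
          subst hs
          rw [hbinv]
          have hb' : s = a * (a * s) := by rw [← mul_assoc, ha, one_mul]
          obtain ⟨c, hcm, hc⟩ := ih
          have h2 : ∃ c' ∈ Subgroup.zpowers (a * s), (a * s) * y = c' ∨ (a * s) * y = c' * a := by
            refine ⟨(a * s) * c, mul_mem (Subgroup.mem_zpowers _) hcm, ?_⟩
            rcases hc with h | h
            · exact Or.inl (by rw [h])
            · exact Or.inr (by rw [h]; simp only [mul_assoc])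
          have h3 := DC_step a s ha hb ((a * s) * y) h2
          rw [← mul_assoc, ← hb'] at h3
          exact h3
    obtain ⟨c, hcm, h | h⟩ := key
    · exact ⟨(⟨c, hcm⟩, false), by simp [g, h]⟩
    · exact ⟨(⟨c, hcm⟩, true), by simp [g, h]⟩
  calc Nat.card (Subgroup.closure {a, b})
      = Nat.card ((Subgroup.closure {a, b} : Subgroup Γ) : Set Γ) := rfl
    _ ≤ Nat.card (Set.range g) := Nat.card_mono (Set.finite_range g) hsub
    _ ≤ Nat.card (Subgroup.zpowers (a * b) × Bool) :=
        Nat.card_le_card_of_surjective (Set.rangeFactorization g) Set.rangeFactorization_surjective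
    _ = orderOf (a * b) * 2 := by rw [Nat.card_prod, hcardZ]; simp
    _ ≤ 2 * m := by omega

end Cfsg.Agent.Helper37.GD
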