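import Mathlib
import Cfsg.Prelude.Def_Solvable
import Cfsg.Agent.Helper51.SidkiRed

/-!
# S4385 (helper42's GD farm #14513), leaf (ODD): `Γ/O_2(Γ) ≅ D_n`, `n ≥ 2` ⇒ `n` odd.
-/

set_option autoImplicit false

universe u

namespace Cfsg.Agent.Helper37.GD

open Pointwise Cfsg

/-- `k + k = 0` in `ZMod (2 k)` -/
theorem ODD_two_mul (k : ℕ) : ((k : ℕ) : ZMod (2 * k)) + (k : ZMod (2 * k)) = 0 := by
  have h : ((2 * k : ℕ) : ZMod (2 * k)) = 0 := ZMod.natCast_self _
  calc ((k : ℕ) : ZMod (2 * k)) + (k : ZMod (2 * k)) = ((2 * k : ℕ) : ZMod (2 * k)) := by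
        push_cast; ring
    _ = 0 := h

/-- for even `n = 2 k` the rotation `r k` is central in `DihedralGroup n` -/
theorem ODD_central (k : ℕ) (g : DihedralGroup (2 * k)) :
    g * DihedralGroup.r (k : ZMod (2 * k)) = DihedralGroup.r (k : ZMod (2 * k)) * g := by
  have h2 : ((k : ℕ) : ZMod (2 * k)) + (k : ZMod (2 * k)) = 0 := ODD_two_mul k
  cases g with
  | r i =>
    rw [DihedralGroup.r_mul_r, DihedralGroup.r_mul_r, add_comm]
  | sr i =>
    rw [DihedralGroup.sr_mul_r, DihedralGroup.r_mul_sr]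
    congr 1
    linear_combination h2

/-- (ODD) `Γ/O_2(Γ) ≅ D_n`, `n ≥ 2` ⇒ `n` odd. -/
theorem odd_of_dihedral {Γ : Type*} [Group Γ] [Finite Γ] {n : ℕ} (hn : 2 ≤ n)
    (e : Γ ⧸ Cfsg.pCore 2 Γ ≃* DihedralGroup n) : Odd n := by
  rw [← Nat.not_even_iff_odd]
  rintro ⟨k, hk⟩
  have hk2 : n = 2 * k := by omega
  subst hk2
  have hkpos : 0 < k := by omega
  set z : DihedralGroup (2 * k) := DihedralGroup.r (k : ZMod (2 * k)) with hz
  have hzne : z ≠ 1 := by
    rw [hz, DihedralGroup.one_def]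
    intro h
    have h1 : ((k : ℕ) : ZMod (2 * k)) = 0 := DihedralGroup.r.inj h
    rw [ZMod.natCast_eq_zero_iff] at h1
    have := Nat.le_of_dvd hkpos h1
    omega
  have hzsq : z * z = 1 := by
    rw [hz, DihedralGroup.r_mul_r, DihedralGroup.one_def]
    congr 1
    exact ODD_two_mul k
  -- the preimage of `⟨z⟩` is a normal `2`-subgroup of `Γ / O_2(Γ)`
  have hZn : (Subgroup.zpowers z).Normal := by
    constructor
    intro x hx g
    obtain ⟨j, rfl⟩ := Subgroup.mem_zpowers_iff.mp hx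
    have hcomm : g * z ^ j = z ^ j * g := by
      have h1 : Commute g z := ODD_central k g
      exact (h1.zpow_right j).eq
    rw [hcomm, mul_inv_cancel_right]
    exact Subgroup.zpow_mem_zpowers z j
  set N : Subgroup (Γ ⧸ Cfsg.pCore 2 Γ) := (Subgroup.zpowers z).comap e.toMonoidHom with hN
  have hNn : N.Normal := hZn.comap _
  have hNp : IsPGroup 2 N := by
    intro g
    refine ⟨1, ?_⟩
    have hg : e (g : Γ ⧸ Cfsg.pCore 2 Γ) ∈ Subgroup.zpowers z := g.2
    obtain ⟨j, hj⟩ := Subgroup.mem_zpowers_iff.mp hg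
    apply Subtype.ext
    apply e.injective
    rw [pow_one, Subgroup.coe_pow, map_pow, Subgroup.coe_one, map_one, ← hj, ← zpow_natCast, ← zpow_mul,
      zpow_mul', zpow_natCast, pow_two, hzsq, one_zpow]
  have hle : N ≤ Cfsg.pCore 2 (Γ ⧸ Cfsg.pCore 2 Γ) := Cfsg.Agent.Lib.le_pCore hNn hNp
  rw [Cfsg.Agent.Helper51.Sidki.pCore_two_quotient_eq_bot] at hle
  have hmem : e.symm z ∈ N := by
    show e (e.symm z) ∈ Subgroup.zpowers z
    rw [MulEquiv.apply_symm_apply]
    exact Subgroup.mem_zpowers z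
  have h1 : e.symm z = 1 := (Subgroup.mem_bot).mp (hle hmem)
  apply hzne
  have := congrArg e h1
  rwa [MulEquiv.apply_symm_apply, map_one] at this

end Cfsg.Agent.Helper37.GD
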