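import Mathlib
import Cfsg.Agent.Helper64.GrossMidDefs
import Cfsg.Agent.Helper91.GrossAC
import Cfsg.Agent.Helper70.FrattiniAction
import Cfsg.Agent.Helper63.Frattini
import Cfsg.Agent.S0029
import Cfsg.Agent.S0032
import Cfsg.Agent.S3754

/-!
# Gross's theorem S3795 (helper64's WANTED #6324), piece (AB) `abelian_tower`.  helper37.

An `s`-group `S = [S, τ]` acting on a `q`-group `Q` with `C_Q(x) = 1`, abelian modulo `C_S(Q)`, centralizes `Q`:
pass to `V = Q / Φ(Q)`, apply (AC) to the image of `S` in `Aut V`, and lift with S0029.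
-/

set_option autoImplicit false

namespace Cfsg.Agent.Helper37.Gross

open Subgroup Cfsg.Agent.Helper64.Gross Cfsg.Agent.Helper47.SG Cfsg.Agent.Helper70
open scoped commutatorElement

universe uΓ

/-- (AC) for a group `V` that happens to be commutative, acted on by a subgroup of `MulAut V`. -/
theorem ac_group {V : Type uΓ} [Group V] [Finite V] (hV : ∀ a b : V, a * b = b * a) (q s n : ℕ)
    (U : Subgroup (MulAut V)) (x : MulAut V) (hs : s.Prime) (hq : q.Prime) (hs2 : s ≠ 2) (hq2 : q ≠ 2)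
    (hsq : s ≠ q) (hexp : ∀ w : V, w ^ q = 1) (hU : IsPGroup s U)
    (hUab : ∀ a ∈ U, ∀ b ∈ U, a * b = b * a) (hxU : x ∈ normalizer (U : Set (MulAut V)))
    (hx : x ^ (2 ^ (n + 1)) = 1) (hfpf : ∀ w : V, x w = w → w = 1) :
    ∀ a ∈ U, x ^ (2 ^ n) * a = a * x ^ (2 ^ n) := by
  let _ : CommGroup V := { (inferInstance : Group V) with mul_comm := hV }
  exact Cfsg.Agent.Helper91.Gross.abelian_cent.{uΓ, uΓ} (MulAut V) V s q n (MonoidHom.id _) U x hs hq
    hs2 hq2 hsq hexp hU hUab hxU hx (fun a _ ha => ha) hfpf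

/-- (AB) -/
theorem abelian_tower : AbelianTowerStmt.{uΓ} := by
  intro Γ _ _ q s n Q S x hq hs hq2 hs2 hqs hQ hS hSQ hxQ hxS hx hfix hSS hcomm
  classical
  have : Fact q.Prime := ⟨hq⟩
  have : Fact s.Prime := ⟨hs⟩
  have hQ' : IsPGroup q ↥Q := hQ
  -- the Frattini quotient is commutative
  have hVcomm : ∀ a b : ↥Q ⧸ frattini ↥Q, a * b = b * a := by
    intro a b
    induction a using QuotientGroup.induction_on with
    | H a =>
    induction b using QuotientGroup.induction_on with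
    | H b =>
    rw [← QuotientGroup.mk_mul, ← QuotientGroup.mk_mul, QuotientGroup.eq]
    apply Cfsg.Agent.S3754.commutator_le_frattini_of_isPGroup hQ'
    have e : (a * b)⁻¹ * (b * a) = ⁅b⁻¹, a⁻¹⁆ := by
      rw [commutatorElement_def]; group
    rw [e, commutator_def]
    exact Subgroup.commutator_mem_commutator (Subgroup.mem_top _) (Subgroup.mem_top _)
  have hVexp : ∀ w : ↥Q ⧸ frattini ↥Q, w ^ q = 1 := by
    intro w
    induction w using QuotientGroup.induction_on with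
    | H a =>
    rw [← QuotientGroup.mk_pow, QuotientGroup.eq_one_iff]
    exact Cfsg.Agent.Helper63.pow_prime_mem_frattini hQ' a
  -- the action of the normalizer of `Q`
  obtain ⟨ν, hν⟩ : ∃ ν : ↥(normalizer (Q : Set Γ)) →* MulAut ↥Q,
      ∀ (g : ↥(normalizer (Q : Set Γ))) (k : ↥Q), ((ν g k : ↥Q) : Γ) = g * k * (g : Γ)⁻¹ :=
    ⟨Subgroup.normalizerMonoidHom Q, fun _ _ => rfl⟩
  obtain ⟨ψ, hψ⟩ : ∃ ψ : ↥(normalizer (Q : Set Γ)) →* MulAut (↥Q ⧸ frattini ↥Q),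
      ∀ (g : ↥(normalizer (Q : Set Γ))) (k : ↥Q),
        ψ g ((k : ↥Q) : ↥Q ⧸ frattini ↥Q) = ((ν g k : ↥Q) : ↥Q ⧸ frattini ↥Q) :=
    ⟨(autQuot (frattini ↥Q)).comp ν, fun _ _ => rfl⟩
  -- elements centralizing `Q` act trivially
  have hψ1 : ∀ g : ↥(normalizer (Q : Set Γ)), (g : Γ) ∈ centralizer (Q : Set Γ) → ψ g = 1 := by
    intro g hg
    ext w
    induction w using QuotientGroup.induction_on with
    | H k =>
    rw [hψ, MulAut.one_apply]
    congr 1
    apply Subtype.ext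
    rw [hν, ← (mem_centralizer_iff.mp hg) k k.2, mul_inv_cancel_right]
  -- notation
  have hxN : x ∈ normalizer (Q : Set Γ) := hxQ
  let x' : ↥(normalizer (Q : Set Γ)) := ⟨x, hxN⟩
  let S' : Subgroup ↥(normalizer (Q : Set Γ)) := S.subgroupOf (normalizer (Q : Set Γ))
  let Sbar : Subgroup (MulAut (↥Q ⧸ frattini ↥Q)) := S'.map ψ
  -- hypotheses of (AC)
  have hSbar_p : IsPGroup s Sbar := (hS.comap_subtype).map ψ
  have hSbar_ab : ∀ a ∈ Sbar, ∀ b ∈ Sbar, a * b = b * a := by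
    rintro _ ⟨a, ha, rfl⟩ _ ⟨b, hb, rfl⟩
    have ha' : (a : Γ) ∈ S := ha
    have hb' : (b : Γ) ∈ S := hb
    have h1 : ψ (a * b * a⁻¹ * b⁻¹) = 1 := by
      apply hψ1
      have := hSS a ha' b hb'
      rw [commutatorElement_def] at this
      simpa using this
    rw [map_mul, map_mul, map_mul, map_inv, map_inv, mul_inv_eq_one, mul_inv_eq_iff_eq_mul] at h1
    exact h1
  have hx'S' : x' ∈ normalizer ((S' : Subgroup ↥(normalizer (Q : Set Γ))) : Set ↥(normalizer (Q : Set Γ))) := by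
    rw [mem_normalizer_iff]
    intro h
    show (h : Γ) ∈ S ↔ ((x' * h * x'⁻¹ : ↥(normalizer (Q : Set Γ))) : Γ) ∈ S
    exact mem_normalizer_iff.mp hxS (h : Γ)
  have hxbarN : ψ x' ∈ normalizer ((Sbar : Subgroup (MulAut (↥Q ⧸ frattini ↥Q))) : Set _) :=
    Subgroup.le_normalizer_map ψ ⟨x', hx'S', rfl⟩
  have hxbar_pow : (ψ x') ^ (2 ^ (n + 1)) = 1 := by
    rw [← map_pow]
    have : x' ^ (2 ^ (n + 1)) = 1 := Subtype.ext (by simpa using hx)
    rw [this, map_one]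
  have hxbar_fpf : ∀ w : ↥Q ⧸ frattini ↥Q, (ψ x') w = w → w = 1 := by
    intro w hw
    induction w using QuotientGroup.induction_on with
    | H k =>
    have hw' : ((ν x' k : ↥Q) : ↥Q ⧸ frattini ↥Q) = (k : ↥Q ⧸ frattini ↥Q) := by
      rw [← hψ]; exact hw
    rw [QuotientGroup.eq] at hw'
    have hfpf : MonoidHom.FixedPointFree ((ν x' : ↥Q ≃* ↥Q) : ↥Q →* ↥Q) := by
      intro g hg
      have h1 : ((ν x' g : ↥Q) : Γ) = g := congrArg Subtype.val hg
      rw [hν] at h1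
      have h2 : x * (g : Γ) = (g : Γ) * x := by
        calc x * (g : Γ) = (x * (g : Γ) * x⁻¹) * x := by group
          _ = (g : Γ) * x := by rw [h1]
      exact Subtype.ext (hfix g g.2 h2)
    have hinv : ∀ m ∈ frattini ↥Q, (ν x' : ↥Q ≃* ↥Q) m ∈ frattini ↥Q := by
      intro m hm
      have hchar : (frattini ↥Q).Characteristic := inferInstance
      have := Subgroup.characteristic_iff_map_eq.mp hchar (ν x')
      rw [← this]
      exact ⟨m, hm, rfl⟩
    have := Cfsg.Agent.S0032.result (ν x' : ↥Q ≃* ↥Q) hfpf (frattini ↥Q) hinv k hw'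
    exact (QuotientGroup.eq_one_iff k).mpr this
  -- apply (AC) in `MulAut V`
  have hAC := ac_group hVcomm q s n Sbar (ψ x') hs hq hs2 hq2 (Ne.symm hqs) hVexp hSbar_p
    hSbar_ab hxbarN hxbar_pow hxbar_fpf
  -- `S` acts trivially on `V`
  have hker : ∀ a ∈ S, ∀ ha : a ∈ normalizer (Q : Set Γ), ψ ⟨a, ha⟩ = 1 := by
    have hle : S ≤ (ψ.ker).map (normalizer (Q : Set Γ)).subtype := by
      rw [← hcomm, Subgroup.commutator_le]
      intro a ha t ht
      have haN : a ∈ normalizer (Q : Set Γ) := hSQ ha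
      have htN : t ∈ normalizer (Q : Set Γ) := by
        obtain ⟨k, rfl⟩ := mem_zpowers_iff.mp ht
        exact Subgroup.zpow_mem _ (Subgroup.pow_mem _ hxN _) _
      refine ⟨⁅(⟨a, haN⟩ : ↥(normalizer (Q : Set Γ))), ⟨t, htN⟩⁆, MonoidHom.mem_ker.mpr ?_, rfl⟩
      rw [map_commutatorElement, commutatorElement_eq_one_iff_commute]
      obtain ⟨k, rfl⟩ := mem_zpowers_iff.mp ht
      have h1 : ψ ⟨(x ^ 2 ^ n) ^ k, htN⟩ = (ψ x' ^ (2 ^ n)) ^ k := by
        rw [← map_pow, ← map_zpow]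
        rfl
      rw [h1]
      apply Commute.zpow_right
      exact (hAC (ψ ⟨a, haN⟩) ⟨⟨a, haN⟩, ha, rfl⟩).symm
    intro a ha haN
    obtain ⟨b, hb, hba⟩ := hle ha
    have : b = ⟨a, haN⟩ := Subtype.ext hba
    rw [← this]
    exact MonoidHom.mem_ker.mp hb
  -- lift with S0029
  apply Cfsg.Agent.S0029.result S Q hSQ
  · obtain ⟨i, hi⟩ := IsPGroup.iff_card.mp hS
    obtain ⟨j, hj⟩ := IsPGroup.iff_card.mp hQ
    have hdvd : Nat.card (frattini ↥Q) ∣ q ^ j := hj ▸ Subgroup.card_subgroup_dvd_card _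
    rw [hi]
    apply Nat.Coprime.coprime_dvd_right hdvd
    exact Nat.Coprime.pow _ _ ((Nat.coprime_primes hs hq).mpr (Ne.symm hqs))
  · intro a ha k hk
    have h1 := hker a ha (hSQ ha)
    have h2 : ψ ⟨a, hSQ ha⟩ (((⟨k, hk⟩ : ↥Q)) : ↥Q ⧸ frattini ↥Q) = ((⟨k, hk⟩ : ↥Q) : ↥Q ⧸ frattini ↥Q) := by
      rw [h1]; rfl
    rw [hψ] at h2
    have h3 : (ν ⟨a, hSQ ha⟩ ⟨k, hk⟩ * (⟨k, hk⟩ : ↥Q)⁻¹ : ↥Q) ∈ frattini ↥Q := by
      rw [← QuotientGroup.eq_one_iff, QuotientGroup.mk_mul, QuotientGroup.mk_inv, h2, mul_inv_cancel]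
    refine ⟨_, h3, ?_⟩
    show ((ν ⟨a, hSQ ha⟩ ⟨k, hk⟩ : ↥Q) : Γ) * ((⟨k, hk⟩ : ↥Q) : Γ)⁻¹ = a * k * a⁻¹ * k⁻¹
    rw [hν]

end Cfsg.Agent.Helper37.Gross
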