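import Cfsg.Agent.Helper85.KLDefs
import Cfsg.Agent.Helper85.PPrimeResidual
set_option autoImplicit false

/-!
# Piece (G) of #5932 (S5142, helper85)

`mem_autGroup_of_resAut_mem_of`: an automorphism `α ∈ Aut_E(T)` whose restriction to an `E`-centric subgroup `P` is a
map of `D` lies in `Aut_D(T)`; the induction step (F) `exists_pow_mem_autGroup` enters as the explicit hypothesis
`hstep`.
-/

namespace Cfsg.Agent.Helper37.KL

open Cfsg Cfsg.FusionSystem Cfsg.Agent.Helper87 Cfsg.Agent.Helper85 Cfsg.Agent.Helper85.KL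

variable {Ω : Type*} [Group Ω] {S T : Subgroup Ω}

/-- An element with two coprime powers in a subgroup lies in the subgroup. -/
theorem mem_of_pow_mem_of_coprime {G : Type*} [Group G] (H : Subgroup G) (g : G) {m n : ℕ}
    (hmn : Nat.Coprime m n) (hm : g ^ m ∈ H) (hn : g ^ n ∈ H) : g ∈ H := by
  have h := Nat.gcd_eq_gcd_ab m n
  rw [hmn.gcd_eq_one] at h
  have h2 : g = (g ^ m) ^ (m.gcdA n) * (g ^ n) ^ (m.gcdB n) := by
    rw [← zpow_natCast, ← zpow_natCast, ← zpow_mul, ← zpow_mul, ← zpow_add, ← h]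
    simp
  rw [h2]
  exact H.mul_mem (H.zpow_mem hm _) (H.zpow_mem hn _)

/-- The inner automorphisms of `T` form a normal subgroup of `Aut(T)`. -/
theorem autInducedBy_self_normal (T : Subgroup Ω) : (autInducedBy T T).Normal := by
  refine ⟨fun α hα β => ?_⟩
  rw [mem_autInducedBy_iff] at hα ⊢
  obtain ⟨g, hg, hgx⟩ := hα
  refine ⟨((β ⟨g, hg⟩ : T) : Ω), (β ⟨g, hg⟩).2, fun x => ?_⟩
  have h1 : α (β⁻¹ x) = ⟨g, hg⟩ * β⁻¹ x * (⟨g, hg⟩ : T)⁻¹ := Subtype.ext (by rw [hgx]; rfl)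
  show ((β (α (β⁻¹ x)) : T) : Ω) = _
  rw [h1, map_mul, map_mul, map_inv, MulAut.apply_inv_self]
  rfl

/-- The only `E`-conjugate of `T` is `T` itself. -/
theorem eq_of_isConj_top [Finite T] (E : FusionSystem T) {Q : Subgroup Ω} (h : E.IsConj T Q) : Q = T := by
  obtain ⟨φ, hφ, rfl⟩ := h
  have hle : φ.range ≤ T := by
    rintro _ ⟨x, rfl⟩
    exact (E.le_of_mem hφ).2 x
  have hcard : Nat.card φ.range = Nat.card T :=
    (Nat.card_congr (MonoidHom.ofInjective (E.injective_of_mem hφ)).toEquiv).symm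
  exact Subgroup.eq_of_le_of_card_ge hle (by rw [hcard])

/-- An `E`-centric subgroup is `T`-centric in `F` when `E` is invariant in `F`. -/
theorem tCentric_of_isCentric (F : FusionSystem S) (E : FusionSystem T) (hE : E.IsInvariantIn F)
    {P : Subgroup Ω} (hPT : P ≤ T) (hPc : E.IsCentric P) : TCentric F T P := by
  refine ⟨hPT, ?_⟩
  rintro Q ⟨φ, hφ, rfl⟩
  obtain ⟨α₁, _, φ₀, hφ₀, hfac⟩ := hE.2.2.2 P hPT φ hφ
  have hQ₀ := hPc.2 φ₀.range ⟨φ₀, hφ₀, rfl⟩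
  intro c hc
  have hcT : c ∈ T := (Subgroup.mem_inf.mp hc).1
  have hcC : c ∈ Subgroup.centralizer (φ.range : Set Ω) := (Subgroup.mem_inf.mp hc).2
  have hαc' : α₁ (α₁⁻¹ ⟨c, hcT⟩) = ⟨c, hcT⟩ := MulAut.apply_inv_self _ _ _
  have h1 : ((α₁⁻¹ ⟨c, hcT⟩ : T) : Ω) ∈ centralizerIn T φ₀.range := by
    refine Subgroup.mem_inf.mpr ⟨(α₁⁻¹ ⟨c, hcT⟩ : T).2, ?_⟩
    rw [Subgroup.mem_centralizer_iff]
    rintro y ⟨x, rfl⟩
    have hxT : φ₀ x ∈ T := (E.le_of_mem hφ₀).2 x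
    have hφx := hfac x hxT
    have hcomm : φ x * c = c * φ x := (Subgroup.mem_centralizer_iff.mp hcC) (φ x) ⟨x, rfl⟩
    have h2 : α₁ (⟨φ₀ x, hxT⟩ * α₁⁻¹ ⟨c, hcT⟩) = α₁ (α₁⁻¹ ⟨c, hcT⟩ * ⟨φ₀ x, hxT⟩) := by
      rw [map_mul, map_mul, hαc']
      apply Subtype.ext
      show ((α₁ ⟨φ₀ x, hxT⟩ : T) : Ω) * c = c * ((α₁ ⟨φ₀ x, hxT⟩ : T) : Ω)
      rw [← hφx]
      exact hcomm
    exact congrArg Subtype.val (α₁.injective h2)
  obtain ⟨x, hx⟩ := hQ₀ h1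
  refine ⟨x, ?_⟩
  have hxT : φ₀ x ∈ T := (E.le_of_mem hφ₀).2 x
  rw [hfac x hxT]
  have h3 : (⟨φ₀ x, hxT⟩ : T) = α₁⁻¹ ⟨c, hcT⟩ := Subtype.ext hx
  rw [h3, hαc']

/-- Piece (G), with the induction step (F) as the explicit hypothesis `hstep`. -/
theorem mem_autGroup_of_resAut_mem_of [Finite S] (p : ℕ) [Fact p.Prime] (F : FusionSystem S)
    (E D : FusionSystem T) (hE : E.IsWeaklyNormalIn F p)
    (hstep : ∀ {P : Subgroup Ω}, TCentric F T P → ∀ α : MulAut T, α ∈ restrSet F D P →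
      ∃ k : ℕ, α ^ p ^ k ∈ D.autGroup T)
    {P : Subgroup Ω} (hPT : P ≤ T) (hPc : E.IsCentric P) (α : MulAut T) (hαE : α ∈ E.autGroup T)
    (hαP : resAut hPT α ∈ D.Hom P) : α ∈ D.autGroup T := by
  have hTS : T ≤ S := hE.2.2.2.1.1
  have : Finite T := Finite.of_injective (Subgroup.inclusion hTS) (Subgroup.inclusion_injective hTS)
  have hαF : α ∈ F.autGroup T := autGroup_le_of_isSubsystemOf F E hE.2.2.1 le_rfl hαE
  obtain ⟨k, hk⟩ := hstep (tCentric_of_isCentric F E hE.2.2 hPT hPc) α ⟨hαF, hPT, hαP⟩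
  obtain ⟨Q, hQc, ⟨_, R, hR⟩, _⟩ := hE.1 T le_rfl
  obtain rfl : Q = T := eq_of_isConj_top E hQc
  have : (R : Subgroup (E.autGroup Q)).Normal := by
    rw [hR]
    exact (autInducedBy_self_normal Q).subgroupOf _
  have hidx : ¬ p ∣ (R : Subgroup (E.autGroup Q)).index := R.not_dvd_index
  have hm := Subgroup.pow_index_mem (R : Subgroup (E.autGroup Q)) ⟨α, hαE⟩
  have hm2 : (⟨α, hαE⟩ : E.autGroup Q) ^ (R : Subgroup (E.autGroup Q)).index ∈
      (autInducedBy Q Q).subgroupOf (E.autGroup Q) := by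
    rw [← hR]
    exact hm
  rw [Subgroup.mem_subgroupOf] at hm2
  have hm' : α ^ (R : Subgroup (E.autGroup Q)).index ∈ D.autGroup Q :=
    autInducedBy_le_autGroup D le_rfl (by simpa using hm2)
  have hcop : Nat.Coprime (R : Subgroup (E.autGroup Q)).index (p ^ k) :=
    Nat.Coprime.pow_right k ((Nat.Prime.coprime_iff_not_dvd (Fact.out : p.Prime)).mpr hidx).symm
  exact mem_of_pow_mem_of_coprime _ α hcop hm' hk

end Cfsg.Agent.Helper37.KL
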