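import Cfsg.Agent.Helper43.O7Orth
import Cfsg.Agent.Helper44.OmegaIndex

/-!
# (O7-L1) `omegaChar` on the diagonal sign isometries of the sum of seven squares
-/

set_option autoImplicit false

namespace Cfsg.Agent.Helper37.O7

open Matrix Cfsg.Agent.Helper43.O7 Cfsg.Agent.Helper44

variable {F : Type*} [Field F]

/-- the polar form of the sum of seven squares -/
theorem polar_Q7 (x y : Fin 7 → F) :
    QuadraticMap.polar ⇑(Q7 F) x y = ∑ i, 2 * (x i * y i) := by
  simp only [QuadraticMap.polar, Q7_apply, Pi.add_apply]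
  rw [← Finset.sum_sub_distrib, ← Finset.sum_sub_distrib]
  refine Finset.sum_congr rfl fun i _ => ?_
  ring

theorem Q7_single (i : Fin 7) : Q7 F (Pi.single i (1 : F)) = 1 := by
  rw [Q7_apply, Finset.sum_eq_single i]
  · simp
  · intro b _ hb
    rw [Pi.single_apply, if_neg hb, mul_zero]
  · intro h
    exact absurd (Finset.mem_univ i) h

theorem polar_Q7_single_left (i : Fin 7) (v : Fin 7 → F) :
    QuadraticMap.polar ⇑(Q7 F) (Pi.single i (1 : F)) v = 2 * v i := by
  rw [polar_Q7, Finset.sum_eq_single i]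
  · simp
  · intro b _ hb
    rw [Pi.single_apply, if_neg hb, zero_mul, mul_zero]
  · intro h
    exact absurd (Finset.mem_univ i) h

/-- the sign change in the coordinate `i` is the reflection in `e_i` -/
theorem dg_mulSingle_eq_reflT (i : Fin 7) :
    dg F (Pi.mulSingle i (-1)) = reflT (Q7 F) (Pi.single i (1 : F)) := by
  have hu : Q7 F (Pi.single i (1 : F)) ≠ 0 := by
    rw [Q7_single]
    exact one_ne_zero
  rw [reflT_of_ne _ _ hu]
  apply isometryGroup_ext
  intro v
  rw [dg_mulVec, refl_mulVec, Q7_single, polar_Q7_single_left]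
  funext k
  simp only [Pi.sub_apply, Pi.smul_apply, smul_eq_mul, inv_one, one_mul]
  by_cases hk : k = i
  · subst hk
    rw [Pi.mulSingle_eq_same, Pi.single_eq_same, sg_neg_one]
    ring
  · rw [Pi.mulSingle_eq_of_ne hk, Pi.single_eq_of_ne hk, sg_one]
    ring

variable [Fintype F]

theorem omegaChar_dg_mulSingle (h2 : (2 : F) ≠ 0) (hns : ¬ IsSquare (2 : F)) (i : Fin 7) :
    omegaChar (Q7 F) (2 : F) (dg F (Pi.mulSingle i (-1))) = (-1, 1) := by
  have hu : Q7 F (Pi.single i (1 : F)) ≠ 0 := by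
    rw [Q7_single]
    exact one_ne_zero
  rw [dg_mulSingle_eq_reflT, omegaChar, MonoidHom.prod_apply,
    parityChar_reflT (Q7 F) h2 hns _ hu,
    (signChar_reflT (Q7 F) h2 hns _ hu).1 (by rw [Q7_single]; exact IsSquare.one)]

/-- the homomorphism `ε ↦ (∏ ε, 1)` -/
def prodOne : (Fin 7 → ℤˣ) →* ℤˣ × ℤˣ where
  toFun ε := (∏ i, ε i, 1)
  map_one' := by simp
  map_mul' ε δ := by
    simp only [Pi.mul_apply, Finset.prod_mul_distrib, Prod.mk_mul_mk, mul_one]

theorem prodOne_apply (ε : Fin 7 → ℤˣ) : prodOne ε = (∏ i, ε i, 1) := rfl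

/-- (O7-L1) -/
theorem theta_dg (h2 : (2 : F) ≠ 0) (hns : ¬ IsSquare (2 : F)) (ε : Fin 7 → ℤˣ) :
    omegaChar (Q7 F) (2 : F) (dg F ε) = (∏ i, ε i, 1) := by
  have key : (omegaChar (Q7 F) (2 : F)).comp (dg F) = prodOne := by
    apply MonoidHom.functions_ext
    intro i x
    rcases Int.units_eq_one_or x with rfl | rfl
    · rw [Pi.mulSingle_one, map_one, map_one]
    · rw [MonoidHom.comp_apply, omegaChar_dg_mulSingle h2 hns, prodOne_apply,
        Fintype.prod_eq_single i]
      · rw [Pi.mulSingle_eq_same]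
      · intro b hb
        rw [Pi.mulSingle_eq_of_ne hb]
  have := DFunLike.congr_fun key ε
  rwa [MonoidHom.comp_apply, prodOne_apply] at this

end Cfsg.Agent.Helper37.O7
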