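import Cfsg.Agent.Helper37.O7L1

/-!
# (O7-L2) `omegaChar` on the permutation isometries of the sum of seven squares
-/

set_option autoImplicit false

namespace Cfsg.Agent.Helper37.O7

open Matrix Cfsg.Agent.Helper43.O7 Cfsg.Agent.Helper44

variable {F : Type*} [Field F]

theorem Q7_single_sub_single {i j : Fin 7} (hij : i ≠ j) :
    Q7 F (Pi.single i (1 : F) - Pi.single j (1 : F)) = 2 := by
  have h := QuadraticMap.map_add ⇑(Q7 F) (Pi.single i (1 : F)) (-Pi.single j (1 : F))
  rw [QuadraticMap.map_neg, Q7_single, Q7_single, QuadraticMap.polar_neg_right,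
    polar_Q7_single_left, Pi.single_eq_of_ne hij, ← sub_eq_add_neg] at h
  rw [h]
  ring

theorem polar_Q7_sub_left {i j : Fin 7} (v : Fin 7 → F) :
    QuadraticMap.polar ⇑(Q7 F) (Pi.single i (1 : F) - Pi.single j (1 : F)) v =
      2 * (v i - v j) := by
  rw [QuadraticMap.polar_sub_left, polar_Q7_single_left, polar_Q7_single_left]
  ring

/-- the transposition `(i j)` is the reflection in `e_i - e_j` -/
theorem pm_swap_eq_reflT (h2 : (2 : F) ≠ 0) {i j : Fin 7} (hij : i ≠ j) :
    pm F (Equiv.swap i j) = reflT (Q7 F) (Pi.single i (1 : F) - Pi.single j (1 : F)) := by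
  have hu : Q7 F (Pi.single i (1 : F) - Pi.single j (1 : F)) ≠ 0 := by
    rw [Q7_single_sub_single hij]
    exact h2
  rw [reflT_of_ne _ _ hu]
  apply isometryGroup_ext
  intro v
  rw [pm_mulVec, refl_mulVec, Q7_single_sub_single hij, polar_Q7_sub_left]
  funext k
  simp only [Pi.sub_apply, Pi.smul_apply, smul_eq_mul, Equiv.swap_inv]
  have h2' : (2 : F)⁻¹ * (2 * (v i - v j)) = v i - v j := by
    rw [← mul_assoc, inv_mul_cancel₀ h2, one_mul]
  rw [h2']
  by_cases hki : k = i
  · subst hki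
    rw [Equiv.swap_apply_left, Pi.single_eq_same, Pi.single_eq_of_ne hij]
    ring
  · by_cases hkj : k = j
    · subst hkj
      rw [Equiv.swap_apply_right, Pi.single_eq_same, Pi.single_eq_of_ne hki]
      ring
    · rw [Equiv.swap_apply_of_ne_of_ne hki hkj, Pi.single_eq_of_ne hki, Pi.single_eq_of_ne hkj]
      ring

variable [Fintype F]

theorem omegaChar_pm_swap (h2 : (2 : F) ≠ 0) (hns : ¬ IsSquare (2 : F)) {i j : Fin 7}
    (hij : i ≠ j) : omegaChar (Q7 F) (2 : F) (pm F (Equiv.swap i j)) = (-1, -1) := by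
  have hu : Q7 F (Pi.single i (1 : F) - Pi.single j (1 : F)) ≠ 0 := by
    rw [Q7_single_sub_single hij]
    exact h2
  rw [pm_swap_eq_reflT h2 hij, omegaChar, MonoidHom.prod_apply,
    parityChar_reflT (Q7 F) h2 hns _ hu,
    (signChar_reflT (Q7 F) h2 hns _ hu).2 (by rw [Q7_single_sub_single hij]; exact hns)]

/-- (O7-L2) -/
theorem theta_pm (h2 : (2 : F) ≠ 0) (hns : ¬ IsSquare (2 : F)) (σ : Equiv.Perm (Fin 7)) :
    omegaChar (Q7 F) (2 : F) (pm F σ) = (Equiv.Perm.sign σ, Equiv.Perm.sign σ) := by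
  induction σ using Equiv.Perm.swap_induction_on with
  | one =>
    rw [map_one, map_one, map_one]
    rfl
  | swap_mul f x y hxy ih =>
    rw [map_mul, map_mul, ih, omegaChar_pm_swap h2 hns hxy, Equiv.Perm.sign_mul,
      Equiv.Perm.sign_swap hxy, Prod.mk_mul_mk]

end Cfsg.Agent.Helper37.O7
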