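import Mathlib

/-!
# S6000, piece (A1) (helper37 for helper99, board #8930)

A finite 2-group of exponent 4 whose characteristic abelian subgroups are cyclic and whose
centre has order 4: squares and commutators are central.
-/

set_option autoImplicit false

namespace Cfsg.Agent.Helper37.P4

section

variable {G : Type*} [Group G]

/-- the subgroup `{u | u² ∈ Z(G), [u, G] ⊆ Z(G)}` -/
def sqComm (G : Type*) [Group G] : Subgroup G where
  carrier := {u | u * u ∈ Subgroup.center G ∧ ∀ g : G, u * g * u⁻¹ * g⁻¹ ∈ Subgroup.center G}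
  one_mem' := by
    refine ⟨by simp, fun g => by simp⟩
  mul_mem' := by
    rintro u v ⟨hu2, hu⟩ ⟨hv2, hv⟩
    have hcomm : ∀ g : G, u * v * g * (u * v)⁻¹ * g⁻¹ =
        (v * g * v⁻¹ * g⁻¹) * (u * g * u⁻¹ * g⁻¹) := by
      intro g
      have hz := Subgroup.mem_center_iff.mp (hv g)
      calc u * v * g * (u * v)⁻¹ * g⁻¹ = u * (v * g * v⁻¹ * g⁻¹) * (g * u⁻¹ * g⁻¹) := by group
        _ = (v * g * v⁻¹ * g⁻¹) * u * (g * u⁻¹ * g⁻¹) := by rw [hz u]
        _ = _ := by group
    refine ⟨?_, fun g => ?_⟩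
    · have hz := Subgroup.mem_center_iff.mp (hv u)
      have : u * v * (u * v) = (v * u * v⁻¹ * u⁻¹) * ((u * u) * (v * v)) := by
        calc u * v * (u * v) = u * (v * u * v⁻¹ * u⁻¹) * (u * v * v) := by group
          _ = (v * u * v⁻¹ * u⁻¹) * u * (u * v * v) := by rw [hz u]
          _ = _ := by group
      rw [this]
      exact mul_mem (hv u) (mul_mem hu2 hv2)
    · rw [hcomm g]
      exact mul_mem (hv g) (hu g)
  inv_mem' := by
    rintro u ⟨hu2, hu⟩
    refine ⟨?_, fun g => ?_⟩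
    · have : u⁻¹ * u⁻¹ = (u * u)⁻¹ := by group
      rw [this]
      exact inv_mem hu2
    · have hz := Subgroup.mem_center_iff.mp (hu g)
      have : u⁻¹ * g * u⁻¹⁻¹ * g⁻¹ = (u * g * u⁻¹ * g⁻¹)⁻¹ := by
        calc u⁻¹ * g * u⁻¹⁻¹ * g⁻¹ = u⁻¹ * (u * g * u⁻¹ * g⁻¹)⁻¹ * u := by group
          _ = (u * g * u⁻¹ * g⁻¹)⁻¹ * u⁻¹ * u := by
              rw [Subgroup.mem_center_iff.mp (inv_mem (hu g)) u⁻¹]
          _ = _ := by group
      rw [this]
      exact inv_mem (hu g)

theorem mem_sqComm {u : G} : u ∈ sqComm G ↔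
    u * u ∈ Subgroup.center G ∧ ∀ g : G, u * g * u⁻¹ * g⁻¹ ∈ Subgroup.center G := Iff.rfl

theorem map_mem_center_aux (φ : G ≃* G) {z : G} (hz : z ∈ Subgroup.center G) :
    φ z ∈ Subgroup.center G := by
  rw [Subgroup.mem_center_iff] at hz ⊢
  intro g
  have := congrArg φ (hz (φ.symm g))
  simpa using this

instance sqComm_characteristic : (sqComm G).Characteristic := by
  rw [Subgroup.characteristic_iff_le_comap]
  intro φ u hu
  rw [Subgroup.mem_comap]
  rw [mem_sqComm] at hu
  show φ u ∈ sqComm G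
  rw [mem_sqComm]
  refine ⟨?_, fun g => ?_⟩
  · rw [← map_mul]
    exact map_mem_center_aux φ hu.1
  · have := map_mem_center_aux φ (hu.2 (φ.symm g))
    simpa using this

theorem center_le_sqComm : Subgroup.center G ≤ sqComm G := by
  intro z hz
  rw [mem_sqComm]
  refine ⟨mul_mem hz hz, fun g => ?_⟩
  have := Subgroup.mem_center_iff.mp hz g
  have h1 : z * g * z⁻¹ * g⁻¹ = 1 := by
    rw [← this]; group
  rw [h1]
  exact one_mem _

/-- conjugating `c ∈ sqComm G` by `gh` and by `hg` gives the same element -/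
theorem conj_comm_aux {c : G} (hc : c ∈ sqComm G) (g h : G) :
    (g * h) * c * (g * h)⁻¹ = (h * g) * c * (h * g)⁻¹ := by
  rw [mem_sqComm] at hc
  -- `x c x⁻¹ c⁻¹` is central for all `x`
  have hx : ∀ x : G, x * c * x⁻¹ * c⁻¹ ∈ Subgroup.center G := by
    intro x
    have := inv_mem (hc.2 x)
    have e : (c * x * c⁻¹ * x⁻¹)⁻¹ = x * c * x⁻¹ * c⁻¹ := by group
    rwa [e] at this
  set a := g * c * g⁻¹ * c⁻¹ with ha
  set b := h * c * h⁻¹ * c⁻¹ with hb
  have ea : g * c * g⁻¹ = a * c := by rw [ha]; group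
  have eb : h * c * h⁻¹ = b * c := by rw [hb]; group
  have ca := Subgroup.mem_center_iff.mp (hx g)
  have cb := Subgroup.mem_center_iff.mp (hx h)
  rw [← ha] at ca
  rw [← hb] at cb
  have e1 : (g * h) * c * (g * h)⁻¹ = b * a * c := by
    calc (g * h) * c * (g * h)⁻¹ = g * (h * c * h⁻¹) * g⁻¹ := by group
      _ = g * (b * c) * g⁻¹ := by rw [eb]
      _ = (g * b) * c * g⁻¹ := by group
      _ = (b * g) * c * g⁻¹ := by rw [cb g]
      _ = b * (g * c * g⁻¹) := by group
      _ = b * (a * c) := by rw [ea]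
      _ = _ := by group
  have e2 : (h * g) * c * (h * g)⁻¹ = a * b * c := by
    calc (h * g) * c * (h * g)⁻¹ = h * (g * c * g⁻¹) * h⁻¹ := by group
      _ = h * (a * c) * h⁻¹ := by rw [ea]
      _ = (h * a) * c * h⁻¹ := by group
      _ = (a * h) * c * h⁻¹ := by rw [ca h]
      _ = a * (h * c * h⁻¹) := by group
      _ = a * (b * c) := by rw [eb]
      _ = _ := by group
  rw [e1, e2, ca b]

/-- commutators centralize `sqComm G` -/
theorem commutator_mem_centralizer_aux (g h : G) :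
    g * h * g⁻¹ * h⁻¹ ∈ Subgroup.centralizer ((sqComm G : Subgroup G) : Set G) := by
  rw [Subgroup.mem_centralizer_iff]
  intro c hc
  have key := conj_comm_aux hc g⁻¹ h⁻¹
  -- `X c X⁻¹ = Y c Y⁻¹` with `X = g⁻¹h⁻¹`, `Y = h⁻¹g⁻¹`; `Y⁻¹ X = g h g⁻¹ h⁻¹`
  have : c * (g * h * g⁻¹ * h⁻¹) =
      (g * h) * ((h⁻¹ * g⁻¹) * c * (h⁻¹ * g⁻¹)⁻¹) * (g⁻¹ * h⁻¹) := by group
  rw [this, ← key]
  group

/-- squares centralize `sqComm G` -/
theorem sq_mem_centralizer_aux (g : G) :
    g * g ∈ Subgroup.centralizer ((sqComm G : Subgroup G) : Set G) := by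
  rw [Subgroup.mem_centralizer_iff]
  intro c hc0
  have hc : c ∈ sqComm G := hc0
  rw [mem_sqComm] at hc
  -- `z = g c g⁻¹ c⁻¹` is central with `z z = 1`
  have hzc : g * c * g⁻¹ * c⁻¹ ∈ Subgroup.center G := by
    have := inv_mem (hc.2 g)
    have e : (c * g * c⁻¹ * g⁻¹)⁻¹ = g * c * g⁻¹ * c⁻¹ := by group
    rwa [e] at this
  set z := g * c * g⁻¹ * c⁻¹ with hz
  have ez : g * c * g⁻¹ = z * c := by rw [hz]; group
  have cz := Subgroup.mem_center_iff.mp hzc
  have cc := Subgroup.mem_center_iff.mp hc.1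
  have hzz : z * z = 1 := by
    have h1 : g * (c * c) * g⁻¹ = c * c := by
      rw [cc g]; group
    have h2 : g * (c * c) * g⁻¹ = z * z * (c * c) := by
      calc g * (c * c) * g⁻¹ = (g * c * g⁻¹) * (g * c * g⁻¹) := by group
        _ = (z * c) * (z * c) := by rw [ez]
        _ = z * (c * z) * c := by group
        _ = z * (z * c) * c := by rw [cz c]
        _ = _ := by group
    rw [h1] at h2
    have : 1 * (c * c) = z * z * (c * c) := by rw [one_mul]; exact h2
    exact (mul_right_cancel this).symm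
  have e3 : g * g * c = z * z * c * (g * g) := by
    have e4 : g * c = z * c * g := by rw [← ez]; group
    calc g * g * c = g * (g * c) := by group
      _ = g * (z * c * g) := by rw [e4]
      _ = (g * z) * c * g := by group
      _ = (z * g) * c * g := by rw [cz g]
      _ = z * (g * c) * g := by group
      _ = z * (z * c * g) * g := by rw [e4]
      _ = _ := by group
  rw [e3, hzz, one_mul]

end

/-- (A1) abstract: symplectic type + exponent 4 + |Z| = 4 ⟹ `G/Z` elementary abelian -/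
theorem elemAb_of_symplecticType {G : Type*} [Group G] [Finite G] (hp : IsPGroup 2 G)
    (hexp : Monoid.exponent G = 4)
    (hcyc : ∀ A : Subgroup G, A.Characteristic → IsMulCommutative A → IsCyclic A)
    (hZ : Nat.card (Subgroup.center G) = 4) (g h : G) :
    g * g ∈ Subgroup.center G ∧ g * h * g⁻¹ * h⁻¹ ∈ Subgroup.center G := by
  classical
  have : Fact (Nat.Prime 2) := ⟨Nat.prime_two⟩
  set Z := Subgroup.center G with hZdef
  set C := sqComm G with hCdef
  set D := Subgroup.centralizer ((C : Subgroup G) : Set G) with hDdef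
  -- the characteristic abelian subgroup `A = C ⊓ C_G(C)` equals `Z`
  set A := C ⊓ D with hAdef
  have hAchar : A.Characteristic := by
    rw [hAdef, hDdef]; infer_instance
  have hAcomm : IsMulCommutative A := by
    refine ⟨⟨fun a b => Subtype.ext ?_⟩⟩
    have ha : (a : G) ∈ C ⊓ D := a.2
    have hb : (b : G) ∈ C ⊓ D := b.2
    rw [Subgroup.mem_inf] at ha hb
    have := (Subgroup.mem_centralizer_iff.mp ha.2) b.1 hb.1
    exact this.symm
  have hAcyc : IsCyclic A := hcyc A hAchar hAcomm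
  have hZA : Z ≤ A := by
    intro z hz
    rw [hAdef, Subgroup.mem_inf]
    refine ⟨center_le_sqComm hz, ?_⟩
    rw [hDdef, Subgroup.mem_centralizer_iff]
    intro c _
    exact Subgroup.mem_center_iff.mp hz c
  have hAcard : Nat.card A ≤ 4 := by
    obtain ⟨a0, ha0⟩ := hAcyc.exists_generator
    have h1 : orderOf a0 = Nat.card A := orderOf_eq_card_of_forall_mem_zpowers ha0
    have h2 : a0 ^ 4 = 1 := by
      apply Subtype.ext
      rw [Subgroup.coe_pow, Subgroup.coe_one, ← hexp]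
      exact Monoid.pow_exponent_eq_one _
    have h3 : orderOf a0 ∣ 4 := orderOf_dvd_of_pow_eq_one h2
    rw [← h1]
    exact Nat.le_of_dvd (by norm_num) h3
  have hAZ : Z = A := Subgroup.eq_of_le_of_card_ge hZA (by rw [hZ]; exact hAcard)
  -- `D = C_G(C) ≤ Z`
  have hDn : D.Normal := by rw [hDdef]; infer_instance
  have hDZ : D ≤ Z := by
    by_contra hcon
    have hnil : Group.IsNilpotent G := hp.isNilpotent
    obtain ⟨n, hn⟩ := hnil.nilpotent'
    have hex : ∃ k, ¬ (D ⊓ Subgroup.upperCentralSeries G k ≤ Z) := ⟨n, by rw [hn, inf_top_eq]; exact hcon⟩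
    set k := Nat.find hex with hk
    have hkspec : ¬ (D ⊓ Subgroup.upperCentralSeries G k ≤ Z) := Nat.find_spec hex
    have hk0 : k ≠ 0 := by
      intro h0
      rw [h0, Subgroup.upperCentralSeries_zero, inf_bot_eq] at hkspec
      exact hkspec bot_le
    obtain ⟨j, hj⟩ := Nat.exists_eq_succ_of_ne_zero hk0
    have hjmin : D ⊓ Subgroup.upperCentralSeries G j ≤ Z := by
      by_contra hcon2
      have := Nat.find_min' hex hcon2
      omega
    rw [hj] at hkspec
    obtain ⟨y, hy, hyZ⟩ := SetLike.not_le_iff_exists.mp hkspec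
    rw [Subgroup.mem_inf] at hy
    obtain ⟨hyD, hyU⟩ := hy
    rw [Nat.succ_eq_add_one, Subgroup.mem_upperCentralSeries_succ_iff] at hyU
    simp only [commutatorElement_def] at hyU
    -- `[y, g] ∈ Z` for all `g`
    have hyc : ∀ g : G, y * g * y⁻¹ * g⁻¹ ∈ Z := by
      intro g
      apply hjmin
      rw [Subgroup.mem_inf]
      refine ⟨?_, hyU g⟩
      have : y * g * y⁻¹ * g⁻¹ = y * (g * y⁻¹ * g⁻¹) := by group
      rw [this]
      exact mul_mem hyD (hDn.conj_mem _ (inv_mem hyD) g)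
    by_cases hy2 : y * y ∈ Z
    · -- `y ∈ C ⊓ D = Z`
      apply hyZ
      rw [hAZ, hAdef, Subgroup.mem_inf]
      exact ⟨mem_sqComm.mpr ⟨hy2, hyc⟩, hyD⟩
    · -- `x = y² ∈ C ⊓ D = Z`
      apply hy2
      rw [hAZ, hAdef, Subgroup.mem_inf]
      refine ⟨mem_sqComm.mpr ⟨?_, fun g => ?_⟩, mul_mem hyD hyD⟩
      · have : y * y * (y * y) = y ^ 4 := by
          rw [show (4 : ℕ) = 2 + 2 from rfl, pow_add, pow_two]
        rw [this, ← hexp, Monoid.pow_exponent_eq_one]
        exact one_mem _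
      · have hz := Subgroup.mem_center_iff.mp (hyc g)
        have : y * y * g * (y * y)⁻¹ * g⁻¹ = (y * g * y⁻¹ * g⁻¹) * (y * g * y⁻¹ * g⁻¹) := by
          calc y * y * g * (y * y)⁻¹ * g⁻¹ = y * (y * g * y⁻¹ * g⁻¹) * (g * y⁻¹ * g⁻¹) := by group
            _ = (y * g * y⁻¹ * g⁻¹) * y * (g * y⁻¹ * g⁻¹) := by rw [hz y]
            _ = _ := by group
        rw [this]
        exact mul_mem (hyc g) (hyc g)
  exact ⟨hDZ (sq_mem_centralizer_aux g), hDZ (commutator_mem_centralizer_aux g h)⟩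

end Cfsg.Agent.Helper37.P4
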