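import Mathlib
import Cfsg.Agent.Helper41.PGL2

/-!
# (PS) of S3452: a Singer element of order `q + 1` in `PGL₂(F)`
-/

set_option autoImplicit false
set_option linter.style.haveILetI false

namespace Cfsg.Agent.Helper37

open Matrix Cfsg.Agent.Helper41

/-- **(PS)** an element of order `q + 1` in `PGL₂(F)` -/
theorem pgl2_exists_orderOf_card_add_one {F : Type*} [Field F] [Fintype F] :
    ∃ x : Matrix.GeneralLinearGroup (Fin 2) F ⧸
      Subgroup.center (Matrix.GeneralLinearGroup (Fin 2) F), orderOf x = Fintype.card F + 1 := by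
  classical
  have hq1 : 1 < Fintype.card F := Fintype.one_lt_card
  obtain ⟨p, hp⟩ := CharP.exists F
  have hpp : p.Prime := by
    rcases CharP.char_is_prime_or_zero F p with h | h
    · exact h
    · exfalso
      subst h
      have : CharZero F := CharP.charP_to_charZero F
      exact not_finite F
  haveI : Fact p.Prime := ⟨hpp⟩
  let K := FiniteField.Extension F p 2
  have hfin : Module.finrank F K = 2 := FiniteField.finrank_extension F p 2
  let b : Module.Basis (Fin 2) F K := Module.finBasisOfFinrankEq F K hfin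
  have : Fintype K := Fintype.ofFinite K
  have hcardK : Nat.card K = Fintype.card F ^ 2 := by
    rw [FiniteField.natCard_extension F p 2, Nat.card_eq_fintype_card]
  obtain ⟨ζ, hζ⟩ := IsCyclic.exists_ofOrder_eq_natCard (α := Kˣ)
  rw [Nat.card_units, hcardK] at hζ
  have hfac : Fintype.card F ^ 2 - 1 = (Fintype.card F - 1) * (Fintype.card F + 1) := by
    obtain ⟨k, hk⟩ : ∃ k, Fintype.card F = k + 1 := ⟨Fintype.card F - 1, by omega⟩
    rw [hk]
    have : (k + 1) ^ 2 = k * (k + 2) + 1 := by ring
    rw [this]; simp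
  have hq0 : 0 < Fintype.card F - 1 := by omega
  -- the Singer element
  let φ : K →* Matrix (Fin 2) (Fin 2) F := (Algebra.leftMulMatrix b : K →ₐ[F] _).toRingHom.toMonoidHom
  have hφ : ∀ x : K, φ x = Algebra.leftMulMatrix b x := fun _ => rfl
  let g : GL (Fin 2) F := Units.map φ ζ
  have hgpow : ∀ n : ℕ, ((g ^ n : GL (Fin 2) F) : Matrix (Fin 2) (Fin 2) F) =
      Algebra.leftMulMatrix b (((ζ ^ n : Kˣ) : K)) := by
    intro n
    rw [← map_pow]
    rfl
  have hscalar : ∀ r : F, Matrix.scalar (Fin 2) r = Algebra.leftMulMatrix b (algebraMap F K r) := by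
    intro r
    rw [AlgHom.commutes]
    rfl
  -- the norm of `ζ`
  have hnorm : algebraMap F K (Algebra.norm F (ζ : K)) = (ζ : K) ^ (Fintype.card F + 1) := by
    rw [FiniteField.algebraMap_norm_eq_pow, hcardK, Nat.card_eq_fintype_card, hfac,
      Nat.mul_div_cancel_left _ hq0]
  refine ⟨QuotientGroup.mk g, ?_⟩
  have key : ∀ n : ℕ, (QuotientGroup.mk g : GL (Fin 2) F ⧸ Subgroup.center (GL (Fin 2) F)) ^ n = 1 ↔
      (Fintype.card F + 1) ∣ n := by
    intro n
    rw [← QuotientGroup.mk_pow, pgl2_mk_eq_one_iff]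
    constructor
    · rintro ⟨r, hr⟩
      rw [hgpow, hscalar] at hr
      have h2 : ((ζ ^ n : Kˣ) : K) = algebraMap F K r := Algebra.leftMulMatrix_injective b hr
      have hr0 : r ≠ 0 := by
        rintro rfl
        rw [map_zero] at h2
        exact (ζ ^ n).ne_zero h2
      have hr1 : r ^ (Fintype.card F - 1) = 1 := FiniteField.pow_card_sub_one_eq_one r hr0
      have h3 : ζ ^ (n * (Fintype.card F - 1)) = 1 := by
        apply Units.ext
        rw [pow_mul, Units.val_pow_eq_pow_val, h2, ← map_pow, hr1, map_one]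
        rfl
      have h4 := orderOf_dvd_of_pow_eq_one h3
      rw [hζ, hfac, mul_comm n] at h4
      exact Nat.dvd_of_mul_dvd_mul_left hq0 h4
    · rintro ⟨m, rfl⟩
      refine ⟨(Algebra.norm F (ζ : K)) ^ m, ?_⟩
      rw [hgpow, hscalar, map_pow, hnorm, Units.val_pow_eq_pow_val, pow_mul]
  apply Nat.dvd_antisymm
  · exact orderOf_dvd_of_pow_eq_one ((key _).mpr dvd_rfl)
  · exact (key _).mp (pow_orderOf_eq_one _)

end Cfsg.Agent.Helper37
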