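import Mathlib
import Cfsg.Agent.Helper41.PGL2

/-!
# (PU) of S3452: element orders of `PGL₂(F)`, `|F|` odd
-/

set_option autoImplicit false
set_option linter.style.haveILetI false

namespace Cfsg.Agent.Helper37

open Matrix Cfsg.Agent.Helper41

variable {F : Type*} [Field F]

/-- the image of `g ^ n` is trivial as soon as the matrix power is scalar -/
theorem pgl2_mk_pow_eq_one_of_scalar (g : GL (Fin 2) F) (n : ℕ) (r : F)
    (h : (g : Matrix (Fin 2) (Fin 2) F) ^ n = Matrix.scalar (Fin 2) r) :
    (QuotientGroup.mk g : GL (Fin 2) F ⧸ Subgroup.center (GL (Fin 2) F)) ^ n = 1 := by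
  rw [← QuotientGroup.mk_pow, pgl2_mk_eq_one_iff]
  exact ⟨r, by rw [Units.val_pow_eq_pow_val, h]⟩

section Finite

variable [Fintype F]

theorem pgl2_two_ne_zero (hodd : Fintype.card F % 2 = 1) : (2 : F) ≠ 0 := by
  have hchar : ringChar F ≠ 2 := by
    intro hc
    have := FiniteField.even_card_of_char_two hc
    omega
  intro h2
  apply hchar
  have : ((2 : ℕ) : F) = 0 := by exact_mod_cast h2
  have hdvd := (ringChar.spec F 2).mp this
  have hp : (ringChar F).Prime := by
    rcases CharP.char_is_prime_or_zero F (ringChar F) with hp | hp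
    · exact hp
    · rw [hp] at hdvd; simp at hdvd
  exact (Nat.prime_dvd_prime_iff_eq hp Nat.prime_two).mp hdvd

theorem pgl2_ringChar_prime : (ringChar F).Prime := by
  rcases CharP.char_is_prime_or_zero F (ringChar F) with hp | hp
  · exact hp
  · exfalso
    haveI : CharP F 0 := by rw [← hp]; exact ringChar.charP F
    haveI : CharZero F := CharP.charP_to_charZero F
    exact not_finite F

/-- a matrix `a • 1 + z` with `z * z = 0` has scalar `p`-th power -/
theorem pgl2_pow_char_of_sq_zero (a : F) (z : Matrix (Fin 2) (Fin 2) F) (hz : z * z = 0) :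
    (a • (1 : Matrix (Fin 2) (Fin 2) F) + z) ^ ringChar F = Matrix.scalar (Fin 2) (a ^ ringChar F) := by
  have hp : (ringChar F).Prime := pgl2_ringChar_prime
  haveI : Fact (ringChar F).Prime := ⟨hp⟩
  haveI : CharP F (ringChar F) := ringChar.charP F
  have hcomm : Commute (a • (1 : Matrix (Fin 2) (Fin 2) F)) z :=
    Commute.smul_left (Commute.one_left _) _
  rw [add_pow_char_of_commute (ringChar F) hcomm, smul_pow, one_pow]
  have hzp : z ^ ringChar F = 0 := by
    obtain ⟨k, hk⟩ : ∃ k, ringChar F = k + 2 := ⟨ringChar F - 2, by have := hp.two_le; omega⟩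
    rw [hk, pow_add, pow_two, hz, mul_zero]
  rw [hzp, add_zero, scalar_two_eq_smul_one]

/-- **(PU)** the order of an element of `PGL₂(F)`, `|F| = q` odd, divides `q - 1` or `q + 1`
or equals the characteristic. -/
theorem pgl2_orderOf_mem (hodd : Fintype.card F % 2 = 1)
    (x : Matrix.GeneralLinearGroup (Fin 2) F ⧸
      Subgroup.center (Matrix.GeneralLinearGroup (Fin 2) F)) :
    orderOf x ∣ Fintype.card F - 1 ∨ orderOf x ∣ Fintype.card F + 1 ∨
      orderOf x = ringChar F := by
  obtain ⟨g, rfl⟩ := QuotientGroup.mk_surjective x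
  have h2 : (2 : F) ≠ 0 := pgl2_two_ne_zero hodd
  have hchar : ringChar F ≠ 2 := by
    intro hc
    have := FiniteField.even_card_of_char_two hc
    omega
  set G : Matrix (Fin 2) (Fin 2) F := (g : Matrix (Fin 2) (Fin 2) F) with hG
  set a : F := G.trace / 2 with ha
  set z : Matrix (Fin 2) (Fin 2) F := G - a • (1 : Matrix (Fin 2) (Fin 2) F) with hzdef
  have hGz : G = a • (1 : Matrix (Fin 2) (Fin 2) F) + (1 : F) • z := by
    rw [hzdef, one_smul]
    abel
  have hztr : z.trace = 0 := by
    rw [hzdef, Matrix.trace_sub, Matrix.trace_smul, Matrix.trace_one, Fintype.card_fin, ha]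
    simp only [smul_eq_mul, Nat.cast_ofNat]
    field_simp
    ring
  have hzz := mul_self_of_trace_zero z hztr
  have hGdet : G.det ≠ 0 := by
    have := (Matrix.isUnit_iff_isUnit_det G).mp g.isUnit
    exact this.ne_zero
  by_cases hD : -z.det = 0
  · -- unipotent case
    rw [hD, zero_smul] at hzz
    have hpow : G ^ ringChar F = Matrix.scalar (Fin 2) (a ^ ringChar F) := by
      rw [hGz, one_smul]
      exact pgl2_pow_char_of_sq_zero a z hzz
    have h1 := pgl2_mk_pow_eq_one_of_scalar g _ _ hpow
    have hdvd := orderOf_dvd_of_pow_eq_one h1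
    rcases (Nat.dvd_prime pgl2_ringChar_prime).mp hdvd with h | h
    · left
      rw [h]
      exact one_dvd _
    · right; right
      exact h
  · by_cases hsq : IsSquare (-z.det)
    · -- split case
      left
      obtain ⟨e, he⟩ := hsq
      have he0 : e ≠ 0 := by
        rintro rfl
        apply hD
        rw [he, mul_zero]
      have hcomm : G * z = z * G := by
        rw [hzdef, Matrix.mul_sub, Matrix.sub_mul, Matrix.mul_smul, Matrix.smul_mul,
          Matrix.mul_one, Matrix.one_mul]
      have hpow := pow_card_sub_one_eq_one_of_isSquare hodd z G hztr e he0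
        (by rw [he, pow_two]) hGdet hcomm
      apply orderOf_dvd_of_pow_eq_one
      apply pgl2_mk_pow_eq_one_of_scalar g _ 1
      rw [hpow]
      simp
    · -- nonsplit case
      right; left
      have hpowD : (-z.det) ^ (Fintype.card F / 2) = -1 := by
        rcases FiniteField.pow_dichotomy hchar hD with h1 | h1
        · exact absurd ((FiniteField.isSquare_iff hchar hD).mpr h1) hsq
        · exact h1
      apply orderOf_dvd_of_pow_eq_one
      apply pgl2_mk_pow_eq_one_of_scalar g _ (a ^ 2 - (-z.det))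
      show G ^ (Fintype.card F + 1) = _
      rw [pow_succ]
      conv_lhs => rw [hGz]
      rw [add_smul_pow_card hodd z (-z.det) hzz a 1, hpowD, one_smul]
      rw [Matrix.add_mul, Matrix.mul_add, Matrix.mul_add]
      simp only [Matrix.smul_mul, Matrix.mul_smul, Matrix.one_mul, Matrix.mul_one, hzz, smul_smul]
      rw [scalar_two_eq_smul_one]
      module

end Finite

/-! ### Existence of elements of order `p` and `q - 1` -/

/-- the diagonal matrices `diag (a, 1)` -/
def pgl2Diag : Fˣ →* GL (Fin 2) F where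
  toFun a :=
    { val := Matrix.diagonal ![(a : F), 1]
      inv := Matrix.diagonal ![((a⁻¹ : Fˣ) : F), 1]
      val_inv := by
        rw [Matrix.diagonal_mul_diagonal, ← Matrix.diagonal_one]
        congr 1
        funext i
        fin_cases i <;> simp
      inv_val := by
        rw [Matrix.diagonal_mul_diagonal, ← Matrix.diagonal_one]
        congr 1
        funext i
        fin_cases i <;> simp }
  map_one' := by
    apply Units.ext
    show Matrix.diagonal ![((1 : Fˣ) : F), 1] = 1
    rw [← Matrix.diagonal_one]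
    congr 1
    funext i
    fin_cases i <;> simp
  map_mul' a b := by
    apply Units.ext
    show Matrix.diagonal ![((a * b : Fˣ) : F), 1] =
      Matrix.diagonal ![(a : F), 1] * Matrix.diagonal ![(b : F), 1]
    rw [Matrix.diagonal_mul_diagonal]
    congr 1
    funext i
    fin_cases i <;> simp

theorem pgl2Diag_val (a : Fˣ) :
    ((pgl2Diag a : GL (Fin 2) F) : Matrix (Fin 2) (Fin 2) F) = Matrix.diagonal ![(a : F), 1] := rfl

theorem pgl2_mk_diag_eq_one_iff (a : Fˣ) :
    (QuotientGroup.mk (pgl2Diag a) : GL (Fin 2) F ⧸ Subgroup.center (GL (Fin 2) F)) = 1 ↔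
      a = 1 := by
  rw [pgl2_mk_eq_one_iff]
  constructor
  · rintro ⟨r, hr⟩
    rw [pgl2Diag_val] at hr
    have h0 := congrFun (congrFun hr 0) 0
    have h1 := congrFun (congrFun hr 1) 1
    simp [Matrix.scalar_apply] at h0 h1
    apply Units.ext
    rw [h0, ← h1]
    rfl
  · rintro rfl
    refine ⟨1, ?_⟩
    rw [map_one]
    simp

/-- **(PU)** an element of order `q - 1` in `PGL₂(F)` -/
theorem pgl2_exists_orderOf_card_sub_one [Fintype F] (hodd : Fintype.card F % 2 = 1) :
    ∃ x : Matrix.GeneralLinearGroup (Fin 2) F ⧸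
      Subgroup.center (Matrix.GeneralLinearGroup (Fin 2) F), orderOf x = Fintype.card F - 1 := by
  classical
  obtain ⟨ζ, hζ⟩ := IsCyclic.exists_ofOrder_eq_natCard (α := Fˣ)
  rw [Nat.card_units, Nat.card_eq_fintype_card] at hζ
  refine ⟨QuotientGroup.mk (pgl2Diag ζ), ?_⟩
  rw [← hζ, orderOf_eq_orderOf_iff]
  intro n
  rw [← QuotientGroup.mk_pow, ← map_pow, pgl2_mk_diag_eq_one_iff]

/-- the upper unitriangular matrix -/
def pgl2Unip : GL (Fin 2) F where
  val := !![1, 1; 0, 1]
  inv := !![1, -1; 0, 1]
  val_inv := by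
    ext i j
    fin_cases i <;> fin_cases j <;> simp [Matrix.mul_apply, Fin.sum_univ_two]
  inv_val := by
    ext i j
    fin_cases i <;> fin_cases j <;> simp [Matrix.mul_apply, Fin.sum_univ_two]

theorem pgl2Unip_val :
    ((pgl2Unip : GL (Fin 2) F) : Matrix (Fin 2) (Fin 2) F) =
      (1 : F) • (1 : Matrix (Fin 2) (Fin 2) F) + !![0, 1; 0, 0] := by
  show !![(1 : F), 1; 0, 1] = _
  ext i j
  fin_cases i <;> fin_cases j <;> simp

/-- **(PU)** an element of order `p` in `PGL₂(F)` -/
theorem pgl2_exists_orderOf_char [Fintype F] (hodd : Fintype.card F % 2 = 1) :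
    ∃ x : Matrix.GeneralLinearGroup (Fin 2) F ⧸
      Subgroup.center (Matrix.GeneralLinearGroup (Fin 2) F), orderOf x = ringChar F := by
  have hp : (ringChar F).Prime := pgl2_ringChar_prime
  haveI : Fact (ringChar F).Prime := ⟨hp⟩
  refine ⟨QuotientGroup.mk pgl2Unip, ?_⟩
  apply orderOf_eq_prime
  · apply pgl2_mk_pow_eq_one_of_scalar _ _ ((1 : F) ^ ringChar F)
    rw [pgl2Unip_val]
    apply pgl2_pow_char_of_sq_zero
    ext i j
    fin_cases i <;> fin_cases j <;> simp [Matrix.mul_apply, Fin.sum_univ_two]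
  · rw [Ne, pgl2_mk_eq_one_iff]
    rintro ⟨r, hr⟩
    have h01 := congrFun (congrFun hr 0) 1
    have : ((pgl2Unip : GL (Fin 2) F) : Matrix (Fin 2) (Fin 2) F) 0 1 = 1 := rfl
    rw [this] at h01
    simp [Matrix.scalar_apply] at h01

end Cfsg.Agent.Helper37
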