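import Mathlib
import Cfsg.Agent.Helper52.PQDefs
import Cfsg.Agent.Helper71.QuotImage
import Cfsg.Agent.Helper62.PQHH
import Cfsg.Agent.Helper79.PQFV

/-!
# Piece (BX) of WANTED #5134 (helper52, S4306): `caseB_tau_exc`

`Q` nonabelian, a hyperplane `D` of `Q1 = ⁅Q, Q⁆` of `τ_i`-type with `[Q, τ_i] ≰ C_Q(V_D)`: by (HH)
we are in the Fermat case `w = 2`, and the configuration passes to `N_H(K) / K`,
`K = C_Q(V_D)`, where it is an `ECfg`; `lemmaE` (a hypothesis here) kills it.
-/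

set_option autoImplicit false
set_option linter.unusedSectionVars false

namespace Cfsg.Agent.Helper37.PQ

open Subgroup Cfsg.Agent.Helper1.Shult Cfsg.Agent.Helper52.PQ Cfsg.Agent.Helper71.QI
open Cfsg.Agent.Helper79.PQ (mem_normalizer_of_forall conj_mem_of_mem_normalizer
  mem_normalizer_commutator_of mem_normalizer_inf_centralizer_of)
open scoped commutatorElement

universe v

section quot

variable {G : Type*} [Group G]

theorem proj_mem_img_of {N S : Subgroup G} (x : ↥(normalizer (N : Set G))) (hx : (x : G) ∈ S) :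
    proj N x ∈ img N S :=
  mem_img.mpr ⟨x.1, x.2, hx, rfl⟩

theorem exists_lift_of_mem_img {N S : Subgroup G} {y : Quo N} (hy : y ∈ img N S) :
    ∃ x : ↥(normalizer (N : Set G)), (x : G) ∈ S ∧ proj N x = y := by
  obtain ⟨s, hs, hsS, rfl⟩ := mem_img.mp hy
  exact ⟨⟨s, hs⟩, hsS, rfl⟩

theorem proj_mem_normalizer_img {N T : Subgroup G} (x : ↥(normalizer (N : Set G)))
    (hxT : (x : G) ∈ normalizer (T : Set G)) :
    proj N x ∈ normalizer ((img N T : Subgroup (Quo N)) : Set (Quo N)) := by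
  have h1 : zpowers (x : G) ≤ normalizer (T : Set G) := by
    rw [zpowers_le]; exact hxT
  exact img_le_normalizer (N := N) h1 (proj_mem_img_of x (mem_zpowers _))

theorem img_le_centralizer {N S T : Subgroup G} (h : S ≤ centralizer (T : Set G)) :
    img N S ≤ centralizer ((img N T : Subgroup (Quo N)) : Set (Quo N)) := by
  intro y hy
  obtain ⟨x, hxS, rfl⟩ := exists_lift_of_mem_img hy
  rw [mem_centralizer_iff]
  intro z hz
  obtain ⟨t, htT, rfl⟩ := exists_lift_of_mem_img hz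
  rw [← map_mul, ← map_mul]
  congr 1
  apply Subtype.ext
  exact mem_centralizer_iff.mp (h hxS) t.1 htT

theorem isEA_img {N S : Subgroup G} {r : ℕ} (h : IsEA r S) : IsEA r (img N S) := by
  constructor
  · intro a ha b hb
    obtain ⟨x, hx, rfl⟩ := exists_lift_of_mem_img ha
    obtain ⟨y, hy, rfl⟩ := exists_lift_of_mem_img hb
    rw [← map_mul, ← map_mul]
    congr 1
    apply Subtype.ext
    exact h.1 x.1 hx y.1 hy
  · intro a ha
    obtain ⟨x, hx, rfl⟩ := exists_lift_of_mem_img ha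
    rw [← map_pow]
    have h1 : x ^ r = 1 := by
      apply Subtype.ext
      rw [coe_pow, coe_one]
      exact h.2 x.1 hx
    rw [h1, map_one]

theorem card_img_eq_relIndex [Finite G] {N S : Subgroup G} (hS : S ≤ normalizer (N : Set G)) :
    Nat.card (img N S) = N.relIndex S := by
  have hker : (imgHom N hS).ker = N.subgroupOf S := by
    ext s
    rw [MonoidHom.mem_ker, imgHom_eq_one_iff, mem_subgroupOf]
  have h1 : Nat.card (img N S) = Nat.card ((imgHom N hS).range) := by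
    rw [MonoidHom.range_eq_top.mpr (imgHom_surjective N hS)]
    exact (Nat.card_congr (Subgroup.topEquiv).toEquiv).symm
  rw [h1, ← index_ker, hker]
  rfl

end quot

variable {H : Type v} [Group H] [Finite H]
variable {s t ℓ w u : ℕ} [Fact ℓ.Prime] [Fact w.Prime] [Fact u.Prime] {σ τ : H}
  {V Q R : Subgroup H}

/-- (BX) with `lemmaE`, the conclusions of (SQ) and of (SR) as hypotheses. -/
theorem caseB_tau_exc_of
    (hE : ∀ (H' : Type v) [Group H'] [Finite H'] (ℓ' u' t' : ℕ) [Fact ℓ'.Prime] [Fact u'.Prime]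
      (b' : H') (W' Q' Z' R' : Subgroup H'), ECfg ℓ' u' t' b' W' Q' Z' R' → False)
    (c : CoreCfg s t ℓ w u σ τ V Q R)
    (hSQ : ⁅Q, Q⁆ ≤ centralizer (R : Set H) ∧ ⁅Q, Q⁆ ≤ centralizer (Q : Set H) ∧
      (∀ g ∈ Q, g ^ w ∈ ⁅Q, Q⁆) ∧ (∀ z ∈ ⁅Q, Q⁆, z ^ w = 1) ∧
      (∀ N : Subgroup H, ⁅Q, Q⁆ ≤ N → N ≤ Q → R ≤ normalizer (N : Set H) →
        ∀ g ∈ Q, (∀ x ∈ R, g⁻¹ * (x * g * x⁻¹) ∈ N) → g ∈ N))
    (hSR : R ⊓ centralizer (Q : Set H) ≠ R ∧
      (∀ x ∈ R, ∀ y ∈ R, x * y * x⁻¹ * y⁻¹ ∈ R ⊓ centralizer (Q : Set H)) ∧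
      (∀ x ∈ R, x ^ u ∈ R ⊓ centralizer (Q : Set H)) ∧
      ((R ≤ centralizer {σ} ∧ ∀ i : ℕ, ∀ x ∈ R,
          x⁻¹ * ((σ ^ i * τ * (σ ^ i)⁻¹) * x * (σ ^ i * τ * (σ ^ i)⁻¹)⁻¹) ∈
            R ⊓ centralizer (Q : Set H) → x ∈ R ⊓ centralizer (Q : Set H)) ∨
        (∀ x ∈ R, x⁻¹ * (σ * x * σ⁻¹) ∈ R ⊓ centralizer (Q : Set H) →
          x ∈ R ⊓ centralizer (Q : Set H))))
    (D : Subgroup H)
    (hD : IsHyp w ⁅Q, Q⁆ ⊥ D) (hVD : V ⊓ centralizer (D : Set H) ≠ ⊥) (i : ℕ)
    (hbD : σ ^ i * τ * (σ ^ i)⁻¹ ∈ normalizer (D : Set H))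
    (hfix : (V ⊓ centralizer (D : Set H)) ⊓ centralizer {σ ^ i * τ * (σ ^ i)⁻¹} = ⊥)
    (hbad : ∃ g ∈ Q, g⁻¹ * ((σ ^ i * τ * (σ ^ i)⁻¹) * g * (σ ^ i * τ * (σ ^ i)⁻¹)⁻¹) ∉
      centralizer ((V ⊓ centralizer (D : Set H) : Subgroup H) : Set H)) : False := by
  classical
  obtain ⟨hQ1R, hQ1Q, hQpow, -, hQlast⟩ := hSQ
  obtain ⟨-, hRcomm, hRpow, -⟩ := hSR
  have ht : t.Prime := c.hF.ht
  haveI : Fact t.Prime := ⟨ht⟩
  have hwp : w.Prime := Fact.out
  -- abbreviations
  obtain ⟨b, hb⟩ : ∃ b : H, b = σ ^ i * τ * (σ ^ i)⁻¹ := ⟨_, rfl⟩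
  rw [← hb] at hbD hfix hbad
  obtain ⟨VD, hVDdef⟩ : ∃ VD : Subgroup H, VD = V ⊓ centralizer (D : Set H) := ⟨_, rfl⟩
  rw [← hVDdef] at hVD hfix hbad
  obtain ⟨K, hK⟩ : ∃ K : Subgroup H, K = Q ⊓ centralizer (VD : Set H) := ⟨_, rfl⟩
  have hob : orderOf b = t := by
    rw [hb, ← c.hF.oτ]
    exact (MulAut.conj (σ ^ i)).orderOf_eq τ
  have hbN : ∀ X : Subgroup H, Inv σ τ X → b ∈ normalizer (X : Set H) := by
    intro X hX
    rw [hb]
    exact mul_mem (mul_mem (pow_mem hX.1 i) hX.2) (inv_mem (pow_mem hX.1 i))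
  have hbV := hbN V c.hVinv
  have hbQ := hbN Q c.hQinv
  have hbR := hbN R c.hRinv
  have hQ1leQ : ⁅Q, Q⁆ ≤ Q := by
    rw [commutator_le]
    intro g hg h hh
    rw [commutatorElement_def]
    exact Q.mul_mem (Q.mul_mem (Q.mul_mem hg hh) (inv_mem hg)) (inv_mem hh)
  have hDQ1 : D ≤ ⁅Q, Q⁆ := hD.2.1
  have hDidx : D.relIndex ⁅Q, Q⁆ = w := hD.2.2
  have hQcD : Q ≤ centralizer (D : Set H) :=
    le_centralizer_iff.mp (le_trans hDQ1 hQ1Q)
  have hRcD : R ≤ centralizer (D : Set H) :=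
    le_centralizer_iff.mp (le_trans hDQ1 hQ1R)
  have hVDV : VD ≤ V := by rw [hVDdef]; exact inf_le_left
  have hQVD : Q ≤ normalizer (VD : Set H) := fun g hg => by
    rw [hVDdef]
    exact mem_normalizer_inf_centralizer_of (c.hQV hg) (centralizer_le_normalizer _ (hQcD hg))
  have hRVD : R ≤ normalizer (VD : Set H) := fun g hg => by
    rw [hVDdef]
    exact mem_normalizer_inf_centralizer_of (c.hRV hg) (centralizer_le_normalizer _ (hRcD hg))
  have hbVD : b ∈ normalizer (VD : Set H) := by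
    rw [hVDdef]
    exact mem_normalizer_inf_centralizer_of hbV hbD
  have hKQ : K ≤ Q := by rw [hK]; exact inf_le_left
  have hKc : K ≤ centralizer (VD : Set H) := by rw [hK]; exact inf_le_right
  have hQK : Q ≤ normalizer (K : Set H) := fun g hg => by
    rw [hK]
    exact mem_normalizer_inf_centralizer_of (le_normalizer hg) (hQVD hg)
  have hRK : R ≤ normalizer (K : Set H) := fun g hg => by
    rw [hK]
    exact mem_normalizer_inf_centralizer_of (c.hRQ hg) (hRVD hg)
  have hbK : b ∈ normalizer (K : Set H) := by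
    rw [hK]
    exact mem_normalizer_inf_centralizer_of hbQ hbVD
  have hVDK : VD ≤ normalizer (K : Set H) :=
    le_trans (le_centralizer_iff.mp hKc) (centralizer_le_normalizer _)
  have hQ1K : ⁅Q, Q⁆ ≤ normalizer (K : Set H) := le_trans hQ1leQ hQK
  have hVDea : IsEA ℓ VD :=
    ⟨fun a ha b hb => c.hV.1 a (hVDV ha) b (hVDV hb), fun a ha => c.hV.2 a (hVDV ha)⟩
  -- (HH): the Fermat case
  have hw2 : w = 2 := by
    by_contra hw2
    obtain ⟨g, hg, hgbad⟩ := hbad
    exact hgbad (Cfsg.Agent.Helper62.PQ.hhs_q ht c.hwℓ c.hℓt c.hwt b hob Q VD c.hQ hVDea hbQ hbVD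
      hQVD hfix (fun h => absurd h hw2) g hg)
  -- `V_D ⊓ K = ⊥`
  have hVDKbot : VD ⊓ K = ⊥ := by
    rw [eq_bot_iff]
    intro x hx
    rw [mem_bot]
    have h1 : x ^ ℓ = 1 := hVDea.2 x hx.1
    obtain ⟨k, hk⟩ := c.hQ ⟨x, hKQ hx.2⟩
    have h2 : x ^ (w ^ k) = 1 := by
      have := congrArg Subtype.val hk
      rwa [coe_pow, coe_one] at this
    have h3 : orderOf x ∣ Nat.gcd ℓ (w ^ k) :=
      Nat.dvd_gcd (orderOf_dvd_of_pow_eq_one h1) (orderOf_dvd_of_pow_eq_one h2)
    have hℓp : ℓ.Prime := Fact.out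
    have h4 : Nat.Coprime ℓ (w ^ k) :=
      Nat.Coprime.pow_right k ((Nat.coprime_primes hℓp hwp).mpr (Ne.symm c.hwℓ))
    rw [h4.gcd_eq_one, Nat.dvd_one] at h3
    exact orderOf_eq_one_iff.mp h3
  -- invariance of `Q1`
  have hQ1inv : Inv σ τ ⁅Q, Q⁆ :=
    ⟨mem_normalizer_commutator_of c.hQinv.1 c.hQinv.1,
      mem_normalizer_commutator_of c.hQinv.2 c.hQinv.2⟩
  have hQQ1 : Q ≤ normalizer ((⁅Q, Q⁆ : Subgroup H) : Set H) := fun g hg =>
    mem_normalizer_commutator_of (le_normalizer hg) (le_normalizer hg)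
  have hRQ1 : R ≤ normalizer ((⁅Q, Q⁆ : Subgroup H) : Set H) := fun g hg =>
    mem_normalizer_commutator_of (c.hRQ hg) (c.hRQ hg)
  have hbQ1 : b ∈ normalizer ((⁅Q, Q⁆ : Subgroup H) : Set H) :=
    mem_normalizer_commutator_of hbQ hbQ
  -- `Q1 ≰ K`
  have hQ1notK : ¬ ⁅Q, Q⁆ ≤ K := by
    intro hle
    have hQ1ne : (⁅Q, Q⁆ : Subgroup H) ≠ ⊥ := by
      intro h0
      have hD0 : D = ⊥ := by rw [eq_bot_iff, ← h0]; exact hDQ1
      rw [h0, hD0, relIndex_bot_left, card_bot] at hDidx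
      exact hwp.one_lt.ne hDidx
    have h1 := Cfsg.Agent.Helper79.PQ.fixV_of_normal c ⁅Q, Q⁆ hQ1leQ hQ1ne hQ1inv hQQ1 hRQ1
    apply hVD
    rw [eq_bot_iff, ← h1]
    intro v hv
    exact ⟨hVDV hv, le_centralizer_iff.mp (le_trans hle hKc) hv⟩
  subst hw2
  -- the `ECfg` in `N_H(K) / K`
  refine hE (Quo K) ℓ u t (proj K ⟨b, hbK⟩) (img K VD) (img K Q) (img K ⁅Q, Q⁆) (img K R) ?_
  have hcomm_lift : ∀ x y : ↥(normalizer (K : Set H)),
      proj K x * proj K y * (proj K x)⁻¹ * (proj K y)⁻¹ = proj K (x * y * x⁻¹ * y⁻¹) := by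
    intro x y
    simp only [map_mul, map_inv]
  have hconj_lift : ∀ x y : ↥(normalizer (K : Set H)),
      (proj K y)⁻¹ * (proj K x * proj K y * (proj K x)⁻¹) = proj K (y⁻¹ * (x * y * x⁻¹)) := by
    intro x y
    simp only [map_mul, map_inv]
  exact
    { ht := ht
      hℓ2 := Ne.symm c.hwℓ
      hu2 := Ne.symm c.hwu
      ht2 := Ne.symm c.hwt
      hℓt := c.hℓt
      hut := c.hut
      ob := by
        apply orderOf_eq_prime
        · rw [← map_pow]
          have h1 : (⟨b, hbK⟩ : ↥(normalizer (K : Set H))) ^ t = 1 := by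
            apply Subtype.ext
            rw [coe_pow, coe_one, ← hob]
            exact pow_orderOf_eq_one b
          rw [h1, map_one]
        · intro h1
          rw [proj_eq_one_iff] at h1
          apply hVD
          rw [eq_bot_iff, ← hfix]
          intro v hv
          refine ⟨hv, ?_⟩
          show v ∈ centralizer {b}
          rw [mem_centralizer_iff]
          intro y hy
          rw [Set.mem_singleton_iff] at hy
          rw [hy]
          exact (mem_centralizer_iff.mp (hKc h1) v hv).symm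
      hW := isEA_img hVDea
      hQ := isPGroup_img c.hQ
      hR := isPGroup_img c.hR
      hZQ := img_mono hQ1leQ
      hZcard := by
        rw [card_img_eq_relIndex hQ1K]
        have hDK : D ≤ K := by
          rw [hK]
          refine le_inf (le_trans hDQ1 hQ1leQ) ?_
          rw [le_centralizer_iff, hVDdef]
          exact inf_le_right
        have h1 : K.relIndex ⁅Q, Q⁆ ∣ 2 := by
          have := relIndex_dvd_of_le_left (⁅Q, Q⁆ : Subgroup H) hDK
          rwa [hDidx] at this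
        rcases (Nat.dvd_prime Nat.prime_two).mp h1 with h2 | h2
        · exact absurd (relIndex_eq_one.mp h2) hQ1notK
        · exact h2
      hZc := img_le_centralizer hQ1Q
      hQcomm := by
        intro a ha a' ha'
        obtain ⟨x, hx, rfl⟩ := exists_lift_of_mem_img ha
        obtain ⟨y, hy, rfl⟩ := exists_lift_of_mem_img ha'
        rw [hcomm_lift]
        apply proj_mem_img_of
        have h1 : ((x * y * x⁻¹ * y⁻¹ : ↥(normalizer (K : Set H))) : H) = ⁅(x : H), (y : H)⁆ := by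
          rw [commutatorElement_def]; rfl
        rw [h1]
        exact commutator_mem_commutator hx hy
      hQpow := by
        intro a ha
        obtain ⟨x, hx, rfl⟩ := exists_lift_of_mem_img ha
        rw [← map_pow]
        apply proj_mem_img_of
        rw [coe_pow]
        exact hQpow x.1 hx
      hbQ := proj_mem_normalizer_img _ hbQ
      hbW := proj_mem_normalizer_img _ hbVD
      hbR := proj_mem_normalizer_img _ hbR
      hbZ := proj_mem_normalizer_img _ hbQ1
      hQW := img_le_normalizer hQVD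
      hRQ := img_le_normalizer c.hRQ
      hfaith := by
        rw [img_inf_centralizer_of_right hVDK hQVD hVDKbot, ← hK]
        exact img_eq_bot_of_le le_rfl
      hfix := by
        rw [eq_bot_iff]
        intro y hy
        obtain ⟨x, hx, rfl⟩ := exists_lift_of_mem_img hy.1
        have h1 := mem_centralizer_iff.mp hy.2 (proj K ⟨b, hbK⟩) (Set.mem_singleton _)
        rw [← map_mul, ← map_mul, proj_eq_proj_iff] at h1
        -- h1 : (b * x)⁻¹ * (x * b) ∈ K
        have h2 : ((b * (x : H))⁻¹ * ((x : H) * b)) ∈ VD := by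
          have h3 : b⁻¹ * (x : H) * b ∈ VD :=
            Cfsg.Agent.Helper79.PQ.conj_inv_mem_of_mem_normalizer hbVD hx
          have h4 : (b * (x : H))⁻¹ * ((x : H) * b) = (x : H)⁻¹ * (b⁻¹ * (x : H) * b) := by group
          rw [h4]
          exact VD.mul_mem (VD.inv_mem hx) h3
        have h5 : ((b * (x : H))⁻¹ * ((x : H) * b)) ∈ VD ⊓ K := ⟨h2, h1⟩
        rw [hVDKbot, mem_bot, inv_mul_eq_one] at h5
        have h6 : (x : H) ∈ VD ⊓ centralizer {b} := by
          refine ⟨hx, ?_⟩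
          show (x : H) ∈ centralizer {b}
          rw [mem_centralizer_iff]
          intro z hz
          rw [Set.mem_singleton_iff] at hz
          rw [hz]
          exact h5
        rw [hfix, mem_bot] at h6
        rw [mem_bot, proj_eq_one_iff, h6]
        exact K.one_mem
      hRZ := img_le_centralizer (le_centralizer_iff.mp hQ1R)
      hRcomm := by
        intro a ha a' ha'
        obtain ⟨x, hx, rfl⟩ := exists_lift_of_mem_img ha
        obtain ⟨y, hy, rfl⟩ := exists_lift_of_mem_img ha'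
        rw [hcomm_lift]
        refine img_le_centralizer (S := centralizer (Q : Set H)) le_rfl (proj_mem_img_of _ ?_)
        exact (hRcomm x.1 hx y.1 hy).2
      hRpow := by
        intro a ha
        obtain ⟨x, hx, rfl⟩ := exists_lift_of_mem_img ha
        rw [← map_pow]
        refine img_le_centralizer (S := centralizer (Q : Set H)) le_rfl (proj_mem_img_of _ ?_)
        rw [coe_pow]
        exact (hRpow x.1 hx).2
      hQR := by
        -- `N` := the elements of `Q` whose image lies in `Z~`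
        obtain ⟨N, hN⟩ : ∃ N : Subgroup H, N =
            (((img K ⁅Q, Q⁆).comap (proj K)).map (normalizer (K : Set H)).subtype) ⊓ Q := ⟨_, rfl⟩
        have hN_of : ∀ x : ↥(normalizer (K : Set H)), (x : H) ∈ Q → proj K x ∈ img K ⁅Q, Q⁆ →
            (x : H) ∈ N := by
          intro x hx h
          rw [hN]
          exact ⟨mem_map.mpr ⟨x, mem_comap.mpr h, rfl⟩, hx⟩
        have hN_to : ∀ g ∈ N, g ∈ Q ∧ ∃ hg : g ∈ normalizer (K : Set H),
            proj K ⟨g, hg⟩ ∈ img K ⁅Q, Q⁆ := by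
          intro g hg
          rw [hN] at hg
          obtain ⟨x, hx, rfl⟩ := mem_map.mp hg.1
          exact ⟨hg.2, x.2, mem_comap.mp hx⟩
        have hQ1N : ⁅Q, Q⁆ ≤ N := fun z hz =>
          hN_of ⟨z, hQ1K hz⟩ (hQ1leQ hz) (proj_mem_img_of _ hz)
        have hNQ : N ≤ Q := fun g hg => (hN_to g hg).1
        have hconjN : ∀ y ∈ R, ∀ k ∈ N, y * k * y⁻¹ ∈ N := by
          intro y hy k hk
          obtain ⟨hkQ, hkK, hkZ⟩ := hN_to k hk
          have h1 : proj K ⟨y, hRK hy⟩ ∈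
              normalizer ((img K ⁅Q, Q⁆ : Subgroup (Quo K)) : Set (Quo K)) :=
            proj_mem_normalizer_img _ (hRQ1 hy)
          have h2 := (mem_normalizer_iff.mp h1 _).mp hkZ
          rw [← map_mul, ← map_inv, ← map_mul] at h2
          exact hN_of (⟨y, hRK hy⟩ * ⟨k, hkK⟩ * ⟨y, hRK hy⟩⁻¹)
            (conj_mem_of_mem_normalizer (c.hRQ hy) hkQ) h2
        have hRN : R ≤ normalizer (N : Set H) := by
          intro y hy
          apply mem_normalizer_of_forall (hconjN y hy)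
          intro k hk
          have := hconjN y⁻¹ (R.inv_mem hy) k hk
          rwa [inv_inv] at this
        intro a ha hall
        obtain ⟨x, hx, rfl⟩ := exists_lift_of_mem_img ha
        have h1 : (x : H) ∈ N := by
          apply hQlast N hQ1N hNQ hRN x.1 hx
          intro y hy
          have h2 := hall (proj K ⟨y, hRK hy⟩) (proj_mem_img_of _ hy)
          rw [hconj_lift] at h2
          exact hN_of (x⁻¹ * (⟨y, hRK hy⟩ * x * ⟨y, hRK hy⟩⁻¹))
            (Q.mul_mem (Q.inv_mem hx) (conj_mem_of_mem_normalizer (c.hRQ hy) hx)) h2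
        obtain ⟨-, hxK, hxZ⟩ := hN_to x.1 h1
        exact hxZ
      hbad := by
        obtain ⟨g, hg, hgbad⟩ := hbad
        refine ⟨proj K ⟨g, hQK hg⟩, proj_mem_img_of _ hg, ?_⟩
        intro h1
        rw [hconj_lift, proj_eq_one_iff] at h1
        exact hgbad (hKc h1) }

end Cfsg.Agent.Helper37.PQ
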