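-- (SD) of helper52's WANTED #5134 for S4306: from the ambient form (everything inside `H = G ⋊ A`) to the statement
-- about a `MulDistribMulAction` of a nonabelian group `A` of order `pq` (helper37).
import Mathlib
import Cfsg.Agent.Helper52.PQDefs

set_option autoImplicit false

namespace Cfsg.Agent.Helper37.PQ

open Subgroup Cfsg.Agent.Helper1.Shult Cfsg.Agent.Helper52.PQ

universe v1 v2

/-- a nonabelian group of order `s t`, `t < s` primes, is generated by a Frobenius pair -/
lemma exists_frobPair {A : Type*} [Group A] [Finite A] (s t : ℕ) (hs : s.Prime) (ht : t.Prime)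
    (hts : t < s) (hA : Nat.card A = s * t) (hna : ¬ ∀ a b : A, a * b = b * a) :
    ∃ σ τ : A, FrobPair s t σ τ ∧ closure ({σ, τ} : Set A) = ⊤ := by
  classical
  haveI : Fact s.Prime := ⟨hs⟩
  haveI : Fact t.Prime := ⟨ht⟩
  obtain ⟨σ, hσ⟩ := exists_prime_orderOf_dvd_card' (G := A) s (by rw [hA]; exact dvd_mul_right s t)
  obtain ⟨τ, hτ⟩ := exists_prime_orderOf_dvd_card' (G := A) t (by rw [hA]; exact dvd_mul_left t s)
  have hst : ¬ s ∣ t := Nat.not_dvd_of_pos_of_lt ht.pos hts
  -- the Sylow `s`-subgroup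
  obtain ⟨P, hP⟩ := (IsPGroup.of_card (n := 1) (by rw [Nat.card_zpowers, hσ, pow_one]) :
    IsPGroup s (zpowers σ)).exists_le_sylow
  have hcardP : Nat.card (P : Subgroup A) = s := by
    have h1 : Nat.card (P : Subgroup A) = s ^ (Nat.card A).factorization s := Sylow.card_eq_multiplicity P
    rw [h1, hA, Nat.factorization_mul hs.ne_zero ht.ne_zero]
    simp [hs.factorization_self, Nat.factorization_eq_zero_of_not_dvd hst]
  have hPeq : zpowers σ = (P : Subgroup A) :=
    Subgroup.eq_of_le_of_card_ge hP (by rw [hcardP, Nat.card_zpowers, hσ])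
  have hindex : (P : Subgroup A).index = t := by
    have h1 := Subgroup.card_mul_index (P : Subgroup A)
    rw [hcardP, hA] at h1
    exact Nat.eq_of_mul_eq_mul_left hs.pos h1
  have hn1 : Nat.card (Sylow s A) = 1 := by
    have hd : Nat.card (Sylow s A) ∣ t := by rw [← hindex]; exact Sylow.card_dvd_index P
    have hm : Nat.card (Sylow s A) ≡ 1 [MOD s] := card_sylow_modEq_one s A
    rcases (Nat.dvd_prime ht).1 hd with h | h
    · exact h
    · exfalso
      rw [h] at hm
      have h1 : t % s = 1 % s := hm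
      rw [Nat.mod_eq_of_lt hts, Nat.mod_eq_of_lt hs.one_lt] at h1
      exact ht.one_lt.ne' h1
  haveI : Subsingleton (Sylow s A) := (Nat.card_eq_one_iff_unique.1 hn1).1
  have hPn : (P : Subgroup A).Normal := Sylow.normal_of_subsingleton P
  have hσn : (zpowers σ).Normal := by rw [hPeq]; exact hPn
  -- generation
  have hgen : closure ({σ, τ} : Set A) = ⊤ := by
    apply Subgroup.eq_top_of_card_eq
    apply Nat.dvd_antisymm (Subgroup.card_subgroup_dvd_card _)
    rw [hA]
    have h1 : s ∣ Nat.card (closure ({σ, τ} : Set A)) := by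
      rw [← hσ, ← Nat.card_zpowers]
      apply Subgroup.card_dvd_of_le
      rw [zpowers_le]
      exact subset_closure (by simp)
    have h2 : t ∣ Nat.card (closure ({σ, τ} : Set A)) := by
      rw [← hτ, ← Nat.card_zpowers]
      apply Subgroup.card_dvd_of_le
      rw [zpowers_le]
      exact subset_closure (by simp)
    exact Nat.Coprime.mul_dvd_of_dvd_of_dvd ((Nat.coprime_primes hs ht).2 hts.ne') h1 h2
  refine ⟨σ, τ, ⟨hs, ht, hσ, hτ, hσn.conj_mem σ (mem_zpowers σ) τ, ?_⟩, hgen⟩
  intro hcomm
  apply hna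
  have hcen : closure ({σ, τ} : Set A) ≤ center A := by
    have h1 : closure ({σ, τ} : Set A) ≤ centralizer ({σ, τ} : Set A) := by
      rw [closure_le]
      intro a ha
      rw [SetLike.mem_coe, mem_centralizer_iff]
      intro b hb
      rcases ha with rfl | rfl <;> rcases hb with rfl | rfl
      · rfl
      · exact hcomm
      · exact hcomm.symm
      · rfl
    rw [closure_le]
    intro a ha
    rw [SetLike.mem_coe, mem_center_iff]
    intro b
    have hb : b ∈ centralizer ({σ, τ} : Set A) := h1 (by rw [hgen]; exact mem_top b)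
    exact ((mem_centralizer_iff.1 hb) a ha).symm
  intro a b
  have ha : a ∈ center A := hcen (by rw [hgen]; exact mem_top a)
  exact ((mem_center_iff.1 ha) b).symm

/-- the statement for `t < s` -/
theorem pq_of_ambient_aux (hW : PQAmbientStmt.{max v1 v2}) {G : Type v1} {A : Type v2} [Group G]
    [Finite G] [Group.IsSolvable G] [Group A] [Finite A] [MulDistribMulAction A G] (s t : ℕ)
    (hs : s.Prime) (ht : t.Prime) (hts : t < s) (hA : Nat.card A = s * t)
    (hna : ¬ ∀ a b : A, a * b = b * a) (hcop : (Nat.card G).Coprime (s * t))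
    (hfpf : ∀ g : G, (∀ a : A, a • g = g) → g = 1) :
    ∃ F : Subgroup G, ∃ hF : F.Normal, Group.IsNilpotent ↥F ∧ Group.IsNilpotent (G ⧸ F) := by
  classical
  obtain ⟨σ0, τ0, hF0, hgen0⟩ := exists_frobPair s t hs ht hts hA hna
  let φ : A →* MulAut G := MulDistribMulAction.toMulAut A G
  let H := G ⋊[φ] A
  haveI : Finite H := Finite.of_equiv _ (SemidirectProduct.equivProd (φ := φ)).symm
  let iL : G →* H := SemidirectProduct.inl
  let iR : A →* H := SemidirectProduct.inr
  have hiL : Function.Injective iL := SemidirectProduct.inl_injective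
  have hiR : Function.Injective iR := SemidirectProduct.inr_injective
  have hconj : ∀ (a : A) (g : G), iR a * iL g * (iR a)⁻¹ = iL (a • g) := by
    intro a g
    have := SemidirectProduct.inl_aut (φ := φ) a g
    rw [map_inv] at this
    exact this.symm
  set σ : H := iR σ0 with hσ
  set τ : H := iR τ0 with hτ
  have hS : FrobPair s t σ τ := by
    refine ⟨hs, ht, ?_, ?_, ?_, ?_⟩
    · rw [hσ, orderOf_injective iR hiR, hF0.oσ]
    · rw [hτ, orderOf_injective iR hiR, hF0.oτ]
    · rw [hσ, hτ, ← map_inv, ← map_mul, ← map_mul, ← MonoidHom.map_zpowers]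
      exact Subgroup.mem_map_of_mem iR hF0.norm
    · rw [hσ, hτ, ← map_mul, ← map_mul]
      exact fun h => hF0.ncomm (hiR h)
  set G' : Subgroup H := iL.range with hG'
  have hGn : G'.Normal := by
    rw [hG', show iL.range = (SemidirectProduct.rightHom (φ := φ)).ker from
      SemidirectProduct.range_inl_eq_ker_rightHom]
    infer_instance
  have hrange : iR.range ≤ closure ({σ, τ} : Set H) := by
    rintro _ ⟨a, rfl⟩
    have e : closure ({σ, τ} : Set H) = (closure ({σ0, τ0} : Set A)).map iR := by
      rw [MonoidHom.map_closure, Set.image_pair]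
    rw [e, hgen0]
    exact ⟨a, mem_top a, rfl⟩
  have hGA : G' ⊔ closure ({σ, τ} : Set H) = ⊤ := by
    rw [eq_top_iff]
    intro x _
    have hx : x = iL x.left * iR x.right := (SemidirectProduct.inl_left_mul_inr_right x).symm
    rw [hx]
    exact Subgroup.mul_mem _ (Subgroup.mem_sup_left ⟨_, rfl⟩)
      (Subgroup.mem_sup_right (hrange ⟨_, rfl⟩))
  have hGsol : Group.IsSolvable G' := Group.isSolvable_of_surjective iL.rangeRestrict_surjective
  have hcardG' : Nat.card G' = Nat.card G :=
    Nat.card_congr (MonoidHom.ofInjective hiL).toEquiv.symm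
  have hcop' : (Nat.card G').Coprime (s * t) := by rw [hcardG']; exact hcop
  have hfix : Fix σ τ G' = ⊥ := by
    rw [eq_bot_iff]
    rintro _ ⟨⟨g, rfl⟩, hc⟩
    rw [mem_bot]
    have hcl : closure ({σ, τ} : Set H) ≤ centralizer ({iL g} : Set H) := by
      rw [closure_le]
      intro a ha
      rw [SetLike.mem_coe, mem_centralizer_iff]
      intro b hb
      rw [Set.mem_singleton_iff] at hb
      subst hb
      exact (hc a ha).symm
    have hg1 : g = 1 := by
      apply hfpf
      intro a
      have h0 : iR a ∈ centralizer ({iL g} : Set H) := hcl (hrange ⟨a, rfl⟩)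
      have h1 : iL g * iR a = iR a * iL g := (mem_centralizer_iff.mp h0) (iL g) (Set.mem_singleton _)
      have h2 : iR a * iL g * (iR a)⁻¹ = iL g := by
        rw [← h1, mul_inv_cancel_right]
      rw [hconj] at h2
      exact hiL h2
    rw [hg1, map_one]
  obtain ⟨N, hNn, hNG, ⟨k, hk⟩, ⟨k', hk'⟩⟩ := hW H s t σ τ G' hS hGn hGA hGsol hcop' hfix
  have hFn : (N.comap iL).Normal := hNn.comap iL
  have hmapF : (N.comap iL).map iL = N := by
    rw [Subgroup.map_comap_eq, inf_eq_right]
    exact hNG
  refine ⟨N.comap iL, hFn, ?_, ?_⟩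
  · rw [Subgroup.isNilpotent_iff_lowerCentralSeries]
    refine ⟨k, ?_⟩
    have : ((N.comap iL).lowerCentralSeries k).map iL = ⊥ := by
      rw [Subgroup.map_lowerCentralSeries, hmapF, hk]
    exact (Subgroup.map_eq_bot_iff_of_injective _ hiL).mp this
  · rw [_root_.nilpotent_iff_lowerCentralSeries]
    refine ⟨k', ?_⟩
    have h1 : (⊤ : Subgroup G).lowerCentralSeries k' ≤ N.comap iL := by
      rw [← Subgroup.map_le_iff_le_comap, Subgroup.map_lowerCentralSeries, ← MonoidHom.range_eq_map]
      exact hk'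
    have h2 : (⊤ : Subgroup (G ⧸ N.comap iL)) = (⊤ : Subgroup G).map (QuotientGroup.mk' (N.comap iL)) := by
      rw [← MonoidHom.range_eq_map]
      exact (MonoidHom.range_eq_top.2 (QuotientGroup.mk'_surjective _)).symm
    rw [h2, ← Subgroup.map_lowerCentralSeries, Subgroup.map_eq_bot_iff, QuotientGroup.ker_mk']
    exact h1

/-- (SD) S4306 from the ambient theorem (semidirect product). -/
theorem pq_of_ambient (hW : PQAmbientStmt.{max v1 v2}) {G : Type v1} {A : Type v2} [Group G]
    [Finite G] [Group.IsSolvable G] [Group A] [Finite A] [MulDistribMulAction A G] (p q : ℕ)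
    (hp : p.Prime) (hq : q.Prime) (hpq : p ≠ q) (hA : Nat.card A = p * q)
    (hAna : ¬ IsMulCommutative A) (hcop : (Nat.card G).Coprime (p * q))
    (hfpf : ∀ g : G, (∀ a : A, a • g = g) → g = 1) :
    ∃ F : Subgroup G, ∃ hF : F.Normal, Group.IsNilpotent ↥F ∧ Group.IsNilpotent (G ⧸ F) := by
  have hna : ¬ ∀ a b : A, a * b = b * a := fun h => hAna ⟨⟨h⟩⟩
  rcases lt_or_gt_of_ne hpq with h | h
  · exact pq_of_ambient_aux hW q p hq hp h (by rw [hA, mul_comm]) hna (by rw [mul_comm]; exact hcop) hfpf
  · exact pq_of_ambient_aux hW p q hp hq h hA hna hcop hfpf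

end Cfsg.Agent.Helper37.PQ
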