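import Mathlib
import Cfsg.Agent.Helper69.Bhm2
import Cfsg.Agent.Helper9.SubnormalSylow

/-!
# (L1) of S4321: the Bertram–Herzog–Mann step
-/

set_option autoImplicit false
set_option linter.unusedSectionVars false
set_option linter.style.haveILetI false

namespace Cfsg.Agent.Helper37.PSG

open Subgroup Cfsg.Agent.Helper69.Bhm

variable {G : Type*} [Group G] [Finite G]

theorem ci_mul_comm' (a b : G) : ci (b * a) = ci (a * b) := by
  have h : b * a = b * (a * b) * b⁻¹ := by group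
  rw [h, ci_conj]

/-- the class-preserving left multipliers form a normal subgroup -/
theorem presSubgroup_normal (a : G) : (presSubgroup a).Normal := by
  constructor
  intro k hk t x hx
  obtain ⟨s, rfl⟩ := hx
  have hx' : t⁻¹ * (s * a * s⁻¹) * t ∈ cls a := ⟨t⁻¹ * s, by group⟩
  obtain ⟨u, hu⟩ := hk _ hx'
  have hu : u * a * u⁻¹ = k * (t⁻¹ * (s * a * s⁻¹) * t) := hu
  refine ⟨t * u, ?_⟩
  show t * u * a * (t * u)⁻¹ = t * k * t⁻¹ * (s * a * s⁻¹)
  calc t * u * a * (t * u)⁻¹ = t * (u * a * u⁻¹) * t⁻¹ := by group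
    _ = t * (k * (t⁻¹ * (s * a * s⁻¹) * t)) * t⁻¹ := by rw [hu]
    _ = t * k * t⁻¹ * (s * a * s⁻¹) := by group

/-- `b * cls a = cls (b * a)` when the class sizes agree -/
theorem mul_cls_eq {a b : G} (hcop : Nat.Coprime (ci a) (ci b)) (heq : ci (a * b) = ci a) :
    (fun x => b * x) '' cls a = cls (b * a) := by
  have hsub : (fun x => b * x) '' cls a ⊆ cls (b * a) := by
    rintro _ ⟨x, ⟨t, rfl⟩, rfl⟩
    obtain ⟨s, hs⟩ := conj_mul_conj hcop.symm 1 t
    refine ⟨s, ?_⟩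
    show s * (b * a) * s⁻¹ = b * (t * a * t⁻¹)
    rw [← hs]
    group
  apply Set.eq_of_subset_of_ncard_le hsub
  rw [Set.ncard_image_of_injective _ (mul_right_injective b), ← Nat.card_coe_set_eq,
    ← Nat.card_coe_set_eq, card_cls, card_cls, ci_mul_comm', heq]

/-- the elements `b⁻¹ b^g` preserve the class of `a` -/
theorem comm_mem_presSubgroup {a b : G} (hcop : Nat.Coprime (ci a) (ci b))
    (heq : ci (a * b) = ci a) (g : G) : b⁻¹ * (g * b * g⁻¹) ∈ presSubgroup a := by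
  rintro x ⟨t, rfl⟩
  obtain ⟨s, hs⟩ := conj_mul_conj hcop.symm g t
  have hmem : g * b * g⁻¹ * (t * a * t⁻¹) ∈ cls (b * a) := ⟨s, hs.symm⟩
  rw [← mul_cls_eq hcop heq] at hmem
  obtain ⟨x', hx', hxx⟩ := hmem
  have h1 : b⁻¹ * (g * b * g⁻¹) * (t * a * t⁻¹) = x' := by
    have h2 : b * x' = g * b * g⁻¹ * (t * a * t⁻¹) := hxx
    calc b⁻¹ * (g * b * g⁻¹) * (t * a * t⁻¹) = b⁻¹ * (g * b * g⁻¹ * (t * a * t⁻¹)) := by group
      _ = b⁻¹ * (b * x') := by rw [h2]
      _ = x' := by group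
  rw [h1]
  exact hx'

/-- (L1) BHM trick. -/
theorem bhm_step {a b : G} (hcop : Nat.Coprime (ci a) (ci b)) (heq : ci (a * b) = ci a) :
    (∀ g : G, Commute b (g * b * g⁻¹)) ∧
    (∀ g : G, ∀ r : ℕ, r.Prime → r ∣ orderOf (b⁻¹ * (g * b * g⁻¹)) → r ∣ ci a) := by
  have hk := comm_mem_presSubgroup hcop heq
  refine ⟨?_, fun g r hr hdvd => prime_dvd_ci_of_mem_pres (hk g) hr hdvd⟩
  haveI hN : (presSubgroup a).Normal := presSubgroup_normal a
  -- every prime dividing `|N|` divides `ci a`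
  have hprime : ∀ r : ℕ, r.Prime → r ∣ Nat.card (presSubgroup a) → r ∣ ci a := by
    intro r hr hdvd
    haveI : Fact r.Prime := ⟨hr⟩
    obtain ⟨x, hx⟩ := exists_prime_orderOf_dvd_card' r hdvd
    refine prime_dvd_ci_of_mem_pres x.2 hr ?_
    rw [Subgroup.orderOf_coe, hx]
  have hcopN : Nat.Coprime (Nat.card (presSubgroup a)) (ci b) := by
    apply Nat.coprime_of_dvd
    intro r hr h1 h2
    have h3 : r ∣ Nat.gcd (ci a) (ci b) := Nat.dvd_gcd (hprime r hr h1) h2
    rw [hcop.gcd_eq_one] at h3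
    exact hr.one_lt.ne' (Nat.dvd_one.mp h3)
  have hrel : (cz b).relIndex (presSubgroup a) = 1 := by
    have h1 : (cz b).relIndex (presSubgroup a) ∣ Nat.card (presSubgroup a) :=
      Subgroup.relIndex_dvd_card _ _
    have h2 : (cz b).relIndex (presSubgroup a) ∣ ci b :=
      Cfsg.Agent.Helper9.relIndex_dvd_index_of_normal_right _ _
    exact Nat.eq_one_of_dvd_coprimes hcopN h1 h2
  have hle : presSubgroup a ≤ cz b := Subgroup.relIndex_eq_one.mp hrel
  intro g
  have h1 := mem_cz_iff.mp (hle (hk g))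
  show b * (g * b * g⁻¹) = g * b * g⁻¹ * b
  calc b * (g * b * g⁻¹) = b * (b * (b⁻¹ * (g * b * g⁻¹))) := by group
    _ = b * (b⁻¹ * (g * b * g⁻¹) * b) := by rw [h1]
    _ = g * b * g⁻¹ * b := by group

end Cfsg.Agent.Helper37.PSG
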