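-- (W1) of helper88's WANTED #4677 for S5318: for `q ≡ 1 mod 4` the monomial matrices with entries in the
-- Sylow 2-subgroup `⟨ζ⟩` of `Fˣ` form a (wreathed) Sylow 2-subgroup of `GL₂(F)` (helper37).
import Cfsg.Agent.Helper88.PSL3Fus

set_option autoImplicit false

open Matrix Cfsg.Agent.Helper37.PSL3Inv Cfsg.Agent.Helper37.SU3Inv Cfsg.Agent.Helper37.GL2S2
  Cfsg.Agent.Helper85 Cfsg.Agent.Helper88.PSL3F

namespace Cfsg.Agent.Helper37.PSL3W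

variable {F : Type*} [Field F]

lemma sw_mul_dg (a b : Fˣ) : (sw : GL (Fin 2) F) * dg a b = dg b a * sw := by
  have h := sw_conj a b
  rw [sw_inv] at h
  rw [← h, mul_assoc, mul_assoc, sw_mul_sw, mul_one]

lemma dg_inv (a b : Fˣ) : (dg a b : GL (Fin 2) F)⁻¹ = dg a⁻¹ b⁻¹ := by
  apply inv_eq_of_mul_eq_one_right
  rw [dg_mul, mul_inv_cancel, mul_inv_cancel, dg_one]

lemma dg_ne_dg_mul_sw (a b c d : Fˣ) : (dg a b : GL (Fin 2) F) ≠ dg c d * sw := by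
  intro h
  have h1 := congrArg (fun g : GL (Fin 2) F => g.1 0 0) h
  simp [dg_val, sw_val, Matrix.mul_apply, Fin.sum_univ_two] at h1

lemma dg_mul_sw_injective {a b c d : Fˣ} (h : (dg a b : GL (Fin 2) F) * sw = dg c d * sw) :
    a = c ∧ b = d :=
  dg_injective (mul_right_cancel h)

/-- the monomial matrices with entries in a subgroup `Z` of `Fˣ` -/
def monoGrp (Z : Subgroup Fˣ) : Subgroup (GL (Fin 2) F) where
  carrier := {g | ∃ u ∈ Z, ∃ v ∈ Z, g = dg u v ∨ g = dg u v * sw}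
  one_mem' := ⟨1, Z.one_mem, 1, Z.one_mem, Or.inl dg_one.symm⟩
  mul_mem' := by
    rintro g h ⟨u, hu, v, hv, rfl | rfl⟩ ⟨u', hu', v', hv', rfl | rfl⟩
    · exact ⟨u * u', Z.mul_mem hu hu', v * v', Z.mul_mem hv hv', Or.inl (dg_mul _ _ _ _)⟩
    · exact ⟨u * u', Z.mul_mem hu hu', v * v', Z.mul_mem hv hv', Or.inr (by
        rw [← mul_assoc, dg_mul])⟩
    · exact ⟨u * v', Z.mul_mem hu hv', v * u', Z.mul_mem hv hu', Or.inr (by
        rw [mul_assoc, sw_mul_dg, ← mul_assoc, dg_mul])⟩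
    · exact ⟨u * v', Z.mul_mem hu hv', v * u', Z.mul_mem hv hu', Or.inl (by
        rw [mul_assoc, ← mul_assoc sw, sw_mul_dg, mul_assoc, sw_mul_sw, mul_one, dg_mul])⟩
  inv_mem' := by
    rintro g ⟨u, hu, v, hv, rfl | rfl⟩
    · exact ⟨u⁻¹, Z.inv_mem hu, v⁻¹, Z.inv_mem hv, Or.inl (dg_inv u v)⟩
    · exact ⟨v⁻¹, Z.inv_mem hv, u⁻¹, Z.inv_mem hu, Or.inr (by
        rw [_root_.mul_inv_rev, sw_inv, dg_inv, sw_mul_dg])⟩

lemma mem_monoGrp {Z : Subgroup Fˣ} {g : GL (Fin 2) F} :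
    g ∈ monoGrp Z ↔ ∃ u ∈ Z, ∃ v ∈ Z, g = dg u v ∨ g = dg u v * sw := Iff.rfl

/-- the parametrisation of the monomial group -/
def monoMap (Z : Subgroup Fˣ) : (Z × Z) ⊕ (Z × Z) → monoGrp Z
  | Sum.inl p => ⟨dg p.1.1 p.2.1, p.1.1, p.1.2, p.2.1, p.2.2, Or.inl rfl⟩
  | Sum.inr p => ⟨dg p.1.1 p.2.1 * sw, p.1.1, p.1.2, p.2.1, p.2.2, Or.inr rfl⟩

lemma monoMap_bijective (Z : Subgroup Fˣ) : Function.Bijective (monoMap (F := F) Z) := by
  constructor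
  · rintro (⟨⟨u, hu⟩, ⟨v, hv⟩⟩ | ⟨⟨u, hu⟩, ⟨v, hv⟩⟩) (⟨⟨u', hu'⟩, ⟨v', hv'⟩⟩ | ⟨⟨u', hu'⟩, ⟨v', hv'⟩⟩) h
    · have h' : (dg u v : GL (Fin 2) F) = dg u' v' := congrArg Subtype.val h
      obtain ⟨rfl, rfl⟩ := dg_injective h'
      rfl
    · have h' : (dg u v : GL (Fin 2) F) = dg u' v' * sw := congrArg Subtype.val h
      exact absurd h' (dg_ne_dg_mul_sw _ _ _ _)
    · have h' : (dg u v : GL (Fin 2) F) * sw = dg u' v' := congrArg Subtype.val h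
      exact absurd h'.symm (dg_ne_dg_mul_sw _ _ _ _)
    · have h' : (dg u v : GL (Fin 2) F) * sw = dg u' v' * sw := congrArg Subtype.val h
      obtain ⟨rfl, rfl⟩ := dg_mul_sw_injective h'
      rfl
  · rintro ⟨g, u, hu, v, hv, rfl | rfl⟩
    · exact ⟨Sum.inl (⟨u, hu⟩, ⟨v, hv⟩), rfl⟩
    · exact ⟨Sum.inr (⟨u, hu⟩, ⟨v, hv⟩), rfl⟩

variable [Fintype F]

lemma card_monoGrp (Z : Subgroup Fˣ) : Nat.card (monoGrp (F := F) Z) = 2 * Nat.card Z ^ 2 := by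
  rw [← Nat.card_eq_of_bijective _ (monoMap_bijective Z), Nat.card_sum, Nat.card_prod]
  ring

/-- (W1) q ≡ 1 mod 4: an explicit wreathed Sylow 2-subgroup of GL₂(F). -/
theorem exists_wrData (h1 : Fintype.card F % 4 = 1) :
    ∃ (P : Sylow 2 (GL (Fin 2) F)) (ζ : Fˣ) (a : ℕ), WrData (P : Subgroup (GL (Fin 2) F)) ζ a := by
  classical
  have hq2 : 1 < Fintype.card F := Fintype.one_lt_card
  obtain ⟨a, m, hm, hq⟩ := Nat.exists_eq_two_pow_mul_odd (n := Fintype.card F - 1) (by omega)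
  obtain ⟨k, rfl⟩ := hm
  have ha : 2 ≤ a := by
    rcases a with _ | _ | a
    · simp at hq; omega
    · simp at hq; omega
    · omega
  -- an element of order `2 ^ a`
  obtain ⟨g, hg⟩ := IsCyclic.exists_ofOrder_eq_natCard (α := Fˣ)
  rw [Nat.card_units, Nat.card_eq_fintype_card, hq] at hg
  have hk0 : 2 * k + 1 ≠ 0 := by omega
  have hζ : orderOf (g ^ (2 * k + 1)) = 2 ^ a := by
    rw [orderOf_pow_of_dvd hk0 (by rw [hg]; exact dvd_mul_left _ _), hg,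
      Nat.mul_div_cancel _ (Nat.pos_of_ne_zero hk0)]
  set ζ : Fˣ := g ^ (2 * k + 1)
  -- the Sylow subgroup
  obtain ⟨m', hm', hcard⟩ := card_GL2_one (F := F) a k ha hq
  have hcP : Nat.card (monoGrp (F := F) (Subgroup.zpowers ζ)) = 2 ^ (2 * a + 1) := by
    rw [card_monoGrp, Nat.card_zpowers, hζ]
    ring
  have hfac : (Nat.card (GL (Fin 2) F)).factorization 2 = 2 * a + 1 := by
    have hm0 : m' ≠ 0 := by rintro rfl; exact hm' (dvd_zero 2)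
    rw [hcard, Nat.factorization_mul (pow_ne_zero _ two_ne_zero) hm0,
      Nat.Prime.factorization_pow Nat.prime_two]
    simp [Nat.factorization_eq_zero_of_not_dvd hm']
  refine ⟨Sylow.ofCard (monoGrp (F := F) (Subgroup.zpowers ζ)) (by rw [hcP, hfac]), ζ, a, ha, hζ, ?_⟩
  intro x
  rw [Sylow.coe_ofCard, mem_monoGrp]
  constructor
  · rintro ⟨u, hu, v, hv, h⟩
    obtain ⟨i, rfl⟩ := (mem_powers_iff_mem_zpowers.2 hu)
    obtain ⟨j, rfl⟩ := (mem_powers_iff_mem_zpowers.2 hv)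
    exact ⟨i, j, h⟩
  · rintro ⟨i, j, h⟩
    exact ⟨ζ ^ i, Subgroup.npow_mem_zpowers ζ i, ζ ^ j, Subgroup.npow_mem_zpowers ζ j, h⟩

end Cfsg.Agent.Helper37.PSL3W
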