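-- (W3) of helper88's WANTED #4677 for S5318: the wreathed Sylow 2-subgroup `P` of `GL₂(F)` satisfies
-- `N(P) = P C(P)` (helper37).
import Cfsg.Agent.Helper37.PSL3W1

set_option autoImplicit false

open Matrix Cfsg.Agent.Helper37.PSL3Inv Cfsg.Agent.Helper37.SU3Inv Cfsg.Agent.Helper37.GL2S2
  Cfsg.Agent.Helper85 Cfsg.Agent.Helper88.PSL3F

namespace Cfsg.Agent.Helper37.PSL3W

variable {F : Type*} [Field F]

/-- a matrix commuting with `diag(ζ, 1)`, `ζ ≠ 1`, is diagonal -/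
lemma exists_dg_of_comm {ζ : Fˣ} (hζ : ζ ≠ 1) (g : GL (Fin 2) F) (h : g * dg ζ 1 = dg ζ 1 * g) :
    ∃ α δ : Fˣ, g = dg α δ := by
  have h01 := congrArg (fun x : GL (Fin 2) F => x.1 0 1) h
  have h10 := congrArg (fun x : GL (Fin 2) F => x.1 1 0) h
  simp only [Units.val_mul, dg_val, Matrix.mul_apply, Fin.sum_univ_two, Matrix.of_apply,
    Matrix.cons_val', Matrix.cons_val_zero, Matrix.cons_val_one, Matrix.cons_val_fin_one,
    Units.val_one, mul_zero, mul_one, zero_add, add_zero, zero_mul, one_mul] at h01 h10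
  have hζ' : (ζ : F) - 1 ≠ 0 := fun e => hζ (Units.ext (by simpa using sub_eq_zero.1 e))
  have e01 : g.1 0 1 = 0 := by
    have : ((ζ : F) - 1) * g.1 0 1 = 0 := by linear_combination -h01
    exact (mul_eq_zero.1 this).resolve_left hζ'
  have e10 : g.1 1 0 = 0 := by
    have : ((ζ : F) - 1) * g.1 1 0 = 0 := by linear_combination h10
    exact (mul_eq_zero.1 this).resolve_left hζ'
  have hdet : g.1.det ≠ 0 := by
    have := (Matrix.isUnit_iff_isUnit_det _).1 g.isUnit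
    exact this.ne_zero
  rw [Matrix.det_fin_two, e01, e10, mul_zero, sub_zero] at hdet
  have h00 : g.1 0 0 ≠ 0 := left_ne_zero_of_mul hdet
  have h11 : g.1 1 1 ≠ 0 := right_ne_zero_of_mul hdet
  refine ⟨Units.mk0 _ h00, Units.mk0 _ h11, ?_⟩
  apply Units.ext
  ext i j
  fin_cases i <;> fin_cases j <;> simp [dg_val, e01, e10]

lemma trace_conj_GL (g t : GL (Fin 2) F) : (g * t * g⁻¹).1.trace = t.1.trace := by
  rw [Units.val_mul, Units.val_mul]
  exact Matrix.trace_units_conj g t.1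

lemma det_conj_GL (g t : GL (Fin 2) F) : (g * t * g⁻¹).1.det = t.1.det := by
  rw [Units.val_mul, Units.val_mul]
  exact Matrix.det_units_conj g t.1

/-- (W3) -/
theorem wr_selfNorm {P : Subgroup (GL (Fin 2) F)} {ζ : Fˣ} {a : ℕ} (h : WrData P ζ a) : SelfNorm P := by
  have hζ2 : ζ ^ 2 ≠ 1 := by
    intro e
    have h1 := orderOf_dvd_of_pow_eq_one e
    rw [h.hζ] at h1
    have h2 : 2 ^ a ≤ 2 := Nat.le_of_dvd (by norm_num) h1
    have h3 : 2 ^ 2 ≤ 2 ^ a := Nat.pow_le_pow_right (by norm_num) h.ha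
    omega
  have hζ1 : ζ ≠ 1 := by rintro rfl; exact hζ2 (one_pow 2)
  have hζm : (ζ : F) + 1 ≠ 0 := by
    intro e
    apply hζ2
    apply Units.ext
    have : (ζ : F) = -1 := by linear_combination e
    simp [this]
  have hdgP : ∀ i j : ℕ, dg (ζ ^ i) (ζ ^ j) ∈ P := fun i j => (h.mem _).2 ⟨i, j, Or.inl rfl⟩
  have hswP : (sw : GL (Fin 2) F) ∈ P := (h.mem _).2 ⟨0, 0, Or.inr (by simp [dg_one])⟩
  -- Case A: `g` commutes with `diag(ζ, 1)`
  have caseA : ∀ g ∈ Subgroup.normalizer (P : Set (GL (Fin 2) F)), g * dg ζ 1 = dg ζ 1 * g →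
      ∃ s ∈ P, ∀ x ∈ P, g * x * g⁻¹ = s * x * s⁻¹ := by
    intro g hg hc
    obtain ⟨α, δ, rfl⟩ := exists_dg_of_comm hζ1 g hc
    have h1 : dg α δ * sw * (dg α δ)⁻¹ ∈ P := (Subgroup.mem_normalizer_iff.1 hg sw).1 hswP
    have e1 : dg α δ * sw * (dg α δ)⁻¹ = dg (α * δ⁻¹) (δ * α⁻¹) * sw := by
      rw [dg_inv, mul_assoc, sw_mul_dg, ← mul_assoc, dg_mul]
    rw [e1] at h1
    obtain ⟨i, j, h2 | h2⟩ := (h.mem _).1 h1
    · exact absurd h2.symm (dg_ne_dg_mul_sw _ _ _ _)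
    · obtain ⟨e2, -⟩ := dg_mul_sw_injective h2
      refine ⟨dg (ζ ^ i) 1, by simpa using hdgP i 0, ?_⟩
      have hα : α = ζ ^ i * δ := by rw [← e2, inv_mul_cancel_right]
      have hg' : dg α δ = dg (ζ ^ i) 1 * dg δ δ := by rw [dg_mul, one_mul, ← hα]
      have hcen : ∀ x ∈ P, dg δ δ * x * (dg δ δ)⁻¹ = x := by
        intro x hx
        rw [mul_inv_eq_iff_eq_mul]
        obtain ⟨i', j', rfl | rfl⟩ := (h.mem _).1 hx
        · rw [dg_mul, dg_mul, mul_comm δ, mul_comm δ]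
        · rw [← mul_assoc, dg_mul, mul_assoc, sw_mul_dg, ← mul_assoc, dg_mul, mul_comm δ, mul_comm δ]
      intro x hx
      rw [hg']
      calc dg (ζ ^ i) 1 * dg δ δ * x * (dg (ζ ^ i) 1 * dg δ δ)⁻¹
          = dg (ζ ^ i) 1 * (dg δ δ * x * (dg δ δ)⁻¹) * (dg (ζ ^ i) 1)⁻¹ := by group
        _ = dg (ζ ^ i) 1 * x * (dg (ζ ^ i) 1)⁻¹ := by rw [hcen x hx]
  intro g hg
  have htP : dg ζ 1 ∈ P := by simpa using hdgP 1 0
  have h1 : g * dg ζ 1 * g⁻¹ ∈ P := (Subgroup.mem_normalizer_iff.1 hg _).1 htP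
  have htr := trace_conj_GL g (dg ζ 1)
  have hdt := det_conj_GL g (dg ζ 1)
  obtain ⟨i, j, h2 | h2⟩ := (h.mem _).1 h1
  · rw [h2] at htr hdt
    simp only [dg_val, Matrix.trace_fin_two, Matrix.det_fin_two, Matrix.of_apply, Matrix.cons_val',
      Matrix.cons_val_zero, Matrix.cons_val_one, Matrix.cons_val_fin_one, Units.val_one,
      mul_zero, sub_zero, mul_one] at htr hdt
    have hprod : (((ζ ^ i : Fˣ) : F) - 1) * (((ζ ^ j : Fˣ) : F) - 1) = 0 := by
      linear_combination hdt - htr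
    rcases mul_eq_zero.1 hprod with hu | hv
    · -- `u = 1`, so `g t g⁻¹ = diag(1, ζ)`: Case B
      have hu' : (ζ ^ i : Fˣ) = 1 := Units.ext (by simpa using sub_eq_zero.1 hu)
      have hv' : (ζ ^ j : Fˣ) = ζ := by
        apply Units.ext
        rw [hu', Units.val_one, one_mul] at hdt
        exact hdt
      rw [hu', hv'] at h2
      have hg' : sw * g ∈ Subgroup.normalizer (P : Set (GL (Fin 2) F)) :=
        Subgroup.mul_mem _ (Subgroup.le_normalizer hswP) hg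
      have hc : sw * g * dg ζ 1 = dg ζ 1 * (sw * g) := by
        have : sw * (g * dg ζ 1 * g⁻¹) * sw⁻¹ = dg ζ 1 := by rw [h2, sw_conj]
        calc sw * g * dg ζ 1 = (sw * (g * dg ζ 1 * g⁻¹) * sw⁻¹) * (sw * g) := by group
          _ = dg ζ 1 * (sw * g) := by rw [this]
      obtain ⟨s, hs, hsx⟩ := caseA _ hg' hc
      refine ⟨sw * s, P.mul_mem hswP hs, fun x hx => ?_⟩
      have e := hsx x hx
      have hsw : (sw : GL (Fin 2) F)⁻¹ = sw := sw_inv
      calc g * x * g⁻¹ = sw * (sw * g * x * (sw * g)⁻¹) * sw⁻¹ := by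
            rw [_root_.mul_inv_rev, hsw]
            have : (sw : GL (Fin 2) F) * sw = 1 := sw_mul_sw
            calc g * x * g⁻¹ = (sw * sw) * g * x * g⁻¹ * (sw * sw) := by rw [this, one_mul, mul_one]
              _ = sw * (sw * g * x * (g⁻¹ * sw)) * sw := by group
        _ = sw * (s * x * s⁻¹) * sw⁻¹ := by rw [e]
        _ = sw * s * x * (sw * s)⁻¹ := by group
    · -- `v = 1`, so `g t g⁻¹ = diag(ζ, 1)`: Case A
      have hv' : (ζ ^ j : Fˣ) = 1 := Units.ext (by simpa using sub_eq_zero.1 hv)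
      have hu' : (ζ ^ i : Fˣ) = ζ := by
        apply Units.ext
        rw [hv', Units.val_one, mul_one] at hdt
        exact hdt
      rw [hu', hv'] at h2
      refine caseA g hg ?_
      calc g * dg ζ 1 = (g * dg ζ 1 * g⁻¹) * g := by group
        _ = dg ζ 1 * g := by rw [h2]
  · exfalso
    rw [h2] at htr
    simp [dg_val, sw_val, Matrix.trace_fin_two, Matrix.mul_apply, Fin.sum_univ_two] at htr
    exact hζm htr.symm

end Cfsg.Agent.Helper37.PSL3W
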