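import Mathlib
import Cfsg.Agent.Helper99.Pron.Defs

/-!
# S2225/S2226 block I (helper99's farm #15213), piece (G3) (helper37)
-/

set_option autoImplicit false

namespace Cfsg.Agent.Helper37.Pron

open Matrix Cfsg.Agent.Helper99.Pron

variable {F : Type*} [Field F] {ι : Type*} [Fintype ι] [DecidableEq ι]

/-- `sc` of an inverse -/
theorem G3_sc_inv (l : Fˣ) : (sc l⁻¹ : GL ι F) = (sc l)⁻¹ := by
  have := map_inv (scHom ι F) l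
  simpa using this

/-- (G3) a block diagonal element normalising `Y` lies in (scalars) * `Wr P`. -/
theorem G3 [Nonempty ι] (P : Subgroup (GL ι F))
    (hn : ∀ x ∈ Subgroup.normalizer (P : Set (GL ι F)), ∃ l : Fˣ, ∃ p ∈ P, x = sc l * p)
    (Y : Subgroup (GL (ι ⊕ ι) F)) (hY : Y ≤ Wr P)
    (hd : ∀ a ∈ P, ∃ b ∈ P, bd a b ∈ Y) (hd' : ∀ b ∈ P, ∃ a ∈ P, bd a b ∈ Y)
    (hb : ∃ a₀ ∈ P, ∃ b₀ ∈ P, ad a₀ b₀ ∈ Y) (x₁ x₂ : GL ι F)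
    (hx : bd x₁ x₂ ∈ Subgroup.normalizer (Y : Set (GL (ι ⊕ ι) F))) :
    ∃ l : Fˣ, ∃ w ∈ Wr P, bd x₁ x₂ = sc l * w := by
  obtain ⟨a₀, ha₀, b₀, hb₀, hab₀⟩ := hb
  -- conjugation by a block diagonal element of the normaliser preserves `P` in both coordinates
  have hconj : ∀ z₁ z₂ : GL ι F, bd z₁ z₂ ∈ Subgroup.normalizer (Y : Set (GL (ι ⊕ ι) F)) →
      (∀ a ∈ P, z₁ * a * z₁⁻¹ ∈ P) ∧ (∀ b ∈ P, z₂ * b * z₂⁻¹ ∈ P) := by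
    intro z₁ z₂ hz
    rw [Subgroup.mem_normalizer_iff] at hz
    have key : ∀ a b : GL ι F, bd a b ∈ Y → z₁ * a * z₁⁻¹ ∈ P ∧ z₂ * b * z₂⁻¹ ∈ P := by
      intro a b hab
      have h1 := (hz (bd a b)).mp hab
      rw [bd_inv, bd_mul_bd, bd_mul_bd] at h1
      obtain ⟨a', ha', b', hb', h2 | h2⟩ := hY h1
      · obtain ⟨e1, e2⟩ := bd_injective _ _ _ _ h2
        exact ⟨e1 ▸ ha', e2 ▸ hb'⟩
      · exact absurd h2 (bd_ne_ad _ _ _ _)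
    refine ⟨fun a ha => ?_, fun b hb => ?_⟩
    · obtain ⟨b, hb, hab⟩ := hd a ha
      exact (key a b hab).1
    · obtain ⟨a, ha, hab⟩ := hd' b hb
      exact (key a b hab).2
  have hxinv : (bd x₁ x₂)⁻¹ ∈ Subgroup.normalizer (Y : Set (GL (ι ⊕ ι) F)) :=
    Subgroup.inv_mem _ hx
  rw [bd_inv] at hxinv
  obtain ⟨h1a, h1b⟩ := hconj x₁ x₂ hx
  obtain ⟨h2a, h2b⟩ := hconj x₁⁻¹ x₂⁻¹ hxinv
  have hN : ∀ z : GL ι F, (∀ a ∈ P, z * a * z⁻¹ ∈ P) → (∀ a ∈ P, z⁻¹ * a * z⁻¹⁻¹ ∈ P) →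
      z ∈ Subgroup.normalizer (P : Set (GL ι F)) := by
    intro z hz hz'
    rw [Subgroup.mem_normalizer_iff]
    intro h
    refine ⟨hz h, fun hh => ?_⟩
    have := hz' _ hh
    have e : z⁻¹ * (z * h * z⁻¹) * z⁻¹⁻¹ = h := by group
    rwa [e] at this
  obtain ⟨l₁, p₁, hp₁, hx₁⟩ := hn x₁ (hN x₁ h1a h2a)
  obtain ⟨l₂, p₂, hp₂, hx₂⟩ := hn x₂ (hN x₂ h1b h2b)
  -- conjugate `ad a₀ b₀`
  have h3 : x₁ * a₀ * x₂⁻¹ ∈ P := by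
    have hz := hx
    rw [Subgroup.mem_normalizer_iff] at hz
    have h1 := (hz (ad a₀ b₀)).mp hab₀
    rw [bd_inv, bd_mul_ad, ad_mul_bd] at h1
    obtain ⟨a', ha', b', hb', h2 | h2⟩ := hY h1
    · exact absurd h2.symm (bd_ne_ad _ _ _ _)
    · obtain ⟨e1, e2⟩ := ad_injective _ _ _ _ h2
      exact e1 ▸ ha'
  have h4 : (sc (l₁ * l₂⁻¹) : GL ι F) ∈ P := by
    have e : (sc (l₁ * l₂⁻¹) : GL ι F) * (p₁ * a₀ * p₂⁻¹) = x₁ * a₀ * x₂⁻¹ := by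
      rw [hx₁, hx₂, _root_.mul_inv_rev, ← G3_sc_inv, sc_mul]
      calc sc l₁ * sc l₂⁻¹ * (p₁ * a₀ * p₂⁻¹) = sc l₁ * (sc l₂⁻¹ * (p₁ * a₀ * p₂⁻¹)) := by
            rw [mul_assoc]
        _ = sc l₁ * ((p₁ * a₀ * p₂⁻¹) * sc l₂⁻¹) := by rw [sc_comm l₂⁻¹]
        _ = sc l₁ * p₁ * a₀ * (p₂⁻¹ * sc l₂⁻¹) := by simp only [mul_assoc]
    have e' : (sc (l₁ * l₂⁻¹) : GL ι F) = (x₁ * a₀ * x₂⁻¹) * (p₁ * a₀ * p₂⁻¹)⁻¹ :=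
      eq_mul_inv_of_mul_eq e
    rw [e']
    exact P.mul_mem h3 (P.inv_mem (P.mul_mem (P.mul_mem hp₁ ha₀) (P.inv_mem hp₂)))
  refine ⟨l₂, bd (sc (l₁ * l₂⁻¹) * p₁) p₂, bd_mem_Wr (P.mul_mem h4 hp₁) hp₂, ?_⟩
  rw [← bd_sc l₂, bd_mul_bd, hx₁, hx₂, ← mul_assoc, ← sc_mul]
  have e : l₂ * (l₁ * l₂⁻¹) = l₁ := by
    rw [mul_comm l₁, mul_inv_cancel_left]
  rw [e]

end Cfsg.Agent.Helper37.Pron
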