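import Mathlib
import Cfsg.Agent.Helper99.Pron.Defs

/-!
# S2225/S2226 block I (helper99's farm #15213), piece (GMC) `GMc` (helper37)

Self-contained: the two block lemmas of (GMAB) are re-proved here under the names
`GMC_exists_bd_of_blocks`, `GMC_exists_ad_of_blocks`.
-/

set_option autoImplicit false

namespace Cfsg.Agent.Helper37.Pron

open Matrix Cfsg.Agent.Helper99.Pron

variable {F : Type*} [Field F] {ι : Type*} [Fintype ι] [DecidableEq ι]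

/-- an invertible block diagonal matrix is a `bd` -/
theorem GMC_exists_bd_of_blocks (x : GL (ι ⊕ ι) F)
    (h12 : (x : Matrix (ι ⊕ ι) (ι ⊕ ι) F).toBlocks₁₂ = 0)
    (h21 : (x : Matrix (ι ⊕ ι) (ι ⊕ ι) F).toBlocks₂₁ = 0) : ∃ x₁ x₂ : GL ι F, x = bd x₁ x₂ := by
  have hx : (x : Matrix (ι ⊕ ι) (ι ⊕ ι) F) =
      fromBlocks (x : Matrix (ι ⊕ ι) (ι ⊕ ι) F).toBlocks₁₁ 0 0
        (x : Matrix (ι ⊕ ι) (ι ⊕ ι) F).toBlocks₂₂ := by
    conv_lhs => rw [← fromBlocks_toBlocks (x : Matrix (ι ⊕ ι) (ι ⊕ ι) F), h12, h21]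
  have hdet : (x : Matrix (ι ⊕ ι) (ι ⊕ ι) F).det ≠ 0 := by
    have := x.isUnit
    exact ((Matrix.isUnit_iff_isUnit_det _).mp this).ne_zero
  rw [hx, det_fromBlocks_zero₂₁] at hdet
  have h1 : (x : Matrix (ι ⊕ ι) (ι ⊕ ι) F).toBlocks₁₁.det ≠ 0 := left_ne_zero_of_mul hdet
  have h2 : (x : Matrix (ι ⊕ ι) (ι ⊕ ι) F).toBlocks₂₂.det ≠ 0 := right_ne_zero_of_mul hdet
  refine ⟨Matrix.GeneralLinearGroup.mkOfDetNeZero _ h1,
    Matrix.GeneralLinearGroup.mkOfDetNeZero _ h2, ?_⟩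
  apply Units.ext
  rw [bd_val]
  exact hx

/-- an invertible block antidiagonal matrix is an `ad` -/
theorem GMC_exists_ad_of_blocks (x : GL (ι ⊕ ι) F)
    (h11 : (x : Matrix (ι ⊕ ι) (ι ⊕ ι) F).toBlocks₁₁ = 0)
    (h22 : (x : Matrix (ι ⊕ ι) (ι ⊕ ι) F).toBlocks₂₂ = 0) : ∃ x₁ x₂ : GL ι F, x = ad x₁ x₂ := by
  have hx : (x : Matrix (ι ⊕ ι) (ι ⊕ ι) F) =
      fromBlocks 0 (x : Matrix (ι ⊕ ι) (ι ⊕ ι) F).toBlocks₁₂
        (x : Matrix (ι ⊕ ι) (ι ⊕ ι) F).toBlocks₂₁ 0 := by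
    conv_lhs => rw [← fromBlocks_toBlocks (x : Matrix (ι ⊕ ι) (ι ⊕ ι) F), h11, h22]
  have hy : ((x * ad 1 1 : GL (ι ⊕ ι) F) : Matrix (ι ⊕ ι) (ι ⊕ ι) F) =
      fromBlocks (x : Matrix (ι ⊕ ι) (ι ⊕ ι) F).toBlocks₁₂ 0 0
        (x : Matrix (ι ⊕ ι) (ι ⊕ ι) F).toBlocks₂₁ := by
    rw [Units.val_mul, ad_val, hx, fromBlocks_multiply]
    simp
  obtain ⟨y₁, y₂, hy'⟩ := GMC_exists_bd_of_blocks (x * ad 1 1)
    (by rw [hy, toBlocks_fromBlocks₁₂]) (by rw [hy, toBlocks_fromBlocks₂₁])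
  refine ⟨y₁, y₂, ?_⟩
  have h1 : x = bd y₁ y₂ * (ad 1 1)⁻¹ := eq_mul_inv_of_mul_eq hy'
  rw [h1, ad_inv, bd_mul_ad]
  simp

/-- (GMc) if `x⁻¹ * diag(1,0) * x = diag(l,m)` (scalar blocks) then `x` is block diagonal or block
antidiagonal. -/
theorem GMc [Nonempty ι] (x : GL (ι ⊕ ι) F) (l m : F)
    (h : (x⁻¹ : GL (ι ⊕ ι) F).1 * fromBlocks (1 : Matrix ι ι F) 0 0 0 * x.1 =
      fromBlocks (l • (1 : Matrix ι ι F)) 0 0 (m • 1)) :
    (∃ x₁ x₂ : GL ι F, x = bd x₁ x₂) ∨ (∃ x₁ x₂ : GL ι F, x = ad x₁ x₂) := by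
  obtain ⟨i₀⟩ := ‹Nonempty ι›
  have hxx : x.1 * (x⁻¹ : GL (ι ⊕ ι) F).1 = 1 := by
    rw [← Units.val_mul, mul_inv_cancel, Units.val_one]
  have hxx' : (x⁻¹ : GL (ι ⊕ ι) F).1 * x.1 = 1 := by
    rw [← Units.val_mul, inv_mul_cancel, Units.val_one]
  set E : Matrix (ι ⊕ ι) (ι ⊕ ι) F := fromBlocks (1 : Matrix ι ι F) 0 0 0 with hE
  set D : Matrix (ι ⊕ ι) (ι ⊕ ι) F := fromBlocks (l • (1 : Matrix ι ι F)) 0 0 (m • 1) with hD
  -- `E * x = x * D`
  have hEx : E * x.1 = x.1 * D := by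
    rw [← h, ← mul_assoc, ← mul_assoc, hxx, one_mul]
  have hEE : E * E = E := by
    rw [hE, fromBlocks_multiply]
    simp
  -- `D` is idempotent
  have hDD : D * D = D := by
    calc D * D = (x⁻¹ : GL (ι ⊕ ι) F).1 * E * (x.1 * (x⁻¹ : GL (ι ⊕ ι) F).1) * E * x.1 := by
          rw [← h]; simp only [mul_assoc]
      _ = (x⁻¹ : GL (ι ⊕ ι) F).1 * (E * E) * x.1 := by rw [hxx, mul_one]; simp only [mul_assoc]
      _ = D := by rw [hEE, h]
  have hscal : ∀ c : F, c • (1 : Matrix ι ι F) * (c • 1) = c • 1 → c = 0 ∨ c = 1 := by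
    intro c hc
    have h1 := congrFun (congrFun hc i₀) i₀
    rw [smul_mul_smul_comm, mul_one] at h1
    simp only [Matrix.smul_apply, Matrix.one_apply_eq, smul_eq_mul, mul_one] at h1
    have h2 : c * (c - 1) = 0 := by linear_combination h1
    rcases mul_eq_zero.mp h2 with h3 | h3
    · exact Or.inl h3
    · exact Or.inr (sub_eq_zero.mp h3)
  have hDD' := hDD
  rw [hD, fromBlocks_multiply] at hDD'
  simp only [Matrix.mul_zero, Matrix.zero_mul, add_zero, zero_add] at hDD'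
  obtain ⟨hl, -, -, hm⟩ := fromBlocks_inj.mp hDD'
  -- the blocks of `x`
  have hxb : x.1 = fromBlocks x.1.toBlocks₁₁ x.1.toBlocks₁₂ x.1.toBlocks₂₁ x.1.toBlocks₂₂ :=
    (fromBlocks_toBlocks x.1).symm
  have hEx' := hEx
  rw [hxb, hE, hD, fromBlocks_multiply, fromBlocks_multiply] at hEx'
  simp only [Matrix.one_mul, Matrix.zero_mul, Matrix.mul_zero, add_zero, zero_add,
    Matrix.mul_smul, Matrix.mul_one] at hEx'
  obtain ⟨e11, e12, e21, e22⟩ := fromBlocks_inj.mp hEx'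
  have h01 : (0 : Matrix ι ι F) ≠ 1 := by
    intro h0
    have := congrFun (congrFun h0 i₀) i₀
    simp at this
  rcases hscal l hl with rfl | rfl <;> rcases hscal m hm with rfl | rfl
  · -- `D = 0`
    exfalso
    have hD0 : D = 0 := by
      rw [hD]
      simp [fromBlocks_zero]
    have : E = 0 := by
      have h5 : E = x.1 * D * (x⁻¹ : GL (ι ⊕ ι) F).1 := by
        rw [← hEx, mul_assoc, hxx, mul_one]
      rw [h5, hD0, mul_zero, zero_mul]
    rw [hE, ← fromBlocks_zero] at this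
    exact h01 (fromBlocks_inj.mp this).1.symm
  · -- `l = 0`, `m = 1`: antidiagonal
    right
    apply GMC_exists_ad_of_blocks
    · rw [e11, zero_smul]
    · have := e22
      rw [one_smul] at this
      exact this.symm
  · -- `l = 1`, `m = 0`: diagonal
    left
    apply GMC_exists_bd_of_blocks
    · rw [e12, zero_smul]
    · have := e21
      rw [one_smul] at this
      exact this.symm
  · -- `D = 1`
    exfalso
    have hD1 : D = 1 := by
      rw [hD, one_smul, fromBlocks_one]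
    have : E = 1 := by
      have h5 : E = x.1 * D * (x⁻¹ : GL (ι ⊕ ι) F).1 := by
        rw [← hEx, mul_assoc, hxx, mul_one]
      rw [h5, hD1, mul_one, hxx]
    rw [hE, ← fromBlocks_one] at this
    exact h01 (fromBlocks_inj.mp this).2.2.2

end Cfsg.Agent.Helper37.Pron
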