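import Mathlib
import Cfsg.Agent.Helper9.PsuA.Defs

/-!
# S2089 block A-p (helper9's farm #14857), piece (F6A): `exists_mu_pair_of_five_le` (helper37)

Also general: the fixed field of `bar x = x ^ q` in a field with `q ^ 2` elements has at least `q`
elements (`F6_card_fixed_ge`, any characteristic), and a set of five elements of a field contains
a non-root of `X (X + 1) (X ^ 2 + X + 1)` (`F6_exists_good`).
-/

set_option autoImplicit false
set_option linter.unusedSectionVars false
set_option linter.unusedVariables false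

namespace Cfsg.Agent.Helper37.PsuA

open scoped commutatorElement
open Cfsg.Agent.Helper46.U3O Cfsg.Agent.Helper84.RU3 Cfsg.Agent.Helper9.PsuA

universe u

open Polynomial in
/-- five elements of a field contain a non-root of `X (X + 1) (X ^ 2 + X + 1)` -/
theorem F6_exists_good {K : Type*} [Field K] [DecidableEq K] (S : Finset K) (hS : 5 ≤ S.card) :
    ∃ s ∈ S, s ≠ 0 ∧ 1 + s ≠ 0 ∧ s ^ 2 + s + 1 ≠ 0 := by
  set P : K[X] := X * (X + 1) * (X ^ 2 + X + 1) with hP
  have hP0 : P ≠ 0 := by
    have h1 : (X : K[X]) ≠ 0 := X_ne_zero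
    have h2 : (X + 1 : K[X]) ≠ 0 := by
      have : (X + C 1 : K[X]) ≠ 0 := X_add_C_ne_zero 1
      simpa using this
    have h3 : (X ^ 2 + X + 1 : K[X]) ≠ 0 := by
      intro h
      have := congrArg (fun p => coeff p 2) h
      simp [coeff_X, coeff_one] at this
    exact mul_ne_zero (mul_ne_zero h1 h2) h3
  have hdeg : P.natDegree ≤ 4 := by
    rw [hP]; compute_degree
  have hcard : P.roots.toFinset.card < S.card := by
    calc P.roots.toFinset.card ≤ Multiset.card P.roots := Multiset.toFinset_card_le _
      _ ≤ P.natDegree := card_roots' _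
      _ ≤ 4 := hdeg
      _ < S.card := by omega
  obtain ⟨s, hsS, hs⟩ := Finset.exists_mem_notMem_of_card_lt_card hcard
  refine ⟨s, hsS, ?_⟩
  rw [Multiset.mem_toFinset, mem_roots hP0, IsRoot.def, hP] at hs
  simp only [eval_mul, eval_add, eval_pow, eval_X, eval_one] at hs
  refine ⟨fun h => hs (by rw [h]; ring), fun h => hs ?_, fun h => hs (by rw [h]; ring)⟩
  have : s + 1 = 0 := by rw [add_comm]; exact h
  rw [this]; ring

section field

variable {K : Type*} [Field K] [Fintype K] {q : ℕ} (hK : Fintype.card K = q ^ 2) (bar : K →+* K)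
  (hbar : ∀ x, bar x = x ^ q) [BarInv K bar]

include hK hbar

open Polynomial in
/-- the fixed field of `bar` has at least `q` elements -/
theorem F6_card_fixed_ge : q ≤ Nat.card {c : K // bar c = c} := by
  classical
  have hq1 : 1 < q := by
    by_contra h
    push Not at h
    have h1 : 1 < Fintype.card K := Fintype.one_lt_card
    rw [hK] at h1
    interval_cases q <;> simp at h1
  let T : K →+ K := AddMonoidHom.id K + bar.toAddMonoidHom
  have hT : ∀ x, T x = x + bar x := fun x => rfl
  have hker : Nat.card T.ker ≤ q := by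
    have hne : (X ^ q + X : K[X]) ≠ 0 := by
      intro h
      have := congrArg (fun p => coeff p q) h
      simp only [coeff_add, coeff_X_pow, coeff_X, coeff_zero] at this
      rw [if_pos trivial, if_neg (by omega)] at this
      simp at this
    have hdeg : (X ^ q + X : K[X]).natDegree ≤ q := by
      compute_degree
      omega
    have hsub : (Finset.univ.filter (fun c : K => c ∈ T.ker)) ⊆
        (X ^ q + X : K[X]).roots.toFinset := by
      intro c hc
      rw [Finset.mem_filter] at hc
      rw [Multiset.mem_toFinset, mem_roots hne, IsRoot, eval_add, eval_pow, eval_X, ← hbar]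
      have := hc.2
      rw [AddMonoidHom.mem_ker, hT] at this
      rw [add_comm]
      exact this
    calc Nat.card T.ker = (Finset.univ.filter (fun c : K => c ∈ T.ker)).card := by
          rw [Nat.card_eq_fintype_card, Fintype.card_subtype]
      _ ≤ (X ^ q + X : K[X]).roots.toFinset.card := Finset.card_le_card hsub
      _ ≤ Multiset.card (X ^ q + X : K[X]).roots := Multiset.toFinset_card_le _
      _ ≤ (X ^ q + X : K[X]).natDegree := card_roots' _
      _ ≤ q := hdeg
  have hrange : Nat.card T.range ≤ Nat.card {c : K // bar c = c} := by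
    have hmem : ∀ y : T.range, bar (y : K) = (y : K) := by
      rintro ⟨y, x, rfl⟩
      show bar (T x) = T x
      rw [hT, map_add, HeisO.bb (bar := bar), add_comm]
    apply Nat.card_le_card_of_injective (fun y : T.range => (⟨y.1, hmem y⟩ : {c : K // bar c = c}))
    intro y z hyz
    have h0 : (y : K) = (z : K) := by
      have := Subtype.ext_iff.mp hyz
      exact this
    exact Subtype.ext h0
  have h1 : Nat.card K = Nat.card (K ⧸ T.ker) * Nat.card T.ker :=
    AddSubgroup.card_eq_card_quotient_mul_card_addSubgroup _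
  have h2 : Nat.card (K ⧸ T.ker) = Nat.card T.range :=
    Nat.card_congr (QuotientAddGroup.quotientKerEquivRange T).toEquiv
  rw [Nat.card_eq_fintype_card, hK, h2] at h1
  by_contra hlt
  push Not at hlt
  have h3 : Nat.card T.range < q := lt_of_le_of_lt hrange hlt
  have hk0 : 0 < Nat.card T.ker := Nat.card_pos
  nlinarith

/-- (F6a) -/
theorem exists_mu_pair_of_five_le (hq : 5 ≤ q) :
    ∃ l₁ l₂ : Kˣ, mu bar l₂ = 1 + mu bar l₁ ∧ mu bar l₁ ^ 2 + mu bar l₁ + 1 ≠ 0 := by
  classical
  have h1 := F6_card_fixed_ge hK bar hbar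
  have h2 : 5 ≤ (Finset.univ.filter (fun c : K => bar c = c)).card := by
    rw [← Fintype.card_subtype, ← Nat.card_eq_fintype_card]
    omega
  obtain ⟨s, hsS, hs0, hs1, hs2⟩ := F6_exists_good _ h2
  have hfix : bar s = s := (Finset.mem_filter.mp hsS).2
  have hfix1 : bar (1 + s) = 1 + s := by rw [map_add, map_one, hfix]
  have e1 : mu bar (Units.mk0 s hs0) = s := by
    unfold mu
    rw [Units.val_mk0, hfix]
    field_simp
  have e2 : mu bar (Units.mk0 (1 + s) hs1) = 1 + s := by
    unfold mu
    rw [Units.val_mk0, hfix1]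
    field_simp
  refine ⟨Units.mk0 s hs0, Units.mk0 (1 + s) hs1, ?_, ?_⟩
  · rw [e1, e2]
  · rw [e1]
    exact hs2

end field

end Cfsg.Agent.Helper37.PsuA
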