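import Mathlib
import Cfsg.Agent.Helper9.PsuA.Defs
import Cfsg.Agent.Helper37.PsuA_F6A

/-!
# S2089 block A-p (helper9's farm #14857), piece (F6B): `exists_mu_pair_of_small` (helper37)
-/

set_option autoImplicit false
set_option linter.unusedSectionVars false
set_option linter.unusedVariables false

namespace Cfsg.Agent.Helper37.PsuA

open scoped commutatorElement
open Cfsg.Agent.Helper46.U3O Cfsg.Agent.Helper84.RU3 Cfsg.Agent.Helper9.PsuA

universe u

section field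

variable {K : Type*} [Field K] [Fintype K] {q : ℕ} (hK : Fintype.card K = q ^ 2) (bar : K →+* K)
  (hbar : ∀ x, bar x = x ^ q) [BarInv K bar]

include hK hbar

/-- if `l ↦ l ^ n` is onto `Kˣ` and `mu bar l = l ^ n`, the conclusion of (F6) holds as soon as `K`
has five elements -/
theorem F6_of_pow (n : ℕ) (hcop : (Nat.card Kˣ).Coprime n)
    (hmu : ∀ l : Kˣ, mu bar l = ((l ^ n : Kˣ) : K)) (h5 : 5 ≤ Fintype.card K) :
    ∃ l₁ l₂ : Kˣ, mu bar l₂ = 1 + mu bar l₁ ∧ mu bar l₁ ^ 2 + mu bar l₁ + 1 ≠ 0 := by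
  classical
  have hsurj : ∀ s : K, s ≠ 0 → ∃ l : Kˣ, mu bar l = s := by
    intro s hs
    obtain ⟨l, hl⟩ := (powCoprime hcop).surjective (Units.mk0 s hs)
    refine ⟨l, ?_⟩
    rw [hmu l]
    have : l ^ n = Units.mk0 s hs := hl
    rw [this, Units.val_mk0]
  have h2 : 5 ≤ (Finset.univ : Finset K).card := by
    rw [Finset.card_univ]
    exact h5
  obtain ⟨s, -, hs0, hs1, hs2⟩ := F6_exists_good _ h2
  obtain ⟨l₁, hl₁⟩ := hsurj s hs0
  obtain ⟨l₂, hl₂⟩ := hsurj (1 + s) hs1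
  refine ⟨l₁, l₂, ?_, ?_⟩
  · rw [hl₁, hl₂]
  · rw [hl₁]
    exact hs2

/-- (F6b) -/
theorem exists_mu_pair_of_small (hq : q = 3 ∨ q = 4) :
    ∃ l₁ l₂ : Kˣ, mu bar l₂ = 1 + mu bar l₁ ∧ mu bar l₁ ^ 2 + mu bar l₁ + 1 ≠ 0 := by
  classical
  have hcardU : Nat.card Kˣ = q ^ 2 - 1 := by
    rw [Nat.card_units, Nat.card_eq_fintype_card, hK]
  rcases hq with rfl | rfl
  · refine F6_of_pow hK bar hbar 5 ?_ ?_ ?_
    · rw [hcardU]
      decide
    · intro l
      unfold mu
      rw [hbar, Units.val_pow_eq_pow_val]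
      have hl : (l : K) ≠ 0 := l.ne_zero
      field_simp
    · rw [hK]
      norm_num
  · refine F6_of_pow hK bar hbar 7 ?_ ?_ ?_
    · rw [hcardU]
      decide
    · intro l
      unfold mu
      rw [hbar, Units.val_pow_eq_pow_val]
      have hl : (l : K) ≠ 0 := l.ne_zero
      field_simp
    · rw [hK]
      norm_num

end field

end Cfsg.Agent.Helper37.PsuA
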