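import Cfsg.Agent.Helper58.PsuIo.AbsDefs

/-!
# S2089 block I-odd, abstract part (helper58's farm #15253), piece (AO3b) `map_C_eq` (helper37)
-/

set_option autoImplicit false

namespace Cfsg.Agent.Helper37.PsuIo

open scoped commutatorElement
open Cfsg.Agent.Helper43.PsuM Cfsg.Agent.Helper96.StLift Cfsg.Agent.Helper58.PsuIo

universe u

section pieces

variable {Γ G : Type u} [Group Γ] [Group G] (τ : Γ →* G) (hτ : Function.Surjective τ)
  (hc : τ.ker ≤ Subgroup.center Γ)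

include hτ hc

variable {p : ℕ} (D : SiegelCore G p)

omit hc in
/-- (AO3b), structure-free form: only the facts `Z ≤ Q`, `T` normalises `Q`, `Q ≤ Z ⊔ ⟨Y i⟩` and
`Y i ⊆ ⁅T, Q⁆ Z` are used (for the odd specials, where no `SiegelData` exists) -/
theorem map_C_eq_core (Q T Z : Subgroup G) {ι : Type*} (Y : ι → Set G) (Z_le_Q : Z ≤ Q)
    (T_Q : ∀ t ∈ T, ∀ x ∈ Q, t * x * t⁻¹ ∈ Q)
    (Q_gen : Q ≤ Z ⊔ Subgroup.closure (⋃ i, Y i))
    (hT : ∀ i, ∀ x ∈ Y i, ∃ h ∈ T, ∃ x' ∈ Q, ∃ z' ∈ Z, x = ⁅h, x'⁆ * z')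
    (Zt : Subgroup Γ) (hZt2 : Zt.map τ = Z) :
    (Zt ⊔ ⁅Q.comap τ, T.comap τ⁆).map τ = Q := by
  rw [Subgroup.map_sup, hZt2, Subgroup.map_commutator,
    Subgroup.map_comap_eq_self_of_surjective hτ, Subgroup.map_comap_eq_self_of_surjective hτ]
  apply le_antisymm
  · apply sup_le Z_le_Q
    rw [Subgroup.commutator_le]
    intro x hx t ht
    have h1 : t * x⁻¹ * t⁻¹ ∈ Q := T_Q t ht x⁻¹ (Q.inv_mem hx)
    have h2 : ⁅x, t⁆ = x * (t * x⁻¹ * t⁻¹) := by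
      rw [commutatorElement_def]
      group
    rw [h2]
    exact Q.mul_mem hx h1
  · refine le_trans Q_gen (sup_le le_sup_left ?_)
    rw [Subgroup.closure_le]
    intro x hx
    obtain ⟨i, hi⟩ := Set.mem_iUnion.mp hx
    obtain ⟨h, hh, x', hx', z', hz', rfl⟩ := hT i x hi
    have h1 : ⁅h, x'⁆ ∈ ⁅Q, T⁆ := by
      rw [Subgroup.commutator_comm]
      exact Subgroup.commutator_mem_commutator hh hx'
    exact Subgroup.mul_mem _ (Subgroup.mem_sup_right h1) (Subgroup.mem_sup_left hz')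

omit hc in
/-- (AO3b) the image of `C = Zt ⊔ ⁅Q̂, T̂⁆` is `Q`. -/
theorem map_C_eq (Zt : Subgroup Γ) (hZt2 : Zt.map τ = D.Z) :
    (Zt ⊔ ⁅D.Q.comap τ, D.T.comap τ⁆).map τ = D.Q :=
  map_C_eq_core τ hτ D.Q D.T D.Z D.Y D.Z_le_Q D.T_Q D.Q_gen D.hT Zt hZt2

end pieces

end Cfsg.Agent.Helper37.PsuIo
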