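import Cfsg.Agent.Helper58.PsuIo.AbsDefs

/-!
# S2089 block I-odd, abstract part (helper58's farm #15253), piece (AO3c) `conj_mem_C_of_T` (helper37)
-/

set_option autoImplicit false

namespace Cfsg.Agent.Helper37.PsuIo

open scoped commutatorElement
open Cfsg.Agent.Helper43.PsuM Cfsg.Agent.Helper96.StLift Cfsg.Agent.Helper58.PsuIo

universe u

section pieces

variable {Γ G : Type u} [Group Γ] [Group G] (τ : Γ →* G) (hτ : Function.Surjective τ)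
  (hc : τ.ker ≤ Subgroup.center Γ)

include hτ hc

variable {p : ℕ} (D : SiegelCore G p)

omit hτ hc in
/-- (AO3c), structure-free form: only `T` normalises `Q` is used -/
theorem conj_mem_C_of_T_core (Q T : Subgroup G) (T_Q : ∀ t ∈ T, ∀ x ∈ Q, t * x * t⁻¹ ∈ Q)
    (Zt : Subgroup Γ) (hTZt : ∀ g : Γ, τ g ∈ T → ∀ z ∈ Zt, g * z * g⁻¹ ∈ Zt) :
    ∀ g : Γ, τ g ∈ T → ∀ c ∈ Zt ⊔ ⁅Q.comap τ, T.comap τ⁆,
      g * c * g⁻¹ ∈ Zt ⊔ ⁅Q.comap τ, T.comap τ⁆ := by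
  intro g hg c hc'
  have hmap : (Zt ⊔ ⁅Q.comap τ, T.comap τ⁆).map (MulAut.conj g).toMonoidHom ≤
      Zt ⊔ ⁅Q.comap τ, T.comap τ⁆ := by
    rw [Subgroup.map_sup, Subgroup.map_commutator]
    apply sup_le_sup
    · rintro _ ⟨z, hz, rfl⟩
      exact hTZt g hg z hz
    · apply Subgroup.commutator_mono
      · rintro _ ⟨x, hx, rfl⟩
        show τ (g * x * g⁻¹) ∈ Q
        rw [map_mul, map_mul, map_inv]
        exact T_Q _ hg _ hx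
      · rintro _ ⟨t, ht, rfl⟩
        show τ (g * t * g⁻¹) ∈ T
        rw [map_mul, map_mul, map_inv]
        exact T.mul_mem (T.mul_mem hg ht) (T.inv_mem hg)
  exact hmap ⟨c, hc', rfl⟩

omit hτ hc in
/-- (AO3c) `T̂` normalises `C`. -/
theorem conj_mem_C_of_T (Zt : Subgroup Γ)
    (hTZt : ∀ g : Γ, τ g ∈ D.T → ∀ z ∈ Zt, g * z * g⁻¹ ∈ Zt) :
    ∀ g : Γ, τ g ∈ D.T → ∀ c ∈ Zt ⊔ ⁅D.Q.comap τ, D.T.comap τ⁆,
      g * c * g⁻¹ ∈ Zt ⊔ ⁅D.Q.comap τ, D.T.comap τ⁆ :=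
  conj_mem_C_of_T_core τ D.Q D.T D.T_Q Zt hTZt

end pieces

end Cfsg.Agent.Helper37.PsuIo
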