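import Cfsg.Agent.Helper37.PsuIo_OO2bCore
import Cfsg.Agent.Helper55.PsuIo_OQ
import Cfsg.Agent.Helper29.PsuIo_OQS
import Cfsg.Agent.Helper80.PsuIo_OZ
import Cfsg.Agent.Helper57.PsuIo_OCONJ

/-!
# S2089 block I-odd MODEL, piece (OO2b) (helper37 for helper58, WANTED #15378)

`hO2b_model`: the final wiring of `hO2b_model_of` with the landed (OQ), (OQS), (OZ), (OCONJ).
-/

set_option autoImplicit false

namespace Cfsg.Agent.Helper37.PsuIo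

open Matrix
open scoped commutatorElement
open Cfsg.Agent.Helper43.PsuM
open Cfsg.Agent.Helper58.PsuIo.Od

universe u

variable {F : Type*} [Field F] {m : ℕ} {σ : F →+* F}

/-- (OO2b) -/
theorem hO2b_model (hσ : ∀ x, σ (σ x) = x) {θ : F} (hθ : θ + σ θ = 1) (hm : 2 ≤ m) :
    ∀ j, ∀ xj ∈ Yset σ j, ∀ xj' ∈ Yset σ j, ∃ i, i ≠ j ∧ ∃ s ∈ (Ev.Ssub m σ).map (emb σ),
      ∃ xi ∈ Yset σ i, ∃ xi' ∈ Yset σ i, ∃ z ∈ Zsub m σ, ∃ z' ∈ Zsub m σ,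
        s * xi * s⁻¹ = xi * xj * z ∧ s * xi' * s⁻¹ = xi' * xj' * z' :=
  hO2b_model_of hσ hθ hm
    (fun y => Cfsg.Agent.Helper29.PsuIo.exists_QP hσ hθ y)
    (fun h h' => Cfsg.Agent.Helper55.PsuIo.QP_mul hσ h h')
    (fun h h' => Cfsg.Agent.Helper55.PsuIo.qO_mul hσ h h')
    (fun A _ _ h => Cfsg.Agent.Helper57.PsuIo.iO_conj_qO hσ A h)
    (fun h h' => Cfsg.Agent.Helper29.PsuIo.qO_eq_mul_Z hσ h h')
    (fun g => Cfsg.Agent.Helper80.PsuIo.mem_Zsub_iff hσ g)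

end Cfsg.Agent.Helper37.PsuIo
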