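import Cfsg.Agent.Helper58.PsuIo.OdDefs
import Cfsg.Agent.Helper58.PsuIo.AbsDefs

/-!
# S2089 block I-odd MODEL (helper58's farm #15378), piece (OO2b): the core `hO2b_model_of` (helper37)

`hO2b_model_of` is the statement of (OO2b) with the lemmas of (OQ), (OQS), (OZ), (OCONJ) it uses as
explicit hypotheses (their skeleton statements verbatim).
-/

set_option autoImplicit false
set_option linter.unusedVariables false

namespace Cfsg.Agent.Helper37.PsuIo

open Matrix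
open scoped commutatorElement
open Cfsg.Agent.Helper43.PsuM Cfsg.Agent.Helper58.PsuIo.Od

universe u

variable {F : Type*} [Field F] {m : ℕ} {σ : F →+* F}

/-- `(1 + E_{ji}) (a e_i) = a e_i + a e_j` -/
theorem OO2b_transvection_mulVec {i j : Fin m} (hji : j ≠ i) (a : F) :
    (SpecialLinearGroup.transvection hji (1 : F)).1 *ᵥ (Pi.single i a : Fin m → F) =
      Pi.single i a + Pi.single j a := by
  funext l
  have h1 : ((SpecialLinearGroup.transvection hji (1 : F)).1 *ᵥ (Pi.single i a : Fin m → F)) l =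
      (SpecialLinearGroup.transvection hji (1 : F)).1 l i * a := by
    simp only [Matrix.mulVec, dotProduct]
    rw [Finset.sum_eq_single i]
    · rw [Pi.single_eq_same]
    · intro b _ hb
      rw [Pi.single_eq_of_ne hb, mul_zero]
    · intro h
      exact absurd (Finset.mem_univ i) h
  rw [h1, SpecialLinearGroup.transvection_coe, Matrix.add_apply, Matrix.one_apply,
    Matrix.single_apply, Pi.add_apply, Pi.single_apply, Pi.single_apply]
  by_cases hli : l = i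
  · have hlj : l ≠ j := fun h => hji (h.symm.trans hli)
    have hjl : ¬ (j = l ∧ i = i) := fun h => hlj h.1.symm
    rw [if_pos hli, if_neg hjl, if_pos hli, if_neg hlj]
    ring
  · by_cases hlj : l = j
    · have hjl : (j = l ∧ i = i) := ⟨hlj.symm, rfl⟩
      rw [if_neg hli, if_pos hjl, if_neg hli, if_pos hlj]
      ring
    · have hjl : ¬ (j = l ∧ i = i) := fun h => hlj h.1.symm
      rw [if_neg hli, if_neg hjl, if_neg hli, if_neg hlj]
      ring

/-- (OO2b) with its dependencies as hypotheses -/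
theorem hO2b_model_of (hσ : ∀ x, σ (σ x) = x) {θ : F} (hθ : θ + σ θ = 1) (hm : 2 ≤ m)
    (h_exists_QP : ∀ y : Fin m → F,
      QP σ y (-(θ • (Matrix.vecMulVec (fun i => σ (y i)) y)ᵀ)))
    (h_QP_mul : ∀ {y y' : Fin m → F} {B B' : Matrix (Fin m) (Fin m) F}, QP σ y B → QP σ y' B' →
      QP σ (y + y') (B + B' - Matrix.vecMulVec y (fun j => σ (y' j))))
    (h_qO_mul : ∀ {y y' : Fin m → F} {B B' : Matrix (Fin m) (Fin m) F}, QP σ y B → QP σ y' B' →
      qO σ y B * qO σ y' B' = qO σ (y + y') (B + B' - Matrix.vecMulVec y (fun j => σ (y' j))))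
    (h_iO_conj : ∀ (A : SpecialLinearGroup (Fin m) F) {y : Fin m → F}
      {B : Matrix (Fin m) (Fin m) F}, QP σ y B →
      QP σ (A.1 *ᵥ y) (A.1 * B * (A.1.map σ)ᵀ) ∧
        iO σ A * qO σ y B * (iO σ A)⁻¹ = qO σ (A.1 *ᵥ y) (A.1 * B * (A.1.map σ)ᵀ))
    (h_eq_mul_Z : ∀ {y : Fin m → F} {B B' : Matrix (Fin m) (Fin m) F}, QP σ y B → QP σ y B' →
      B - B' ∈ Ev.SkewH m σ ∧ qO σ y B = qO σ y B' * qO σ 0 (B - B'))
    (h_mem_Zsub : ∀ g : SUo m σ, g ∈ Zsub m σ ↔ ∃ B ∈ Ev.SkewH m σ, g = qO σ 0 B) :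
    ∀ j, ∀ xj ∈ Yset σ j, ∀ xj' ∈ Yset σ j, ∃ i, i ≠ j ∧ ∃ s ∈ (Ev.Ssub m σ).map (emb σ),
      ∃ xi ∈ Yset σ i, ∃ xi' ∈ Yset σ i, ∃ z ∈ Zsub m σ, ∃ z' ∈ Zsub m σ,
        s * xi * s⁻¹ = xi * xj * z ∧ s * xi' * s⁻¹ = xi' * xj' * z' := by
  intro j xj hxj xj' hxj'
  -- an index `i ≠ j`
  obtain ⟨i, hij⟩ : ∃ i : Fin m, i ≠ j := by
    by_cases h0 : j.val = 0
    · refine ⟨⟨1, by omega⟩, ?_⟩
      intro h
      have := congrArg Fin.val h
      simp only at this
      omega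
    · refine ⟨⟨0, by omega⟩, ?_⟩
      intro h
      have := congrArg Fin.val h
      simp only at this
      omega
  have hji : j ≠ i := fun h => hij h.symm
  set A : SpecialLinearGroup (Fin m) F := SpecialLinearGroup.transvection hji (1 : F) with hA
  have hs : iO σ A ∈ (Ev.Ssub m σ).map (emb σ) :=
    Subgroup.mem_map_of_mem _ (Subgroup.subset_closure ⟨A, rfl⟩)
  have key : ∀ x ∈ Yset σ j, ∃ xi ∈ Yset σ i, ∃ z ∈ Zsub m σ,
      iO σ A * xi * (iO σ A)⁻¹ = xi * x * z := by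
    rintro x ⟨y, B, hQ, hsupp, rfl⟩
    have hy : y = Pi.single j (y j) := by
      funext l
      by_cases hl : l = j
      · rw [hl, Pi.single_eq_same]
      · rw [hsupp l hl, Pi.single_eq_of_ne hl]
    set yi : Fin m → F := Pi.single i (y j) with hyi
    have hQi := h_exists_QP yi
    set Bi : Matrix (Fin m) (Fin m) F := -(θ • (Matrix.vecMulVec (fun l => σ (yi l)) yi)ᵀ) with hBi
    have hxi : qO σ yi Bi ∈ Yset σ i :=
      ⟨yi, Bi, hQi, fun l hl => Pi.single_eq_of_ne hl _, rfl⟩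
    obtain ⟨hQ1, hconj⟩ := h_iO_conj A hQi
    have hAy : A.1 *ᵥ yi = yi + y := by
      rw [hyi, hA, OO2b_transvection_mulVec hji (y j), ← hy]
    rw [hAy] at hQ1 hconj
    have hQ2 := h_QP_mul hQi hQ
    have hmul := h_qO_mul hQi hQ
    obtain ⟨hskew, heq⟩ := h_eq_mul_Z hQ1 hQ2
    refine ⟨qO σ yi Bi, hxi, qO σ 0 (A.1 * Bi * (A.1.map σ)ᵀ -
      (Bi + B - Matrix.vecMulVec yi (fun l => σ (y l)))), (h_mem_Zsub _).mpr ⟨_, hskew, rfl⟩, ?_⟩
    rw [hconj, heq, ← hmul]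
  obtain ⟨xi, hxi, z, hz, h1⟩ := key xj hxj
  obtain ⟨xi', hxi', z', hz', h2⟩ := key xj' hxj'
  exact ⟨i, hij, iO σ A, hs, xi, hxi, xi', hxi', z, hz, z', hz', h1, h2⟩

end Cfsg.Agent.Helper37.PsuIo
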