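import Mathlib
import Cfsg.Agent.Helper43.PsuM.RDefs
import Cfsg.Agent.Helper96.StemSLTwoC

/-!
# S2089 (helper43's farm), rank-one input: the `p'`-part of the Schur multiplier of `SL₂(F)` is trivial,
for EVERY finite field `F` of characteristic `p` (including `F₂`, `F₃`, `F₄`, `F₉`).

The Sylow `r`-subgroups of `SL₂(F)`, `r ≠ p`, are cyclic (S0262) or generalised quaternion (S0261), so the
`r`-part of the kernel of a stem extension is trivial (helper96's `ker_pow_index_of_isCyclic`,
`ker_pow_index_of_quaternion`).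
-/

set_option autoImplicit false

namespace Cfsg.Agent.Helper37.PsuM

open Subgroup Matrix Cfsg.Agent.Helper96.StemBound Cfsg.Agent.Helper96.StemSLTwo Cfsg.Agent.Helper43.PsuM

universe u

/-- every finite stem extension of `SL₂(F)` whose kernel has order prime to `p = char F` is an isomorphism -/
theorem noStemP'_SL2 {F : Type u} [Field F] [Fintype F] (p : ℕ) [Fact p.Prime] [CharP F p] :
    NoStemP' (Matrix.SpecialLinearGroup (Fin 2) F) p := by
  classical
  intro Γ _ _ σ hσ hcop
  have hp : p.Prime := Fact.out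
  apply ker_eq_bot_of_forall_prime
  intro r hr
  have : Fact r.Prime := ⟨hr⟩
  by_cases hrp : r = p
  · subst hrp
    refine ⟨Nat.card σ.ker, ?_, fun z hz => ?_⟩
    · intro hdvd
      have h1 : r ∣ Nat.gcd (Nat.card σ.ker) r := Nat.dvd_gcd hdvd dvd_rfl
      rw [hcop] at h1
      exact hr.one_lt.ne' (Nat.dvd_one.mp h1)
    · have := pow_card_eq_one' (G := σ.ker) (x := ⟨z, hz⟩)
      exact congrArg Subtype.val this
  · by_cases hr2 : r = 2
    · subst hr2
      have hodd : Odd (Fintype.card F) := by
        obtain ⟨⟨n, hn⟩, hp', hq⟩ := FiniteField.card F p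
        simp only [PNat.mk_coe] at hq
        rw [hq]
        exact (hp.odd_of_ne_two (fun h => hrp h.symm)).pow
      obtain ⟨P⟩ : Nonempty (Sylow 2 (SpecialLinearGroup (Fin 2) F)) := inferInstance
      obtain ⟨k, -, ⟨φ⟩⟩ := Cfsg.Agent.S0261.result hodd P
      have : NeZero (2 ^ k) := ⟨pow_ne_zero k two_ne_zero⟩
      have hnd : ¬ 2 ∣ (P : Subgroup (SpecialLinearGroup (Fin 2) F)).index := P.not_dvd_index
      exact ⟨(P : Subgroup (SpecialLinearGroup (Fin 2) F)).index, hnd,
        fun z hz => ker_pow_index_of_quaternion σ hσ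
          (P : Subgroup (SpecialLinearGroup (Fin 2) F)) (2 ^ k) φ hz⟩
    · obtain ⟨P⟩ : Nonempty (Sylow r (SpecialLinearGroup (Fin 2) F)) := inferInstance
      have := Cfsg.Agent.S0262.result p r hr2 hrp P
      have hnd : ¬ r ∣ (P : Subgroup (SpecialLinearGroup (Fin 2) F)).index := P.not_dvd_index
      exact ⟨(P : Subgroup (SpecialLinearGroup (Fin 2) F)).index, hnd,
        fun z hz => ker_pow_index_of_isCyclic σ hσ
          (P : Subgroup (SpecialLinearGroup (Fin 2) F)) hz⟩

end Cfsg.Agent.Helper37.PsuM
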