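import Mathlib

set_option autoImplicit false

/-!
# Cayley transform counting

In a nontrivial commutative ring `A` with `2` a unit and a ring endomorphism `σ` such that
`σ x = -x` forces `x` nilpotent and `g * σ g = 1` forces `g - 1` or `g + 1` nilpotent, the
Cayley transform gives `#{g | g * σ g = 1} = 2 * #{x | σ x = -x}`.
-/

namespace Cfsg.Agent.Helper37.RegUni

section Cayley

variable {A : Type*} [CommRing A]

/-- The Cayley transform `(1 + x) / (1 - x)`. -/
noncomputable def cay (x : A) : A := (1 + x) * Ring.inverse (1 - x)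

theorem cay_mul (x : A) (hx : IsNilpotent x) : cay x * (1 - x) = 1 + x := by
  unfold cay
  rw [mul_assoc, Ring.inverse_mul_cancel _ hx.isUnit_one_sub, mul_one]

theorem cay_sub_one (x : A) (hx : IsNilpotent x) : IsNilpotent (cay x - 1) := by
  have h1 : (1 - x) * Ring.inverse (1 - x) = 1 := Ring.mul_inverse_cancel _ hx.isUnit_one_sub
  have h2 : cay x - 1 = x * (2 * Ring.inverse (1 - x)) := by
    unfold cay
    calc (1 + x) * Ring.inverse (1 - x) - 1
        = (1 + x) * Ring.inverse (1 - x) - (1 - x) * Ring.inverse (1 - x) := by rw [h1]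
      _ = x * (2 * Ring.inverse (1 - x)) := by ring
  rw [h2]
  exact (Commute.all _ _).isNilpotent_mul_right hx

variable (σ : A →+* A)

theorem cay_norm (x : A) (hx : IsNilpotent x) (hσx : σ x = -x) : cay x * σ (cay x) = 1 := by
  have hu := hx.isUnit_one_sub
  have h1 : (1 - x) * Ring.inverse (1 - x) = 1 := Ring.mul_inverse_cancel _ hu
  have h2 : (1 + x) * σ (Ring.inverse (1 - x)) = 1 := by
    have := congrArg σ h1
    rw [map_mul, map_sub, map_one, hσx, sub_neg_eq_add] at this
    exact this
  unfold cay
  rw [map_mul, map_add, map_one, hσx]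
  calc (1 + x) * Ring.inverse (1 - x) * ((1 + -x) * σ (Ring.inverse (1 - x)))
      = ((1 - x) * Ring.inverse (1 - x)) * ((1 + x) * σ (Ring.inverse (1 - x))) := by ring
    _ = 1 := by rw [h1, h2, one_mul]

theorem isUnit_add_one_of_sub_one (h2 : IsUnit (2 : A)) (g : A) (hg : IsNilpotent (g - 1)) :
    IsUnit (g + 1) := by
  have : g + 1 = (g - 1) + 2 := by ring
  rw [this]
  exact hg.isUnit_add_right_of_commute h2 (Commute.all _ _)

theorem cay_injective (h2 : IsUnit (2 : A)) (x y : A) (hx : IsNilpotent x) (hy : IsNilpotent y)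
    (h : cay x = cay y) : x = y := by
  have hu := isUnit_add_one_of_sub_one h2 (cay x) (cay_sub_one x hx)
  have e1 := cay_mul x hx
  have e2 := cay_mul y hy
  rw [← h] at e2
  have e3 : (cay x + 1) * (x - y) = 0 := by linear_combination e2 - e1
  have := (hu.mul_right_eq_zero).mp e3
  exact sub_eq_zero.mp this

theorem cay_ne_neg [Nontrivial A] (h2 : IsUnit (2 : A)) (x y : A) (hx : IsNilpotent x)
    (hy : IsNilpotent y) : cay x ≠ -cay y := by
  intro h
  have h3 : IsNilpotent (cay x - 1) := cay_sub_one x hx
  have h4 : IsNilpotent (cay x + 1) := by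
    have : cay x + 1 = -(cay y - 1) := by rw [h]; ring
    rw [this]
    exact (cay_sub_one y hy).neg
  have h5 : IsNilpotent ((cay x + 1) - (cay x - 1)) := (Commute.all _ _).isNilpotent_sub h4 h3
  have h6 : (cay x + 1) - (cay x - 1) = 2 := by ring
  rw [h6] at h5
  exact h2.not_isNilpotent h5

theorem exists_cay_eq (h2 : IsUnit (2 : A)) (g : A) (hg : g * σ g = 1)
    (hnil : IsNilpotent (g - 1)) : ∃ x, σ x = -x ∧ IsNilpotent x ∧ cay x = g := by
  have hu := isUnit_add_one_of_sub_one h2 g hnil
  set v := Ring.inverse (g + 1) with hv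
  have e1 : (g + 1) * v = 1 := Ring.mul_inverse_cancel _ hu
  have e2 : (σ g + 1) * σ v = 1 := by
    have := congrArg σ e1
    rw [map_mul, map_add, map_one] at this
    exact this
  have e3 : σ v = g * v := by
    calc σ v = σ v * ((g * σ g + g) * v) := by
            rw [hg, add_comm, e1, mul_one]
      _ = ((σ g + 1) * σ v) * (g * v) := by ring
      _ = g * v := by rw [e2, one_mul]
  refine ⟨(g - 1) * v, ?_, (Commute.all _ _).isNilpotent_mul_right hnil, ?_⟩
  · rw [map_mul, map_sub, map_one, e3]
    linear_combination v * hg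
  · have hx : IsNilpotent ((g - 1) * v) := (Commute.all _ _).isNilpotent_mul_right hnil
    have e4 := cay_mul _ hx
    have e5 : g * (1 - (g - 1) * v) = 1 + (g - 1) * v := by
      linear_combination (1 - g) * e1
    exact (hx.isUnit_one_sub.mul_left_inj).mp (e4.trans e5.symm)

theorem card_norm_one [Finite A] [Nontrivial A] (h2 : IsUnit (2 : A))
    (h1 : ∀ x, σ x = -x → IsNilpotent x)
    (h3 : ∀ g, g * σ g = 1 → IsNilpotent (g - 1) ∨ IsNilpotent (g + 1)) :
    Nat.card {g : A // g * σ g = 1} = 2 * Nat.card {x : A // σ x = -x} := by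
  classical
  let Ψ : Bool × {x : A // σ x = -x} → {g : A // g * σ g = 1} := fun p =>
    ⟨(cond p.1 1 (-1)) * cay p.2.1, by
      have := cay_norm σ p.2.1 (h1 _ p.2.2) p.2.2
      rcases p with ⟨b, x⟩
      cases b
      · simp only [cond_false, map_mul, map_neg, map_one]
        linear_combination this
      · simp only [cond_true, map_mul, map_one]
        linear_combination this⟩
  have hΨ : Function.Bijective Ψ := by
    constructor
    · rintro ⟨b, x⟩ ⟨b', x'⟩ h
      have h' : (cond b 1 (-1)) * cay x.1 = (cond b' 1 (-1)) * cay x'.1 :=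
        congrArg Subtype.val h
      have hx := h1 _ x.2
      have hx' := h1 _ x'.2
      cases b <;> cases b'
      · simp only [cond_false, neg_mul, one_mul, neg_inj] at h'
        have := cay_injective h2 _ _ hx hx' h'
        rw [Subtype.ext this]
      · simp only [cond_false, cond_true, neg_mul, one_mul] at h'
        exact absurd h'.symm (cay_ne_neg h2 _ _ hx' hx)
      · simp only [cond_false, cond_true, neg_mul, one_mul] at h'
        exact absurd h' (cay_ne_neg h2 _ _ hx hx')
      · simp only [cond_true, one_mul] at h'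
        have := cay_injective h2 _ _ hx hx' h'
        rw [Subtype.ext this]
    · rintro ⟨g, hg⟩
      rcases h3 g hg with hn | hn
      · obtain ⟨x, hσx, _, hc⟩ := exists_cay_eq σ h2 g hg hn
        refine ⟨(true, ⟨x, hσx⟩), Subtype.ext ?_⟩
        simp only [Ψ, cond_true, one_mul, hc]
      · have hg' : (-g) * σ (-g) = 1 := by rw [map_neg]; linear_combination hg
        have hn' : IsNilpotent (-g - 1) := by
          have : -g - 1 = -(g + 1) := by ring
          rw [this]; exact hn.neg
        obtain ⟨x, hσx, _, hc⟩ := exists_cay_eq σ h2 (-g) hg' hn'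
        refine ⟨(false, ⟨x, hσx⟩), Subtype.ext ?_⟩
        simp only [Ψ, cond_false, neg_mul, one_mul, hc, neg_neg]
  rw [← Nat.card_congr (Equiv.ofBijective Ψ hΨ), Nat.card_prod]
  simp

end Cayley

end Cfsg.Agent.Helper37.RegUni
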