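import Mathlib

set_option autoImplicit false

/-!
# The symplectic adjoint `g ↦ J gᵀ J⁻¹`
-/

namespace Cfsg.Agent.Helper37.RegUni

open Matrix

section Tau

variable {l : Type*} [Fintype l] [DecidableEq l] {R : Type*} [CommRing R]

/-- The symplectic adjoint `g ↦ -(J gᵀ J) = J gᵀ J⁻¹`. -/
def tau (g : Matrix (l ⊕ l) (l ⊕ l) R) : Matrix (l ⊕ l) (l ⊕ l) R := -(J l R * gᵀ * J l R)

theorem tau_one : tau (1 : Matrix (l ⊕ l) (l ⊕ l) R) = 1 := by
  simp [tau, J_squared]

theorem tau_zero : tau (0 : Matrix (l ⊕ l) (l ⊕ l) R) = 0 := by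
  simp [tau]

theorem tau_add (g h : Matrix (l ⊕ l) (l ⊕ l) R) : tau (g + h) = tau g + tau h := by
  simp only [tau, transpose_add, Matrix.mul_add, Matrix.add_mul, neg_add]

theorem tau_neg (g : Matrix (l ⊕ l) (l ⊕ l) R) : tau (-g) = -tau g := by
  simp only [tau, transpose_neg, Matrix.mul_neg, Matrix.neg_mul]

theorem tau_sub (g h : Matrix (l ⊕ l) (l ⊕ l) R) : tau (g - h) = tau g - tau h := by
  rw [sub_eq_add_neg, tau_add, tau_neg, ← sub_eq_add_neg]

theorem tau_smul (a : R) (g : Matrix (l ⊕ l) (l ⊕ l) R) : tau (a • g) = a • tau g := by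
  simp only [tau, transpose_smul, Matrix.mul_smul, Matrix.smul_mul, smul_neg]

theorem tau_mul (g h : Matrix (l ⊕ l) (l ⊕ l) R) : tau (g * h) = tau h * tau g := by
  unfold tau
  rw [transpose_mul, neg_mul_neg]
  calc -(J l R * (hᵀ * gᵀ) * J l R)
      = J l R * hᵀ * (-1) * gᵀ * J l R := by
        simp only [Matrix.mul_neg, Matrix.neg_mul, Matrix.mul_one, Matrix.mul_assoc]
    _ = J l R * hᵀ * (J l R * J l R) * gᵀ * J l R := by rw [J_squared]
    _ = J l R * hᵀ * J l R * (J l R * gᵀ * J l R) := by simp only [Matrix.mul_assoc]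

theorem tau_tau (g : Matrix (l ⊕ l) (l ⊕ l) R) : tau (tau g) = g := by
  unfold tau
  rw [transpose_neg, transpose_mul, transpose_mul, transpose_transpose, J_transpose]
  calc -(J l R * -(-J l R * (g * -J l R)) * J l R)
      = (J l R * J l R) * g * (J l R * J l R) := by
        simp only [Matrix.mul_neg, Matrix.neg_mul, neg_neg, Matrix.mul_assoc]
    _ = g := by rw [J_squared]; simp

theorem tau_pow (g : Matrix (l ⊕ l) (l ⊕ l) R) (k : ℕ) : tau (g ^ k) = (tau g) ^ k := by
  induction k with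
  | zero => simp [tau_one]
  | succ k ih => rw [pow_succ, tau_mul, ih, pow_succ']

theorem mem_symplectic_iff_tau (g : Matrix (l ⊕ l) (l ⊕ l) R) :
    g ∈ symplecticGroup l R ↔ g * tau g = 1 := by
  rw [SymplecticGroup.mem_iff]
  have e : g * tau g = -(g * J l R * gᵀ * J l R) := by
    unfold tau
    simp only [Matrix.mul_neg, Matrix.mul_assoc]
  constructor
  · intro h
    rw [e, h, J_squared, neg_neg]
  · intro h
    rw [e] at h
    have h2 : g * J l R * gᵀ * (J l R * J l R) = -(-(g * J l R * gᵀ * J l R)) * J l R := by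
      rw [neg_neg]; simp only [Matrix.mul_assoc]
    rw [h, J_squared] at h2
    simpa using h2

theorem tau_mul_self_of_mem (g : Matrix (l ⊕ l) (l ⊕ l) R) (hg : g ∈ symplecticGroup l R) :
    tau g * g = 1 := by
  have := (mem_symplectic_iff_tau g).mp hg
  exact mul_eq_one_comm.mp this

end Tau

end Cfsg.Agent.Helper37.RegUni
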