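import Cfsg.Agent.Helper37.RegUniA
import Cfsg.Agent.Helper37.RegUniB
import Cfsg.Agent.Helper37.RegUniC

set_option autoImplicit false

/-!
# Counting norm-one elements in `F[r]/(r^(2m))` with the involution `r ↦ -r`
-/

namespace Cfsg.Agent.Helper37.RegUni

section AlgCore

variable {F : Type*} [Field F] [Fintype F] {A : Type*} [CommRing A] [Algebra F A] [Finite A]

/-- The vectors supported on odd indices. -/
theorem card_oddSupported (m : ℕ) :
    Nat.card {a : Fin (2 * m) → F // ∀ i : Fin (2 * m), Even (i : ℕ) → a i = 0} = Fintype.card F ^ m := by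
  classical
  have e : {a : Fin (2 * m) → F // ∀ i : Fin (2 * m), Even (i : ℕ) → a i = 0} ≃ (Fin m → F) :=
    { toFun := fun a j => a.1 ⟨2 * (j : ℕ) + 1, by have := j.2; omega⟩
      invFun := fun b => ⟨fun i => if h : Even (i : ℕ) then 0 else
          b ⟨(i : ℕ) / 2, by have := i.2; omega⟩, by
        intro i hi
        simp [hi]⟩
      left_inv := by
        intro a
        apply Subtype.ext
        funext i
        by_cases hi : Even (i : ℕ)
        · simp [hi, a.2 i hi]
        · simp only [hi, dite_false]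
          have := Nat.not_even_iff_odd.mp hi
          exact congrArg a.1 (Fin.ext (Nat.two_mul_div_two_add_one_of_odd this))
      right_inv := by
        intro b
        funext j
        have h1 : ¬ Even (2 * (j : ℕ) + 1) := by
          rw [Nat.not_even_iff_odd]; exact ⟨j, rfl⟩
        simp only [h1, dite_false]
        exact congrArg b (Fin.ext (by simp only; omega)) }
  rw [Nat.card_congr e, Nat.card_eq_fintype_card, Fintype.card_fun, Fintype.card_fin]

theorem card_unitary_of_generator {m : ℕ} (hm : 1 ≤ m) (h2 : (2 : F) ≠ 0) (r : A)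
    (hr : r ^ (2 * m) = 0)
    (hbij : Function.Bijective (fun a : Fin (2 * m) → F => ∑ i, a i • r ^ (i : ℕ)))
    (σ : A →ₐ[F] A) (hσ : σ r = -r) :
    Nat.card {g : A // g * σ g = 1} = 2 * Fintype.card F ^ m := by
  classical
  set Q : (Fin (2 * m) → F) → A := fun a => ∑ i, a i • r ^ (i : ℕ) with hQ
  have h0lt : 0 < 2 * m := by omega
  have : Nontrivial A := by
    refine ⟨⟨Q (Pi.single ⟨0, h0lt⟩ 1), Q 0, fun h => ?_⟩⟩
    have h' := congrFun (hbij.1 h) ⟨0, h0lt⟩
    simp at h'
  have h2A : IsUnit (2 : A) := by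
    have : (2 : A) = algebraMap F A 2 := (map_ofNat (algebraMap F A) 2).symm
    rw [this]; exact (isUnit_iff_ne_zero.mpr h2).map _
  have hrnil : IsNilpotent r := ⟨2 * m, hr⟩
  have hK : ∀ x : A, ∃ a0 : F, IsNilpotent (x - algebraMap F A a0) := by
    intro x
    obtain ⟨a, rfl⟩ := hbij.2 x
    refine ⟨a ⟨0, h0lt⟩, ?_⟩
    have : Q a - algebraMap F A (a ⟨0, h0lt⟩) =
        ∑ i ∈ Finset.univ.erase (⟨0, h0lt⟩ : Fin (2 * m)), a i • r ^ (i : ℕ) := by
      rw [Finset.sum_erase_eq_sub (Finset.mem_univ _)]
      simp [hQ, Algebra.algebraMap_eq_smul_one]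
    show IsNilpotent (Q a - algebraMap F A (a ⟨0, h0lt⟩))
    rw [this]
    apply isNilpotent_sum
    intro i hi
    have hi0 : (i : ℕ) ≠ 0 := fun h => (Finset.ne_of_mem_erase hi) (Fin.ext h)
    exact (hrnil.pow_of_pos hi0).smul _
  have hscal : ∀ a : F, IsNilpotent (algebraMap F A a) → a = 0 := by
    intro a ha
    by_contra hne
    exact ((isUnit_iff_ne_zero.mpr hne).map (algebraMap F A)).not_isNilpotent ha
  have h1 : ∀ x, σ x = -x → IsNilpotent x := by
    intro x hx
    obtain ⟨a0, hν⟩ := hK x
    have hσν : IsNilpotent (σ (x - algebraMap F A a0)) := hν.map σ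
    have e : algebraMap F A (2 * a0) = -((x - algebraMap F A a0) + σ (x - algebraMap F A a0)) := by
      rw [map_sub, AlgHom.commutes, hx, map_mul, map_ofNat]; ring
    have hnil : IsNilpotent (algebraMap F A (2 * a0)) := by
      rw [e]; exact ((Commute.all _ _).isNilpotent_add hν hσν).neg
    have ha0 : a0 = 0 := (mul_eq_zero.mp (hscal _ hnil)).resolve_left h2
    rw [ha0, map_zero, sub_zero] at hν
    exact hν
  have h3 : ∀ g, g * σ g = 1 → IsNilpotent (g - 1) ∨ IsNilpotent (g + 1) := by
    intro g hg
    obtain ⟨a0, hν⟩ := hK g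
    have hσν : IsNilpotent (σ (g - algebraMap F A a0)) := hν.map σ
    have hσν' : σ (g - algebraMap F A a0) = σ g - algebraMap F A a0 := by
      rw [map_sub, AlgHom.commutes]
    rw [hσν'] at hσν
    have e1 : algebraMap F A (a0 ^ 2 - 1) =
        -(algebraMap F A a0 * (σ g - algebraMap F A a0) +
          (g - algebraMap F A a0) * algebraMap F A a0 +
          (g - algebraMap F A a0) * (σ g - algebraMap F A a0)) := by
      rw [map_sub, map_pow, map_one]
      linear_combination hg
    have hnil : IsNilpotent (algebraMap F A (a0 ^ 2 - 1)) := by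
      rw [e1]
      apply IsNilpotent.neg
      apply (Commute.all _ _).isNilpotent_add
      · apply (Commute.all _ _).isNilpotent_add
        · exact (Commute.all _ _).isNilpotent_mul_left hσν
        · exact (Commute.all _ _).isNilpotent_mul_right hν
      · exact (Commute.all _ _).isNilpotent_mul_right hν
    have h0 := hscal _ hnil
    have h0' : (a0 - 1) * (a0 + 1) = 0 := by linear_combination h0
    rcases mul_eq_zero.mp h0' with h | h
    · left
      have : a0 = 1 := by linear_combination h
      rw [this, map_one] at hν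
      exact hν
    · right
      have : a0 = -1 := by linear_combination h
      rw [this, map_neg, map_one, sub_neg_eq_add] at hν
      exact hν
  have hc := card_norm_one (σ : A →+* A) h2A h1 h3
  simp only [RingHom.coe_coe] at hc
  rw [hc]
  congr 1
  -- count the skew elements
  have hσQ : ∀ a, σ (Q a) = Q (fun i => (-1) ^ (i : ℕ) * a i) := by
    intro a
    simp only [hQ, map_sum, map_smul, map_pow, hσ]
    refine Finset.sum_congr rfl (fun i _ => ?_)
    rw [neg_pow]
    simp only [Algebra.smul_def, map_mul, map_pow, map_neg, map_one]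
    ring
  have hQneg : ∀ a, -Q a = Q (-a) := by
    intro a
    simp [hQ, Finset.sum_neg_distrib]
  have hiff : ∀ a : Fin (2 * m) → F, (∀ i : Fin (2 * m), Even (i : ℕ) → a i = 0) ↔
      σ (Q a) = -Q a := by
    intro a
    rw [hσQ, hQneg, hbij.1.eq_iff, funext_iff]
    constructor
    · intro h i
      by_cases hi : Even (i : ℕ)
      · simp [h i hi]
      · simp [(Nat.not_even_iff_odd.mp hi).neg_one_pow]
    · intro h i hi
      have := h i
      simp only [hi.neg_one_pow, one_mul, Pi.neg_apply] at this
      have h4 : 2 * a i = 0 := by linear_combination this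
      exact (mul_eq_zero.mp h4).resolve_left h2
  rw [← card_oddSupported (F := F) m]
  exact (Nat.card_congr (Equiv.subtypeEquiv (Equiv.ofBijective Q hbij) hiff)).symm

end AlgCore

section MatCore

open Matrix

variable {F : Type*} [Field F] [Fintype F] {l : Type*} [Fintype l] [DecidableEq l]
  {A : Type*} [CommRing A] [Algebra F A] [Finite A]

theorem card_commutant_unitary {m : ℕ} (hl : Fintype.card l = m) (hm : 1 ≤ m) (h2 : (2 : F) ≠ 0)
    (c : Matrix (l ⊕ l) (l ⊕ l) F) (hn : c ^ (2 * m) = 0) (hn1 : c ^ (2 * m - 1) ≠ 0)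
    (hτ : tau c = -c)
    (ι : A →ₐ[F] Matrix (l ⊕ l) (l ⊕ l) F) (hinj : Function.Injective ι)
    (hrange : ∀ g, g * c = c * g → ∃ x, ι x = g) (hcomm : ∀ x, ι x * c = c * ι x) :
    Nat.card {g : Matrix (l ⊕ l) (l ⊕ l) F // g * c = c * g ∧ g * tau g = 1} =
      2 * Fintype.card F ^ m := by
  classical
  have hcard : Fintype.card (l ⊕ l) = 2 * m := by
    rw [Fintype.card_sum, hl]; ring
  obtain ⟨r, hr⟩ := hrange c rfl
  have hrn : r ^ (2 * m) = 0 := hinj (by rw [map_pow, hr, hn, map_zero])
  have hιQ : ∀ a : Fin (2 * m) → F, ι (∑ i, a i • r ^ (i : ℕ)) = polyEval (2 * m) c a := by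
    intro a
    simp only [polyEval, map_sum, map_smul, map_pow, hr]
  have hbij : Function.Bijective (fun a : Fin (2 * m) → F => ∑ i, a i • r ^ (i : ℕ)) := by
    constructor
    · intro a b hab
      apply polyEval_injective c hn hn1
      rw [← hιQ, ← hιQ]
      exact congrArg ι hab
    · intro x
      obtain ⟨a, ha⟩ := exists_polyEval_of_commute hcard c hn hn1 (ι x) (hcomm x)
      exact ⟨a, hinj (by rw [ha]; exact hιQ a)⟩
  have hσex : ∀ x : A, ∃ y : A, ι y = tau (ι x) := by
    intro x
    apply hrange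
    have h := congrArg tau (hcomm x)
    rw [tau_mul, tau_mul, hτ] at h
    have h' : -(c * tau (ι x)) = -(tau (ι x) * c) := by
      rw [← Matrix.neg_mul, ← Matrix.mul_neg]; exact h
    exact (neg_injective h').symm
  choose σf hσf using hσex
  let σ : A →ₐ[F] A :=
    { toFun := σf
      map_one' := hinj (by rw [hσf, map_one, tau_one])
      map_mul' := fun x y => hinj (by
        rw [hσf, mul_comm, map_mul, tau_mul, map_mul, hσf, hσf])
      map_zero' := hinj (by rw [hσf, map_zero, tau_zero])
      map_add' := fun x y => hinj (by rw [hσf, map_add, tau_add, map_add, hσf, hσf])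
      commutes' := fun a => hinj (by
        rw [hσf, AlgHom.commutes, Algebra.algebraMap_eq_smul_one, tau_smul, tau_one]) }
  have hσapp : ∀ x, ι (σ x) = tau (ι x) := hσf
  have hσr : σ r = -r := hinj (by rw [hσapp, hr, hτ, map_neg, hr])
  rw [← card_unitary_of_generator hm h2 r hrn hbij σ hσr]
  symm
  let Φ : {g : A // g * σ g = 1} →
      {g : Matrix (l ⊕ l) (l ⊕ l) F // g * c = c * g ∧ g * tau g = 1} := fun x =>
    ⟨ι x.1, hcomm x.1, by rw [← hσapp, ← map_mul, x.2, map_one]⟩
  have hΦ : Function.Bijective Φ := by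
    constructor
    · intro x y hxy
      exact Subtype.ext (hinj (congrArg Subtype.val hxy))
    · rintro ⟨g, hg1, hg2⟩
      obtain ⟨x, hx⟩ := hrange g hg1
      exact ⟨⟨x, hinj (by rw [map_mul, hσapp, hx, hg2, map_one])⟩, Subtype.ext hx⟩
  exact Nat.card_congr (Equiv.ofBijective Φ hΦ)

end MatCore

end Cfsg.Agent.Helper37.RegUni
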