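import Cfsg.Agent.Helper37.RegUniD
import Cfsg.Agent.Helper37.OddCard

set_option autoImplicit false

/-!
# The centraliser of a regular unipotent element of `Sp_{2m}(q)`, `q` odd, has order `2 q^m`
-/

namespace Cfsg.Agent.Helper37.RegUni

open Matrix

section Final

variable {F : Type*} [Field F] {l : Type*} [Fintype l] [DecidableEq l]

/-- The Cayley element `(U - 1)(U + 1)⁻¹` of a unipotent symplectic matrix. -/
theorem exists_cayley_element (h2 : (2 : F) ≠ 0) (U : Matrix (l ⊕ l) (l ⊕ l) F)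
    (hU : U ∈ symplecticGroup l F) (n : ℕ) (hn : (U - 1) ^ n = 0) (hn1 : (U - 1) ^ (n - 1) ≠ 0) :
    ∃ c : Matrix (l ⊕ l) (l ⊕ l) F, c ^ n = 0 ∧ c ^ (n - 1) ≠ 0 ∧ tau c = -c ∧
      c * U = U * c ∧ ∀ g, g * U = U * g → g * c = c * g := by
  have hNnil : IsNilpotent (U - 1) := ⟨n, hn⟩
  have h2M : IsUnit (2 : Matrix (l ⊕ l) (l ⊕ l) F) := by
    have : (2 : Matrix (l ⊕ l) (l ⊕ l) F) = algebraMap F _ 2 := (map_ofNat (algebraMap F _) 2).symm
    rw [this]; exact (isUnit_iff_ne_zero.mpr h2).map _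
  have hU1 : IsUnit (U + 1) := by
    have : U + 1 = (U - 1) + 2 := by
      rw [← one_add_one_eq_two]; abel
    rw [this]
    exact hNnil.isUnit_add_right_of_commute h2M (Commute.ofNat_right _ 2)
  obtain ⟨w, hw⟩ := hU1
  obtain ⟨W, hWdef⟩ : ∃ W : Matrix (l ⊕ l) (l ⊕ l) F, W = ↑w⁻¹ := ⟨_, rfl⟩
  have hWl : W * (U + 1) = 1 := by rw [hWdef, ← hw]; exact w.inv_mul
  have hWr : (U + 1) * W = 1 := by rw [hWdef, ← hw]; exact w.mul_inv
  have hcommW : ∀ g : Matrix (l ⊕ l) (l ⊕ l) F, Commute g U → Commute g W := by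
    intro g hg
    rw [hWdef]
    apply Commute.units_inv_right
    rw [hw]
    exact hg.add_right (Commute.one_right g)
  have hUU : Commute U U := Commute.refl U
  have hNU : Commute (U - 1) U := hUU.sub_left (Commute.one_left U)
  have hNW : Commute (U - 1) W := hcommW _ hNU
  refine ⟨(U - 1) * W, ?_, ?_, ?_, ?_, ?_⟩
  · rw [hNW.mul_pow, hn, Matrix.zero_mul]
  · intro h
    rw [hNW.mul_pow, hWdef, ← Units.val_pow_eq_pow_val, Units.mul_left_eq_zero] at h
    exact hn1 h
  · have hUV : U * tau U = 1 := (mem_symplectic_iff_tau U).mp hU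
    have hVU : tau U * U = 1 := tau_mul_self_of_mem U hU
    have e0 : tau W * (tau U + 1) = 1 := by
      have := congrArg tau hWr
      rw [tau_mul, tau_add, tau_one] at this
      exact this
    have e1 : tau W * tau U = W := by
      calc tau W * tau U
          = tau W * tau U * ((U + 1) * W) := by rw [hWr, Matrix.mul_one]
        _ = tau W * (tau U * (U + 1)) * W := by simp only [Matrix.mul_assoc]
        _ = tau W * (tau U + 1) * W := by rw [Matrix.mul_add, Matrix.mul_one, hVU, add_comm]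
        _ = W := by rw [e0, Matrix.one_mul]
    have e2 : tau U - 1 = tau U * (1 - U) := by
      rw [Matrix.mul_sub, Matrix.mul_one, hVU]
    rw [tau_mul, tau_sub, tau_one, e2, ← Matrix.mul_assoc, e1, hNW.eq]
    rw [← Matrix.mul_neg, neg_sub]
  · exact ((hNU.mul_left (hcommW U hUU).symm)).eq
  · intro g hg
    have hg' : Commute g U := hg
    exact ((hg'.sub_right (Commute.one_right g)).mul_right (hcommW g hg')).eq

variable [Fintype F]

theorem card_commutant_unitary' {m : ℕ} (hl : Fintype.card l = m) (hm : 1 ≤ m) (h2 : (2 : F) ≠ 0)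
    (c : Matrix (l ⊕ l) (l ⊕ l) F) (hn : c ^ (2 * m) = 0) (hn1 : c ^ (2 * m - 1) ≠ 0)
    (hτ : tau c = -c) :
    Nat.card {g : Matrix (l ⊕ l) (l ⊕ l) F // g * c = c * g ∧ g * tau g = 1} =
      2 * Fintype.card F ^ m := by
  classical
  have hcard : Fintype.card (l ⊕ l) = 2 * m := by
    rw [Fintype.card_sum, hl]; ring
  have hcommAll : ∀ g h : Matrix (l ⊕ l) (l ⊕ l) F, g * c = c * g → h * c = c * h →
      g * h = h * g := by
    intro g h hg hh
    obtain ⟨a, rfl⟩ := exists_polyEval_of_commute hcard c hn hn1 g hg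
    obtain ⟨b, rfl⟩ := exists_polyEval_of_commute hcard c hn hn1 h hh
    exact polyEval_comm c a b
  have hmem : ∀ g, g ∈ Subalgebra.centralizer F ({c} : Set (Matrix (l ⊕ l) (l ⊕ l) F)) ↔
      g * c = c * g := by
    intro g
    rw [Subalgebra.mem_centralizer_iff]
    simp [eq_comm]
  letI : CommRing ↥(Subalgebra.centralizer F ({c} : Set (Matrix (l ⊕ l) (l ⊕ l) F))) :=
    { (inferInstance : Ring ↥(Subalgebra.centralizer F ({c} : Set (Matrix (l ⊕ l) (l ⊕ l) F)))) with
      mul_comm := fun x y => Subtype.ext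
        (hcommAll x.1 y.1 ((hmem _).mp x.2) ((hmem _).mp y.2)) }
  exact card_commutant_unitary
    (A := ↥(Subalgebra.centralizer F ({c} : Set (Matrix (l ⊕ l) (l ⊕ l) F)))) hl hm h2 c hn hn1 hτ
    (Subalgebra.centralizer F ({c} : Set (Matrix (l ⊕ l) (l ⊕ l) F))).val Subtype.val_injective
    (fun g hg => ⟨⟨g, (hmem g).mpr hg⟩, rfl⟩) (fun x => (hmem _).mp x.2)

end Final

section Main

variable {F : Type*} [Field F] [Fintype F]

theorem card_centralizer_regular_unipotent (hq : Odd (Fintype.card F)) {m : ℕ} (hm : 1 ≤ m)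
    (u : Matrix.symplecticGroup (Fin m) F)
    (hnil : ((u : Matrix (Fin m ⊕ Fin m) (Fin m ⊕ Fin m) F) - 1) ^ (2 * m) = 0)
    (hreg : ((u : Matrix (Fin m ⊕ Fin m) (Fin m ⊕ Fin m) F) - 1).rank = 2 * m - 1) :
    Nat.card ↥(Subgroup.centralizer ({u} : Set ↥(Matrix.symplecticGroup (Fin m) F))) =
      2 * Fintype.card F ^ m := by
  classical
  have h2 : (2 : F) ≠ 0 := Cfsg.Agent.Helper37.two_ne_zero_of_odd_card hq
  have hcard : Fintype.card (Fin m ⊕ Fin m) = 2 * m := by
    rw [Fintype.card_sum, Fintype.card_fin]; ring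
  have hn1 : ((u : Matrix (Fin m ⊕ Fin m) (Fin m ⊕ Fin m) F) - 1) ^ (2 * m - 1) ≠ 0 := by
    have := pow_pred_ne_zero_of_rank ((u : Matrix (Fin m ⊕ Fin m) (Fin m ⊕ Fin m) F) - 1)
      (by rw [hcard]; omega) (by rw [hcard]; exact hreg)
    rwa [hcard] at this
  obtain ⟨c, hc1, hc2, hc3, hc4, hc5⟩ := exists_cayley_element h2 _ u.2 (2 * m) hnil hn1
  rw [← card_commutant_unitary' (l := Fin m) (Fintype.card_fin m) hm h2 c hc1 hc2 hc3]
  let Φ : ↥(Subgroup.centralizer ({u} : Set ↥(Matrix.symplecticGroup (Fin m) F))) →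
      {g : Matrix (Fin m ⊕ Fin m) (Fin m ⊕ Fin m) F // g * c = c * g ∧ g * tau g = 1} := fun z =>
    ⟨(z.1 : Matrix (Fin m ⊕ Fin m) (Fin m ⊕ Fin m) F), by
      refine ⟨hc5 _ ?_, (mem_symplectic_iff_tau _).mp z.1.2⟩
      have := Subgroup.mem_centralizer_iff.mp z.2 u rfl
      exact (congrArg Subtype.val this).symm⟩
  have hΦ : Function.Bijective Φ := by
    constructor
    · intro x y hxy
      have h := congrArg Subtype.val hxy
      exact Subtype.ext (Subtype.ext h)
    · rintro ⟨g, hg1, hg2⟩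
      have hgS : g ∈ Matrix.symplecticGroup (Fin m) F := (mem_symplectic_iff_tau g).mpr hg2
      obtain ⟨a, ha⟩ := exists_polyEval_of_commute hcard c hc1 hc2 g hg1
      have hgU : g * (u : Matrix (Fin m ⊕ Fin m) (Fin m ⊕ Fin m) F) = u * g := by
        rw [ha]; exact polyEval_commute_of_commute c _ hc4 a
      have hz : (⟨g, hgS⟩ : Matrix.symplecticGroup (Fin m) F) ∈
          Subgroup.centralizer ({u} : Set ↥(Matrix.symplecticGroup (Fin m) F)) := by
        rw [Subgroup.mem_centralizer_iff]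
        intro h hh
        rw [Set.mem_singleton_iff.mp hh]
        exact Subtype.ext hgU.symm
      exact ⟨⟨⟨g, hgS⟩, hz⟩, rfl⟩
  exact Nat.card_congr (Equiv.ofBijective Φ hΦ)

end Main

end Cfsg.Agent.Helper37.RegUni
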