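import Mathlib
import Cfsg.Agent.Helper81.ResA2.Defs

/-!
# S5289 piece (ALL2), sub-farm of helper81, leaf (AC): `|C_G(E)| ≤ p³`.
-/

set_option autoImplicit false
universe u
namespace Cfsg.Agent.Helper37.ResA2
open Cfsg.Agent.Helper81.ResA2
variable {G : Type u} [Group G] {p : ℕ} [hp : Fact p.Prime] {N : Subgroup G}

/-- (AC) `|C_G(E)| ≤ p³`. -/
theorem card_centralizer_le (hc : Cf p N) (hZ : Nat.card (zN N) = p) (E : Subgroup G) (hEN : E ≤ N) (hE : Nat.card E = p ^ 2)
    (hEn : E.Normal) (hcomm : ∀ n ∈ N, ∀ t : G, n * t * n⁻¹ * t⁻¹ ∈ E) :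
    Nat.card (Subgroup.centralizer (E : Set G)) ≤ p ^ 3 := by
  classical
  have hpp : p.Prime := hp.out
  have := hc.fin
  -- `E` is abelian
  have hEab : ∀ a ∈ E, ∀ b ∈ E, a * b = b * a := by
    intro a ha b hb
    have h := (IsPGroup.isMulCommutative_of_card_eq_prime_sq (p := p) (G := E) hE).is_comm.comm ⟨a, ha⟩ ⟨b, hb⟩
    exact congrArg Subtype.val h
  -- an element of `N` outside `E`
  obtain ⟨x, hxN, hxE⟩ : ∃ x ∈ N, x ∉ E := by
    by_contra h
    push Not at h
    have hle : N ≤ E := fun x hx => h x hx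
    have h1 := Subgroup.card_le_of_le hle
    rw [hc.card, hE] at h1
    have := Nat.pow_le_pow_iff_right hpp.one_lt |>.mp h1
    omega
  -- `N = ⟨E, x⟩`
  have hsup : E ⊔ Subgroup.zpowers x = N := by
    have hle : E ⊔ Subgroup.zpowers x ≤ N := sup_le hEN (by rw [Subgroup.zpowers_le]; exact hxN)
    have hdvd : Nat.card (E ⊔ Subgroup.zpowers x : Subgroup G) ∣ p ^ 3 := hc.card ▸ Subgroup.card_dvd_of_le hle
    obtain ⟨i, hi, hci⟩ := (Nat.dvd_prime_pow hpp).mp hdvd
    have hEle : E ≤ E ⊔ Subgroup.zpowers x := le_sup_left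
    have h2 : p ^ 2 ≤ p ^ i := by
      have := Subgroup.card_le_of_le hEle
      rwa [hE, hci] at this
    have h2' := Nat.pow_le_pow_iff_right hpp.one_lt |>.mp h2
    have hi2 : i ≠ 2 := by
      rintro rfl
      have := Subgroup.eq_of_le_of_card_ge hEle (by rw [hE, hci])
      apply hxE
      rw [this]
      exact (le_sup_right : Subgroup.zpowers x ≤ E ⊔ Subgroup.zpowers x) (Subgroup.mem_zpowers x)
    have hi3 : i = 3 := by omega
    exact Subgroup.eq_of_le_of_card_ge hle (by rw [hc.card, hci, hi3])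
  -- the commutator with `x`
  have hcE : ∀ t : G, t * x * t⁻¹ * x⁻¹ ∈ E := by
    intro t
    have h1 := E.inv_mem (hcomm x hxN t)
    have h2 : (x * t * x⁻¹ * t⁻¹)⁻¹ = t * x * t⁻¹ * x⁻¹ := by group
    rwa [h2] at h1
  let ψ : ↥(Subgroup.centralizer (E : Set G)) →* G :=
    { toFun := fun t => (t : G) * x * (t : G)⁻¹ * x⁻¹
      map_one' := by simp
      map_mul' := by
        intro s t
        have he := hcE (t : G)
        have hs := hcE (s : G)
        have hse : (s : G) * ((t : G) * x * (t : G)⁻¹ * x⁻¹) = ((t : G) * x * (t : G)⁻¹ * x⁻¹) * (s : G) :=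
          ((Subgroup.mem_centralizer_iff.mp s.2) _ he).symm
        have hab := hEab _ hs _ he
        show ((s : G) * (t : G)) * x * ((s : G) * (t : G))⁻¹ * x⁻¹ = _
        calc ((s : G) * (t : G)) * x * ((s : G) * (t : G))⁻¹ * x⁻¹
            = ((s : G) * ((t : G) * x * (t : G)⁻¹ * x⁻¹)) * x * (s : G)⁻¹ * x⁻¹ := by group
          _ = (((t : G) * x * (t : G)⁻¹ * x⁻¹) * (s : G)) * x * (s : G)⁻¹ * x⁻¹ := by rw [hse]
          _ = ((t : G) * x * (t : G)⁻¹ * x⁻¹) * ((s : G) * x * (s : G)⁻¹ * x⁻¹) := by group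
          _ = ((s : G) * x * (s : G)⁻¹ * x⁻¹) * ((t : G) * x * (t : G)⁻¹ * x⁻¹) := hab.symm }
  have hψ : ∀ t : ↥(Subgroup.centralizer (E : Set G)), ψ t = (t : G) * x * (t : G)⁻¹ * x⁻¹ := fun t => rfl
  -- the range
  have hrange : Nat.card ψ.range ≤ p ^ 2 := by
    rw [← hE]
    apply Subgroup.card_le_of_le
    rintro _ ⟨t, rfl⟩
    exact hcE (t : G)
  -- the kernel
  have hker : Nat.card ψ.ker ≤ p := by
    rw [← hZ]
    have hmem : ∀ t : ψ.ker, ((t : ↥(Subgroup.centralizer (E : Set G))) : G) ∈ zN N := by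
      intro t
      have ht1 : ψ (t : ↥(Subgroup.centralizer (E : Set G))) = 1 := t.2
      rw [hψ] at ht1
      set t0 : G := ((t : ↥(Subgroup.centralizer (E : Set G))) : G) with ht0
      have htx : t0 * x = x * t0 := by
        have := mul_inv_eq_one.mp ht1
        rw [mul_inv_eq_iff_eq_mul] at this
        exact this
      have htE : ∀ e ∈ E, e * t0 = t0 * e := Subgroup.mem_centralizer_iff.mp (t : ↥(Subgroup.centralizer (E : Set G))).2
      have hNle : N ≤ Subgroup.centralizer {t0} := by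
        rw [← hsup]
        apply sup_le
        · intro e he
          rw [Subgroup.mem_centralizer_iff]
          intro y hy
          rw [Set.mem_singleton_iff.mp hy]
          exact (htE e he).symm
        · rw [Subgroup.zpowers_le, Subgroup.mem_centralizer_iff]
          intro y hy
          rw [Set.mem_singleton_iff.mp hy]
          exact htx
      have hcen : ∀ g ∈ N, g * t0 = t0 * g := by
        intro g hg
        exact ((Subgroup.mem_centralizer_iff.mp (hNle hg)) t0 rfl).symm
      rw [mem_zN]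
      exact ⟨hc.cent t0 (fun g hg => (hcen g hg).symm), hcen⟩
    apply Nat.card_le_card_of_injective (fun t : ψ.ker => (⟨_, hmem t⟩ : zN N))
    intro a b hab
    have := congrArg Subtype.val hab
    exact Subtype.ext (Subtype.ext this)
  calc Nat.card (Subgroup.centralizer (E : Set G)) = Nat.card ψ.ker * ψ.ker.index := (Subgroup.card_mul_index _).symm
    _ = Nat.card ψ.ker * Nat.card ψ.range := by rw [Subgroup.index_ker]
    _ ≤ p * p ^ 2 := Nat.mul_le_mul hker hrange
    _ = p ^ 3 := by ring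

end Cfsg.Agent.Helper37.ResA2
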