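import Mathlib
import Cfsg.Agent.Helper81.ResA2.Defs
import Cfsg.Agent.Helper79.BlkIDX

/-!
# S5289 piece (ALL2), sub-farm of helper81, leaf (AX): `|G : C_G(E)| = p`.
-/

set_option autoImplicit false
universe u
namespace Cfsg.Agent.Helper37.ResA2
open Cfsg.Agent.Helper81.ResA2
variable {G : Type u} [Group G] {p : ℕ} [hp : Fact p.Prime] {N : Subgroup G}

/-- (AX) `|G : C_G(E)| = p` for `E ≤ N` of order `p²` normal in `G`. -/
theorem index_centralizer (hc : Cf p N) (E : Subgroup G) (hEN : E ≤ N) (hE : Nat.card E = p ^ 2) (hEn : E.Normal)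
    (hAI : Subgroup.centralizer (E : Set G) ⊓ N = E) :
    (Subgroup.centralizer (E : Set G)).index = p := by
  have hpp : p.Prime := hp.out
  have := hc.fin
  have hdvd := Cfsg.Agent.Helper79.Blk.index_centralizer_dvd hc.pgrp E hE
  rcases (Nat.dvd_prime hpp).mp hdvd with h1 | h1
  · exfalso
    rw [Subgroup.index_eq_one] at h1
    rw [h1, top_inf_eq] at hAI
    have hcard := hc.card
    rw [hAI, hE] at hcard
    have h3 := Nat.pow_right_injective hpp.two_le hcard
    omega
  · exact h1

end Cfsg.Agent.Helper37.ResA2
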