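import Mathlib
import Cfsg.Agent.Helper77.Res.Defs

/-!
# S5289 swarm (architect helper77), piece (SL2) `sl2_torus`: the torus of `SL₂(p)` acting on `C_p²`.
-/

set_option autoImplicit false

universe u

namespace Cfsg.Agent.Helper37.Res

open Subgroup Cfsg.Agent.Helper77.Res

variable {Ω : Type u} [Group Ω] {p : ℕ} [hp : Fact p.Prime]

section aux
variable {X : Type u} [CommGroup X]

omit hp in
/-- exponents may be changed modulo `p` -/
theorem SL2_pow_congr {x : X} (hx : x ^ p = 1) {a b : ℕ} (h : a ≡ b [MOD p]) : x ^ a = x ^ b :=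
  pow_eq_pow_iff_modEq.mpr (h.of_dvd (orderOf_dvd_of_pow_eq_one hx))

/-- a subgroup of order `p` is generated by each of its nontrivial elements -/
theorem SL2_zpowers_eq [Finite X] (L : Subgroup X) (hL : Nat.card L = p) (y : X) (hy : y ∈ L) (hy1 : y ≠ 1) :
    zpowers y = L := by
  have hle : zpowers y ≤ L := by rw [zpowers_le]; exact hy
  apply Subgroup.eq_of_le_of_card_ge hle
  rw [hL, Nat.card_zpowers]
  have hyp : y ^ p = 1 := by
    have := pow_card_eq_one' (G := L) (x := ⟨y, hy⟩)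
    rw [hL] at this
    simpa using congrArg Subtype.val this
  rw [orderOf_eq_prime hyp hy1]

/-- a subgroup of order `p` and an element outside it generate a group of order `p²` -/
theorem SL2_sup_eq_top [Finite X] (hX : Nat.card X = p ^ 2) (L : Subgroup X) (hL : Nat.card L = p) (y : X) (hy : y ∉ L) :
    L ⊔ zpowers y = ⊤ := by
  have hpp : p.Prime := hp.out
  have hdvd : Nat.card (L ⊔ zpowers y : Subgroup X) ∣ p ^ 2 := hX ▸ Subgroup.card_subgroup_dvd_card _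
  obtain ⟨i, hi, hci⟩ := (Nat.dvd_prime_pow hpp).mp hdvd
  have hle : L ≤ L ⊔ zpowers y := le_sup_left
  have h1 : p ∣ p ^ i := by
    have := Subgroup.card_dvd_of_le hle
    rwa [hL, hci] at this
  have hi0 : i ≠ 0 := by
    rintro rfl
    rw [pow_zero] at h1
    exact hpp.one_lt.ne' (Nat.dvd_one.mp h1)
  have hi1 : i ≠ 1 := by
    rintro rfl
    rw [pow_one] at hci
    have := Subgroup.eq_of_le_of_card_ge hle (by rw [hL, hci])
    apply hy
    rw [this]
    exact (le_sup_right : zpowers y ≤ L ⊔ zpowers y) (mem_zpowers y)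
  have hi2 : i = 2 := by omega
  rw [← Subgroup.card_eq_iff_eq_top, hci, hi2, hX]

/-- powers of a "transvection" -/
theorem SL2_pow_apply (w : MulAut X) (z t : X) (hz : w z = z * t) (ht : w t = t) (k : ℕ) :
    (w ^ k) z = z * t ^ k := by
  induction k with
  | zero => simp
  | succ k ih =>
    rw [pow_succ', MulAut.mul_apply, ih, map_mul, map_pow, hz, ht, pow_succ', mul_assoc]

/-- powers fix what is fixed -/
theorem SL2_pow_fix (w : MulAut X) (z : X) (hz : w z = z) (k : ℕ) : (w ^ k) z = z := by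
  induction k with
  | zero => simp
  | succ k ih => rw [pow_succ', MulAut.mul_apply, ih, hz]

/-- the "commutator" homomorphism `x ↦ u x * x⁻¹` -/
def SL2_nu (u : MulAut X) : X →* X where
  toFun x := u x * x⁻¹
  map_one' := by simp
  map_mul' a b := by rw [map_mul, mul_inv, mul_mul_mul_comm]

/-- an automorphism of order `p` of `C_p²` is a transvection -/
theorem SL2_transv [Finite X] (hX : Nat.card X = p ^ 2) (hXexp : ∀ x : X, x ^ p = 1)
    (u : MulAut X) (hup : u ^ p = 1) (hu1 : u ≠ 1) :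
    ∃ L : Subgroup X, Nat.card L = p ∧ (∀ x, u x = x ↔ x ∈ L) ∧ (∀ x, u x * x⁻¹ ∈ L) := by
  classical
  have hpp : p.Prime := hp.out
  set ν : X →* X := SL2_nu u with hν
  have hνa : ∀ x, ν x = u x * x⁻¹ := fun x => rfl
  have hker : ∀ x, x ∈ ν.ker ↔ u x = x := by
    intro x
    rw [MonoidHom.mem_ker, hνa, mul_inv_eq_one]
  -- the fixed points are a nontrivial subgroup
  have hdvd : p ∣ Nat.card ν.ker := by
    have hP : IsPGroup p (zpowers u) := by
      apply IsPGroup.of_card (n := 1)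
      rw [Nat.card_zpowers, orderOf_eq_prime hup hu1, pow_one]
    have h1 := hP.card_modEq_card_fixedPoints X
    have h2 : Nat.card (MulAction.fixedPoints (zpowers u) X) = Nat.card ν.ker := by
      apply Nat.card_congr
      apply Equiv.subtypeEquivRight
      intro x
      rw [MulAction.mem_fixedPoints]
      constructor
      · intro h
        exact (hker x).mpr (h ⟨u, mem_zpowers u⟩)
      · intro h g
        have h3 : zpowers u ≤ MulAction.stabilizer (MulAut X) x := by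
          rw [zpowers_le]
          exact (hker x).mp h
        exact h3 g.2
    rw [h2, hX] at h1
    have h3 : (0 : ℕ) ≡ Nat.card ν.ker [MOD p] := by
      refine Nat.ModEq.trans ?_ h1
      exact (Nat.modEq_zero_iff_dvd.mpr (dvd_pow_self p two_ne_zero)).symm
    exact (Nat.modEq_zero_iff_dvd.mp h3.symm)
  have hmul : Nat.card ν.ker * Nat.card ν.range = p ^ 2 := by
    rw [← hX, ← Subgroup.index_ker, mul_comm, Subgroup.index_mul_card]
  have hkdvd : Nat.card ν.ker ∣ p ^ 2 := Dvd.intro _ hmul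
  obtain ⟨i, hi, hci⟩ := (Nat.dvd_prime_pow hpp).mp hkdvd
  have hi0 : i ≠ 0 := by
    rintro rfl
    rw [hci, pow_zero] at hdvd
    exact hpp.one_lt.ne' (Nat.dvd_one.mp hdvd)
  have hi2 : i ≠ 2 := by
    rintro rfl
    apply hu1
    have htop : ν.ker = ⊤ := by rw [← Subgroup.card_eq_iff_eq_top, hci, hX]
    ext x
    have : x ∈ ν.ker := by rw [htop]; exact mem_top x
    exact (hker x).mp this
  have hi1 : i = 1 := by omega
  rw [hi1, pow_one] at hci
  have hrange : Nat.card ν.range = p := by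
    rw [hci] at hmul
    have : p * Nat.card ν.range = p * p := by rw [hmul]; ring
    exact Nat.eq_of_mul_eq_mul_left hpp.pos this
  -- the range is generated by a fixed point
  obtain ⟨y, hy⟩ : ∃ y, u y ≠ y := by
    by_contra h
    push Not at h
    exact hu1 (by ext x; exact h x)
  set z := ν y with hz
  have hz1 : z ≠ 1 := by
    intro h
    exact hy ((hker y).mp h)
  have hzr : z ∈ ν.range := ⟨y, rfl⟩
  have hzp : zpowers z = ν.range := SL2_zpowers_eq ν.range hrange z hzr hz1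
  have huz : u z ∈ zpowers z := by
    rw [hzp]
    refine ⟨u y, ?_⟩
    rw [hz, hνa, hνa, map_mul, map_inv]
  obtain ⟨k, hk⟩ := mem_powers_iff_mem_zpowers.mpr huz
  have hk' : u z = z ^ k := hk.symm
  have hpow : ∀ j : ℕ, (u ^ j) z = z ^ (k ^ j) := by
    intro j
    induction j with
    | zero => simp
    | succ j ih => rw [pow_succ', MulAut.mul_apply, ih, map_pow, hk', ← pow_mul, pow_succ']
  have hzk : z ^ (k ^ p) = z ^ 1 := by
    rw [← hpow p, hup, pow_one]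
    rfl
  have hord : orderOf z = p := orderOf_eq_prime (hXexp z) hz1
  have hmod : k ^ p ≡ 1 [MOD p] := by
    have := pow_eq_pow_iff_modEq.mp hzk
    rwa [hord] at this
  have hk1 : k ≡ 1 [MOD p] := by
    rw [← ZMod.natCast_eq_natCast_iff] at hmod ⊢
    push_cast at hmod ⊢
    rwa [ZMod.pow_card] at hmod
  have hfix : u z = z := by
    rw [hk', SL2_pow_congr (hXexp z) hk1, pow_one]
  have hle : zpowers z ≤ ν.ker := by
    rw [zpowers_le]
    exact (hker z).mpr hfix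
  have heq : zpowers z = ν.ker := Subgroup.eq_of_le_of_card_ge hle (by rw [hci, hzp, hrange])
  refine ⟨ν.ker, hci, fun x => (hker x).symm, fun x => ?_⟩
  rw [← heq, hzp]
  exact ⟨x, rfl⟩

/-- every element is `a * y ^ j` with `a ∈ L` -/
theorem SL2_decomp [Finite X] (hX : Nat.card X = p ^ 2) (L : Subgroup X) (hL : Nat.card L = p) (y : X) (hy : y ∉ L)
    (x : X) : ∃ a ∈ L, ∃ j : ℕ, x = a * y ^ j := by
  have hx : x ∈ L ⊔ zpowers y := by rw [SL2_sup_eq_top hX L hL y hy]; exact mem_top x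
  obtain ⟨a, ha, b, hb, rfl⟩ := Subgroup.mem_sup.mp hx
  obtain ⟨j, rfl⟩ := mem_powers_iff_mem_zpowers.mpr hb
  exact ⟨a, ha, j, rfl⟩

/-- two transvections with the same centre generate the same group -/
theorem SL2_same_centre [Finite X] (hX : Nat.card X = p ^ 2)
    (u u' : MulAut X) (L : Subgroup X) (hL : Nat.card L = p) (h1 : ∀ x, u x = x ↔ x ∈ L)
    (h2 : ∀ x, u x * x⁻¹ ∈ L) (h1' : ∀ x ∈ L, u' x = x) (h2' : ∀ x, u' x * x⁻¹ ∈ L) : u' ∈ zpowers u := by
  have hpp : p.Prime := hp.out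
  obtain ⟨y, hy⟩ : ∃ y, y ∉ L := by
    by_contra h
    push Not at h
    have htop : L = ⊤ := by ext x; simp [h x]
    rw [← Subgroup.card_eq_iff_eq_top, hL, hX] at htop
    have : p * 1 = p * p := by rw [mul_one, ← sq]; exact htop
    have := Nat.eq_of_mul_eq_mul_left hpp.pos this
    exact hpp.one_lt.ne this
  set x1 := u y * y⁻¹ with hx1
  have hx1L : x1 ∈ L := h2 y
  have hx1ne : x1 ≠ 1 := by
    intro h
    rw [hx1, mul_inv_eq_one] at h
    exact hy ((h1 y).mp h)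
  have hzp : zpowers x1 = L := SL2_zpowers_eq L hL x1 hx1L hx1ne
  have hmem : u' y * y⁻¹ ∈ zpowers x1 := by rw [hzp]; exact h2' y
  obtain ⟨k, hk⟩ := mem_powers_iff_mem_zpowers.mpr hmem
  have hk' : x1 ^ k = u' y * y⁻¹ := hk
  have huy : u y = y * x1 := by rw [hx1, mul_comm (u y), mul_inv_cancel_left]
  have hu'y : u' y = y * x1 ^ k := by rw [hk', mul_comm (u' y), mul_inv_cancel_left]
  have hux1 : u x1 = x1 := (h1 x1).mpr hx1L
  refine ⟨(k : ℤ), ?_⟩
  show u ^ (k : ℤ) = u'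
  rw [zpow_natCast]
  ext x
  obtain ⟨a, ha, j, rfl⟩ := SL2_decomp hX L hL y hy x
  rw [map_mul, map_pow, map_mul, map_pow, SL2_pow_apply u y x1 huy hux1 k,
    SL2_pow_fix u a ((h1 a).mpr ha) k, h1' a ha, hu'y]

/-- the action of a power of the upper transvection in coordinates -/
theorem SL2_U_apply (x1 y2 : X) (U : MulAut X) (hU1 : U x1 = x1) (hU2 : U y2 = y2 * x1) (k i j : ℕ) :
    (U ^ k) (x1 ^ i * y2 ^ j) = x1 ^ (i + k * j) * y2 ^ j := by
  rw [map_mul, map_pow, map_pow, SL2_pow_fix U x1 hU1 k, SL2_pow_apply U y2 x1 hU2 hU1 k, mul_pow, ← pow_mul,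
    pow_add, mul_assoc, mul_comm (y2 ^ j)]

/-- the action of a power of the lower transvection in coordinates -/
theorem SL2_V_apply (x1 y2 : X) (V : MulAut X) (hV2 : V y2 = y2) (hV1 : V x1 = x1 * y2) (l i j : ℕ) :
    (V ^ l) (x1 ^ i * y2 ^ j) = x1 ^ i * y2 ^ (l * i + j) := by
  rw [map_mul, map_pow, map_pow, SL2_pow_fix V y2 hV2 l, SL2_pow_apply V x1 y2 hV1 hV2 l, mul_pow, ← pow_mul,
    pow_add, mul_assoc]

/-- the torus element as a word in the two transvections -/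
theorem SL2_core (hXexp : ∀ x : X, x ^ p = 1) (x1 y2 : X) (U V : MulAut X) (hU1 : U x1 = x1) (hU2 : U y2 = y2 * x1)
    (hV2 : V y2 = y2) (hV1 : V x1 = x1 * y2) (m0 n e : ℕ) (he : p ∣ e + 1) (hmn : (m0 + 1) * n % p = 1) :
    (U ^ m0 * V ^ 1 * U ^ (e * m0 * n) * V ^ (e * (m0 + 1))) x1 = x1 ^ (m0 + 1) ∧
    (U ^ m0 * V ^ 1 * U ^ (e * m0 * n) * V ^ (e * (m0 + 1))) y2 = y2 ^ n := by
  have hE : ((e : ℕ) : ZMod p) = -1 := by
    have := (ZMod.natCast_eq_zero_iff (e + 1) p).mpr he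
    push_cast at this
    exact eq_neg_of_add_eq_zero_left this
  have hMN : (((m0 : ℕ) : ZMod p) + 1) * ((n : ℕ) : ZMod p) = 1 := by
    have h1 : ((((m0 + 1) * n : ℕ)) : ZMod p) = ((((m0 + 1) * n % p : ℕ)) : ZMod p) := by
      rw [ZMod.natCast_mod]
    rw [hmn] at h1
    push_cast at h1
    exact h1
  constructor
  · have h0 : x1 = x1 ^ 1 * y2 ^ 0 := by simp
    conv_lhs => rw [h0]
    simp only [MulAut.mul_apply]
    rw [SL2_V_apply x1 y2 V hV2 hV1, SL2_U_apply x1 y2 U hU1 hU2, SL2_V_apply x1 y2 V hV2 hV1,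
      SL2_U_apply x1 y2 U hU1 hU2]
    have hA : (1 + e * m0 * n * (e * (m0 + 1) * 1 + 0) +
          m0 * (1 * (1 + e * m0 * n * (e * (m0 + 1) * 1 + 0)) + (e * (m0 + 1) * 1 + 0))) ≡ m0 + 1 [MOD p] := by
      rw [← ZMod.natCast_eq_natCast_iff]
      push_cast
      rw [hE]
      linear_combination ((m0 : ZMod p) + (m0 : ZMod p) ^ 2) * hMN
    have hB : (1 * (1 + e * m0 * n * (e * (m0 + 1) * 1 + 0)) + (e * (m0 + 1) * 1 + 0)) ≡ 0 [MOD p] := by
      rw [← ZMod.natCast_eq_natCast_iff]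
      push_cast
      rw [hE]
      linear_combination (m0 : ZMod p) * hMN
    rw [SL2_pow_congr (hXexp x1) hA, SL2_pow_congr (hXexp y2) hB, pow_zero, mul_one]
  · have h0 : y2 = x1 ^ 0 * y2 ^ 1 := by simp
    conv_lhs => rw [h0]
    simp only [MulAut.mul_apply]
    rw [SL2_V_apply x1 y2 V hV2 hV1, SL2_U_apply x1 y2 U hU1 hU2, SL2_V_apply x1 y2 V hV2 hV1,
      SL2_U_apply x1 y2 U hU1 hU2]
    have hA : (0 + e * m0 * n * (e * (m0 + 1) * 0 + 1) +
          m0 * (1 * (0 + e * m0 * n * (e * (m0 + 1) * 0 + 1)) + (e * (m0 + 1) * 0 + 1))) ≡ 0 [MOD p] := by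
      rw [← ZMod.natCast_eq_natCast_iff]
      push_cast
      rw [hE]
      linear_combination (-(m0 : ZMod p)) * hMN
    have hB : (1 * (0 + e * m0 * n * (e * (m0 + 1) * 0 + 1)) + (e * (m0 + 1) * 0 + 1)) ≡ n [MOD p] := by
      rw [← ZMod.natCast_eq_natCast_iff]
      push_cast
      rw [hE]
      linear_combination (-1 : ZMod p) * hMN
    rw [SL2_pow_congr (hXexp x1) hA, SL2_pow_congr (hXexp y2) hB, pow_zero, one_mul]

/-- `m n ≡ 1` in `ZMod p` -/
theorem SL2_cast_mn (m n : ℕ) (hmn : m * n % p = 1) : ((m : ℕ) : ZMod p) * ((n : ℕ) : ZMod p) = 1 := by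
  have h1 : (((m * n : ℕ)) : ZMod p) = (((m * n % p : ℕ)) : ZMod p) := by
    rw [ZMod.natCast_mod]
  rw [hmn] at h1
  push_cast at h1
  exact h1

end aux

/-- (SL2) the torus of `SL₂(p)`. -/
theorem sl2_torus {X : Type u} [CommGroup X] [Finite X] (hX : Nat.card X = p ^ 2) (hXexp : ∀ x : X, x ^ p = 1)
    (H : Subgroup (MulAut X)) (u : MulAut X) (hu : u ∈ H) (hup : u ^ p = 1) (hu1 : u ≠ 1)
    (g : MulAut X) (hg : g ∈ H) (hgu : g * u * g⁻¹ ∉ Subgroup.zpowers u) (m : ℕ) (hm : ¬ p ∣ m) :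
    ∃ (h : MulAut X) (n : ℕ), h ∈ H ∧ m * n % p = 1 ∧ h * u * h⁻¹ = u ^ (m * m) ∧
      (∀ x : X, u x = x → h x = x ^ m) ∧ (∀ x : X, ∃ y : X, u y = y ∧ h x = x ^ n * y) := by
  have hpp : p.Prime := hp.out
  obtain ⟨u', hu'⟩ : ∃ u', u' = g * u * g⁻¹ := ⟨_, rfl⟩
  rw [← hu'] at hgu
  have hu'p : u' ^ p = 1 := by rw [hu', conj_pow, hup, mul_one, mul_inv_cancel]
  have hu'1 : u' ≠ 1 := by
    intro h
    apply hgu
    rw [h]
    exact one_mem _
  have hu'H : u' ∈ H := by rw [hu']; exact H.mul_mem (H.mul_mem hg hu) (H.inv_mem hg)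
  obtain ⟨L, hL, hL1, hL2⟩ := SL2_transv hX hXexp u hup hu1
  obtain ⟨L', hL', hL1', hL2'⟩ := SL2_transv hX hXexp u' hu'p hu'1
  have hne : L' ≠ L := by
    intro h
    apply hgu
    exact SL2_same_centre hX u u' L hL hL1 hL2 (fun x hx => (hL1' x).mpr (h ▸ hx)) (fun x => h ▸ hL2' x)
  obtain ⟨y2, hy2L', hy21⟩ : ∃ y2 ∈ L', y2 ≠ 1 := by
    by_contra h
    push Not at h
    have hbot : L' = ⊥ := (Subgroup.eq_bot_iff_forall L').mpr h
    rw [hbot, Subgroup.card_bot] at hL'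
    exact hpp.one_lt.ne hL'
  have hy2L : y2 ∉ L := by
    intro h
    apply hne
    rw [← SL2_zpowers_eq L' hL' y2 hy2L' hy21, SL2_zpowers_eq L hL y2 h hy21]
  obtain ⟨x1, hx1⟩ : ∃ x1, x1 = u y2 * y2⁻¹ := ⟨_, rfl⟩
  have hx1L : x1 ∈ L := by rw [hx1]; exact hL2 y2
  have hx11 : x1 ≠ 1 := by
    intro h
    rw [hx1, mul_inv_eq_one] at h
    exact hy2L ((hL1 y2).mp h)
  have hx1L' : x1 ∉ L' := by
    intro h
    apply hne
    rw [← SL2_zpowers_eq L' hL' x1 h hx11, SL2_zpowers_eq L hL x1 hx1L hx11]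
  have hU1 : u x1 = x1 := (hL1 x1).mpr hx1L
  have hU2 : u y2 = y2 * x1 := by rw [hx1, mul_comm (u y2), mul_inv_cancel_left]
  have hu'y2 : u' y2 = y2 := (hL1' y2).mpr hy2L'
  have hmem : u' x1 * x1⁻¹ ∈ zpowers y2 := by
    rw [SL2_zpowers_eq L' hL' y2 hy2L' hy21]
    exact hL2' x1
  obtain ⟨c, hc⟩ := mem_powers_iff_mem_zpowers.mpr hmem
  have hc' : y2 ^ c = u' x1 * x1⁻¹ := hc
  have hu'x1 : u' x1 = x1 * y2 ^ c := by rw [hc', mul_comm (u' x1), mul_inv_cancel_left]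
  have hcp : ¬ p ∣ c := by
    intro hdvd
    obtain ⟨q, rfl⟩ := hdvd
    rw [pow_mul, hXexp, one_pow, mul_one] at hu'x1
    exact hx1L' ((hL1' x1).mp hu'x1)
  obtain ⟨d, -, hd⟩ := Nat.exists_mul_mod_eq_one_of_coprime
    ((Nat.Prime.coprime_iff_not_dvd hpp).mpr hcp).symm hpp.one_lt
  obtain ⟨V, hV⟩ : ∃ V, V = u' ^ d := ⟨_, rfl⟩
  have hVH : V ∈ H := by rw [hV]; exact H.pow_mem hu'H d
  have hV2 : V y2 = y2 := by rw [hV]; exact SL2_pow_fix u' y2 hu'y2 d
  have hV1 : V x1 = x1 * y2 := by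
    rw [hV, SL2_pow_apply u' x1 (y2 ^ c) hu'x1 (by rw [map_pow, hu'y2]) d, ← pow_mul]
    have hcd : c * d ≡ 1 [MOD p] := by
      rw [Nat.ModEq, hd, Nat.mod_eq_of_lt hpp.one_lt]
    rw [SL2_pow_congr (hXexp y2) hcd, pow_one]
  obtain ⟨n, -, hn⟩ := Nat.exists_mul_mod_eq_one_of_coprime
    ((Nat.Prime.coprime_iff_not_dvd hpp).mpr hm).symm hpp.one_lt
  have hMN := SL2_cast_mn (p := p) m n hn
  obtain ⟨m0, hm0⟩ : ∃ m0, m = m0 + 1 :=
    Nat.exists_eq_succ_of_ne_zero (by rintro rfl; exact hm (dvd_zero p))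
  have he : p ∣ (p - 1) + 1 := by rw [Nat.sub_add_cancel hpp.one_le]
  have hn' : (m0 + 1) * n % p = 1 := by rw [← hm0]; exact hn
  obtain ⟨hh1, hh2⟩ := SL2_core hXexp x1 y2 u V hU1 hU2 hV2 hV1 m0 n (p - 1) he hn'
  obtain ⟨h, hh⟩ : ∃ h, h = u ^ m0 * V ^ 1 * u ^ ((p - 1) * m0 * n) * V ^ ((p - 1) * (m0 + 1)) := ⟨_, rfl⟩
  rw [← hh] at hh1 hh2
  rw [← hm0] at hh1
  have hhH : h ∈ H := by
    rw [hh]
    exact H.mul_mem (H.mul_mem (H.mul_mem (H.pow_mem hu _) (H.pow_mem hVH _)) (H.pow_mem hu _)) (H.pow_mem hVH _)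
  have hdec : ∀ x : X, ∃ i j : ℕ, x = x1 ^ i * y2 ^ j := by
    intro x
    obtain ⟨a, ha, j, rfl⟩ := SL2_decomp hX L hL y2 hy2L x
    rw [← SL2_zpowers_eq L hL x1 hx1L hx11] at ha
    obtain ⟨i, rfl⟩ := mem_powers_iff_mem_zpowers.mpr ha
    exact ⟨i, j, rfl⟩
  have hhx : ∀ i j : ℕ, h (x1 ^ i * y2 ^ j) = x1 ^ (m * i) * y2 ^ (n * j) := by
    intro i j
    rw [map_mul, map_pow, map_pow, hh1, hh2, ← pow_mul, ← pow_mul]
  refine ⟨h, n, hhH, hn, ?_, ?_, ?_⟩
  · rw [mul_inv_eq_iff_eq_mul]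
    ext x
    obtain ⟨i, j, rfl⟩ := hdec x
    rw [MulAut.mul_apply, MulAut.mul_apply, hhx]
    have h1 : u (x1 ^ i * y2 ^ j) = x1 ^ (i + 1 * j) * y2 ^ j := by
      have := SL2_U_apply x1 y2 u hU1 hU2 1 i j
      rwa [pow_one] at this
    rw [h1, hhx, SL2_U_apply x1 y2 u hU1 hU2]
    congr 1
    apply SL2_pow_congr (hXexp x1)
    rw [← ZMod.natCast_eq_natCast_iff]
    push_cast
    linear_combination (-((m : ZMod p)) * (j : ZMod p)) * hMN
  · intro x hx
    have hxL : x ∈ zpowers x1 := by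
      rw [SL2_zpowers_eq L hL x1 hx1L hx11]
      exact (hL1 x).mp hx
    obtain ⟨i, rfl⟩ := mem_powers_iff_mem_zpowers.mpr hxL
    show h (x1 ^ i) = (x1 ^ i) ^ m
    rw [map_pow, hh1, ← pow_mul, ← pow_mul, mul_comm]
  · intro x
    obtain ⟨i, j, rfl⟩ := hdec x
    refine ⟨x1 ^ (m * i) * (x1 ^ (i * n))⁻¹, ?_, ?_⟩
    · exact (hL1 _).mpr (L.mul_mem (L.pow_mem hx1L _) (L.inv_mem (L.pow_mem hx1L _)))
    · rw [hhx, mul_pow, ← pow_mul, ← pow_mul, mul_comm j n]
      calc x1 ^ (m * i) * y2 ^ (n * j)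
          = (x1 ^ (i * n) * (x1 ^ (i * n))⁻¹) * (x1 ^ (m * i) * y2 ^ (n * j)) := by
            rw [mul_inv_cancel, one_mul]
        _ = x1 ^ (i * n) * y2 ^ (n * j) * (x1 ^ (m * i) * (x1 ^ (i * n))⁻¹) := by ac_rfl

end Cfsg.Agent.Helper37.Res
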