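import Mathlib
import Cfsg.Agent.Helper62.S6.Defs

/-!
# S3333, piece (R2a) (helper37 for helper62, board #10685)

Cauchy + Sylow: a subgroup `K` of order divisible by 3, contained in and normalized by `M ≥ S`,
meets `S` nontrivially.
-/

set_option autoImplicit false
open Cfsg

namespace Cfsg.Agent.Helper37.S6

open Cfsg Cfsg.Agent.Helper62.S6 Cfsg.Agent.Helper62.D8

universe u

variable {G : Type u} [Group G] [Finite G]
variable {S : Subgroup G} {x y t f : G}

/-- generic form: `P` a Sylow `p`-subgroup of `G` inside `M`, `K ≤ M` normalized by `M` with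
`p ∣ |K|`: then `K ∩ P ≠ 1`. -/
theorem exists_mem_inf_aux {p : ℕ} [Fact p.Prime] (P : Sylow p G) (M : Subgroup G)
    (hPM : (P : Subgroup G) ≤ M) (K : Subgroup G) (hKM : K ≤ M)
    (hMK : M ≤ Subgroup.normalizer (K : Set G)) (hp : p ∣ Nat.card K) :
    ∃ v ∈ K, v ∈ (P : Subgroup G) ∧ v ≠ 1 := by
  classical
  obtain ⟨w, hw⟩ := exists_prime_orderOf_dvd_card' (G := ↥K) p hp
  -- `w` as an element of `M`
  set w' : ↥M := ⟨w.1, hKM w.2⟩ with hw'
  have hw'ord : orderOf w' = p := by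
    have h1 : orderOf (w' : G) = orderOf w' := Subgroup.orderOf_coe w'
    have h2 : orderOf (w : G) = orderOf w := Subgroup.orderOf_coe w
    rw [← h1, ← hw, ← h2]
  have hpg : IsPGroup p (Subgroup.zpowers w') := by
    apply IsPGroup.of_card (n := 1)
    rw [Nat.card_zpowers, hw'ord, pow_one]
  obtain ⟨Q, hQ⟩ := hpg.exists_le_sylow
  obtain ⟨g, hg⟩ := MulAction.exists_smul_eq ↥M Q (P.subtype hPM)
  have hwQ : w' ∈ (Q : Subgroup ↥M) := hQ (Subgroup.mem_zpowers w')
  have hmem : g * w' * g⁻¹ ∈ ((P.subtype hPM : Sylow p ↥M) : Subgroup ↥M) := by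
    rw [← hg, Sylow.coe_subgroup_smul]
    have := Subgroup.smul_mem_pointwise_smul w' (MulAut.conj g) (Q : Subgroup ↥M) hwQ
    rwa [MulAut.smul_def, MulAut.conj_apply] at this
  rw [Sylow.coe_subtype, Subgroup.mem_subgroupOf] at hmem
  refine ⟨(g : G) * (w : G) * (g : G)⁻¹, ?_, ?_, ?_⟩
  · exact (Subgroup.mem_normalizer_iff.mp (hMK g.2) (w : G)).mp w.2
  · exact hmem
  · intro h1
    have hw1 : (w : G) = 1 := by
      have : (w : G) = (g : G)⁻¹ * ((g : G) * (w : G) * (g : G)⁻¹) * (g : G) := by group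
      rw [this, h1]; group
    have : w = 1 := Subtype.ext hw1
    rw [this, orderOf_one] at hw
    exact (Fact.out : p.Prime).one_lt.ne hw

/-- (R2a) Cauchy + Sylow: a subgroup `K` of order divisible by 3, contained in and normalized by
`M ≥ S`, meets `S` nontrivially. -/
theorem exists_mem_inf (h : Cfg S x y t f) (M : Subgroup G) (hSM : S ≤ M) (K : Subgroup G)
    (hKM : K ≤ M) (hMK : M ≤ Subgroup.normalizer (K : Set G)) (h3 : 3 ∣ Nat.card K) :
    ∃ v ∈ K, v ∈ S ∧ v ≠ 1 := by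
  have : Fact (Nat.Prime 3) := ⟨by norm_num⟩
  obtain ⟨P, hP⟩ := h.syl
  subst hP
  exact exists_mem_inf_aux P M hSM K hKM hMK h3

end Cfsg.Agent.Helper37.S6
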