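import Cfsg.Agent.Helper21.SC3C.Defs
import Cfsg.Agent.S0840
import Cfsg.Agent.Helper17.G4320d
import Cfsg.Agent.Helper17.InvolPairs
import Cfsg.Agent.Helper74.DefectZero
import Cfsg.Agent.Helper79.Counting

/-!
# S3331 block C, leaf (COL) (helper37 for helper21, WANTED #15586)

Column orthogonality `(g, x)` for `g` not conjugate to `x`.
-/

set_option autoImplicit false

namespace Cfsg.Agent.Helper37.SC3C

open Cfsg Cfsg.Agent Cfsg.Agent.Helper62.SC3 Cfsg.Agent.Helper21.SC3C
open scoped ComplexConjugate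

universe u

variable {G : Type u} [Group G]

/-- (COL) column orthogonality `(g, x)` for `g` not conjugate to `x`, given (PM). -/
theorem col_rel [Finite G] (S : Setup G) (a b : IrrCharacter G)
    (ha : a ≠ Helper79.principalIrr G) (hb : b ≠ Helper79.principalIrr G) (hab : a ≠ b)
    (hax : (a : G → ℂ) S.x = 1 ∨ (a : G → ℂ) S.x = -1)
    (hbx : (b : G → ℂ) S.x = 1 ∨ (b : G → ℂ) S.x = -1)
    (hother : ∀ θ : IrrCharacter G, θ ≠ Helper79.principalIrr G → θ ≠ a → θ ≠ b →
        (θ : G → ℂ) S.x = 0)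
    (g : G) (hg : ¬ IsConj S.x g) :
    1 + (a : G → ℂ) g * (a : G → ℂ) S.x + (b : G → ℂ) g * (b : G → ℂ) S.x = 0 := by
  classical
  have : Fintype G := Fintype.ofFinite G
  have : Fintype (IrrCharacter G) := Fintype.ofFinite _
  have hcol := Helper79.column_orthogonality g S.x
  rw [if_neg hg] at hcol
  have hsub : ∑ θ ∈ ({Helper79.principalIrr G, a, b} : Finset (IrrCharacter G)),
      (θ : G → ℂ) g * conj ((θ : G → ℂ) S.x) =
      ∑ θ : IrrCharacter G, (θ : G → ℂ) g * conj ((θ : G → ℂ) S.x) := by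
    refine Finset.sum_subset (Finset.subset_univ _) ?_
    intro θ _ hθ
    simp only [Finset.mem_insert, Finset.mem_singleton, not_or] at hθ
    rw [hother θ hθ.1 hθ.2.1 hθ.2.2]
    simp
  rw [← hsub] at hcol
  rw [Finset.sum_insert (by
      simp only [Finset.mem_insert, Finset.mem_singleton, not_or]
      exact ⟨fun h => ha h.symm, fun h => hb h.symm⟩),
    Finset.sum_insert (by
      simp only [Finset.mem_singleton]
      exact hab), Finset.sum_singleton] at hcol
  have hca : conj ((a : G → ℂ) S.x) = (a : G → ℂ) S.x := by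
    rcases hax with h | h <;> rw [h] <;> simp
  have hcb : conj ((b : G → ℂ) S.x) = (b : G → ℂ) S.x := by
    rcases hbx with h | h <;> rw [h] <;> simp
  rw [hca, hcb] at hcol
  have hp : ((Helper79.principalIrr G : IrrCharacter G) : G → ℂ) g *
      conj (((Helper79.principalIrr G : IrrCharacter G) : G → ℂ) S.x) = 1 := by
    show (1 : ℂ) * conj (1 : ℂ) = 1
    simp
  rw [hp] at hcol
  rw [← hcol]
  ring

end Cfsg.Agent.Helper37.SC3C
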