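import Cfsg.Agent.Helper21.SC3C.Defs
import Cfsg.Agent.S0840
import Cfsg.Agent.Helper17.G4320d
import Cfsg.Agent.Helper17.InvolPairs
import Cfsg.Agent.Helper74.DefectZero
import Cfsg.Agent.Helper79.Counting

/-!
# S3331 block C, leaf (TTX) (helper37 for helper21, WANTED #15586)

`a_{t t x} = 3` and the class constant formula give `3 |C(t)|² f (f+1) = |G| (f - c)²`.
-/

set_option autoImplicit false

namespace Cfsg.Agent.Helper37.SC3C

open Cfsg Cfsg.Agent Cfsg.Agent.Helper62.SC3 Cfsg.Agent.Helper21.SC3C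
open scoped ComplexConjugate

universe u

variable {G : Type u} [Group G]

/-- the number of ways to write `x` as a product of two conjugates of `t` is `3`. -/
theorem TTX_pairs [Finite G] (S : Setup G) :
    Nat.card {q : G × G // IsConj S.t q.1 ∧ IsConj S.t q.2 ∧ q.1 * q.2 = S.x} = 3 := by
  have hp3 : Fact (Nat.Prime 3) := ⟨Nat.prime_three⟩
  have hK : Nat.card (Subgroup.zpowers S.x) = 3 := by rw [Nat.card_zpowers, S.hx]
  have hx1 : S.x ≠ 1 := by
    intro h
    have := S.hx
    rw [h, orderOf_one] at this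
    omega
  have htt : S.t * S.t = 1 := by
    have := pow_orderOf_eq_one S.t
    rwa [S.ht, pow_two] at this
  have hCK : ∀ k ∈ Subgroup.zpowers S.x, k ≠ 1 →
      Subgroup.centralizer ({k} : Set G) ≤ Subgroup.zpowers S.x := by
    intro k hk hk1
    have hko : orderOf k = 3 := by
      have h1 : orderOf k ∣ 3 := by
        have := orderOf_dvd_natCard (⟨k, hk⟩ : Subgroup.zpowers S.x)
        rwa [hK, Subgroup.orderOf_mk] at this
      rcases (Nat.dvd_prime Nat.prime_three).mp h1 with h2 | h2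
      · exact absurd (orderOf_eq_one_iff.mp h2) hk1
      · exact h2
    have hzk : Subgroup.zpowers k = Subgroup.zpowers S.x := by
      apply Subgroup.eq_of_le_of_card_ge (Subgroup.zpowers_le.mpr hk)
      rw [Nat.card_zpowers, Nat.card_zpowers, hko, S.hx]
    have hxk : S.x ∈ Subgroup.zpowers k := by rw [hzk]; exact Subgroup.mem_zpowers _
    obtain ⟨n, hn⟩ := Subgroup.mem_zpowers_iff.mp hxk
    intro y hy
    have hcomm : Commute k y := Subgroup.mem_centralizer_iff.mp hy k (Set.mem_singleton k)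
    rw [← S.hC, Subgroup.mem_centralizer_iff]
    intro h hh
    rw [Set.mem_singleton_iff] at hh
    rw [hh, ← hn]
    exact (hcomm.zpow_left n).eq
  have hfw : ∀ h ∈ Subgroup.zpowers S.x, S.t * h * S.t⁻¹ ∈ Subgroup.zpowers S.x := by
    intro h hh
    obtain ⟨n, rfl⟩ := Subgroup.mem_zpowers_iff.mp hh
    rw [← conj_zpow, S.htx]
    exact Subgroup.zpow_mem _ (Subgroup.inv_mem _ (Subgroup.mem_zpowers _)) n
  have htN : S.t ∈ Subgroup.normalizer ((Subgroup.zpowers S.x : Subgroup G) : Set G) := by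
    rw [Subgroup.mem_normalizer_iff]
    intro h
    refine ⟨hfw h, fun hh => ?_⟩
    have := hfw _ hh
    have htinv : S.t⁻¹ = S.t := inv_eq_of_mul_eq_one_left htt
    have e : S.t * (S.t * h * S.t⁻¹) * S.t⁻¹ = h := by
      rw [htinv]
      calc S.t * (S.t * h * S.t) * S.t = (S.t * S.t) * h * (S.t * S.t) := by group
        _ = h := by rw [htt]; group
    rwa [e] at this
  exact Helper17.card_involution_pairs_gen (Subgroup.zpowers S.x) hK (by norm_num) hCK htN S.ht
    (Subgroup.mem_zpowers S.x) hx1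

/-- (TTX) `a_{t t x} = 3` (`Helper17.card_involution_pairs_gen` with `K = zpowers x`, `p = 3`)
and (CC) give `3 |C(t)|² f (f+1) = |G| (f - c)²`
(`|t^G| |C(t)| = |G|`: `Helper79.card_class_mul_card_centralizer`; `ψ(t) = 1 + c`). -/
theorem inst_ttx [Finite G] (S : Setup G) (D : CData S) (hcc : HCC S D) (hf : 0 < D.f) :
    3 * (Nat.card (Subgroup.centralizer ({S.t} : Set G)) : ℤ) ^ 2 * (D.f : ℤ) * ((D.f : ℤ) + 1) =
      (Nat.card G : ℤ) * ((D.f : ℤ) - D.c) ^ 2 := by
  have hpairs := TTX_pairs S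
  have h := hcc S.t S.t S.x (Or.inr (Or.inr (IsConj.refl _)))
  rw [hpairs] at h
  have hψt : D.ψ S.t = 1 + (D.c : ℂ) := by
    rw [D.hrel S.t (by rw [S.ht]; norm_num), D.hχt]
  rw [D.hχt, hψt, D.hχx, D.hψx] at h
  simp only [map_one, map_neg] at h
  have hcl : Nat.card {y : G // IsConj S.t y} *
      Nat.card (Subgroup.centralizer ({S.t} : Set G)) = Nat.card G := by
    have := Helper79.card_class_mul_card_centralizer S.t
    rw [← Nat.card_coe_set_eq] at this
    exact this
  have hclC : (Nat.card {y : G // IsConj S.t y} : ℂ) *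
      (Nat.card (Subgroup.centralizer ({S.t} : Set G)) : ℂ) = (Nat.card G : ℂ) := by
    exact_mod_cast hcl
  have hn0 : (Nat.card G : ℂ) ≠ 0 := by
    have : 0 < Nat.card G := Nat.card_pos
    exact_mod_cast this.ne'
  have hf0 : (D.f : ℂ) ≠ 0 := by exact_mod_cast hf.ne'
  have hf1 : (D.f : ℂ) + 1 ≠ 0 := by
    have : ((D.f + 1 : ℕ) : ℂ) ≠ 0 := by exact_mod_cast (Nat.succ_ne_zero D.f)
    simpa using this
  set cl : ℂ := (Nat.card {y : G // IsConj S.t y} : ℂ) with hcl_def
  set Ct : ℂ := (Nat.card (Subgroup.centralizer ({S.t} : Set G)) : ℂ) with hCt_def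
  set n : ℂ := (Nat.card G : ℂ) with hn_def
  set f : ℂ := (D.f : ℂ) with hf_def
  set c : ℂ := (D.c : ℂ) with hc_def
  have h' : 3 * n * (f * (f + 1)) =
      cl * cl * (f * (f + 1) + c * c * (f + 1) - (1 + c) * (1 + c) * f) := by
    have e : ((3 : ℕ) : ℂ) * n * (f * (f + 1)) =
        (cl * cl * (1 + c * c * 1 / f + (1 + c) * (1 + c) * -1 / (f + 1))) * (f * (f + 1)) := by
      rw [h]
    rw [show ((3 : ℕ) : ℂ) = 3 by norm_num] at e
    rw [e]
    field_simp
    ring
  have key : (3 * Ct ^ 2 * f * (f + 1) - n * (f - c) ^ 2) * n = 0 := by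
    linear_combination Ct ^ 2 * h' + (f - c) ^ 2 * (cl * Ct + n) * hclC
  have key2 : 3 * Ct ^ 2 * f * (f + 1) = n * (f - c) ^ 2 := by
    rcases mul_eq_zero.mp key with h0 | h0
    · exact sub_eq_zero.mp h0
    · exact absurd h0 hn0
  have : ((3 * (Nat.card (Subgroup.centralizer ({S.t} : Set G)) : ℤ) ^ 2 * (D.f : ℤ) *
      ((D.f : ℤ) + 1) : ℤ) : ℂ) = (((Nat.card G : ℤ) * ((D.f : ℤ) - D.c) ^ 2 : ℤ) : ℂ) := by
    push_cast
    exact key2
  exact_mod_cast this

end Cfsg.Agent.Helper37.SC3C
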