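import Mathlib

set_option autoImplicit false

/-!
# Elements of `SL₂(5)` used for S3213

For `x ∈ SL₂(K)`, `|K| = 5`, `x ≠ 1`, `x ^ 3 = 1`, there is `y` with
`y * y = c` (`c = -1` the central involution) and `x * y = y * x⁻¹`; `t` is an element of order `5`.
-/

namespace Cfsg.Agent.Helper37.SL25

open Matrix

variable {K : Type*} [Field K]

theorem mat2_ext {a b c d a' b' c' d' : K} (h1 : a = a') (h2 : b = b') (h3 : c = c')
    (h4 : d = d') : !![a, b; c, d] = !![a', b'; c', d'] := by
  subst h1 h2 h3 h4; rfl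

/-- A transvection of order 5. -/
def tEl : Matrix.SpecialLinearGroup (Fin 2) K :=
  ⟨!![1, 1; 0, 1], by rw [Matrix.det_fin_two_of]; ring⟩

theorem tEl_ne_one : (tEl : Matrix.SpecialLinearGroup (Fin 2) K) ≠ 1 := by
  intro h
  have h1 : ((tEl : Matrix.SpecialLinearGroup (Fin 2) K) : Matrix (Fin 2) (Fin 2) K) 0 1 =
      (1 : Matrix (Fin 2) (Fin 2) K) 0 1 := by rw [h]; rfl
  simp [tEl] at h1

theorem tEl_pow (n : ℕ) : ((tEl : Matrix.SpecialLinearGroup (Fin 2) K) ^ n :
    Matrix.SpecialLinearGroup (Fin 2) K) = ⟨!![1, (n : K); 0, 1], by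
      rw [Matrix.det_fin_two_of]; ring⟩ := by
  induction n with
  | zero =>
    apply Subtype.ext
    show (1 : Matrix (Fin 2) (Fin 2) K) = !![1, ((0 : ℕ) : K); 0, 1]
    rw [Matrix.one_fin_two]; simp
  | succ n ih =>
    rw [pow_succ, ih]
    apply Subtype.ext
    show !![1, (n : K); 0, 1] * !![(1 : K), 1; 0, 1] = !![1, ((n + 1 : ℕ) : K); 0, 1]
    rw [Matrix.mul_fin_two]
    apply mat2_ext
    · ring
    · push_cast; ring
    · ring
    · ring

variable [Fintype K]

theorem five_eq_zero (hK : Fintype.card K = 5) : (5 : K) = 0 := by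
  have := FiniteField.cast_card_eq_zero K
  rw [hK] at this
  exact_mod_cast this

/-- The central involution `-1 = diag(4,4)`. -/
def cEl (hK : Fintype.card K = 5) : Matrix.SpecialLinearGroup (Fin 2) K :=
  ⟨!![4, 0; 0, 4], by
    rw [Matrix.det_fin_two_of]
    linear_combination 3 * five_eq_zero hK⟩

theorem cEl_mul_self (hK : Fintype.card K = 5) : cEl hK * cEl hK = 1 := by
  have h5 := five_eq_zero hK
  apply Subtype.ext
  show !![(4 : K), 0; 0, 4] * !![(4 : K), 0; 0, 4] = 1
  rw [Matrix.mul_fin_two, Matrix.one_fin_two]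
  apply mat2_ext
  · linear_combination 3 * h5
  · ring
  · ring
  · linear_combination 3 * h5

theorem cEl_ne_one (hK : Fintype.card K = 5) : cEl hK ≠ 1 := by
  have h5 := five_eq_zero hK
  intro h
  have h1 : ((cEl hK : Matrix.SpecialLinearGroup (Fin 2) K) : Matrix (Fin 2) (Fin 2) K) 0 0 =
      (1 : Matrix (Fin 2) (Fin 2) K) 0 0 := by rw [h]; rfl
  have h2 : (4 : K) = 1 := by simpa [cEl] using h1
  have h3 : (3 : K) = 0 := by linear_combination h2
  have : (1 : K) = 0 := by linear_combination 2 * h3 - h5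
  exact one_ne_zero this

theorem cEl_comm (hK : Fintype.card K = 5) (g : Matrix.SpecialLinearGroup (Fin 2) K) :
    cEl hK * g = g * cEl hK := by
  apply Subtype.ext
  show !![(4 : K), 0; 0, 4] * (g : Matrix (Fin 2) (Fin 2) K) =
    (g : Matrix (Fin 2) (Fin 2) K) * !![(4 : K), 0; 0, 4]
  rw [Matrix.eta_fin_two (g : Matrix (Fin 2) (Fin 2) K), Matrix.mul_fin_two, Matrix.mul_fin_two]
  apply mat2_ext <;> ring

theorem tEl_pow_five (hK : Fintype.card K = 5) :
    (tEl : Matrix.SpecialLinearGroup (Fin 2) K) ^ 5 = 1 := by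
  rw [tEl_pow]
  apply Subtype.ext
  show !![1, ((5 : ℕ) : K); 0, 1] = (1 : Matrix (Fin 2) (Fin 2) K)
  rw [Matrix.one_fin_two]
  have := five_eq_zero hK
  push_cast
  rw [this]

/-- Every non-trivial `x` with `x ^ 3 = 1` is inverted by some `y` with `y * y = c`. -/
theorem exists_inverting (hK : Fintype.card K = 5) (x : Matrix.SpecialLinearGroup (Fin 2) K)
    (hx1 : x ≠ 1) (hx3 : x ^ 3 = 1) :
    ∃ y : Matrix.SpecialLinearGroup (Fin 2) K, y * y = cEl hK ∧ x * y = y * x⁻¹ := by
  have h5 := five_eq_zero hK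
  obtain ⟨a, b, c, d, hxm⟩ : ∃ a b c d : K, (x : Matrix (Fin 2) (Fin 2) K) = !![a, b; c, d] :=
    ⟨_, _, _, _, Matrix.eta_fin_two _⟩
  have hdet : a * d - b * c = 1 := by
    have := x.2
    rw [hxm, Matrix.det_fin_two_of] at this
    exact this
  have hinv : ((x⁻¹ : Matrix.SpecialLinearGroup (Fin 2) K) : Matrix (Fin 2) (Fin 2) K) =
      !![d, -b; -c, a] := by
    rw [Matrix.SpecialLinearGroup.coe_inv, hxm, Matrix.adjugate_fin_two_of]
  by_cases hc : c = 0
  · by_cases hb : b = 0
    · -- diagonal: impossible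
      exfalso
      subst hc hb
      have had : a * d = 1 := by linear_combination hdet
      have ha0 : a ≠ 0 := by
        intro h; rw [h, zero_mul] at had; exact zero_ne_one had
      have h3 : a ^ 3 = 1 := by
        have h := congrArg (fun g : Matrix.SpecialLinearGroup (Fin 2) K =>
          (g : Matrix (Fin 2) (Fin 2) K) 0 0) hx3
        simp only [Matrix.SpecialLinearGroup.coe_pow, Matrix.SpecialLinearGroup.coe_one] at h
        rw [hxm] at h
        simpa [pow_succ, Matrix.mul_fin_two] using h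
      have h4 : a ^ 4 = 1 := by
        have := FiniteField.pow_card_sub_one_eq_one a ha0
        rw [hK] at this
        exact this
      have ha1 : a = 1 := by
        have : a ^ 4 = a ^ 3 * a := by ring
        rw [h4, h3, one_mul] at this
        exact this.symm
      have hd1 : d = 1 := by rw [ha1, one_mul] at had; exact had
      apply hx1
      apply Subtype.ext
      show (x : Matrix (Fin 2) (Fin 2) K) = 1
      rw [hxm, ha1, hd1, Matrix.one_fin_two]
    · -- c = 0, b ≠ 0
      subst hc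
      refine ⟨⟨!![2, 0; 2 * (d - a) / b, -2], by
        rw [Matrix.det_fin_two_of]; linear_combination (-1 : K) * h5⟩, ?_, ?_⟩
      · apply Subtype.ext
        show !![(2 : K), 0; 2 * (d - a) / b, -2] * !![(2 : K), 0; 2 * (d - a) / b, -2] =
          !![(4 : K), 0; 0, 4]
        rw [Matrix.mul_fin_two]
        apply mat2_ext <;> ring
      · apply Subtype.ext
        show (x : Matrix (Fin 2) (Fin 2) K) * !![(2 : K), 0; 2 * (d - a) / b, -2] =
          !![(2 : K), 0; 2 * (d - a) / b, -2] *
            ((x⁻¹ : Matrix.SpecialLinearGroup (Fin 2) K) : Matrix (Fin 2) (Fin 2) K)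
        rw [hinv, hxm, Matrix.mul_fin_two, Matrix.mul_fin_two]
        apply mat2_ext
        · field_simp; ring
        · ring
        · ring
        · field_simp; ring
  · -- c ≠ 0
    refine ⟨⟨!![-2, 2 * (a - d) / c; 0, 2], by
      rw [Matrix.det_fin_two_of]; linear_combination (-1 : K) * h5⟩, ?_, ?_⟩
    · apply Subtype.ext
      show !![(-2 : K), 2 * (a - d) / c; 0, 2] * !![(-2 : K), 2 * (a - d) / c; 0, 2] =
        !![(4 : K), 0; 0, 4]
      rw [Matrix.mul_fin_two]
      apply mat2_ext <;> ring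
    · apply Subtype.ext
      show (x : Matrix (Fin 2) (Fin 2) K) * !![(-2 : K), 2 * (a - d) / c; 0, 2] =
        !![(-2 : K), 2 * (a - d) / c; 0, 2] *
          ((x⁻¹ : Matrix.SpecialLinearGroup (Fin 2) K) : Matrix (Fin 2) (Fin 2) K)
      rw [hinv, hxm, Matrix.mul_fin_two, Matrix.mul_fin_two]
      apply mat2_ext
      · field_simp; ring
      · ring
      · ring
      · field_simp; ring

end Cfsg.Agent.Helper37.SL25
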