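import Mathlib
import Cfsg.Agent.Helper37.OddCard

set_option autoImplicit false

/-!
# Linear algebra over `𝔽₃` used for S3213
-/

namespace Cfsg.Agent.Helper37.SL25

open Matrix Module

section LA

variable {F : Type*} [Field F] [Fintype F] {ι : Type*} [Fintype ι] [DecidableEq ι]

/-- Orbit counting for a matrix of prime order acting on an invariant subspace. -/
theorem card_submodule_modEq (p : ℕ) [Fact p.Prime] (T : Matrix ι ι F) (hT : T ^ p = 1)
    (W : Submodule F (ι → F)) (hW : ∀ v ∈ W, T *ᵥ v ∈ W) :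
    Nat.card W ≡ Nat.card ↥(W ⊓ LinearMap.ker (Matrix.toLin' (T - 1))) [MOD p] := by
  classical
  let f0 : W → W := fun w => ⟨T *ᵥ w.1, hW _ w.2⟩
  let f : Function.End W := f0
  have hpow : ∀ k : ℕ, ∀ w : W, (((f ^ k) w : W) : ι → F) = (T ^ k) *ᵥ (w : ι → F) := by
    intro k
    induction k with
    | zero => intro w; rw [pow_zero, pow_zero, Matrix.one_mulVec]; rfl
    | succ k ih =>
      intro w
      rw [pow_succ]
      show (((f ^ k) (f w) : W) : ι → F) = _
      rw [ih, pow_succ]
      show T ^ k *ᵥ (T *ᵥ (w : ι → F)) = _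
      rw [Matrix.mulVec_mulVec]
  have hf : f ^ p ^ 1 = 1 := by
    funext w
    apply Subtype.ext
    rw [pow_one, hpow, hT, Matrix.one_mulVec]
    rfl
  have h := Equiv.Perm.card_fixedPoints_modEq (p := p) (n := 1) hf
  have e : Function.fixedPoints f0 ≃ ↥(W ⊓ LinearMap.ker (Matrix.toLin' (T - 1))) :=
    { toFun := fun w => ⟨w.1.1, Submodule.mem_inf.mpr ⟨w.1.2, by
        have h1 : f0 w.1 = w.1 := w.2
        have := congrArg Subtype.val h1
        rw [LinearMap.mem_ker, Matrix.toLin'_apply, Matrix.sub_mulVec, Matrix.one_mulVec]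
        exact sub_eq_zero.mpr this⟩⟩
      invFun := fun v => ⟨⟨v.1, (Submodule.mem_inf.mp v.2).1⟩, by
        have := (Submodule.mem_inf.mp v.2).2
        rw [LinearMap.mem_ker, Matrix.toLin'_apply, Matrix.sub_mulVec, Matrix.one_mulVec,
          sub_eq_zero] at this
        show f0 ⟨v.1, _⟩ = ⟨v.1, _⟩
        exact Subtype.ext this⟩
      left_inv := fun w => rfl
      right_inv := fun v => rfl }
  rw [Nat.card_eq_fintype_card, ← Nat.card_congr e, Nat.card_eq_fintype_card]
  exact h

theorem natCard_submodule (hF : Fintype.card F = 3) (W : Submodule F (ι → F)) :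
    Nat.card W = 3 ^ finrank F W := by
  rw [Module.natCard_eq_pow_finrank (K := F), Nat.card_eq_fintype_card, hF]

theorem finrank_submodule_le (hι : Fintype.card ι = 4) (W : Submodule F (ι → F)) :
    finrank F W ≤ 4 := by
  have := Submodule.finrank_le W
  rwa [Module.finrank_fintype_fun_eq_card, hι] at this

theorem finrank_eq_zero_or_four {a : ℕ} (ha : a ≤ 4) (h : 3 ^ a ≡ 1 [MOD 5]) : a = 0 ∨ a = 4 := by
  interval_cases a
  · left; rfl
  · exact absurd h (by decide)
  · exact absurd h (by decide)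
  · exact absurd h (by decide)
  · right; rfl

theorem eq_top_of_finrank_four (hι : Fintype.card ι = 4) (W : Submodule F (ι → F))
    (h : finrank F W = 4) : W = ⊤ := by
  apply Submodule.eq_top_of_finrank_eq
  rw [h, Module.finrank_fintype_fun_eq_card, hι]

theorem eq_bot_of_finrank_zero (W : Submodule F (ι → F)) (h : finrank F W = 0) : W = ⊥ :=
  Submodule.finrank_eq_zero.mp h

/-- An element of order five of `GL₄(3)` fixes no non-zero vector. -/
theorem ker_sub_one_eq_bot (hF : Fintype.card F = 3) (hι : Fintype.card ι = 4) (T : Matrix ι ι F)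
    (hT5 : T ^ 5 = 1) (hT1 : T ≠ 1) : LinearMap.ker (Matrix.toLin' (T - 1)) = ⊥ := by
  haveI : Fact (Nat.Prime 5) := ⟨by norm_num⟩
  have h := card_submodule_modEq 5 T hT5 ⊤ (fun _ _ => Submodule.mem_top)
  rw [top_inf_eq, natCard_submodule hF, natCard_submodule hF, finrank_top,
    Module.finrank_fintype_fun_eq_card, hι] at h
  have h' : 3 ^ finrank F (LinearMap.ker (Matrix.toLin' (T - 1))) ≡ 1 [MOD 5] :=
    h.symm.trans (by decide)
  rcases finrank_eq_zero_or_four (finrank_submodule_le hι _) h' with h0 | h4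
  · exact eq_bot_of_finrank_zero _ h0
  · exfalso
    have htop := eq_top_of_finrank_four hι _ h4
    apply hT1
    have : T - 1 = 0 := by
      rw [Matrix.ext_iff_mulVec]
      intro v
      have hv : v ∈ LinearMap.ker (Matrix.toLin' (T - 1)) := by rw [htop]; exact Submodule.mem_top
      rw [LinearMap.mem_ker, Matrix.toLin'_apply] at hv
      rw [hv, Matrix.zero_mulVec]
    exact sub_eq_zero.mp this

/-- An involution of `GL₄(3)` commuting with an element of order five is `-1`. -/
theorem eq_neg_one_of_commute (hF : Fintype.card F = 3) (hι : Fintype.card ι = 4)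
    (T : Matrix ι ι F) (hT5 : T ^ 5 = 1) (hT1 : T ≠ 1) (Z : Matrix ι ι F) (hZ2 : Z * Z = 1)
    (hZ1 : Z ≠ 1) (hZT : Z * T = T * Z) : Z = -1 := by
  haveI : Fact (Nat.Prime 5) := ⟨by norm_num⟩
  have hker := ker_sub_one_eq_bot hF hι T hT5 hT1
  have hinv : ∀ v ∈ LinearMap.ker (Matrix.toLin' (Z - 1)),
      T *ᵥ v ∈ LinearMap.ker (Matrix.toLin' (Z - 1)) := by
    intro v hv
    rw [LinearMap.mem_ker, Matrix.toLin'_apply] at hv ⊢
    have hc : (Z - 1) * T = T * (Z - 1) := by
      rw [Matrix.sub_mul, Matrix.mul_sub, hZT, Matrix.one_mul, Matrix.mul_one]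
    rw [Matrix.mulVec_mulVec, hc, ← Matrix.mulVec_mulVec, hv, Matrix.mulVec_zero]
  have h := card_submodule_modEq 5 T hT5 _ hinv
  rw [hker, inf_bot_eq, natCard_submodule hF, natCard_submodule hF, finrank_bot, pow_zero] at h
  rcases finrank_eq_zero_or_four (finrank_submodule_le hι _) h with h0 | h4
  · have hbot := eq_bot_of_finrank_zero _ h0
    have : Z + 1 = 0 := by
      rw [Matrix.ext_iff_mulVec]
      intro v
      have hv : (Z + 1) *ᵥ v ∈ LinearMap.ker (Matrix.toLin' (Z - 1)) := by
        rw [LinearMap.mem_ker, Matrix.toLin'_apply, Matrix.mulVec_mulVec]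
        have : (Z - 1) * (Z + 1) = 0 := by
          rw [Matrix.sub_mul, Matrix.mul_add, Matrix.mul_add, hZ2, Matrix.one_mul, Matrix.mul_one,
            Matrix.one_mul]
          abel
        rw [this, Matrix.zero_mulVec]
      rw [hbot, Submodule.mem_bot] at hv
      rw [hv, Matrix.zero_mulVec]
    exact eq_neg_of_add_eq_zero_left this
  · exfalso
    have htop := eq_top_of_finrank_four hι _ h4
    apply hZ1
    have : Z - 1 = 0 := by
      rw [Matrix.ext_iff_mulVec]
      intro v
      have hv : v ∈ LinearMap.ker (Matrix.toLin' (Z - 1)) := by rw [htop]; exact Submodule.mem_top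
      rw [LinearMap.mem_ker, Matrix.toLin'_apply] at hv
      rw [hv, Matrix.zero_mulVec]
    exact sub_eq_zero.mp this

/-- Over `𝔽₃`, a subspace invariant under `Y` with `Y² = -1` has even dimension. -/
theorem even_finrank_of_sq_eq_neg_one (hF : Fintype.card F = 3) (Y : Matrix ι ι F)
    (hY : Y * Y = -1) (W : Submodule F (ι → F)) (hW : ∀ w ∈ W, Y *ᵥ w ∈ W) :
    Even (finrank F W) := by
  have hW' : ∀ w ∈ W, Matrix.toLin' Y w ∈ W := by
    intro w hw; rw [Matrix.toLin'_apply]; exact hW w hw
  set g : W →ₗ[F] W := (Matrix.toLin' Y).restrict hW' with hg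
  have hgg : g * g = (-1 : F) • (1 : W →ₗ[F] W) := by
    apply LinearMap.ext
    intro w
    apply Subtype.ext
    show Matrix.toLin' Y (Matrix.toLin' Y (w : ι → F)) = ((-1 : F) • w : W)
    rw [Matrix.toLin'_apply, Matrix.toLin'_apply, Matrix.mulVec_mulVec, hY, Matrix.neg_mulVec,
      Matrix.one_mulVec]
    simp
  have hdet := congrArg LinearMap.det hgg
  rw [map_mul, LinearMap.det_smul, map_one, mul_one] at hdet
  by_contra hodd
  rw [Nat.not_even_iff_odd] at hodd
  rw [hodd.neg_one_pow] at hdet
  -- a square equals -1 in 𝔽₃: impossible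
  have h2 : (2 : F) ≠ 0 := two_ne_zero_of_odd_card (by rw [hF]; decide)
  by_cases h0 : LinearMap.det g = 0
  · rw [h0, mul_zero] at hdet
    have : (1 : F) = 0 := by linear_combination hdet
    exact one_ne_zero this
  · have h1 : LinearMap.det g ^ 2 = 1 := by
      have := FiniteField.pow_card_sub_one_eq_one (LinearMap.det g) h0
      rw [hF] at this
      exact this
    apply h2
    linear_combination hdet - h1

end LA

end Cfsg.Agent.Helper37.SL25
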