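import Cfsg.Agent.Helper37.SL25B

set_option autoImplicit false

/-!
# Kernel analysis for an element of order 3 inverted by `Y` with `Y² = -1` (over `𝔽₃`, dim 4)
-/

namespace Cfsg.Agent.Helper37.SL25

open Matrix Module

section Ker

variable {F : Type*} [Field F] [Fintype F] {ι : Type*} [Fintype ι] [DecidableEq ι]

theorem sub_one_pow_three (hF : Fintype.card F = 3) (hι : Fintype.card ι = 4) (U : Matrix ι ι F)
    (hU3 : U ^ 3 = 1) : (U - 1) * ((U - 1) * (U - 1)) = 0 := by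
  haveI : Fact (Nat.Prime 3) := ⟨by norm_num⟩
  haveI : CharP F 3 := charP_of_card_eq_prime hF
  haveI : Nonempty ι := by
    apply Fintype.card_pos_iff.mp; rw [hι]; norm_num
  have h := sub_pow_char_of_commute (p := 3) (Commute.one_right U)
  rw [hU3, one_pow, sub_self] at h
  rw [← h]
  simp only [pow_succ, pow_zero, Matrix.one_mul, Matrix.mul_assoc]

theorem main_linear (hF : Fintype.card F = 3) (hι : Fintype.card ι = 4) (U Y : Matrix ι ι F)
    (hU3 : U ^ 3 = 1) (hU1 : U ≠ 1) (hY : Y * Y = -1) (hUY : U * Y = Y * (U * U)) :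
    finrank F (LinearMap.ker (Matrix.toLin' (U - 1))) = 2 ∧ (U - 1) * (U - 1) = 0 := by
  have hN3 := sub_one_pow_three hF hι U hU3
  have hN0 : U - 1 ≠ 0 := fun h => hU1 (sub_eq_zero.mp h)
  -- commutation relations
  have hNY : (U - 1) * Y = Y * ((U + 1) * (U - 1)) := by
    rw [Matrix.sub_mul, hUY, Matrix.one_mul]
    simp only [Matrix.mul_sub, Matrix.add_mul, Matrix.mul_add, Matrix.mul_one, Matrix.one_mul]
    abel
  have hcomm : (U - 1) * (U + 1) = (U + 1) * (U - 1) := by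
    simp only [Matrix.mul_sub, Matrix.add_mul, Matrix.mul_add, Matrix.sub_mul, Matrix.mul_one,
      Matrix.one_mul]
    abel
  have hAA : (U + 1) * (U - 1) * ((U + 1) * (U - 1)) = (U + 1) * (U + 1) * ((U - 1) * (U - 1)) := by
    calc (U + 1) * (U - 1) * ((U + 1) * (U - 1))
        = (U + 1) * ((U - 1) * (U + 1)) * (U - 1) := by simp only [Matrix.mul_assoc]
      _ = (U + 1) * ((U + 1) * (U - 1)) * (U - 1) := by rw [hcomm]
      _ = (U + 1) * (U + 1) * ((U - 1) * (U - 1)) := by simp only [Matrix.mul_assoc]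
  have hNNY : (U - 1) * (U - 1) * Y = Y * ((U + 1) * (U + 1)) * ((U - 1) * (U - 1)) := by
    calc (U - 1) * (U - 1) * Y = (U - 1) * ((U - 1) * Y) := Matrix.mul_assoc _ _ _
      _ = (U - 1) * (Y * ((U + 1) * (U - 1))) := by rw [hNY]
      _ = ((U - 1) * Y) * ((U + 1) * (U - 1)) := (Matrix.mul_assoc _ _ _).symm
      _ = Y * ((U + 1) * (U - 1)) * ((U + 1) * (U - 1)) := by rw [hNY]
      _ = Y * ((U + 1) * (U - 1) * ((U + 1) * (U - 1))) := Matrix.mul_assoc _ _ _
      _ = Y * ((U + 1) * (U + 1) * ((U - 1) * (U - 1))) := by rw [hAA]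
      _ = Y * ((U + 1) * (U + 1)) * ((U - 1) * (U - 1)) := (Matrix.mul_assoc _ _ _).symm
  -- invariance
  have hinv1 : ∀ w ∈ LinearMap.ker (Matrix.toLin' (U - 1)),
      Y *ᵥ w ∈ LinearMap.ker (Matrix.toLin' (U - 1)) := by
    intro w hw
    rw [LinearMap.mem_ker, Matrix.toLin'_apply] at hw ⊢
    rw [Matrix.mulVec_mulVec, hNY, ← Matrix.mulVec_mulVec, ← Matrix.mulVec_mulVec, hw,
      Matrix.mulVec_zero, Matrix.mulVec_zero]
  have hinv2 : ∀ w ∈ LinearMap.ker (Matrix.toLin' ((U - 1) * (U - 1))),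
      Y *ᵥ w ∈ LinearMap.ker (Matrix.toLin' ((U - 1) * (U - 1))) := by
    intro w hw
    rw [LinearMap.mem_ker, Matrix.toLin'_apply] at hw ⊢
    rw [Matrix.mulVec_mulVec, hNNY, ← Matrix.mulVec_mulVec, hw, Matrix.mulVec_zero]
  have he1 := even_finrank_of_sq_eq_neg_one hF Y hY _ hinv1
  have he2 := even_finrank_of_sq_eq_neg_one hF Y hY _ hinv2
  have hle1 := finrank_submodule_le (F := F) hι (LinearMap.ker (Matrix.toLin' (U - 1)))
  have hle2 := finrank_submodule_le (F := F) hι (LinearMap.ker (Matrix.toLin' ((U - 1) * (U - 1))))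
  have hK12 : LinearMap.ker (Matrix.toLin' (U - 1)) ≤
      LinearMap.ker (Matrix.toLin' ((U - 1) * (U - 1))) := by
    intro w hw
    rw [LinearMap.mem_ker, Matrix.toLin'_apply] at hw ⊢
    rw [← Matrix.mulVec_mulVec, hw, Matrix.mulVec_zero]
  -- a matrix vanishing on all vectors is zero
  have hzero : ∀ A : Matrix ι ι F, (∀ v, A *ᵥ v = 0) → A = 0 := by
    intro A hA
    rw [Matrix.ext_iff_mulVec]
    intro v; rw [hA v, Matrix.zero_mulVec]
  -- ker N ≠ ⊤
  have h1top : finrank F (LinearMap.ker (Matrix.toLin' (U - 1))) ≠ 4 := by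
    intro h4
    have htop := eq_top_of_finrank_four hι _ h4
    apply hN0
    apply hzero
    intro v
    have hv : v ∈ LinearMap.ker (Matrix.toLin' (U - 1)) := by rw [htop]; exact Submodule.mem_top
    rwa [LinearMap.mem_ker, Matrix.toLin'_apply] at hv
  -- ker N ≠ ⊥
  have h1bot : finrank F (LinearMap.ker (Matrix.toLin' (U - 1))) ≠ 0 := by
    intro h0
    have hbot := eq_bot_of_finrank_zero _ h0
    have hinj : ∀ v, (U - 1) *ᵥ v = 0 → v = 0 := by
      intro v hv
      have : v ∈ LinearMap.ker (Matrix.toLin' (U - 1)) := by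
        rw [LinearMap.mem_ker, Matrix.toLin'_apply]; exact hv
      rwa [hbot, Submodule.mem_bot] at this
    apply hN0
    apply hzero
    intro v
    apply hinj
    apply hinj
    rw [Matrix.mulVec_mulVec, Matrix.mulVec_mulVec, Matrix.mul_assoc, hN3, Matrix.zero_mulVec]
  have hd1 : finrank F (LinearMap.ker (Matrix.toLin' (U - 1))) = 2 := by
    rcases he1 with ⟨k, hk⟩
    omega
  refine ⟨hd1, ?_⟩
  -- ker N² ≠ ker N
  have hne : finrank F (LinearMap.ker (Matrix.toLin' ((U - 1) * (U - 1)))) ≠ 2 := by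
    intro h2
    have heq : LinearMap.ker (Matrix.toLin' (U - 1)) =
        LinearMap.ker (Matrix.toLin' ((U - 1) * (U - 1))) :=
      Submodule.eq_of_le_of_finrank_eq hK12 (by rw [hd1, h2])
    apply hN0
    apply hzero
    intro v
    -- N v ∈ ker N² = ker N, so N² v = 0, so v ∈ ker N² = ker N
    have h1 : (U - 1) *ᵥ v ∈ LinearMap.ker (Matrix.toLin' ((U - 1) * (U - 1))) := by
      rw [LinearMap.mem_ker, Matrix.toLin'_apply, Matrix.mulVec_mulVec, Matrix.mul_assoc, hN3,
        Matrix.zero_mulVec]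
    rw [← heq, LinearMap.mem_ker, Matrix.toLin'_apply, Matrix.mulVec_mulVec] at h1
    have h2' : v ∈ LinearMap.ker (Matrix.toLin' ((U - 1) * (U - 1))) := by
      rw [LinearMap.mem_ker, Matrix.toLin'_apply]; exact h1
    rw [← heq, LinearMap.mem_ker, Matrix.toLin'_apply] at h2'
    exact h2'
  have hd2 : finrank F (LinearMap.ker (Matrix.toLin' ((U - 1) * (U - 1)))) = 4 := by
    have hmono := Submodule.finrank_mono hK12
    rcases he2 with ⟨k, hk⟩
    omega
  have htop := eq_top_of_finrank_four hι _ hd2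
  apply hzero
  intro v
  have hv : v ∈ LinearMap.ker (Matrix.toLin' ((U - 1) * (U - 1))) := by
    rw [htop]; exact Submodule.mem_top
  rwa [LinearMap.mem_ker, Matrix.toLin'_apply] at hv

theorem isotropic_of_sq_zero (hι : Fintype.card ι = 4) (U J : Matrix ι ι F)
    (hUJ : Uᵀ * J * U = J) (hN2 : (U - 1) * (U - 1) = 0)
    (hd : finrank F (LinearMap.ker (Matrix.toLin' (U - 1))) = 2) :
    ∀ v w : ι → F, U *ᵥ v = v → U *ᵥ w = w → v ⬝ᵥ (J *ᵥ w) = 0 := by
  have hle : LinearMap.range (Matrix.toLin' (U - 1)) ≤ LinearMap.ker (Matrix.toLin' (U - 1)) := by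
    rintro _ ⟨x, rfl⟩
    rw [LinearMap.mem_ker, Matrix.toLin'_apply, Matrix.toLin'_apply, Matrix.mulVec_mulVec, hN2,
      Matrix.zero_mulVec]
  have hrk := (Matrix.toLin' (U - 1)).finrank_range_add_finrank_ker
  rw [Module.finrank_fintype_fun_eq_card, hι, hd] at hrk
  have heq := Submodule.eq_of_le_of_finrank_eq hle (by rw [hd]; omega)
  intro v w hv hw
  have hwk : w ∈ LinearMap.ker (Matrix.toLin' (U - 1)) := by
    rw [LinearMap.mem_ker, Matrix.toLin'_apply, Matrix.sub_mulVec, hw, Matrix.one_mulVec, sub_self]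
  rw [← heq] at hwk
  obtain ⟨w', rfl⟩ := hwk
  rw [Matrix.toLin'_apply, Matrix.sub_mulVec, Matrix.one_mulVec, Matrix.mulVec_sub,
    dotProduct_sub]
  have : v ⬝ᵥ (J *ᵥ (U *ᵥ w')) = v ⬝ᵥ (J *ᵥ w') := by
    conv_rhs => rw [← hUJ, ← Matrix.mulVec_mulVec, ← Matrix.mulVec_mulVec,
      Matrix.dotProduct_mulVec, Matrix.vecMul_transpose, hv]
  rw [this, sub_self]

end Ker

end Cfsg.Agent.Helper37.SL25
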