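import Mathlib
import Cfsg.Agent.Helper74.SN.Defs
import Cfsg.Agent.Helper95.CTGroup6
import Cfsg.Agent.Helper46.PSL2Card
import Cfsg.Agent.S4065
import Cfsg.Agent.Helper5.PSL2Simple

/-!
# SN farm (helper74, S4073): the Borel subgroup of `PSL₂(2ⁿ)` (helper37)

`BorelData P m` collects what is used of `B = N(P)`, `P` a Sylow `2`-subgroup of `PSL₂(2ⁿ)`:
`P` abelian, `B/P` abelian of order `m`, and an element of `B` commuting with a nonidentity element
of `P` lies in `P`.  From this: if `m` is prime every subgroup of `B` is `NAN`, and if the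
ambient group is `SN` then `m` is prime.
-/

set_option autoImplicit false
set_option linter.unusedSectionVars false
set_option linter.unusedVariables false

namespace Cfsg.Agent.Helper37.SNG

open Cfsg Cfsg.Agent.Helper74.SNG

/-- what is used of the normalizer `B = N(P)` -/
structure BorelData {Γ : Type*} [Group Γ] (P : Subgroup Γ) (m : ℕ) : Prop where
  key : ∀ c ∈ Subgroup.normalizer (P : Set Γ), ∀ u ∈ P, u ≠ 1 → c * u = u * c → c ∈ P
  comm : ∀ a ∈ Subgroup.normalizer (P : Set Γ), ∀ b ∈ Subgroup.normalizer (P : Set Γ),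
    a * b * a⁻¹ * b⁻¹ ∈ P
  ab : ∀ a ∈ P, ∀ b ∈ P, a * b = b * a
  card : Nat.card (Subgroup.normalizer (P : Set Γ)) = Nat.card P * m

section abstract

variable {Γ : Type*} [Group Γ] [Finite Γ] {P : Subgroup Γ} {m : ℕ}

/-- `|B/P| = m` -/
theorem BorelData.card_quot (h : BorelData P m) :
    Nat.card (↥(Subgroup.normalizer (P : Set Γ)) ⧸
      P.subgroupOf (Subgroup.normalizer (P : Set Γ))) = m := by
  have h1 := Subgroup.card_eq_card_quotient_mul_card_subgroup
    (P.subgroupOf (Subgroup.normalizer (P : Set Γ)))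
  have h2 : Nat.card (P.subgroupOf (Subgroup.normalizer (P : Set Γ))) = Nat.card P :=
    Nat.card_congr (Subgroup.subgroupOfEquivOfLe Subgroup.le_normalizer).toEquiv
  rw [h2, h.card, mul_comm] at h1
  have hpos : 0 < Nat.card P := Nat.card_pos
  exact (Nat.eq_of_mul_eq_mul_right hpos h1.symm)

/-- if `m` is prime, `B = P ⟨c⟩` for every `c ∈ B \ P` -/
theorem BorelData.exists_zpow (h : BorelData P m) (hm : m.Prime) {c k : Γ}
    (hc : c ∈ Subgroup.normalizer (P : Set Γ)) (hcP : c ∉ P)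
    (hk : k ∈ Subgroup.normalizer (P : Set Γ)) : ∃ j : ℤ, (c ^ j)⁻¹ * k ∈ P := by
  have : Fact m.Prime := ⟨hm⟩
  have hcard := h.card_quot
  set B := Subgroup.normalizer (P : Set Γ) with hB
  set N := P.subgroupOf B with hN
  have hne : (QuotientGroup.mk (⟨c, hc⟩ : B) : ↥B ⧸ N) ≠ 1 := by
    intro h1
    rw [QuotientGroup.eq_one_iff, hN, Subgroup.mem_subgroupOf] at h1
    exact hcP h1
  have hmem : (QuotientGroup.mk (⟨k, hk⟩ : B) : ↥B ⧸ N) ∈
      Subgroup.zpowers (QuotientGroup.mk (⟨c, hc⟩ : B) : ↥B ⧸ N) :=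
    mem_zpowers_of_prime_card hcard hne
  obtain ⟨j, hj⟩ := Subgroup.mem_zpowers_iff.mp hmem
  refine ⟨j, ?_⟩
  rw [← QuotientGroup.mk_zpow, QuotientGroup.eq, hN, Subgroup.mem_subgroupOf] at hj
  simpa using hj

/-- (BOR, abstract) if `m` is prime every subgroup of `B` is `NAN` -/
theorem BorelData.nan (h : BorelData P m) (hm : m.Prime) (K : Subgroup Γ)
    (hK : K ≤ Subgroup.normalizer (P : Set Γ)) : NAN K := by
  intro J hJn hJ
  rw [not_isMulCommutative_iff] at hJ
  obtain ⟨a, ha, b, hb, hab⟩ := hJ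
  have hex : ∃ c : K, c ∈ J ∧ (c : Γ) ∉ P := by
    by_contra hcon
    push Not at hcon
    exact hab (Subtype.ext (h.ab a (hcon a ha) b (hcon b hb)))
  obtain ⟨c, hcJ, hcP⟩ := hex
  have hcB : (c : Γ) ∈ Subgroup.normalizer (P : Set Γ) := hK c.2
  -- `E₁ = K ⊓ P ≤ J`
  have hE : P.subgroupOf K ≤ J := by
    have hle : P.subgroupOf K ⊓ J ≤ P.subgroupOf K := inf_le_left
    have hφ : ∀ u : ↥(P.subgroupOf K),
        (u : K) * c * (u : K)⁻¹ * c⁻¹ ∈ P.subgroupOf K ⊓ J := by
      intro u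
      refine Subgroup.mem_inf.mpr ⟨?_, ?_⟩
      · rw [Subgroup.mem_subgroupOf]
        have hu : ((u : K) : Γ) ∈ Subgroup.normalizer (P : Set Γ) := hK (u : K).2
        simpa using h.comm _ hu _ hcB
      · exact J.mul_mem (hJn.conj_mem c hcJ u) (J.inv_mem hcJ)
    have hinj : Function.Injective
        (fun u : ↥(P.subgroupOf K) =>
          (⟨(u : K) * c * (u : K)⁻¹ * c⁻¹, hφ u⟩ : ↥(P.subgroupOf K ⊓ J))) := by
      intro u v huv
      have h0 : (u : K) * c * (u : K)⁻¹ * c⁻¹ = (v : K) * c * (v : K)⁻¹ * c⁻¹ :=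
        congrArg Subtype.val huv
      have h1 : (u : K) * c * (u : K)⁻¹ = (v : K) * c * (v : K)⁻¹ := mul_right_cancel h0
      have hw : c * ((v : K)⁻¹ * (u : K)) = ((v : K)⁻¹ * (u : K)) * c := by
        calc c * ((v : K)⁻¹ * (u : K)) = (v : K)⁻¹ * ((v : K) * c * (v : K)⁻¹) * (u : K) := by
              group
          _ = (v : K)⁻¹ * ((u : K) * c * (u : K)⁻¹) * (u : K) := by rw [h1]
          _ = ((v : K)⁻¹ * (u : K)) * c := by group
      have hwP : (((v : K)⁻¹ * (u : K) : K) : Γ) ∈ P := by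
        have hu := u.2
        have hv := v.2
        rw [Subgroup.mem_subgroupOf] at hu hv
        simpa using P.mul_mem (P.inv_mem hv) hu
      have hw1 : (v : K)⁻¹ * (u : K) = 1 := by
        by_contra hne
        apply hcP
        refine h.key _ hcB _ hwP ?_ ?_
        · intro h1'
          apply hne
          exact Subtype.ext h1'
        · exact congrArg Subtype.val hw
      have : (u : K) = (v : K) := by
        have := congrArg (fun x => (v : K) * x) hw1
        simpa using this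
      exact Subtype.ext this
    have hcard : Nat.card ↥(P.subgroupOf K) ≤ Nat.card ↥(P.subgroupOf K ⊓ J) :=
      Nat.card_le_card_of_injective _ hinj
    have heq := Subgroup.eq_of_le_of_card_ge hle hcard
    rw [← heq]
    exact inf_le_right
  rw [eq_top_iff]
  intro k _
  obtain ⟨j, hj⟩ := h.exists_zpow hm hcB hcP (hK k.2)
  have hk : k = c ^ j * ((c ^ j)⁻¹ * k) := by group
  rw [hk]
  refine J.mul_mem (J.zpow_mem hcJ j) (hE ?_)
  rw [Subgroup.mem_subgroupOf]
  simpa using hj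

/-- (PR, abstract) in an `SN`-group `m` is prime -/
theorem BorelData.prime_of_SN (h : BorelData P m) (hSN : SN Γ) (hP : P ≠ ⊥) (hm : 2 ≤ m) :
    m.Prime := by
  by_contra hnp
  obtain ⟨t, ht, htm⟩ := Nat.exists_prime_and_dvd (show m ≠ 1 by omega)
  have htlt : t < m :=
    lt_of_le_of_ne (Nat.le_of_dvd (by omega) htm) (fun e => hnp (e ▸ ht))
  have : Fact t.Prime := ⟨ht⟩
  have hcard := h.card_quot
  set B := Subgroup.normalizer (P : Set Γ) with hB
  set N := P.subgroupOf B with hN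
  obtain ⟨d, hd⟩ := exists_prime_orderOf_dvd_card' (G := ↥B ⧸ N) t (hcard ▸ htm)
  -- the preimage of `⟨d⟩`
  let D : Subgroup Γ := ((Subgroup.zpowers d).comap (QuotientGroup.mk' N)).map B.subtype
  have hmemD : ∀ g : Γ, g ∈ D ↔ ∃ hg : g ∈ B, (QuotientGroup.mk (⟨g, hg⟩ : B) : ↥B ⧸ N) ∈
      Subgroup.zpowers d := by
    intro g
    constructor
    · rintro ⟨x, hx, rfl⟩
      exact ⟨x.2, hx⟩
    · rintro ⟨hg, hx⟩
      exact ⟨⟨g, hg⟩, hx, rfl⟩
  have hPD : P ≤ D := by
    intro u hu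
    rw [hmemD]
    refine ⟨Subgroup.le_normalizer hu, ?_⟩
    have : (QuotientGroup.mk (⟨u, Subgroup.le_normalizer hu⟩ : B) : ↥B ⧸ N) = 1 := by
      rw [QuotientGroup.eq_one_iff, hN, Subgroup.mem_subgroupOf]
      exact hu
    rw [this]
    exact Subgroup.one_mem _
  have hDB : D ≤ B := by
    intro g hg
    obtain ⟨hg', -⟩ := (hmemD g).mp hg
    exact hg'
  -- `B` normalizes `D`
  have hnorm : B ≤ Subgroup.normalizer (D : Set Γ) := by
    rw [Subgroup.le_normalizer_iff]
    intro b hb g hg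
    have h1 : b * g * b⁻¹ * g⁻¹ ∈ D := hPD (h.comm b hb g (hDB hg))
    have h2 : b * g * b⁻¹ = (b * g * b⁻¹ * g⁻¹) * g := by group
    rw [h2]
    exact D.mul_mem h1 hg
  -- `D ≠ B`
  have hex : ∃ b ∈ B, b ∉ D := by
    have hzt : Nat.card (Subgroup.zpowers d) = t := by rw [Nat.card_zpowers, hd]
    have hne : Subgroup.zpowers d ≠ ⊤ := by
      intro htop
      rw [htop, Subgroup.card_top, hcard] at hzt
      omega
    obtain ⟨q, -, hq⟩ := SetLike.exists_of_lt (lt_top_iff_ne_top.mpr hne)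
    obtain ⟨b, rfl⟩ := QuotientGroup.mk_surjective q
    refine ⟨b.1, b.2, ?_⟩
    intro hbD
    obtain ⟨_, hb'⟩ := (hmemD _).mp hbD
    exact hq hb'
  obtain ⟨b, hbB, hbD⟩ := hex
  have hDcomm : IsMulCommutative D := hSN.comm_of_normalizer (hnorm hbB) hbD
  rw [Cfsg.Agent.Helper74.SNG.isMulCommutative_iff] at hDcomm
  -- an element `d₀ ∈ D \ P`
  obtain ⟨d₀, rfl⟩ := QuotientGroup.mk_surjective d
  have hd₀D : (d₀ : Γ) ∈ D := (hmemD _).mpr ⟨d₀.2, Subgroup.mem_zpowers _⟩
  have hd₀P : (d₀ : Γ) ∉ P := by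
    intro hmem
    have : (QuotientGroup.mk d₀ : ↥B ⧸ N) = 1 := by
      rw [QuotientGroup.eq_one_iff, hN, Subgroup.mem_subgroupOf]
      exact hmem
    rw [this, orderOf_one] at hd
    exact ht.one_lt.ne hd
  obtain ⟨u, hu, hu1⟩ : ∃ u ∈ P, u ≠ 1 := by
    obtain ⟨u, hu⟩ := (Subgroup.ne_bot_iff_exists_ne_one (H := P)).mp hP
    exact ⟨(u : Γ), u.2, fun h1 => hu (Subtype.ext h1)⟩
  exact hd₀P (h.key _ d₀.2 u hu hu1 (hDcomm _ hd₀D _ (hPD hu)))

end abstract


section concrete

open Cfsg.Agent.Helper75 Cfsg.Agent.Helper95.CT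

variable {F : Type*} [Field F] [Fintype F]

/-- `2 ^ n - 1` is odd -/
theorem not_two_dvd_two_pow_sub_one (n : ℕ) (hn : 1 ≤ n) : ¬ 2 ∣ 2 ^ n - 1 := by
  obtain ⟨k, rfl⟩ : ∃ k, n = k + 1 := ⟨n - 1, by omega⟩
  have h1 : 1 ≤ 2 ^ k := Nat.one_le_two_pow
  rw [pow_succ]
  omega

theorem gcd_two_two_pow_sub_one (n : ℕ) (hn : 1 ≤ n) : Nat.gcd 2 (2 ^ n - 1) = 1 :=
  (Nat.Prime.coprime_iff_not_dvd Nat.prime_two).mpr (not_two_dvd_two_pow_sub_one n hn)

/-- a field with `2 ^ n` elements, `n ≥ 1`, has characteristic `2` -/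
theorem charP_two_of_card (n : ℕ) (hn : 1 ≤ n) (hF : Fintype.card F = 2 ^ n) : CharP F 2 := by
  have h2 : (2 : F) = 0 := by
    have h1 := FiniteField.cast_card_eq_zero F
    rw [hF] at h1
    push_cast at h1
    exact pow_eq_zero_iff (by omega) |>.mp h1
  exact CharTwo.of_one_ne_zero_of_two_eq_zero one_ne_zero h2

/-- (KEY) the Borel data of `PSL₂(2ⁿ)`, `n ≥ 2` -/
theorem borelData_PSL2 (n : ℕ) (hn : 2 ≤ n) (hF : Fintype.card F = 2 ^ n)
    (P : Sylow 2 (Matrix.ProjectiveSpecialLinearGroup (Fin 2) F)) :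
    BorelData (P : Subgroup (Matrix.ProjectiveSpecialLinearGroup (Fin 2) F)) (2 ^ n - 1) ∧
      (P : Subgroup (Matrix.ProjectiveSpecialLinearGroup (Fin 2) F)) ≠ ⊥ := by
  classical
  have hchar : CharP F 2 := charP_two_of_card n (by omega) hF
  have hp2 : Fact (Nat.Prime 2) := ⟨Nat.prime_two⟩
  have h4 : 4 ≤ 2 ^ n := by
    calc 4 = 2 ^ 2 := by norm_num
      _ ≤ 2 ^ n := Nat.pow_le_pow_right (by norm_num) hn
  have hsimple : IsSimpleGroup (Matrix.ProjectiveSpecialLinearGroup (Fin 2) F) :=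
    Cfsg.Agent.Helper5.isSimpleGroup_PSL2_of_card (by rw [hF]; exact h4)
  have hgcd : Nat.gcd 2 (Fintype.card F - 1) = 1 := by
    rw [hF]; exact gcd_two_two_pow_sub_one n (by omega)
  -- orders
  have hΓ : Nat.card (Matrix.ProjectiveSpecialLinearGroup (Fin 2) F) =
      2 ^ n * ((2 ^ n - 1) * (2 ^ n + 1)) := by
    have := Cfsg.Agent.Helper46.Dk.card_PSL2_mul_gcd' (F := F)
    rw [hgcd, mul_one, hF, mul_assoc] at this
    exact this
  have hB : Nat.card ↥(Subgroup.normalizer
      ((P : Subgroup (Matrix.ProjectiveSpecialLinearGroup (Fin 2) F)) :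
        Set (Matrix.ProjectiveSpecialLinearGroup (Fin 2) F))) = 2 ^ n * (2 ^ n - 1) := by
    have := Cfsg.Agent.Helper46.Dk.card_normalizer_sylowP_mul 2 P
    rw [hgcd, mul_one, hF] at this
    exact this
  have hPc : Nat.card (P : Subgroup (Matrix.ProjectiveSpecialLinearGroup (Fin 2) F)) = 2 ^ n := by
    rw [Sylow.card_eq_multiplicity, hΓ]
    congr 1
    have hodd : ¬ 2 ∣ (2 ^ n - 1) * (2 ^ n + 1) := by
      rw [Nat.Prime.dvd_mul Nat.prime_two]
      rintro (h | h)
      · exact not_two_dvd_two_pow_sub_one n (by omega) h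
      · have h1 := not_two_dvd_two_pow_sub_one n (by omega)
        have h2 : 1 ≤ 2 ^ n := Nat.one_le_two_pow
        omega
    have hne : (2 ^ n - 1) * (2 ^ n + 1) ≠ 0 := by
      intro h0
      rw [h0] at hodd
      exact hodd (dvd_zero _)
    rw [Nat.factorization_mul (by positivity) hne, Finsupp.add_apply,
      Nat.Prime.factorization_pow Nat.prime_two, Finsupp.single_eq_same,
      Nat.factorization_eq_zero_of_not_dvd hodd, add_zero]
  have hPbot : (P : Subgroup (Matrix.ProjectiveSpecialLinearGroup (Fin 2) F)) ≠ ⊥ := by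
    intro hbot
    rw [hbot, Subgroup.card_bot] at hPc
    omega
  -- not commutative
  have hnc : ¬ ∀ a b : Matrix.ProjectiveSpecialLinearGroup (Fin 2) F, a * b = b * a := by
    intro hcomm
    have h1 := Cfsg.Agent.Helper46.Dk.index_normalizer_sylowP 2 P
    have h2 : Subgroup.normalizer
        ((P : Subgroup (Matrix.ProjectiveSpecialLinearGroup (Fin 2) F)) :
          Set (Matrix.ProjectiveSpecialLinearGroup (Fin 2) F)) = ⊤ := by
      rw [eq_top_iff]
      intro g _
      rw [Subgroup.mem_normalizer_iff]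
      intro x
      rw [hcomm g x, mul_inv_cancel_right]
    rw [h2, Subgroup.index_top] at h1
    omega
  -- CT, CA
  have hCT : ∀ a b c : Matrix.ProjectiveSpecialLinearGroup (Fin 2) F, b ≠ 1 →
      Commute a b → Commute b c → Commute a c := fun a b c hb hab hbc =>
    Cfsg.Agent.S4065.psl_ct a b c hb hab hbc
  have hCA : IsCA (Matrix.ProjectiveSpecialLinearGroup (Fin 2) F) := by
    intro x hx a ha b hb
    have h1 : Commute a x := Subgroup.mem_centralizer_singleton_iff.mp ha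
    have h2 : Commute x b := (Subgroup.mem_centralizer_singleton_iff.mp hb).symm
    exact hCT a x b hx h1 h2
  refine ⟨⟨?_, ?_, ?_, ?_⟩, hPbot⟩
  · -- key
    intro c hc u hu hu1 hcu
    -- an involution in `⟨u⟩`
    obtain ⟨k, hk⟩ := (IsPGroup.iff_orderOf.mp P.2) ⟨u, hu⟩
    have hou : orderOf u = 2 ^ k := by
      rw [← hk]
      exact (Subgroup.orderOf_mk u hu).symm
    have hk0 : k ≠ 0 := by
      intro h0
      rw [h0, pow_zero, orderOf_eq_one_iff] at hou
      exact hu1 hou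
    have h2dvd : 2 ∣ orderOf u := by
      rw [hou]
      exact dvd_pow_self 2 hk0
    have hou0 : orderOf u ≠ 0 := by rw [hou]; positivity
    have ht : orderOf (u ^ (orderOf u / 2)) = 2 := orderOf_pow_orderOf_div hou0 h2dvd
    let cd : CTData (Matrix.ProjectiveSpecialLinearGroup (Fin 2) F) :=
      ⟨hCA, hnc, u ^ (orderOf u / 2), ht⟩
    have hcA : c ∈ cd.A := by
      show c ∈ Subgroup.centralizer ({u ^ (orderOf u / 2)} : Set _)
      rw [Subgroup.mem_centralizer_singleton_iff]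
      have : Commute c u := hcu
      exact (this.pow_right _).eq
    have hc2 : c ^ 2 = 1 := cd.exponent_two c hcA
    have hZ : IsPGroup 2 (Subgroup.zpowers c) := by
      rintro ⟨g, hg⟩
      obtain ⟨j, rfl⟩ := Subgroup.mem_zpowers_iff.mp hg
      refine ⟨1, Subtype.ext ?_⟩
      show (c ^ j) ^ 2 ^ 1 = 1
      rw [pow_one, ← zpow_natCast, ← zpow_mul, mul_comm, zpow_mul, zpow_natCast, hc2, one_zpow]
    have hinf := hZ.inf_normalizer_sylow P
    have hmem : c ∈ Subgroup.zpowers c ⊓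
        (P : Subgroup (Matrix.ProjectiveSpecialLinearGroup (Fin 2) F)) := by
      rw [← hinf]
      exact Subgroup.mem_inf.mpr ⟨Subgroup.mem_zpowers c, hc⟩
    exact (Subgroup.mem_inf.mp hmem).2
  · -- comm
    intro a ha b hb
    exact Cfsg.Agent.Helper46.Dk.commutator_mem_sylowP 2 P ha hb
  · -- ab
    intro a ha b hb
    have hnt : Nontrivial ↥(P : Subgroup (Matrix.ProjectiveSpecialLinearGroup (Fin 2) F)) :=
      (Subgroup.nontrivial_iff_ne_bot _).mpr hPbot
    have hcen : Nontrivial (Subgroup.center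
        ↥(P : Subgroup (Matrix.ProjectiveSpecialLinearGroup (Fin 2) F))) :=
      IsPGroup.center_nontrivial P.2
    obtain ⟨z, hz⟩ := exists_ne (1 : Subgroup.center
        ↥(P : Subgroup (Matrix.ProjectiveSpecialLinearGroup (Fin 2) F)))
    have hz1 : ((z : ↥(P : Subgroup (Matrix.ProjectiveSpecialLinearGroup (Fin 2) F))) :
        Matrix.ProjectiveSpecialLinearGroup (Fin 2) F) ≠ 1 := by
      intro h1
      apply hz
      exact Subtype.ext (Subtype.ext h1)
    have hza : ∀ x (hx : x ∈ (P : Subgroup (Matrix.ProjectiveSpecialLinearGroup (Fin 2) F))),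
        x * ((z : ↥(P : Subgroup (Matrix.ProjectiveSpecialLinearGroup (Fin 2) F))) :
          Matrix.ProjectiveSpecialLinearGroup (Fin 2) F) =
        ((z : ↥(P : Subgroup (Matrix.ProjectiveSpecialLinearGroup (Fin 2) F))) :
          Matrix.ProjectiveSpecialLinearGroup (Fin 2) F) * x := by
      intro x hx
      have := Subgroup.mem_center_iff.mp z.2 ⟨x, hx⟩
      exact congrArg Subtype.val this
    exact (hCT a _ b hz1 (hza a ha) (hza b hb).symm).eq
  · -- card
    rw [hB, hPc]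

end concrete

end Cfsg.Agent.Helper37.SNG
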