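import Mathlib
import Cfsg.Agent.Helper37.SN_Key

/-!
# SN farm (helper74, S4073), piece (BOR): `NAN_borel` (helper37)
-/

set_option autoImplicit false
set_option linter.unusedSectionVars false
set_option linter.unusedVariables false
set_option linter.dupNamespace false

namespace Cfsg.Agent.Helper37.SNG

open Cfsg Cfsg.Agent.Helper74.SNG

universe u

/-- (D2) Subgroups of the Borel subgroup of `PSL_2(2^n)`, `2^n - 1` prime. -/
theorem NAN_borel {F : Type*} [Field F] [Fintype F] (n : ℕ) (hn : 2 ≤ n)
    (hF : Fintype.card F = 2 ^ n) (hp : (2 ^ n - 1).Prime)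
    (P : Sylow 2 (Matrix.ProjectiveSpecialLinearGroup (Fin 2) F))
    (K : Subgroup (Matrix.ProjectiveSpecialLinearGroup (Fin 2) F))
    (hK : K ≤ Subgroup.normalizer ((P : Subgroup (Matrix.ProjectiveSpecialLinearGroup (Fin 2) F)) :
      Set (Matrix.ProjectiveSpecialLinearGroup (Fin 2) F))) : NAN K :=
  (borelData_PSL2 n hn hF P).1.nan hp K hK

end Cfsg.Agent.Helper37.SNG
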