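import Mathlib
import Cfsg.Agent.Helper37.SN_Key

/-!
# SN farm (helper74, S4073), piece (PR): `prime_of_SN_PSL2` (helper37)
-/

set_option autoImplicit false
set_option linter.unusedSectionVars false
set_option linter.unusedVariables false
set_option linter.dupNamespace false

namespace Cfsg.Agent.Helper37.SNG

open Cfsg Cfsg.Agent.Helper74.SNG

universe u

/-- (PR) If `PSL_2(F)`, `|F| = 2^f`, `f ≥ 2`, is an SN-group then `2^f - 1` is prime. -/
theorem prime_of_SN_PSL2 {F : Type} [Field F] [Fintype F] (f : ℕ) (hf : 2 ≤ f)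
    (hF : Fintype.card F = 2 ^ f)
    (h : SN (Matrix.ProjectiveSpecialLinearGroup (Fin 2) F)) : (2 ^ f - 1).Prime := by
  have hp2 : Fact (Nat.Prime 2) := ⟨Nat.prime_two⟩
  obtain ⟨P⟩ : Nonempty (Sylow 2 (Matrix.ProjectiveSpecialLinearGroup (Fin 2) F)) := inferInstance
  obtain ⟨hbd, hbot⟩ := borelData_PSL2 f hf hF P
  refine hbd.prime_of_SN h hbot ?_
  have h4 : 4 ≤ 2 ^ f := by
    calc 4 = 2 ^ 2 := by norm_num
      _ ≤ 2 ^ f := Nat.pow_le_pow_right (by norm_num) hf
  omega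

end Cfsg.Agent.Helper37.SNG
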