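import Mathlib
import Cfsg.Agent.Helper73.SUR

/-!
# (W10a), (W10b) of helper6's S2347 project (Weil representation): irreducibility from the lower
bound, and transport to `Fin d → ℂ` (helper37)
-/

set_option autoImplicit false

namespace Cfsg.Agent.Helper37.SPweil

open Module
open scoped commutatorElement

/-- irreducibility is transported along an equivariant linear equivalence -/
theorem isIrreducible_of_equiv {G : Type*} [Group G] {M M' : Type*} [AddCommGroup M] [Module ℂ M]
    [AddCommGroup M'] [Module ℂ M'] (ρ : Representation ℂ G M) (ρ' : Representation ℂ G M')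
    (e : M ≃ₗ[ℂ] M') (he : ∀ g v, e (ρ g v) = ρ' g (e v)) (h : ρ.IsIrreducible) :
    ρ'.IsIrreducible := by
  have hnt : Nontrivial (Subrepresentation ρ') := by
    obtain ⟨a, b, hab⟩ := h.toNontrivial.exists_pair_ne
    -- `M` has a nonzero vector
    have hM : ∃ v : M, v ≠ 0 := by
      by_contra hcon
      push Not at hcon
      apply hab
      apply Subrepresentation.toSubmodule_injective
      ext v
      rw [hcon v]
      exact ⟨fun _ => zero_mem _, fun _ => zero_mem _⟩
    obtain ⟨v, hv⟩ := hM
    refine ⟨⊥, ⊤, ?_⟩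
    intro hbt
    have h2 : e v ∈ (⊤ : Subrepresentation ρ').toSubmodule := Submodule.mem_top
    rw [← hbt] at h2
    have h3 : e v = 0 := (Submodule.mem_bot ℂ).mp h2
    exact hv (e.map_eq_zero_iff.mp h3)
  refine { toNontrivial := hnt, eq_bot_or_eq_top := ?_ }
  intro τ'
  -- pull back
  let τ : Subrepresentation ρ :=
    { toSubmodule := τ'.toSubmodule.comap e.toLinearMap
      apply_mem_toSubmodule := by
        intro g v hv
        show e (ρ g v) ∈ τ'.toSubmodule
        rw [he]
        exact τ'.apply_mem_toSubmodule g hv }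
  rcases h.eq_bot_or_eq_top τ with hτ | hτ
  · left
    apply Subrepresentation.toSubmodule_injective
    show τ'.toSubmodule = ⊥
    rw [eq_bot_iff]
    intro w hw
    have h1 : e.symm w ∈ τ.toSubmodule := by
      show e (e.symm w) ∈ τ'.toSubmodule
      rw [e.apply_symm_apply]
      exact hw
    rw [hτ] at h1
    have h2 : e.symm w = 0 := (Submodule.mem_bot ℂ).mp h1
    rw [Submodule.mem_bot]
    exact e.symm.map_eq_zero_iff.mp h2
  · right
    apply Subrepresentation.toSubmodule_injective
    show τ'.toSubmodule = ⊤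
    rw [eq_top_iff]
    intro w _
    have h1 : e.symm w ∈ τ.toSubmodule := by
      rw [hτ]
      exact Submodule.mem_top
    have h2 : e (e.symm w) ∈ τ'.toSubmodule := h1
    rwa [e.apply_symm_apply] at h2

/-- (W10a) -/
theorem irreducible_of_forall_le {G : Type*} [Group G] [Finite G] (hG : commutator G = ⊤)
    {M : Type*} [AddCommGroup M] [Module ℂ M] [FiniteDimensional ℂ M]
    (ρ : Representation ℂ G M) (g₀ : G) (hg₀ : ρ g₀ ≠ 1)
    (LB : ∀ σ : Subrepresentation ρ, σ.toRepresentation.IsIrreducible →
      2 ≤ finrank ℂ σ.toSubmodule → finrank ℂ M ≤ finrank ℂ σ.toSubmodule) :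
    ρ.IsIrreducible := by
  obtain ⟨σ, hσirr, hσg⟩ := Cfsg.Agent.Helper73.SUrep.exists_irreducible_subrep_ne_one ρ g₀ hg₀
  have h2 : 2 ≤ finrank ℂ σ.toSubmodule := by
    by_contra hlt
    have hle : finrank ℂ σ.toSubmodule ≤ 1 := by omega
    obtain ⟨v, hv⟩ := finrank_le_one_iff.mp hle
    -- all endomorphisms commute
    have hcomm : ∀ a b : Module.End ℂ σ.toSubmodule, a * b = b * a := by
      intro a b
      obtain ⟨α, hα⟩ := hv (a v)
      obtain ⟨β, hβ⟩ := hv (b v)
      apply LinearMap.ext
      intro w
      obtain ⟨c, rfl⟩ := hv w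
      have e1 : a (b (c • v)) = (c * (β * α)) • v := by
        rw [map_smul b, ← hβ, map_smul a, map_smul a, ← hα, smul_smul, smul_smul, mul_assoc]
      have e2 : b (a (c • v)) = (c * (α * β)) • v := by
        rw [map_smul a, ← hα, map_smul b, map_smul b, ← hβ, smul_smul, smul_smul, mul_assoc]
      show a (b (c • v)) = b (a (c • v))
      rw [e1, e2, mul_comm β α]
    -- the kernel
    let K : Subgroup G :=
      { carrier := {g | σ.toRepresentation g = 1}
        one_mem' := map_one _
        mul_mem' := by
          intro a b ha hb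
          show σ.toRepresentation (a * b) = 1
          rw [map_mul, ha, hb, one_mul]
        inv_mem' := by
          intro a ha
          show σ.toRepresentation a⁻¹ = 1
          have h1 : σ.toRepresentation a⁻¹ * σ.toRepresentation a = 1 := by
            rw [← map_mul, inv_mul_cancel, map_one]
          rw [ha, mul_one] at h1
          exact h1 }
    have hK : commutator G ≤ K := by
      rw [commutator_eq_closure, Subgroup.closure_le]
      rintro x ⟨a, b, rfl⟩
      show σ.toRepresentation ⁅a, b⁆ = 1
      rw [commutatorElement_def, map_mul, map_mul, map_mul, hcomm (σ.toRepresentation a),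
        mul_assoc (σ.toRepresentation b), ← map_mul, mul_inv_cancel, map_one, mul_one, ← map_mul,
        mul_inv_cancel, map_one]
    apply hσg
    have : g₀ ∈ K := hK (by rw [hG]; exact Subgroup.mem_top _)
    exact this
  have h3 := LB σ hσirr h2
  have htop : σ.toSubmodule = ⊤ :=
    Submodule.eq_top_of_finrank_eq (le_antisymm (Submodule.finrank_le _) h3)
  exact isIrreducible_of_equiv σ.toRepresentation ρ (LinearEquiv.ofTop σ.toSubmodule htop)
    (fun g v => rfl) hσirr

/-- (W10b) -/
theorem exists_irreducible_fin {G : Type*} [Group G] {M : Type*} [AddCommGroup M] [Module ℂ M]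
    [FiniteDimensional ℂ M] (ρ : Representation ℂ G M) (h : ρ.IsIrreducible) (d : ℕ)
    (hd : finrank ℂ M = d) : ∃ ρ' : Representation ℂ G (Fin d → ℂ), ρ'.IsIrreducible := by
  have hfin : finrank ℂ M = finrank ℂ (Fin d → ℂ) := by
    rw [hd, Module.finrank_fin_fun]
  let e : M ≃ₗ[ℂ] (Fin d → ℂ) := LinearEquiv.ofFinrankEq M (Fin d → ℂ) hfin
  let ρ' : Representation ℂ G (Fin d → ℂ) :=
    { toFun := fun g => e.toLinearMap ∘ₗ ρ g ∘ₗ e.symm.toLinearMap
      map_one' := by
        ext w
        simp
      map_mul' := by
        intro a b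
        ext w
        simp }
  refine ⟨ρ', isIrreducible_of_equiv ρ ρ' e ?_ h⟩
  intro g v
  show e (ρ g v) = e (ρ g (e.symm (e v)))
  rw [e.symm_apply_apply]

end Cfsg.Agent.Helper37.SPweil
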