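import Mathlib
import Cfsg.Prelude.Def_Classical
import Cfsg.Agent.Helper37.SU3InvA

set_option autoImplicit false

namespace Cfsg.Agent.Helper37.SU3Inv

open Matrix Cfsg.Agent.Helper37.PSL3Inv

section conj

variable {F : Type*} [Field F] (bar : F →+* F)

/-- third standard basis vector -/
def e3 : Fin 3 → F := ![0, 0, 1]

lemma mulVec_e3 (Y : Matrix (Fin 3) (Fin 3) F) (i : Fin 3) : (Y *ᵥ e3) i = Y i 2 := by
  simp [Matrix.mulVec, dotProduct, Fin.sum_univ_three, e3]

lemma eq_blk_of_fix (Y : Matrix (Fin 3) (Fin 3) F) (hU : IsU bar Y) (hfix : Y *ᵥ e3 = e3) :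
    Y = blk !![Y 0 0, Y 0 1; Y 1 0, Y 1 1] 1 := by
  have c0 : Y 0 2 = 0 := by rw [← mulVec_e3 Y 0, hfix]; rfl
  have c1 : Y 1 2 = 0 := by rw [← mulVec_e3 Y 1, hfix]; rfl
  have c2 : Y 2 2 = 1 := by rw [← mulVec_e3 Y 2, hfix]; rfl
  have hinj : Function.Injective bar := bar.injective
  have r0 : Y 2 0 = 0 := by
    have := congrFun (congrFun hU 2) 0
    simp [Matrix.mul_apply, Fin.sum_univ_three, c0, c1, c2] at this
    exact this
  have r1 : Y 2 1 = 0 := by
    have := congrFun (congrFun hU 2) 1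
    simp [Matrix.mul_apply, Fin.sum_univ_three, c0, c1, c2] at this
    exact this
  ext i j
  fin_cases i <;> fin_cases j <;> simp [blk, c0, c1, c2, r0, r1]

lemma eq_Dm_of_fix (h2 : (2 : F) ≠ 0) (Y : Matrix (Fin 3) (Fin 3) F) (hU : IsU bar Y)
    (hfix : Y *ᵥ e3 = e3) (hYY : Y * Y = 1) (hdet : Y.det = 1) (hY1 : Y ≠ 1) : Y = Dm := by
  have hb := eq_blk_of_fix bar Y hU hfix
  set A : Matrix (Fin 2) (Fin 2) F := !![Y 0 0, Y 0 1; Y 1 0, Y 1 1] with hA
  have hAA : A * A = 1 := by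
    rw [hb, blk_mul, ← blk_one] at hYY
    exact (blk_inj hYY).1
  have hAdet : A.det = 1 := by
    rw [hb, det_blk, mul_one] at hdet
    exact hdet
  rcases two_by_two_inv h2 A hAA hAdet with h | h
  · exfalso
    apply hY1
    rw [hb, h, blk_one]
  · rw [hb, h]
    rfl

/-- column `j` of a matrix -/
def col (P : Matrix (Fin 3) (Fin 3) F) (j : Fin 3) : Fin 3 → F := fun i => P i j

lemma mulVec_col (X P : Matrix (Fin 3) (Fin 3) F) (j : Fin 3) :
    X *ᵥ col P j = col (X * P) j := by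
  ext i
  simp [col, Matrix.mulVec, dotProduct, Matrix.mul_apply]

lemma col_mul_Dm (P : Matrix (Fin 3) (Fin 3) F) :
    col (P * Dm) 0 = -col P 0 ∧ col (P * Dm) 1 = -col P 1 ∧ col (P * Dm) 2 = col P 2 := by
  rw [Dm_eq]
  refine ⟨?_, ?_, ?_⟩ <;> ext i <;> simp [col, Matrix.mul_diagonal]

open Cfsg.Agent.Helper45.GU in
lemma herm_neg_left (u v : Fin 3 → F) : herm bar (-u) v = -herm bar u v := by
  simp [herm, Finset.sum_neg_distrib]

open Cfsg.Agent.Helper45.GU in
/-- the fixed vector of a unitary involution is non-isotropic -/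
lemma herm_col_ne_zero (h2 : (2 : F) ≠ 0) (X : Matrix (Fin 3) (Fin 3) F) (hU : IsU bar X)
    (P : GL (Fin 3) F) (hP : X * P.1 = P.1 * Dm) :
    herm bar (col P.1 2) (col P.1 2) ≠ 0 := by
  obtain ⟨h0, h1, h2'⟩ := col_mul_Dm P.1
  have hX0 : X *ᵥ col P.1 0 = -col P.1 0 := by rw [mulVec_col, hP, h0]
  have hX1 : X *ᵥ col P.1 1 = -col P.1 1 := by rw [mulVec_col, hP, h1]
  have hX2 : X *ᵥ col P.1 2 = col P.1 2 := by rw [mulVec_col, hP, h2']
  have hUh := (isU_iff_herm bar X).1 hU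
  have z : ∀ x : F, x = -x → x = 0 := by
    intro x hx
    have : 2 * x = 0 := by linear_combination hx
    rcases mul_eq_zero.1 this with h | h
    · exact absurd h h2
    · exact h
  have o0 : herm bar (col P.1 0) (col P.1 2) = 0 := by
    apply z
    have := hUh (col P.1 0) (col P.1 2)
    rw [hX0, hX2, herm_neg_left] at this
    exact this.symm
  have o1 : herm bar (col P.1 1) (col P.1 2) = 0 := by
    apply z
    have := hUh (col P.1 1) (col P.1 2)
    rw [hX1, hX2, herm_neg_left] at this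
    exact this.symm
  intro o2
  -- then `Pᵀ *ᵥ (bar ∘ v) = 0`
  have hz : P.1ᵀ *ᵥ (bar ∘ col P.1 2) = 0 := by
    ext j
    have : (P.1ᵀ *ᵥ (bar ∘ col P.1 2)) j = herm bar (col P.1 j) (col P.1 2) := by
      simp [Matrix.mulVec, dotProduct, herm, col]
    rw [this]
    fin_cases j
    · exact o0
    · exact o1
    · exact o2
  have hz2 : (bar ∘ col P.1 2) = 0 := by
    have : ((P⁻¹ : GL (Fin 3) F).1ᵀ * P.1ᵀ) *ᵥ (bar ∘ col P.1 2) = 0 := by
      rw [← Matrix.mulVec_mulVec, hz, Matrix.mulVec_zero]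
    rw [← Matrix.transpose_mul, P_mul_inv, Matrix.transpose_one, Matrix.one_mulVec] at this
    exact this
  have hv : ∀ i, P.1 i 2 = 0 := by
    intro i
    have := congrFun hz2 i
    simp [col] at this
    exact this
  have h22 := congrFun (congrFun (P_inv_mul P) 2) 2
  simp [Matrix.mul_apply, hv] at h22

end conj

end Cfsg.Agent.Helper37.SU3Inv
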