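import Mathlib
import Cfsg.Prelude.Def_Classical
import Cfsg.Prelude.Def_CaseTheorems
import Cfsg.Agent.Helper37.SU3InvB
import Cfsg.Agent.Helper37.TwoRankSL
import Cfsg.Agent.Helper37.OddCard

set_option autoImplicit false

namespace Cfsg.Agent.Helper37.SU3Inv

open Matrix Cfsg.Agent.Helper37.PSL3Inv

section conj2

variable {F : Type*} [Field F] [Fintype F] {q : ℕ} (hF : Fintype.card F = q ^ 2)
  (bar : F →+* F) (hbar : ∀ x, bar x = x ^ q)

include hF hbar in
lemma exists_norm (N : F) (hN0 : N ≠ 0) (hNb : bar N = N) : ∃ c : F, c * bar c * N = 1 := by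
  classical
  have hmem : N⁻¹ ∈ Cfsg.Agent.Helper5.hermK F q := by
    unfold Cfsg.Agent.Helper5.hermK
    rw [Finset.mem_filter]
    refine ⟨Finset.mem_univ _, ?_⟩
    rw [inv_pow, ← hbar, hNb]
  have hcard := Cfsg.Agent.Helper5.card_norm_fiber hF hmem (inv_ne_zero hN0)
  have hpos : 0 < (Finset.univ.filter (fun x : F => x ^ (q + 1) = N⁻¹)).card := by
    rw [hcard]; omega
  obtain ⟨c, hc⟩ := Finset.card_pos.1 hpos
  rw [Finset.mem_filter] at hc
  refine ⟨c, ?_⟩
  rw [hbar, ← pow_succ', hc.2, inv_mul_cancel₀ hN0]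

include hF hbar in
open Cfsg.Agent.Helper45.GU in
lemma exists_conj_t0 (h2 : (2 : F) ≠ 0) (x : ↥(Cfsg.SU 3 F q)) (hx1 : x ≠ 1) (hx2 : x * x = 1) :
    ∃ k : ↥(Cfsg.SU 3 F q), k * t0 bar hbar * k⁻¹ = x := by
  classical
  have hbb : ∀ a, bar (bar a) = a := by
    intro a
    rw [hbar, hbar, ← pow_mul, ← sq, ← hF, FiniteField.pow_card]
  set X : Matrix (Fin 3) (Fin 3) F := (x.1).1 with hXdef
  have hXX : X * X = 1 := congrArg (fun y : ↥(Cfsg.SU 3 F q) => (y.1).1) hx2
  have hdet : X.det = 1 := (x.1).2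
  have hX1 : X ≠ 1 := fun h => hx1 (Subtype.ext (Subtype.ext h))
  have hXU : IsU bar X := (mem_SU_iff_isU bar hbar x.1).1 x.2
  obtain ⟨P, hP⟩ := exists_diag h2 X hXX hdet hX1
  rw [← Dm_eq] at hP
  have hN0 := herm_col_ne_zero bar h2 X hXU P hP
  set v := col P.1 2 with hv
  set N := herm bar v v with hN
  have hNb : bar N = N := by
    rw [hN]
    simp only [herm, map_sum, map_mul, hbb]
    apply Finset.sum_congr rfl
    intro i _
    ring
  obtain ⟨c, hc⟩ := exists_norm hF bar hbar N hN0 hNb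
  have hXv : X *ᵥ v = v := by
    rw [hv, mulVec_col, hP, (col_mul_Dm P.1).2.2]
  have hv'1 : herm bar (c • v) (c • v) = 1 := by
    rw [← hc, hN]
    simp only [herm, Pi.smul_apply, smul_eq_mul, map_mul, Finset.mul_sum]
    apply Finset.sum_congr rfl
    intro i _
    ring
  have hXv' : X *ᵥ (c • v) = c • v := by rw [Matrix.mulVec_smul, hXv]
  have h5 : ∀ u w : Fin 3 → F, Cfsg.Agent.Helper5.herm q u w = herm bar u w := by
    intro u w
    simp only [Cfsg.Agent.Helper5.herm, herm, hbar]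
  have he3 : Cfsg.Agent.Helper5.herm q (e3 : Fin 3 → F) e3 = 1 := by
    simp [Cfsg.Agent.Helper5.herm, e3, Fin.sum_univ_three]
  obtain ⟨g, hg, hge⟩ := Cfsg.Agent.Helper5.GUι_transitive hF (e3 : Fin 3 → F) (c • v) he3
    (by rw [h5]; exact hv'1)
  have hg' : g ∈ Cfsg.GU 3 F q := hg
  have hgU : IsU bar g.1 := (mem_GU_iff_isU bar hbar g).1 hg'
  have hgiU : IsU bar (g⁻¹ : GL (Fin 3) F).1 := (mem_GU_iff_isU bar hbar g⁻¹).1 (inv_mem hg')
  set Y : Matrix (Fin 3) (Fin 3) F := (g⁻¹ : GL (Fin 3) F).1 * X * g.1 with hY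
  have hYU : IsU bar Y := isU_mul bar (isU_mul bar hgiU hXU) hgU
  have hYfix : Y *ᵥ e3 = e3 := by
    rw [hY, ← Matrix.mulVec_mulVec, ← Matrix.mulVec_mulVec, hge, hXv', ← hge, Matrix.mulVec_mulVec,
      P_inv_mul, Matrix.one_mulVec]
  have hYY : Y * Y = 1 := by
    rw [hY]
    calc (g⁻¹ : GL (Fin 3) F).1 * X * g.1 * ((g⁻¹ : GL (Fin 3) F).1 * X * g.1)
        = (g⁻¹ : GL (Fin 3) F).1 * X * (g.1 * (g⁻¹ : GL (Fin 3) F).1) * X * g.1 := by
          simp only [Matrix.mul_assoc]
      _ = (g⁻¹ : GL (Fin 3) F).1 * (X * X) * g.1 := by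
          rw [P_mul_inv, Matrix.mul_one]; simp only [Matrix.mul_assoc]
      _ = 1 := by rw [hXX, Matrix.mul_one, P_inv_mul]
  have hYdet : Y.det = 1 := by
    rw [hY, Matrix.det_mul, Matrix.det_mul, mul_right_comm, ← Matrix.det_mul, P_inv_mul,
      Matrix.det_one, one_mul, hdet]
  have hgY : g.1 * Y = X * g.1 := by
    rw [hY]
    calc g.1 * ((g⁻¹ : GL (Fin 3) F).1 * X * g.1)
        = (g.1 * (g⁻¹ : GL (Fin 3) F).1) * X * g.1 := by simp only [Matrix.mul_assoc]
      _ = X * g.1 := by rw [P_mul_inv, Matrix.one_mul]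
  have hY1 : Y ≠ 1 := by
    intro h
    rw [h, Matrix.mul_one] at hgY
    apply hX1
    have : X * (g.1 * (g⁻¹ : GL (Fin 3) F).1) = g.1 * (g⁻¹ : GL (Fin 3) F).1 := by
      rw [← Matrix.mul_assoc, ← hgY]
    rw [P_mul_inv, Matrix.mul_one] at this
    exact this
  have hYD : Y = Dm := eq_Dm_of_fix bar h2 Y hYU hYfix hYY hYdet hY1
  rw [hYD] at hgY
  -- fix the determinant
  set δ := g.1.det with hδ
  have hδδ : δ * bar δ = 1 := isU_det bar hgU
  have hδ0 : δ ≠ 0 := left_ne_zero_of_mul_eq_one hδδ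
  set D₂ : Matrix (Fin 2) (Fin 2) F := !![δ⁻¹, 0; 0, 1] with hD₂
  have hD₂U : IsU bar D₂ := by
    unfold IsU
    have : δ⁻¹ * (bar δ)⁻¹ = 1 := by rw [← mul_inv, hδδ, inv_one]
    ext i j
    fin_cases i <;> fin_cases j <;> simp [hD₂, Matrix.mul_apply, Fin.sum_univ_two, this]
  have hdU : IsU bar (blk D₂ 1) := (isU_blk bar D₂ 1).2 ⟨hD₂U, by simp⟩
  set K : Matrix (Fin 3) (Fin 3) F := g.1 * blk D₂ 1 with hK
  have hKdet : K.det = 1 := by
    rw [hK, Matrix.det_mul, det_blk, Matrix.det_fin_two, ← hδ]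
    simp [hD₂]
    exact mul_inv_cancel₀ hδ0
  have hKU : IsU bar K := isU_mul bar hgU hdU
  let kS : Matrix.SpecialLinearGroup (Fin 3) F := ⟨K, hKdet⟩
  let k : ↥(Cfsg.SU 3 F q) := ⟨kS, (mem_SU_iff_isU bar hbar kS).2 hKU⟩
  refine ⟨k, ?_⟩
  have hkx : k * t0 bar hbar = x * k := by
    apply Subtype.ext
    apply Subtype.ext
    show K * Dm = X * K
    rw [hK, Matrix.mul_assoc, blk_comm_Dm, ← Matrix.mul_assoc, hgY, ← Matrix.mul_assoc]
  rw [hkx]
  group

end conj2

section prank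

variable {G : Type*} [Group G]

lemma eq_mul_of_prank [Finite G] (hr : Cfsg.PRankLE 2 2 G) (t x y : G) (ht : t * t = 1) (hx : x * x = 1)
    (hy : y * y = 1) (htx : Commute t x) (hty : Commute t y) (hxy : Commute x y)
    (ht1 : t ≠ 1) (hx1 : x ≠ 1) (hy1 : y ≠ 1) (hxt : x ≠ t) (hyt : y ≠ t) (hyx : y ≠ x) :
    y = t * x := by
  classical
  by_contra hne
  let k : Set G := {t, x, y}
  have hcomm : ∀ a ∈ k, ∀ b ∈ k, a * b = b * a := by
    intro a ha b hb
    simp only [k, Set.mem_insert_iff, Set.mem_singleton_iff] at ha hb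
    rcases ha with rfl | rfl | rfl <;> rcases hb with rfl | rfl | rfl
    · rfl
    · exact htx.eq
    · exact hty.eq
    · exact htx.eq.symm
    · rfl
    · exact hxy.eq
    · exact hty.eq.symm
    · exact hxy.eq.symm
    · rfl
  let A : Subgroup G := Subgroup.closure k
  have hAc : IsMulCommutative A := Subgroup.isMulCommutative_closure hcomm
  have hsq : ∀ a ∈ A, a ^ 2 = 1 := by
    intro a ha
    induction ha using Subgroup.closure_induction with
    | mem a ha =>
      simp only [k, Set.mem_insert_iff, Set.mem_singleton_iff] at ha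
      rcases ha with rfl | rfl | rfl <;> rw [pow_two] <;> assumption
    | one => simp
    | mul a b ha hb iha ihb =>
      have hab : a * b = b * a := by
        have := hAc.is_comm.comm (⟨a, ha⟩ : A) ⟨b, hb⟩
        exact congrArg Subtype.val this
      rw [pow_two] at *
      calc a * b * (a * b) = a * (b * a) * b := by group
        _ = a * (a * b) * b := by rw [hab]
        _ = (a * a) * (b * b) := by group
        _ = 1 := by rw [iha, ihb, one_mul]
    | inv a ha iha =>
      rw [inv_pow, iha, inv_one]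
  have hcard := hr A hAc hsq
  have htA : t ∈ A := Subgroup.subset_closure (by simp [k])
  have hxA : x ∈ A := Subgroup.subset_closure (by simp [k])
  have hyA : y ∈ A := Subgroup.subset_closure (by simp [k])
  let s : Finset G := {1, t, x, y, t * x}
  have hs : s.card = 5 := by
    have h1 : (1 : G) ∉ ({t, x, y, t * x} : Finset G) := by
      simp only [Finset.mem_insert, Finset.mem_singleton, not_or]
      refine ⟨fun h => ht1 h.symm, fun h => hx1 h.symm, fun h => hy1 h.symm, fun h => ?_⟩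
      apply hxt
      have : t * x = t * t := by rw [← h, ht]
      exact mul_left_cancel this
    have h2 : t ∉ ({x, y, t * x} : Finset G) := by
      simp only [Finset.mem_insert, Finset.mem_singleton, not_or]
      refine ⟨fun h => hxt h.symm, fun h => hyt h.symm, fun h => ?_⟩
      apply hx1
      have : t * 1 = t * x := by rw [mul_one]; exact h
      exact (mul_left_cancel this).symm
    have h3 : x ∉ ({y, t * x} : Finset G) := by
      simp only [Finset.mem_insert, Finset.mem_singleton, not_or]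
      refine ⟨fun h => hyx h.symm, fun h => ?_⟩
      apply ht1
      have : 1 * x = t * x := by rw [one_mul]; exact h
      exact (mul_right_cancel this).symm
    have h4 : y ∉ ({t * x} : Finset G) := by
      simp only [Finset.mem_singleton]
      exact hne
    show (insert 1 (insert t (insert x (insert y ({t * x} : Finset G))))).card = 5
    rw [Finset.card_insert_of_notMem h1, Finset.card_insert_of_notMem h2,
      Finset.card_insert_of_notMem h3, Finset.card_insert_of_notMem h4, Finset.card_singleton]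
  have hsub : (s : Set G) ⊆ (A : Set G) := by
    intro a ha
    simp only [s, Finset.coe_insert, Finset.coe_singleton, Set.mem_insert_iff,
      Set.mem_singleton_iff] at ha
    rcases ha with rfl | rfl | rfl | rfl | rfl
    · exact A.one_mem
    · exact htA
    · exact hxA
    · exact hyA
    · exact A.mul_mem htA hxA
  have hfin : (A : Set G).Finite := Set.toFinite _
  have h5 : 5 ≤ Nat.card A := by
    have e1 : Nat.card A = (A : Set G).ncard := Nat.card_coe_set_eq (A : Set G)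
    rw [e1, ← hs, ← Set.ncard_coe_finset s]
    exact Set.ncard_le_ncard hsub hfin
  norm_num at hcard
  omega

end prank

section final

variable {F : Type*} [Field F] [Fintype F] {q : ℕ}

theorem su3_involutions (hq : Odd q) (hF : Fintype.card F = q ^ 2) (t : ↥(Cfsg.SU 3 F q))
    (ht : t ≠ 1) (ht2 : t * t = 1) :
    (∀ x : ↥(Cfsg.SU 3 F q), x ≠ 1 → x * x = 1 → ∃ g : ↥(Cfsg.SU 3 F q), g * t * g⁻¹ = x) ∧
    Nat.card {x : ↥(Cfsg.SU 3 F q) // x ≠ 1 ∧ x * x = 1} = q ^ 2 * (q ^ 2 - q + 1) ∧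
    Nat.card ↥(Subgroup.centralizer ({t} : Set ↥(Cfsg.SU 3 F q))) = q * (q + 1) * (q ^ 2 - 1) ∧
    ∀ x : ↥(Cfsg.SU 3 F q), x ≠ 1 → x * x = 1 → x ≠ t → Commute t x →
      Nat.card {y : ↥(Cfsg.SU 3 F q) // y ≠ 1 ∧ y * y = 1 ∧ y ≠ t ∧ y ≠ x ∧ Commute t y ∧
        Commute x y} = 1 := by
  classical
  obtain ⟨bar, hbar⟩ := Cfsg.Agent.Helper45.GU.exists_bar hF
  have hcardodd : Odd (Fintype.card F) := by rw [hF]; exact hq.pow
  have h2 : (2 : F) ≠ 0 := two_ne_zero_of_odd_card hcardodd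
  -- conjugacy
  have hconj : ∀ s : ↥(Cfsg.SU 3 F q), s ≠ 1 → s * s = 1 → ∀ x : ↥(Cfsg.SU 3 F q), x ≠ 1 →
      x * x = 1 → ∃ g : ↥(Cfsg.SU 3 F q), g * s * g⁻¹ = x := by
    intro s hs hs2 x hx hx2
    obtain ⟨k₁, hk₁⟩ := exists_conj_t0 hF bar hbar h2 s hs hs2
    obtain ⟨k₂, hk₂⟩ := exists_conj_t0 hF bar hbar h2 x hx hx2
    refine ⟨k₂ * k₁⁻¹, ?_⟩
    rw [← hk₁, ← hk₂]
    group
  -- the class of an involution is the set of involutions
  have hclass : ∀ s : ↥(Cfsg.SU 3 F q), s ≠ 1 → s * s = 1 →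
      Nat.card {x : ↥(Cfsg.SU 3 F q) // IsConj s x} =
        Nat.card {x : ↥(Cfsg.SU 3 F q) // x ≠ 1 ∧ x * x = 1} := by
    intro s hs hs2
    apply Nat.card_congr
    apply Equiv.subtypeEquivRight
    intro x
    constructor
    · intro h
      obtain ⟨c, hc⟩ := isConj_iff.1 h
      rw [← hc]
      constructor
      · intro h1
        apply hs
        have : s = c⁻¹ * (c * s * c⁻¹) * c := by group
        rw [this, h1]; group
      · have : c * s * c⁻¹ * (c * s * c⁻¹) = c * (s * s) * c⁻¹ := by group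
        rw [this, hs2]; group
    · rintro ⟨hx, hx2⟩
      obtain ⟨g, hg⟩ := hconj s hs hs2 x hx hx2
      exact isConj_iff.2 ⟨g, hg⟩
  have ht0 : (t0 bar hbar : ↥(Cfsg.SU 3 F q)) ≠ 1 := by
    intro h
    have h1 : ((t0 bar hbar : ↥(Cfsg.SU 3 F q)).1).1 0 0 = ((1 : ↥(Cfsg.SU 3 F q)).1).1 0 0 := by
      rw [h]
    rw [t0_val] at h1
    have h3 : (-1 : F) = 1 := by simpa [Dm, blk] using h1
    apply h2
    linear_combination -h3
  have ht02 : (t0 bar hbar : ↥(Cfsg.SU 3 F q)) * t0 bar hbar = 1 := by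
    apply Subtype.ext
    apply Subtype.ext
    show (Dm : Matrix (Fin 3) (Fin 3) F) * Dm = 1
    rw [Dm, blk_mul]
    simp [blk_one]
  have hI0 := card_conj_mul_card_centralizer (t0 bar hbar : ↥(Cfsg.SU 3 F q))
  rw [hclass _ ht0 ht02, card_centralizer_t0 bar hbar hF h2] at hI0
  have hIt := card_conj_mul_card_centralizer t
  rw [hclass _ ht ht2] at hIt
  have hSU := Cfsg.Agent.Helper45.GU.card_SU hF 3 (by norm_num)
  have hprod : (q + 1) * Nat.card (Cfsg.SU 3 F q) =
      q ^ 3 * ((q + 1) * (q ^ 2 - 1) * (q ^ 3 + 1)) := by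
    rw [hSU]
    simp [Finset.prod_range_succ]
  have hq1 : 1 ≤ q := hq.pos
  obtain ⟨m, rfl⟩ : ∃ m, q = m + 1 := ⟨q - 1, by omega⟩
  have e1 : (m + 1) ^ 2 - 1 = m * (m + 2) := by
    have : (m + 1) ^ 2 = m * (m + 2) + 1 := by ring
    omega
  have e2 : (m + 1) ^ 2 - (m + 1) + 1 = m ^ 2 + m + 1 := by
    have : (m + 1) ^ 2 = m ^ 2 + m + (m + 1) := by ring
    omega
  have hm0 : 0 < m := by
    rcases Nat.eq_zero_or_pos m with h | h
    · subst h
      have := Fintype.one_lt_card (α := F)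
      rw [hF] at this
      norm_num at this
    · exact h
  set I := Nat.card {x : ↥(Cfsg.SU 3 F (m + 1)) // x ≠ 1 ∧ x * x = 1} with hI
  have hIval : I = (m + 1) ^ 2 * (m ^ 2 + m + 1) := by
    rw [e1] at hI0 hprod
    rw [← hI0] at hprod
    have h3 : (m + 1 + 1) * (I * ((m + 1) * ((m + 1 + 1) * (m * (m + 2))))) =
        ((m + 1) * ((m + 1 + 1) * (m * (m + 2))) * (m + 1 + 1)) * I := by ring
    have h4 : (m + 1) ^ 3 * ((m + 1 + 1) * (m * (m + 2)) * ((m + 1) ^ 3 + 1)) =
        ((m + 1) * ((m + 1 + 1) * (m * (m + 2))) * (m + 1 + 1)) *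
          ((m + 1) ^ 2 * (m ^ 2 + m + 1)) := by ring
    rw [h3, h4] at hprod
    exact Nat.eq_of_mul_eq_mul_left (by positivity) hprod
  refine ⟨hconj t ht ht2, ?_, ?_, ?_⟩
  · rw [e2]; exact hIval
  · have hIpos : 0 < I := by rw [hIval]; positivity
    have : I * Nat.card ↥(Subgroup.centralizer ({t} : Set ↥(Cfsg.SU 3 F (m + 1)))) =
        I * ((m + 1) * ((m + 1 + 1) * ((m + 1) ^ 2 - 1))) := by rw [hIt, hI0]
    rw [Nat.eq_of_mul_eq_mul_left hIpos this]
    ring
  · intro x hx hx2 hxt htx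
    rw [Nat.card_eq_one_iff_unique]
    have htinv : t⁻¹ = t := inv_eq_of_mul_eq_one_right ht2
    constructor
    · constructor
      rintro ⟨y, hy1, hy2, hyt, hyx, hty, hxy⟩ ⟨y', hy1', hy2', hyt', hyx', hty', hxy'⟩
      apply Subtype.ext
      have hr : Cfsg.PRankLE 2 2 (Matrix.SpecialLinearGroup (Fin 3) F) := SL_upper h2 3 (by norm_num)
      have key : ∀ z : ↥(Cfsg.SU 3 F (m + 1)), z ≠ 1 → z * z = 1 → z ≠ t → z ≠ x → Commute t z →
          Commute x z → z = t * x := by
        intro z hz1 hz2 hzt hzx htz hxz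
        apply Subtype.ext
        have hv : ∀ a b : ↥(Cfsg.SU 3 F (m + 1)), a ≠ b → a.1 ≠ b.1 := fun a b h h' => h (Subtype.ext h')
        have hc : ∀ a b : ↥(Cfsg.SU 3 F (m + 1)), Commute a b → Commute a.1 b.1 := by
          intro a b h
          exact congrArg Subtype.val h.eq
        exact eq_mul_of_prank hr t.1 x.1 z.1 (congrArg Subtype.val ht2) (congrArg Subtype.val hx2)
          (congrArg Subtype.val hz2) (hc _ _ htx) (hc _ _ htz) (hc _ _ hxz) (hv _ _ ht) (hv _ _ hx)
          (hv _ _ hz1) (hv _ _ hxt) (hv _ _ hzt) (hv _ _ hzx)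
      exact (key y hy1 hy2 hyt hyx hty hxy).trans (key y' hy1' hy2' hyt' hyx' hty' hxy').symm
    · refine ⟨⟨t * x, ?_, ?_, ?_, ?_, ?_, ?_⟩⟩
      · intro h
        apply hxt
        have : t * x = t * t := by rw [h, ht2]
        exact mul_left_cancel this
      · have : t * x * (t * x) = t * (x * t) * x := by group
        rw [this, ← htx.eq]
        have : t * (t * x) * x = (t * t) * (x * x) := by group
        rw [this, ht2, hx2, one_mul]
      · intro h
        apply hx
        have : t * x = t * 1 := by rw [mul_one]; exact h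
        exact mul_left_cancel this
      · intro h
        apply ht
        have : t * x = 1 * x := by rw [one_mul]; exact h
        exact mul_right_cancel this
      · exact (Commute.refl t).mul_right htx
      · exact htx.symm.mul_right (Commute.refl x)

end final

end Cfsg.Agent.Helper37.SU3Inv
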