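-- (GEN-QD) of helper84's WANTED #4706/#4715 for S5319: for `q ≡ 1 mod 4` the subgroup of `GU₂(q)` generated by a
-- generator of the Sylow 2-subgroup of the nonsplit torus and `diag(1,-1)` is a Sylow 2-subgroup (helper37).
import Mathlib
import Cfsg.Agent.Helper84.SU3FDefs

set_option autoImplicit false

open Cfsg Cfsg.Agent.Helper37.GL2S2 Cfsg.Agent.Helper37.GU2S2 Cfsg.Agent.Helper37.SU3Inv
  Cfsg.Agent.Helper85 Cfsg.Agent.Helper84.SU3F

namespace Cfsg.Agent.Helper37.SU3F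

/-- `⟨x, y⟩` with `x` of order `2^n`, `y ∉ ⟨x⟩` an involution normalising `⟨x⟩`, in a group whose order has
2-part `2^(n+1)`, is a Sylow 2-subgroup. -/
lemma closure_pair_eq_sylow {G : Type*} [Group G] [Finite G] (x y : G) (n r m' : ℕ)
    (hx : orderOf x = 2 ^ n) (hy : orderOf y = 2) (hr : y * x * y⁻¹ = x ^ r)
    (hyx : y ∉ Subgroup.zpowers x) (hm' : ¬ 2 ∣ m') (hcard : Nat.card G = 2 ^ (n + 1) * m') :
    ∃ P : Sylow 2 G, (P : Subgroup G) = Subgroup.closure {x, y} := by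
  have hH : IsPGroup 2 (Subgroup.closure {x, y}) := by
    have : Subgroup.closure {x, y} = Subgroup.zpowers y ⊔ Subgroup.zpowers x := by
      rw [Subgroup.zpowers_eq_closure, Subgroup.zpowers_eq_closure, ← Subgroup.closure_union]
      congr 1
      ext z
      simp [or_comm]
    rw [this]
    exact isPGroup_qd x y n r hx hy hr
  obtain ⟨P, hP⟩ := hH.exists_le_sylow
  have hcP : Nat.card P = 2 ^ (n + 1) := card_sylow_of_card_eq P (n + 1) m' hcard hm'
  refine ⟨P, (Subgroup.eq_of_le_of_card_ge hP ?_).symm⟩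
  have hxH : Subgroup.zpowers x ≤ Subgroup.closure {x, y} := by
    rw [Subgroup.zpowers_le]
    exact Subgroup.subset_closure (by simp)
  have hyH : y ∈ Subgroup.closure {x, y} := Subgroup.subset_closure (by simp)
  obtain ⟨c, hc⟩ := Subgroup.card_dvd_of_le hxH
  rw [Nat.card_zpowers, hx] at hc
  have hpos : 0 < 2 ^ n := pow_pos (by norm_num) n
  have hc2 : 2 ≤ c := by
    by_contra hlt
    have h01 : c = 0 ∨ c = 1 := by omega
    rcases h01 with rfl | rfl
    · have := Nat.card_pos (α := Subgroup.closure {x, y})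
      omega
    · have : Subgroup.zpowers x = Subgroup.closure {x, y} :=
        Subgroup.eq_of_le_of_card_ge hxH (by rw [hc, Nat.card_zpowers, hx, mul_one])
      exact hyx (this ▸ hyH)
  have hcP' : Nat.card (P : Subgroup G) = 2 ^ (n + 1) := hcP
  rw [hcP', hc, pow_succ]
  exact Nat.mul_le_mul_left _ hc2

variable {F : Type*} [Field F] {q : ℕ} (bar : F →+* F) (hbar : ∀ x, bar x = x ^ q)

theorem exists_sylow_qd [Fintype F] (hF : Fintype.card F = q ^ 2) (h1 : q % 4 = 1) (h2 : (2 : F) ≠ 0)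
    (hq : Odd q) :
    ∃ (n : ℕ) (l : Fˣ) (i : F) (hi : i * i = -1) (hbi : bar i = i) (hl : (l ^ q) ^ q = l)
      (P : Sylow 2 ↥(Cfsg.GU 2 F q)),
      1 ≤ n ∧ (l : F) ^ 2 ^ n = i ∧ (l : F) ^ q = -(l : F) ∧
      (P : Subgroup ↥(Cfsg.GU 2 F q)) =
        Subgroup.closure {tqU bar hbar i hi h2 hbi l hl, dm1U bar hbar hq} := by
  classical
  have hqq : ∀ x : F, (x ^ q) ^ q = x := by
    intro x
    rw [← pow_mul, ← sq, ← hF, FiniteField.pow_card]
  have hqqu : ∀ l : Fˣ, (l ^ q) ^ q = l := by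
    intro l
    apply Units.ext
    rw [Units.val_pow_eq_pow_val, Units.val_pow_eq_pow_val, hqq]
  have hq1 : 1 ≤ q := hq.pos
  obtain ⟨b, m, hm, hqb⟩ := Nat.exists_eq_two_pow_mul_odd (n := q - 1) (by
    intro h0
    have : q = 1 := by omega
    rw [this] at hF
    have := Fintype.one_lt_card (α := F)
    omega)
  obtain ⟨k, rfl⟩ := hm
  have hb : 2 ≤ b := by
    rcases b with _ | _ | b
    · simp at hqb; omega
    · simp at hqb; omega
    · omega
  obtain ⟨m', hm', hcard, hdvd⟩ := arith_one q b k hq1 hb hqb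
  rw [← card_GU2 hF] at hcard
  rw [← hF] at hdvd
  obtain ⟨l, hl⟩ := exists_orderOf_two_pow (F := F) (b + 1) hdvd
  obtain ⟨n, rfl⟩ : ∃ n, b = n + 1 := ⟨b - 1, by omega⟩
  have hn : 1 ≤ n := by omega
  -- `l ^ (2 ^ (n + 1)) = -1`
  have hlneg : (l : F) ^ 2 ^ (n + 1) = -1 := by
    have hsq : ((l : F) ^ 2 ^ (n + 1)) ^ 2 = 1 := by
      rw [← pow_mul, ← pow_succ, ← Units.val_pow_eq_pow_val, ← hl, pow_orderOf_eq_one, Units.val_one]
    have hne : (l : F) ^ 2 ^ (n + 1) ≠ 1 := by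
      intro h
      have h' : l ^ 2 ^ (n + 1) = 1 := Units.ext (by rw [Units.val_pow_eq_pow_val, h, Units.val_one])
      have hd := orderOf_dvd_of_pow_eq_one h'
      rw [hl] at hd
      have hle := Nat.le_of_dvd (pow_pos (by norm_num) _) hd
      have : 2 ^ (n + 1) < 2 ^ (n + 1 + 1) := Nat.pow_lt_pow_right (by norm_num) (by omega)
      omega
    have hfac : ((l : F) ^ 2 ^ (n + 1) - 1) * ((l : F) ^ 2 ^ (n + 1) + 1) = 0 := by
      linear_combination hsq
    rcases mul_eq_zero.1 hfac with h | h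
    · exact absurd (sub_eq_zero.1 h) hne
    · exact eq_neg_of_add_eq_zero_left h
  set i : F := (l : F) ^ 2 ^ n with hidef
  have hi : i * i = -1 := by
    rw [hidef, ← pow_add, ← two_mul, ← pow_succ']
    exact hlneg
  have hbi : bar i = i := by
    rw [hbar]
    obtain ⟨t, ht⟩ : ∃ t, q = 4 * t + 1 := ⟨q / 4, by omega⟩
    have : i ^ 4 = 1 := by
      have : i ^ 4 = (i * i) * (i * i) := by ring
      rw [this, hi]; ring
    rw [ht, pow_succ, pow_mul, this, one_pow, one_mul]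
  have hlq : (l : F) ^ q = -(l : F) := by
    have hq' : q = (q - 1) + 1 := by omega
    rw [hq', pow_succ, hqb, pow_mul, hlneg, Odd.neg_one_pow ⟨k, rfl⟩, neg_one_mul]
  -- the generators
  set x : ↥(Cfsg.GU 2 F q) := tqU bar hbar i hi h2 hbi l (hqqu l) with hxdef
  set y : ↥(Cfsg.GU 2 F q) := dm1U bar hbar hq with hydef
  have hxv : (x : GL (Fin 2) F) = tq i hi h2 q l := rfl
  have hyv : (y : GL (Fin 2) F) = dm1 := rfl
  have hx : orderOf x = 2 ^ (n + 1 + 1) := by
    rw [← Subgroup.orderOf_coe, hxv, orderOf_injective _ (tq_injective i hi h2 q), hl]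
  have hy1 : (dm1 : GL (Fin 2) F) ≠ 1 := by
    intro h
    rw [dm1, ← dg_one] at h
    have h3 := (dg_injective h).2
    have h4 : ((-1 : Fˣ) : F) = 1 := by rw [h3]; rfl
    have h5 : (2 : F) = 0 := by
      have : (-1 : F) = 1 := by simpa using h4
      linear_combination -this
    exact h2 h5
  have hyy : (dm1 : GL (Fin 2) F) * dm1 = 1 := by
    rw [dm1, dg_mul, one_mul, neg_mul_neg, one_mul, dg_one]
  have hy : orderOf y = 2 := by
    rw [← Subgroup.orderOf_coe, hyv]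
    exact orderOf_eq_prime (by rw [pow_two, hyy]) hy1
  have hconj : (dm1 : GL (Fin 2) F) * tq i hi h2 q l * dm1⁻¹ = (tq i hi h2 q l ^ q)⁻¹ :=
    dm1_conj_tq i hi h2 q l (hqqu l)
  have hxo : orderOf (tq i hi h2 q l) = 2 ^ (n + 1 + 1) := by
    rw [orderOf_injective _ (tq_injective i hi h2 q), hl]
  have hrel : y * x * y⁻¹ = x ^ (2 ^ (n + 1) - 1) := by
    apply Subtype.ext
    rw [Subgroup.coe_mul, Subgroup.coe_mul, Subgroup.coe_inv, Subgroup.coe_pow, hxv, hyv, hconj]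
    symm
    apply eq_inv_of_mul_eq_one_left
    rw [← pow_add]
    have h4 : 0 < 2 ^ (n + 1) := pow_pos (by norm_num) _
    have : 2 ^ (n + 1) - 1 + q = 2 ^ (n + 1 + 1) * (k + 1) := by
      have e1 : 2 ^ (n + 1) * (2 * k + 1) = 2 ^ (n + 1) * (2 * k) + 2 ^ (n + 1) := by ring
      have e2 : 2 ^ (n + 1 + 1) * (k + 1) = 2 ^ (n + 1) * (2 * k) + 2 * 2 ^ (n + 1) := by ring
      omega
    rw [this, pow_mul, ← hxo, pow_orderOf_eq_one, one_pow]
  have hyx : y ∉ Subgroup.zpowers x := by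
    intro hmem
    obtain ⟨j, hj⟩ := Subgroup.mem_zpowers_iff.1 hmem
    have hcomm : y * x * y⁻¹ = x := by
      rw [← hj, ← zpow_add_one, ← zpow_neg, ← zpow_add]
      simp
    have hc' : (dm1 : GL (Fin 2) F) * tq i hi h2 q l * dm1⁻¹ = tq i hi h2 q l := by
      have := congrArg (Subtype.val) hcomm
      rwa [Subgroup.coe_mul, Subgroup.coe_mul, Subgroup.coe_inv, hxv, hyv] at this
    rw [hconj] at hc'
    have hpow : tq i hi h2 q l ^ (q + 1) = 1 := by
      rw [pow_succ]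
      nth_rewrite 2 [← hc']
      exact mul_inv_cancel _
    have hd := orderOf_dvd_of_pow_eq_one hpow
    rw [hxo] at hd
    obtain ⟨t, ht⟩ := hd
    have e1 : 2 ^ (n + 1 + 1) * t = 8 * (2 ^ (n - 1) * t) := by
      obtain ⟨n', rfl⟩ : ∃ n', n = n' + 1 := ⟨n - 1, by omega⟩
      simp only [Nat.add_sub_cancel]
      ring
    have e2 : 2 ^ (n + 1) * (2 * k + 1) = 4 * (2 ^ (n - 1) * (2 * k + 1)) := by
      obtain ⟨n', rfl⟩ : ∃ n', n = n' + 1 := ⟨n - 1, by omega⟩
      simp only [Nat.add_sub_cancel]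
      ring
    omega
  obtain ⟨P, hP⟩ := closure_pair_eq_sylow x y (n + 1 + 1) (2 ^ (n + 1) - 1) m' hx hy hrel hyx hm'
    hcard
  exact ⟨n, l, i, hi, hbi, hqqu l, P, hn, rfl, hlq, hP⟩

end Cfsg.Agent.Helper37.SU3F
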