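import Mathlib
import Cfsg.Prelude.Def_Classical
import Cfsg.Agent.Helper37.SU3InvC

set_option autoImplicit false

/-!
# Rank-one reflections `2 w w^† / h(w,w) - 1` in `SU₃`
-/

namespace Cfsg.Agent.Helper37.SU3Graph

open Matrix Cfsg.Agent.Helper37.PSL3Inv Cfsg.Agent.Helper37.SU3Inv

section abstract

variable {F : Type*} [Field F] {n : Type*} [Fintype n] [DecidableEq n]

/-- the matrix `(2/m) u vᵀ - 1`, `m = v ⬝ u` -/
def refl (u v : n → F) : Matrix n n F := (2 * (v ⬝ᵥ u)⁻¹) • vecMulVec u v - 1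

lemma refl_mul_self (u v : n → F) (hm : v ⬝ᵥ u ≠ 0) : refl u v * refl u v = 1 := by
  unfold refl
  have hP : vecMulVec u v * vecMulVec u v = (v ⬝ᵥ u) • vecMulVec u v := by
    rw [vecMulVec_mul_vecMulVec, vecMulVec_smul]
  rw [sub_mul, mul_sub, mul_sub, one_mul, mul_one, mul_one, smul_mul_smul_comm, hP]
  ext i j
  simp only [Matrix.sub_apply, Matrix.smul_apply, smul_eq_mul]
  field_simp
  ring

lemma refl_comm (u v u' v' : n → F) (h1 : v ⬝ᵥ u' = 0) (h2 : v' ⬝ᵥ u = 0) :
    refl u v * refl u' v' = refl u' v' * refl u v := by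
  unfold refl
  have hP : vecMulVec u v * vecMulVec u' v' = 0 := by
    rw [vecMulVec_mul_vecMulVec, h1, zero_smul, vecMulVec_zero]
  have hP' : vecMulVec u' v' * vecMulVec u v = 0 := by
    rw [vecMulVec_mul_vecMulVec, h2, zero_smul, vecMulVec_zero]
  rw [sub_mul, mul_sub, mul_sub, one_mul, mul_one, mul_one, smul_mul_smul_comm, hP,
    sub_mul, mul_sub, mul_sub, one_mul, mul_one, mul_one, smul_mul_smul_comm, hP']
  simp only [smul_zero]
  abel

lemma refl_transpose (u v : n → F) : (refl u v)ᵀ = refl v u := by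
  unfold refl
  rw [transpose_sub, transpose_smul, transpose_vecMulVec, transpose_one, dotProduct_comm]

lemma refl_map (bar : F →+* F) (u v : n → F) :
    (refl u v).map bar = refl (bar ∘ u) (bar ∘ v) := by
  have hd : bar (v ⬝ᵥ u) = (bar ∘ v) ⬝ᵥ (bar ∘ u) := by
    simp only [dotProduct, map_sum, map_mul, Function.comp_apply]
  ext i j
  rw [Matrix.map_apply]
  unfold refl
  rw [Matrix.sub_apply, Matrix.sub_apply, Matrix.smul_apply, Matrix.smul_apply, vecMulVec_apply, vecMulVec_apply, ← hd]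
  simp only [smul_eq_mul, map_sub, map_mul, map_inv₀, Function.comp_apply, map_ofNat]
  congr 1
  rw [Matrix.one_apply]
  split_ifs <;> simp

lemma refl_smul (c : F) (hc : c ≠ 0) (d : F) (hd : d ≠ 0) (u v : n → F) :
    refl (c • u) (d • v) = refl u v := by
  unfold refl
  rw [vecMulVec_smul, smul_vecMulVec, smul_smul, smul_smul, dotProduct_smul, smul_dotProduct]
  congr 2
  simp only [smul_eq_mul]
  by_cases hm : v ⬝ᵥ u = 0
  · simp [hm]
  · field_simp

lemma det_refl (u v : n → F) (hm : v ⬝ᵥ u ≠ 0) :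
    (refl u v).det = (-1) ^ (Fintype.card n + 1) := by
  unfold refl
  have h1 : (2 * (v ⬝ᵥ u)⁻¹) • vecMulVec u v - 1 =
      -(1 + replicateCol Unit (-(2 * (v ⬝ᵥ u)⁻¹) • u) * replicateRow Unit v) := by
    rw [← vecMulVec_eq, smul_vecMulVec]
    simp only [neg_smul, neg_add_rev, neg_neg]
    abel
  rw [h1, det_neg, det_one_add_replicateCol_mul_replicateRow, dotProduct_smul, smul_eq_mul]
  have : (1 : F) + -(2 * (v ⬝ᵥ u)⁻¹) * (v ⬝ᵥ u) = -1 := by
    field_simp
    ring
  rw [this, pow_succ]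

end abstract

end Cfsg.Agent.Helper37.SU3Graph
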