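import Mathlib
import Cfsg.Prelude.Def_Classical
import Cfsg.Agent.Helper37.SU3GraphA

set_option autoImplicit false

/-!
# Reflections in `SU₃` : every involution is `2 w w^† / h(w,w) - 1`
-/

namespace Cfsg.Agent.Helper37.SU3Graph

open Matrix Cfsg.Agent.Helper37.PSL3Inv Cfsg.Agent.Helper37.SU3Inv

section su3

variable {F : Type*} [Field F] (bar : F →+* F)

/-- hermitian norm of a vector of `F³` -/
def nrm (w : Fin 3 → F) : F := (bar ∘ w) ⬝ᵥ w

lemma nrm_eq (w : Fin 3 → F) :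
    nrm bar w = bar (w 0) * w 0 + bar (w 1) * w 1 + bar (w 2) * w 2 := by
  simp [nrm, dotProduct, Fin.sum_univ_three]

/-- the reflection matrix attached to a non-isotropic vector -/
def Rm (w : Fin 3 → F) : Matrix (Fin 3) (Fin 3) F := refl w (bar ∘ w)

lemma Rm_apply (w : Fin 3 → F) (i j : Fin 3) :
    Rm bar w i j = 2 * (nrm bar w)⁻¹ * (w i * bar (w j)) - (1 : Matrix (Fin 3) (Fin 3) F) i j := by
  unfold Rm refl nrm
  rw [Matrix.sub_apply, Matrix.smul_apply, vecMulVec_apply, smul_eq_mul]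
  rfl

lemma Rm_mul_self (w : Fin 3 → F) (hm : nrm bar w ≠ 0) : Rm bar w * Rm bar w = 1 :=
  refl_mul_self _ _ hm

variable (hbb : ∀ a, bar (bar a) = a)

include hbb in
lemma bar_comp_bar (w : Fin 3 → F) : bar ∘ (bar ∘ w) = w := by
  ext i
  simp [hbb]

include hbb in
lemma isU_Rm (w : Fin 3 → F) (hm : nrm bar w ≠ 0) : IsU bar (Rm bar w) := by
  unfold IsU Rm
  rw [refl_transpose, refl_map, bar_comp_bar bar hbb]
  apply refl_mul_self
  rw [dotProduct_comm]
  exact hm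

lemma det_Rm (w : Fin 3 → F) (hm : nrm bar w ≠ 0) : (Rm bar w).det = 1 := by
  unfold Rm
  rw [det_refl _ _ hm]
  simp only [Fintype.card_fin]
  norm_num

lemma Rm_ne_one (h2 : (2 : F) ≠ 0) (w : Fin 3 → F) (hm : nrm bar w ≠ 0) : Rm bar w ≠ 1 := by
  intro h
  have e00 := congrFun (congrFun h 0) 0
  have e11 := congrFun (congrFun h 1) 1
  have e01 := congrFun (congrFun h 0) 1
  rw [Rm_apply] at e00 e11 e01
  simp only [Matrix.one_apply_eq, Matrix.one_apply_ne (show (0 : Fin 3) ≠ 1 by decide),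
    sub_zero] at e00 e11 e01
  have h00 : 2 * (nrm bar w)⁻¹ * (w 0 * bar (w 0)) = 2 := by linear_combination e00
  have h11 : 2 * (nrm bar w)⁻¹ * (w 1 * bar (w 1)) = 2 := by linear_combination e11
  have hw0 : w 0 ≠ 0 := by
    intro h0
    rw [h0, zero_mul, mul_zero] at h00
    exact h2 h00.symm
  have hw1 : bar (w 1) ≠ 0 := by
    intro h0
    rw [h0, mul_zero, mul_zero] at h11
    exact h2 h11.symm
  have hc : 2 * (nrm bar w)⁻¹ ≠ 0 := mul_ne_zero h2 (inv_ne_zero hm)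
  exact mul_ne_zero hc (mul_ne_zero hw0 hw1) e01

lemma Rm_smul (c : F) (hc : c ≠ 0) (w : Fin 3 → F) : Rm bar (c • w) = Rm bar w := by
  unfold Rm
  have : bar ∘ (c • w) = bar c • (bar ∘ w) := by
    ext i
    simp
  rw [this]
  exact refl_smul c hc (bar c) (by simpa using hc) _ _

lemma nrm_smul (c : F) (w : Fin 3 → F) : nrm bar (c • w) = bar c * c * nrm bar w := by
  rw [nrm_eq, nrm_eq]
  simp only [Pi.smul_apply, smul_eq_mul, map_mul]
  ring

lemma Rm_e3 : Rm bar (e3 : Fin 3 → F) = Dm := by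
  ext i j
  rw [Rm_apply, nrm_eq]
  fin_cases i <;> fin_cases j <;> simp [e3, Dm, blk] <;> norm_num

include hbb in
lemma Rm_comm (u w : Fin 3 → F) (h : (bar ∘ u) ⬝ᵥ w = 0) :
    Rm bar u * Rm bar w = Rm bar w * Rm bar u := by
  unfold Rm
  apply refl_comm _ _ _ _ h
  have : (bar ∘ w) ⬝ᵥ u = bar ((bar ∘ u) ⬝ᵥ w) := by
    simp only [dotProduct, map_sum, map_mul, Function.comp_apply, hbb]
    apply Finset.sum_congr rfl
    intro i _
    ring
  rw [this, h, map_zero]

/-- consequence of commutation of two reflections, entrywise -/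
lemma refl_comm_entry (h2 : (2 : F) ≠ 0) (u w : Fin 3 → F) (hu : nrm bar u ≠ 0)
    (hw : nrm bar w ≠ 0)
    (h : Rm bar u * Rm bar w = Rm bar w * Rm bar u) (i j : Fin 3) :
    ((bar ∘ u) ⬝ᵥ w) * (u i * bar (w j)) = ((bar ∘ w) ⬝ᵥ u) * (w i * bar (u j)) := by
  unfold Rm refl at h
  rw [sub_mul, mul_sub, mul_sub, one_mul, mul_one, mul_one, smul_mul_smul_comm,
    sub_mul, mul_sub, mul_sub, one_mul, mul_one, mul_one, smul_mul_smul_comm,
    vecMulVec_mul_vecMulVec, vecMulVec_mul_vecMulVec, vecMulVec_smul, vecMulVec_smul] at h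
  have hij := congrFun (congrFun h i) j
  simp only [Matrix.sub_apply, Matrix.smul_apply, vecMulVec_apply, smul_eq_mul,
    Function.comp_apply] at hij
  have hu' : (bar ∘ u) ⬝ᵥ u ≠ 0 := hu
  have hw' : (bar ∘ w) ⬝ᵥ w ≠ 0 := hw
  field_simp at hij
  have h4 : (4 : F) ≠ 0 := by
    have : (4 : F) = 2 * 2 := by norm_num
    rw [this]
    exact mul_ne_zero h2 h2
  have h5 : 4 * (((bar ∘ u) ⬝ᵥ w) * (u i * bar (w j)) - ((bar ∘ w) ⬝ᵥ u) * (w i * bar (u j))) = 0 := by
    linear_combination hij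
  rcases mul_eq_zero.1 h5 with h | h
  · exact absurd h h4
  · linear_combination h

end su3

end Cfsg.Agent.Helper37.SU3Graph
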