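import Mathlib
import Cfsg.Prelude.Def_Classical
import Cfsg.Agent.Helper37.SU3GraphB

set_option autoImplicit false

/-!
# Reflections as elements of `SU₃`, relation with the standard involution
-/

namespace Cfsg.Agent.Helper37.SU3Graph

open Matrix Cfsg.Agent.Helper37.PSL3Inv Cfsg.Agent.Helper37.SU3Inv

section grp

variable {F : Type*} [Field F] [Fintype F] {q : ℕ} (hF : Fintype.card F = q ^ 2)
  (bar : F →+* F) (hbar : ∀ x, bar x = x ^ q)

include hF hbar in
lemma bar_bar (a : F) : bar (bar a) = a := by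
  rw [hbar, hbar, ← pow_mul, ← sq, ← hF, FiniteField.pow_card]

/-- the reflection attached to a non-isotropic vector, as an element of `SU₃` -/
noncomputable def Rs (w : Fin 3 → F) (hm : nrm bar w ≠ 0) : ↥(Cfsg.SU 3 F q) :=
  ⟨⟨Rm bar w, det_Rm bar w hm⟩,
    (mem_SU_iff_isU bar hbar _).2 (isU_Rm bar (bar_bar hF bar hbar) w hm)⟩

lemma Rs_val (w : Fin 3 → F) (hm : nrm bar w ≠ 0) :
    ((Rs hF bar hbar w hm : ↥(Cfsg.SU 3 F q)).1).1 = Rm bar w := rfl

lemma su_ext {x y : ↥(Cfsg.SU 3 F q)} (h : (x.1).1 = (y.1).1) : x = y :=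
  Subtype.ext (Subtype.ext h)

lemma su_mul_val (x y : ↥(Cfsg.SU 3 F q)) : ((x * y).1).1 = (x.1).1 * (y.1).1 := rfl

lemma su_one_val : (((1 : ↥(Cfsg.SU 3 F q))).1).1 = (1 : Matrix (Fin 3) (Fin 3) F) := rfl

lemma Rs_mul_self (w : Fin 3 → F) (hm : nrm bar w ≠ 0) :
    Rs hF bar hbar w hm * Rs hF bar hbar w hm = 1 := by
  apply su_ext
  rw [su_mul_val, Rs_val, su_one_val]
  exact Rm_mul_self bar w hm

lemma Rs_ne_one (h2 : (2 : F) ≠ 0) (w : Fin 3 → F) (hm : nrm bar w ≠ 0) :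
    Rs hF bar hbar w hm ≠ 1 := by
  intro h
  apply Rm_ne_one bar h2 w hm
  rw [← Rs_val hF bar hbar w hm, h, su_one_val]

lemma Rs_congr {w w' : Fin 3 → F} (hm : nrm bar w ≠ 0) (hm' : nrm bar w' ≠ 0)
    (h : Rm bar w = Rm bar w') : Rs hF bar hbar w hm = Rs hF bar hbar w' hm' := by
  apply su_ext
  rw [Rs_val, Rs_val, h]

lemma nrm_e3 : nrm bar (e3 : Fin 3 → F) = 1 := by
  rw [nrm_eq]
  simp [e3]

lemma Rs_e3 (hm : nrm bar (e3 : Fin 3 → F) ≠ 0) : Rs hF bar hbar e3 hm = t0 bar hbar := by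
  apply su_ext
  rw [Rs_val, t0_val, Rm_e3]

lemma commute_Rs (u w : Fin 3 → F) (hu : nrm bar u ≠ 0) (hw : nrm bar w ≠ 0)
    (h : (bar ∘ u) ⬝ᵥ w = 0) : Commute (Rs hF bar hbar u hu) (Rs hF bar hbar w hw) := by
  apply su_ext
  rw [su_mul_val, su_mul_val, Rs_val, Rs_val]
  exact Rm_comm bar (bar_bar hF bar hbar) u w h

/-- every involution is a reflection -/
lemma exists_Rs (h2 : (2 : F) ≠ 0) (x : ↥(Cfsg.SU 3 F q)) (hx1 : x ≠ 1) (hx2 : x * x = 1) :
    ∃ (w : Fin 3 → F) (hm : nrm bar w ≠ 0), x = Rs hF bar hbar w hm := by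
  obtain ⟨k, hk⟩ := exists_conj_t0 hF bar hbar h2 x hx1 hx2
  set K : Matrix (Fin 3) (Fin 3) F := (k.1).1 with hK
  have hKU : IsU bar K := (mem_SU_iff_isU bar hbar k.1).1 k.2
  set w : Fin 3 → F := K *ᵥ e3 with hw
  have hwi : ∀ i, w i = K i 2 := fun i => mulVec_e3 K i
  have hrow : (bar ∘ w) ᵥ* K = e3 := by
    ext j
    have hj := congrFun (congrFun hKU j) 2
    simp only [Matrix.mul_apply, Fin.sum_univ_three, Matrix.transpose_apply, Matrix.map_apply] at hj
    simp only [vecMul, dotProduct, Fin.sum_univ_three, Function.comp_apply, hwi]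
    rw [mul_comm (bar (K 0 2)), mul_comm (bar (K 1 2)), mul_comm (bar (K 2 2)), hj]
    fin_cases j
    · show (1 : Matrix (Fin 3) (Fin 3) F) 0 2 = e3 0
      simp [e3]
    · show (1 : Matrix (Fin 3) (Fin 3) F) 1 2 = e3 1
      simp [e3]
    · show (1 : Matrix (Fin 3) (Fin 3) F) 2 2 = e3 2
      simp [e3]
  have hm1 : nrm bar w = 1 := by
    unfold nrm
    rw [hw, Matrix.dotProduct_mulVec, ← hw, hrow]
    simp [e3, dotProduct, Fin.sum_univ_three]
  have hm : nrm bar w ≠ 0 := by rw [hm1]; exact one_ne_zero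
  have hKD : K * Dm = (2 : F) • vecMulVec w e3 - K := by
    ext i j
    rw [Matrix.sub_apply, Matrix.smul_apply, vecMulVec_apply, hwi]
    fin_cases j <;> simp [Dm, blk, Matrix.mul_apply, Fin.sum_univ_three, e3]
    ring
  have key : Rm bar w * K = K * Dm := by
    have hm1' : (bar ∘ w) ⬝ᵥ w = 1 := hm1
    rw [hKD]
    unfold Rm refl
    rw [sub_mul, one_mul, smul_mul_assoc, vecMulVec_mul, hrow, hm1', inv_one, mul_one]
  refine ⟨w, hm, ?_⟩
  have hgrp : Rs hF bar hbar w hm * k = k * t0 bar hbar := by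
    apply su_ext
    rw [su_mul_val, su_mul_val, Rs_val, t0_val]
    exact key
  rw [← hk, ← hgrp]
  group

/-- if the last coordinate vanishes, the reflection commutes with `t0` -/
lemma commute_t0_of_last (w : Fin 3 → F) (hm : nrm bar w ≠ 0) (h : w 2 = 0) :
    Commute (t0 bar hbar) (Rs hF bar hbar w hm) := by
  have he : nrm bar (e3 : Fin 3 → F) ≠ 0 := by rw [nrm_e3]; exact one_ne_zero
  rw [← Rs_e3 hF bar hbar he]
  apply commute_Rs
  simp [e3, dotProduct, Fin.sum_univ_three, h]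

lemma Rs_eq_t0 (w : Fin 3 → F) (hm : nrm bar w ≠ 0) (h0 : w 0 = 0) (h1 : w 1 = 0) :
    Rs hF bar hbar w hm = t0 bar hbar := by
  have he : nrm bar (e3 : Fin 3 → F) ≠ 0 := by rw [nrm_e3]; exact one_ne_zero
  rw [← Rs_e3 hF bar hbar he]
  apply Rs_congr
  have hw2 : w 2 ≠ 0 := by
    intro h2
    apply hm
    rw [nrm_eq, h0, h1, h2]
    simp
  have : w = w 2 • (e3 : Fin 3 → F) := by
    ext i
    fin_cases i <;> simp [e3, h0, h1]
  rw [this, Rm_smul bar _ hw2]

/-- commutation with `t0` forces a zero pattern -/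
lemma last_of_commute_t0 (h2 : (2 : F) ≠ 0) (w : Fin 3 → F) (hm : nrm bar w ≠ 0)
    (h : Commute (t0 bar hbar) (Rs hF bar hbar w hm)) : w 2 = 0 ∨ (w 0 = 0 ∧ w 1 = 0) := by
  have hmat : Rm bar w * Dm = Dm * Rm bar w := by
    have := congrArg (fun y : ↥(Cfsg.SU 3 F q) => (y.1).1) h.eq
    simp only [su_mul_val, Rs_val, t0_val] at this
    exact this.symm
  have hb := eq_blk_of_comm h2 _ hmat
  have e02 : Rm bar w 0 2 = 0 := by rw [hb]; simp [blk]
  have e12 : Rm bar w 1 2 = 0 := by rw [hb]; simp [blk]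
  rw [Rm_apply, Matrix.one_apply_ne (by decide), sub_zero] at e02 e12
  have hc : 2 * (nrm bar w)⁻¹ ≠ 0 := mul_ne_zero h2 (inv_ne_zero hm)
  by_cases hw2 : w 2 = 0
  · left; exact hw2
  · right
    have hb2 : bar (w 2) ≠ 0 := by
      intro h0
      apply hw2
      have := bar_bar hF bar hbar (w 2)
      rw [h0, map_zero] at this
      exact this.symm
    constructor
    · rcases mul_eq_zero.1 e02 with h | h
      · exact absurd h hc
      · rcases mul_eq_zero.1 h with h | h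
        · exact h
        · exact absurd h hb2
    · rcases mul_eq_zero.1 e12 with h | h
      · exact absurd h hc
      · rcases mul_eq_zero.1 h with h | h
        · exact h
        · exact absurd h hb2

end grp

end Cfsg.Agent.Helper37.SU3Graph
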