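import Mathlib
import Cfsg.Prelude.Def_Classical
import Cfsg.Agent.Helper37.SU3GraphC

set_option autoImplicit false

/-!
# Affine parametrisation of the involutions of `SU₃` not commuting with `t0`
-/

namespace Cfsg.Agent.Helper37.SU3Graph

open Matrix Cfsg.Agent.Helper37.PSL3Inv Cfsg.Agent.Helper37.SU3Inv

section aff

variable {F : Type*} [Field F] [Fintype F] {q : ℕ} (hF : Fintype.card F = q ^ 2)
  (bar : F →+* F) (hbar : ∀ x, bar x = x ^ q)

/-- affine chart -/
def aff (a : Fin 2 → F) : Fin 3 → F := ![a 0, a 1, 1]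

/-- hermitian norm on `F²` -/
def hn (a : Fin 2 → F) : F := bar (a 0) * a 0 + bar (a 1) * a 1

lemma nrm_aff (a : Fin 2 → F) : nrm bar (aff a) = hn bar a + 1 := by
  rw [nrm_eq]
  simp [aff, hn]

/-- the involution with affine coordinate `a` -/
noncomputable def Psi (a : Fin 2 → F) (h : hn bar a + 1 ≠ 0) : ↥(Cfsg.SU 3 F q) :=
  Rs hF bar hbar (aff a) (by rw [nrm_aff]; exact h)

lemma Psi_ne_one (h2 : (2 : F) ≠ 0) (a : Fin 2 → F) (h : hn bar a + 1 ≠ 0) :
    Psi hF bar hbar a h ≠ 1 := Rs_ne_one hF bar hbar h2 _ _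

lemma Psi_mul_self (a : Fin 2 → F) (h : hn bar a + 1 ≠ 0) :
    Psi hF bar hbar a h * Psi hF bar hbar a h = 1 := Rs_mul_self hF bar hbar _ _

include hF hbar in
lemma eq_zero_of_bar_mul {x : F} (h : bar x * x = 0) : x = 0 := by
  rcases mul_eq_zero.1 h with h | h
  · have := bar_bar hF bar hbar x
    rw [h, map_zero] at this
    exact this.symm
  · exact h

lemma Psi_not_commute (h2 : (2 : F) ≠ 0) (a : Fin 2 → F) (h : hn bar a + 1 ≠ 0) (ha : a ≠ 0) :
    ¬ Commute (t0 bar hbar) (Psi hF bar hbar a h) := by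
  intro hc
  rcases last_of_commute_t0 hF bar hbar h2 _ _ hc with h3 | ⟨h0, h1⟩
  · simp [aff] at h3
  · apply ha
    ext i
    fin_cases i
    · simpa [aff] using h0
    · simpa [aff] using h1

lemma Psi_injective (h2 : (2 : F) ≠ 0) (a a' : Fin 2 → F) (h : hn bar a + 1 ≠ 0)
    (h' : hn bar a' + 1 ≠ 0) (he : Psi hF bar hbar a h = Psi hF bar hbar a' h') : a = a' := by
  have hmat : Rm bar (aff a) = Rm bar (aff a') := congrArg (fun y : ↥(Cfsg.SU 3 F q) => (y.1).1) he
  have e22 := congrFun (congrFun hmat 2) 2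
  have e02 := congrFun (congrFun hmat 0) 2
  have e12 := congrFun (congrFun hmat 1) 2
  rw [Rm_apply, Rm_apply, nrm_aff, nrm_aff] at e22 e02 e12
  simp only [aff, Matrix.cons_val_two, Matrix.cons_val_zero, Matrix.cons_val_one,
    Matrix.head_cons, Matrix.tail_cons, map_one, mul_one, Matrix.one_apply_eq,
    Matrix.one_apply_ne (show (0 : Fin 3) ≠ 2 by decide),
    Matrix.one_apply_ne (show (1 : Fin 3) ≠ 2 by decide), sub_zero] at e22 e02 e12
  have hm : (hn bar a + 1)⁻¹ = (hn bar a' + 1)⁻¹ := by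
    have : 2 * (hn bar a + 1)⁻¹ = 2 * (hn bar a' + 1)⁻¹ := by linear_combination e22
    exact mul_left_cancel₀ h2 this
  rw [← hm] at e02 e12
  have hc : 2 * (hn bar a + 1)⁻¹ ≠ 0 := mul_ne_zero h2 (inv_ne_zero h)
  ext i
  fin_cases i
  · exact mul_left_cancel₀ hc e02
  · exact mul_left_cancel₀ hc e12

lemma Psi_surj (h2 : (2 : F) ≠ 0) (x : ↥(Cfsg.SU 3 F q)) (hx1 : x ≠ 1) (hx2 : x * x = 1)
    (hnc : ¬ Commute (t0 bar hbar) x) :
    ∃ (a : Fin 2 → F) (h : hn bar a + 1 ≠ 0), a ≠ 0 ∧ x = Psi hF bar hbar a h := by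
  obtain ⟨w, hm, rfl⟩ := exists_Rs hF bar hbar h2 x hx1 hx2
  have hw2 : w 2 ≠ 0 := fun h => hnc (commute_t0_of_last hF bar hbar w hm h)
  have haff : aff ![w 0 / w 2, w 1 / w 2] = (w 2)⁻¹ • w := by
    ext i
    fin_cases i
    · simp [aff, div_eq_inv_mul]
    · simp [aff, div_eq_inv_mul]
    · simp [aff, hw2]
  have hc : (w 2)⁻¹ ≠ 0 := inv_ne_zero hw2
  have hbc : bar (w 2)⁻¹ ≠ 0 := by
    intro h0
    apply hc
    have := bar_bar hF bar hbar (w 2)⁻¹
    rw [h0, map_zero] at this
    exact this.symm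
  have hnorm : hn bar ![w 0 / w 2, w 1 / w 2] + 1 ≠ 0 := by
    rw [← nrm_aff, haff, nrm_smul]
    exact mul_ne_zero (mul_ne_zero hbc hc) hm
  refine ⟨![w 0 / w 2, w 1 / w 2], hnorm, ?_, ?_⟩
  · intro h0
    have h00 : w 0 / w 2 = 0 := by
      have := congrFun h0 0
      simpa using this
    have h01 : w 1 / w 2 = 0 := by
      have := congrFun h0 1
      simpa using this
    have hw0 : w 0 = 0 := by
      rcases div_eq_zero_iff.1 h00 with h | h
      · exact h
      · exact absurd h hw2
    have hw1 : w 1 = 0 := by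
      rcases div_eq_zero_iff.1 h01 with h | h
      · exact h
      · exact absurd h hw2
    apply hnc
    rw [Rs_eq_t0 hF bar hbar w hm hw0 hw1]
  · unfold Psi
    apply Rs_congr
    rw [haff, Rm_smul bar _ hc]

/-- existence of a common neighbour when the affine coordinate is non-isotropic -/
lemma exists_common (a : Fin 2 → F) (h : hn bar a + 1 ≠ 0) (hna : hn bar a ≠ 0) (h2 : (2 : F) ≠ 0) :
    ∃ y : ↥(Cfsg.SU 3 F q), y ≠ 1 ∧ y * y = 1 ∧ Commute (t0 bar hbar) y ∧
      Commute y (Psi hF bar hbar a h) := by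
  have hbb := bar_bar hF bar hbar
  have hu : nrm bar ![-bar (a 1), bar (a 0), 0] ≠ 0 := by
    rw [nrm_eq]
    simp only [Matrix.cons_val_zero, Matrix.cons_val_one, Matrix.cons_val_two, Matrix.head_cons,
      Matrix.tail_cons, map_neg, hbb, map_zero, mul_zero, add_zero]
    intro h0
    apply hna
    unfold hn
    linear_combination h0
  refine ⟨Rs hF bar hbar _ hu, Rs_ne_one hF bar hbar h2 _ _, Rs_mul_self hF bar hbar _ _,
    commute_t0_of_last hF bar hbar _ hu (by simp), ?_⟩
  unfold Psi
  apply commute_Rs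
  simp only [dotProduct, Fin.sum_univ_three, Function.comp_apply, aff, Matrix.cons_val_zero,
    Matrix.cons_val_one, Matrix.cons_val_two, Matrix.head_cons, Matrix.tail_cons, map_neg, hbb,
    map_zero, zero_mul, add_zero]
  ring

/-- a common neighbour forces the affine coordinate to be non-isotropic -/
lemma hn_ne_zero_of_common (h2 : (2 : F) ≠ 0) (a : Fin 2 → F) (h : hn bar a + 1 ≠ 0) (ha : a ≠ 0)
    (y : ↥(Cfsg.SU 3 F q)) (hy1 : y ≠ 1) (hy2 : y * y = 1) (hty : Commute (t0 bar hbar) y)
    (hyx : Commute y (Psi hF bar hbar a h)) : hn bar a ≠ 0 := by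
  have hbb := bar_bar hF bar hbar
  obtain ⟨u, hu, rfl⟩ := exists_Rs hF bar hbar h2 y hy1 hy2
  rcases last_of_commute_t0 hF bar hbar h2 u hu hty with hu2 | ⟨hu0, hu1⟩
  · -- the main case
    have hw : nrm bar (aff a) ≠ 0 := by rw [nrm_aff]; exact h
    have hmat : Rm bar u * Rm bar (aff a) = Rm bar (aff a) * Rm bar u := by
      have := congrArg (fun z : ↥(Cfsg.SU 3 F q) => (z.1).1) hyx.eq
      exact this
    have hent := fun i => refl_comm_entry bar h2 u (aff a) hu hw hmat i 2
    have hdot : (bar ∘ u) ⬝ᵥ aff a = bar (u 0) * a 0 + bar (u 1) * a 1 := by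
      simp [dotProduct, Fin.sum_univ_three, aff, hu2]
    have hd0 : bar (u 0) * a 0 + bar (u 1) * a 1 = 0 := by
      by_contra hne
      have hz : ∀ i, u i = 0 := by
        intro i
        have := hent i
        rw [hdot, hu2, map_zero, mul_zero, mul_zero] at this
        have h3 : (aff a) 2 = 1 := by simp [aff]
        rw [h3, map_one, mul_one] at this
        rcases mul_eq_zero.1 this with h | h
        · exact absurd h hne
        · exact h
      apply hu
      rw [nrm_eq, hz 0, hz 1, hz 2]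
      simp
    intro hn0
    unfold hn at hn0
    have hu' : bar (u 0) * u 0 + bar (u 1) * u 1 ≠ 0 := by
      have := hu
      rw [nrm_eq, hu2] at this
      simpa using this
    have E2 : u 0 * bar (a 0) + u 1 * bar (a 1) = 0 := by
      have := congrArg bar hd0
      simpa [hbb] using this
    have hDa0 : (u 0 * a 1 - u 1 * a 0) * bar (a 0) = 0 := by
      linear_combination a 1 * E2 - u 1 * hn0
    have hDa1 : (u 0 * a 1 - u 1 * a 0) * bar (a 1) = 0 := by
      linear_combination u 0 * hn0 - a 0 * E2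
    have hD : u 1 * a 0 - u 0 * a 1 = 0 := by
      by_contra hne
      have hne' : u 0 * a 1 - u 1 * a 0 ≠ 0 := by
        intro h0
        apply hne
        linear_combination -h0
      have hb0 : bar (a 0) = 0 := by
        rcases mul_eq_zero.1 hDa0 with h | h
        · exact absurd h hne'
        · exact h
      have hb1 : bar (a 1) = 0 := by
        rcases mul_eq_zero.1 hDa1 with h | h
        · exact absurd h hne'
        · exact h
      apply ha
      ext i
      fin_cases i
      · have := hbb (a 0)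
        rw [hb0, map_zero] at this
        exact this.symm
      · have := hbb (a 1)
        rw [hb1, map_zero] at this
        exact this.symm
    have hbD : bar (u 1) * bar (a 0) - bar (u 0) * bar (a 1) = 0 := by
      have := congrArg bar hD
      simpa using this
    have hkey : (bar (u 0) * u 0 + bar (u 1) * u 1) * (bar (a 0) * a 0) = 0 := by
      linear_combination (bar (u 0) * u 0) * hn0 + (bar (u 1) * bar (a 0)) * hD +
        (u 0 * a 1) * hbD
    have ha0 : a 0 = 0 := by
      rcases mul_eq_zero.1 hkey with h | h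
      · exact absurd h hu'
      · exact eq_zero_of_bar_mul hF bar hbar h
    have ha1 : a 1 = 0 := by
      rw [ha0, mul_zero, zero_add] at hn0
      exact eq_zero_of_bar_mul hF bar hbar hn0
    apply ha
    ext i
    fin_cases i
    · exact ha0
    · exact ha1
  · -- y = t0
    exfalso
    rw [Rs_eq_t0 hF bar hbar u hu hu0 hu1] at hyx
    exact Psi_not_commute hF bar hbar h2 a h ha hyx

end aff

end Cfsg.Agent.Helper37.SU3Graph
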