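import Mathlib
import Cfsg.Prelude.Def_Classical
import Cfsg.Agent.Helper37.SU3GraphD

set_option autoImplicit false

/-!
# Paths of length three and counting of affine coordinates
-/

namespace Cfsg.Agent.Helper37.SU3Graph

open Matrix Cfsg.Agent.Helper37.PSL3Inv Cfsg.Agent.Helper37.SU3Inv

section generic

lemma card_split {α : Type*} [Finite α] (P Q : α → Prop) :
    Nat.card {x // P x} = Nat.card {x // P x ∧ Q x} + Nat.card {x // P x ∧ ¬ Q x} := by
  classical
  haveI := Fintype.ofFinite α
  simp only [Nat.card_eq_fintype_card, Fintype.card_subtype]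
  rw [← Finset.filter_filter, ← Finset.filter_filter]
  exact (Finset.card_filter_add_card_filter_not _).symm

lemma card_split' {α : Type*} [Finite α] (Q : α → Prop) :
    Nat.card α = Nat.card {x // Q x} + Nat.card {x // ¬ Q x} := by
  classical
  haveI := Fintype.ofFinite α
  simp only [Nat.card_eq_fintype_card, Fintype.card_subtype]
  rw [← Finset.card_univ]
  exact (Finset.card_filter_add_card_filter_not _).symm

lemma card_eq_one_of_iff {α : Type*} (R : α → Prop) (c : α) (h : ∀ x, R x ↔ x = c) :
    Nat.card {x // R x} = 1 := by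
  rw [Nat.card_eq_one_iff_unique]
  refine ⟨⟨?_⟩, ⟨⟨c, (h c).2 rfl⟩⟩⟩
  rintro ⟨x, hx⟩ ⟨y, hy⟩
  apply Subtype.ext
  show x = y
  rw [(h x).1 hx, (h y).1 hy]

end generic

section path

variable {F : Type*} [Field F] [Fintype F] {q : ℕ} (hF : Fintype.card F = q ^ 2)
  (bar : F →+* F) (hbar : ∀ x, bar x = x ^ q)

lemma exists_path (h2 : (2 : F) ≠ 0) (a : Fin 2 → F) (h : hn bar a + 1 ≠ 0)
    (hn0 : hn bar a = 0) :
    ∃ y z : ↥(Cfsg.SU 3 F q), y ≠ 1 ∧ y * y = 1 ∧ z ≠ 1 ∧ z * z = 1 ∧
      Commute (t0 bar hbar) y ∧ Commute y z ∧ Commute z (Psi hF bar hbar a h) := by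
  have hbb := bar_bar hF bar hbar
  by_cases hc : 1 + bar (a 0) * a 0 = 0
  · -- second choice
    have h1 : bar (a 1) * a 1 = 1 := by
      unfold hn at hn0
      linear_combination hn0 - hc
    have hs : nrm bar ![0, 1, -bar (a 1)] ≠ 0 := by
      rw [nrm_eq]
      simp only [Matrix.cons_val_zero, Matrix.cons_val_one, Matrix.cons_val_two,
        Matrix.head_cons, Matrix.tail_cons, map_neg, hbb, map_zero, map_one, mul_zero, mul_one,
        zero_add]
      intro h0
      apply h2
      linear_combination h0 - h1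
    have he : nrm bar (![1, 0, 0] : Fin 3 → F) ≠ 0 := by
      rw [nrm_eq]
      simp
    refine ⟨Rs hF bar hbar _ he, Rs hF bar hbar _ hs, Rs_ne_one hF bar hbar h2 _ _,
      Rs_mul_self hF bar hbar _ _, Rs_ne_one hF bar hbar h2 _ _, Rs_mul_self hF bar hbar _ _,
      commute_t0_of_last hF bar hbar _ he (by simp), ?_, ?_⟩
    · apply commute_Rs
      simp [dotProduct, Fin.sum_univ_three]
    · unfold Psi
      apply commute_Rs
      simp only [dotProduct, Fin.sum_univ_three, Function.comp_apply, aff, Matrix.cons_val_zero,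
        Matrix.cons_val_one, Matrix.cons_val_two, Matrix.head_cons, Matrix.tail_cons, map_neg,
        hbb, map_zero, map_one, zero_mul, one_mul, mul_one, zero_add]
      ring
  · have hs : nrm bar ![1, 0, -bar (a 0)] ≠ 0 := by
      rw [nrm_eq]
      simp only [Matrix.cons_val_zero, Matrix.cons_val_one, Matrix.cons_val_two,
        Matrix.head_cons, Matrix.tail_cons, map_neg, hbb, map_zero, map_one, mul_zero, mul_one,
        add_zero]
      intro h0
      apply hc
      linear_combination h0
    have he : nrm bar (![0, 1, 0] : Fin 3 → F) ≠ 0 := by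
      rw [nrm_eq]
      simp
    refine ⟨Rs hF bar hbar _ he, Rs hF bar hbar _ hs, Rs_ne_one hF bar hbar h2 _ _,
      Rs_mul_self hF bar hbar _ _, Rs_ne_one hF bar hbar h2 _ _, Rs_mul_self hF bar hbar _ _,
      commute_t0_of_last hF bar hbar _ he (by simp), ?_, ?_⟩
    · apply commute_Rs
      simp [dotProduct, Fin.sum_univ_three]
    · unfold Psi
      apply commute_Rs
      simp only [dotProduct, Fin.sum_univ_three, Function.comp_apply, aff, Matrix.cons_val_zero,
        Matrix.cons_val_one, Matrix.cons_val_two, Matrix.head_cons, Matrix.tail_cons, map_neg,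
        hbb, map_zero, map_one, zero_mul, one_mul, mul_one, add_zero]
      ring

end path

section count

open Cfsg.Agent.Helper5

variable {F : Type*} [Field F] [Fintype F] {q : ℕ} (hF : Fintype.card F = q ^ 2)
  (bar : F →+* F) (hbar : ∀ x, bar x = x ^ q)

include hbar in
lemma hn_eq_sum (a : Fin 2 → F) : hn bar a = ∑ i, a i ^ (q + 1) := by
  unfold hn
  rw [Fin.sum_univ_two, hbar, hbar, pow_succ, pow_succ]

include hbar in
lemma card_hn_eq [DecidableEq F] (c : F) :
    Nat.card {a : Fin 2 → F // hn bar a = c} = hermCnt q 2 c := by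
  classical
  rw [Nat.card_eq_fintype_card, Fintype.card_subtype]
  unfold hermCnt
  congr 1
  ext v
  simp only [Finset.mem_filter, Finset.mem_univ, true_and]
  rw [hn_eq_sum bar hbar]

include hF in
lemma hermCnt_two_zero [DecidableEq F] : hermCnt q 2 (0 : F) + q = (q + 1) * q ^ 2 := by
  have h1 := hermCnt_rec hF 1 (zero_mem_hermK (F := F) hF)
  have h0 := hermCnt_rec hF 0 (zero_mem_hermK (F := F) hF)
  rw [hermCnt_zero_zero] at h0
  simp only [mul_zero, pow_zero, mul_one, zero_add] at h0
  have h10 : hermCnt q 1 (0 : F) = 1 := by omega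
  rw [h10] at h1
  simpa using h1

include hF in
lemma hermCnt_two_neg_one [DecidableEq F] :
    hermCnt q 2 (-1 : F) + q * (q + 1) = (q + 1) * q ^ 2 := by
  have hmem : (-1 : F) ∈ hermK F q := by
    have := sub_mem_hermK hF (zero_mem_hermK (F := F) hF) (one_mem_hermK (F := F) (q := q))
    simpa using this
  have h1 := hermCnt_rec hF 1 hmem
  have h0 := hermCnt_rec hF 0 hmem
  have h00 : hermCnt q 0 (-1 : F) = 0 := by
    unfold hermCnt
    simp
  rw [h00] at h0
  simp only [mul_zero, pow_zero, mul_one, zero_add, add_zero] at h0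
  rw [h0] at h1
  simpa using h1

end count

end Cfsg.Agent.Helper37.SU3Graph
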