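import Mathlib
import Cfsg.Prelude.Def_Classical
import Cfsg.Agent.Helper37.SU3GraphE

set_option autoImplicit false

/-!
# The commuting involution graph of `SU₃(q)`, `q` odd
-/

namespace Cfsg.Agent.Helper37.SU3Graph

open Matrix Cfsg.Agent.Helper37.PSL3Inv Cfsg.Agent.Helper37.SU3Inv

section transport

/-- the statement about the commuting involution graph around `t` -/
def Stmt {G : Type*} [Group G] (t : G) (n1 n2 n3 : ℕ) : Prop :=
  Nat.card {x : G // x ≠ 1 ∧ x * x = 1 ∧ x ≠ t ∧ Commute t x} = n1 ∧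
  Nat.card {x : G // x ≠ 1 ∧ x * x = 1 ∧ ¬ Commute t x ∧
      ∃ y : G, y ≠ 1 ∧ y * y = 1 ∧ Commute t y ∧ Commute y x} = n2 ∧
  Nat.card {x : G // x ≠ 1 ∧ x * x = 1 ∧ ¬ Commute t x ∧
      ∀ y : G, y ≠ 1 → y * y = 1 → ¬ (Commute t y ∧ Commute y x)} = n3 ∧
  ∀ x : G, x ≠ 1 → x * x = 1 →
    ∃ y z : G, y ≠ 1 ∧ y * y = 1 ∧ z ≠ 1 ∧ z * z = 1 ∧
      Commute t y ∧ Commute y z ∧ Commute z x

lemma stmt_conj {G : Type*} [Group G] (k t : G) (n1 n2 n3 : ℕ) (h : Stmt t n1 n2 n3) :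
    Stmt (k * t * k⁻¹) n1 n2 n3 := by
  let φ : G ≃* G := MulAut.conj k
  have hφt : φ t = k * t * k⁻¹ := rfl
  rw [← hφt]
  have ne1 : ∀ x, φ x ≠ 1 ↔ x ≠ 1 := fun x => by simp
  have sq : ∀ x, φ x * φ x = 1 ↔ x * x = 1 := fun x => by
    rw [← map_mul, EmbeddingLike.map_eq_one_iff]
  have net : ∀ x, φ x ≠ φ t ↔ x ≠ t := fun x => φ.injective.ne_iff
  have comm : ∀ x y, Commute (φ x) (φ y) ↔ Commute x y := fun x y =>
    ⟨fun hc => φ.injective (by rw [map_mul, map_mul]; exact hc.eq), fun hc => hc.map φ⟩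
  obtain ⟨h1, h2, h3, h4⟩ := h
  refine ⟨?_, ?_, ?_, ?_⟩
  · rw [← h1]
    symm
    apply Nat.card_congr
    apply Equiv.subtypeEquiv φ.toEquiv
    intro x
    show _ ↔ (φ x ≠ 1 ∧ φ x * φ x = 1 ∧ φ x ≠ φ t ∧ Commute (φ t) (φ x))
    rw [ne1, sq, net, comm]
  · rw [← h2]
    symm
    apply Nat.card_congr
    apply Equiv.subtypeEquiv φ.toEquiv
    intro x
    show _ ↔ (φ x ≠ 1 ∧ φ x * φ x = 1 ∧ ¬ Commute (φ t) (φ x) ∧
      ∃ y : G, y ≠ 1 ∧ y * y = 1 ∧ Commute (φ t) y ∧ Commute y (φ x))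
    rw [ne1, sq, comm]
    have hE : (∃ y : G, y ≠ 1 ∧ y * y = 1 ∧ Commute (φ t) y ∧ Commute y (φ x)) ↔
        (∃ y : G, y ≠ 1 ∧ y * y = 1 ∧ Commute t y ∧ Commute y x) := by
      constructor
      · rintro ⟨y', hy⟩
        obtain ⟨y, rfl⟩ := φ.surjective y'
        rw [ne1, sq, comm, comm] at hy
        exact ⟨y, hy⟩
      · rintro ⟨y, hy⟩
        refine ⟨φ y, ?_⟩
        rw [ne1, sq, comm, comm]
        exact hy
    rw [hE]
  · rw [← h3]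
    symm
    apply Nat.card_congr
    apply Equiv.subtypeEquiv φ.toEquiv
    intro x
    show _ ↔ (φ x ≠ 1 ∧ φ x * φ x = 1 ∧ ¬ Commute (φ t) (φ x) ∧
      ∀ y : G, y ≠ 1 → y * y = 1 → ¬ (Commute (φ t) y ∧ Commute y (φ x)))
    rw [ne1, sq, comm]
    have hA : (∀ y : G, y ≠ 1 → y * y = 1 → ¬ (Commute (φ t) y ∧ Commute y (φ x))) ↔
        (∀ y : G, y ≠ 1 → y * y = 1 → ¬ (Commute t y ∧ Commute y x)) := by
      constructor
      · intro hy y
        have := hy (φ y)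
        rw [ne1, sq, comm, comm] at this
        exact this
      · intro hy y'
        obtain ⟨y, rfl⟩ := φ.surjective y'
        rw [ne1, sq, comm, comm]
        exact hy y
    rw [hA]
  · intro x' hx1 hx2
    obtain ⟨x, rfl⟩ := φ.surjective x'
    rw [ne1] at hx1
    rw [sq] at hx2
    obtain ⟨y, z, hy1, hy2, hz1, hz2, c1, c2, c3⟩ := h4 x hx1 hx2
    refine ⟨φ y, φ z, ?_⟩
    rw [ne1, sq, ne1, sq, comm, comm, comm]
    exact ⟨hy1, hy2, hz1, hz2, c1, c2, c3⟩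

end transport

end Cfsg.Agent.Helper37.SU3Graph
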