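import Mathlib
import Cfsg.Prelude.Def_Classical
import Cfsg.Agent.Helper37.SU3GraphF

set_option autoImplicit false

/-!
# The commuting involution graph of `SU₃(q)`: the count around `t0` and the final statement
-/

namespace Cfsg.Agent.Helper37.SU3Graph

open Matrix Cfsg.Agent.Helper37.PSL3Inv Cfsg.Agent.Helper37.SU3Inv

section main

variable {F : Type*} [Field F] [Fintype F] {q : ℕ}

lemma hn_zero (bar : F →+* F) : hn bar (0 : Fin 2 → F) = 0 := by
  simp [hn]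

/-- counting of the affine coordinates -/
lemma card_coords [DecidableEq F] (hq : Odd q) (hF : Fintype.card F = q ^ 2) (bar : F →+* F)
    (hbar : ∀ x, bar x = x ^ q) :
    q ^ 4 = Cfsg.Agent.Helper5.hermCnt q 2 (0 : F) + (Cfsg.Agent.Helper5.hermCnt q 2 (-1 : F) +
        Nat.card {a : Fin 2 → F // ¬ hn bar a = 0 ∧ ¬ hn bar a + 1 = 0}) ∧
    Cfsg.Agent.Helper5.hermCnt q 2 (0 : F) =
        1 + Nat.card {a : Fin 2 → F // hn bar a = 0 ∧ ¬ a = 0} ∧
    q ^ 4 = Cfsg.Agent.Helper5.hermCnt q 2 (-1 : F) +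
        (1 + Nat.card {a : Fin 2 → F // ¬ hn bar a + 1 = 0 ∧ ¬ a = 0}) := by
  have hV : Nat.card (Fin 2 → F) = q ^ 4 := by
    rw [Nat.card_eq_fintype_card, Fintype.card_fun, Fintype.card_fin, hF, ← pow_mul]
  have hcardodd : Odd (Fintype.card F) := by rw [hF]; exact hq.pow
  have h2 : (2 : F) ≠ 0 := two_ne_zero_of_odd_card hcardodd
  have A0 := card_hn_eq bar hbar (0 : F)
  have Am := card_hn_eq bar hbar (-1 : F)
  have Am' : Nat.card {a : Fin 2 → F // hn bar a + 1 = 0} =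
      Cfsg.Agent.Helper5.hermCnt q 2 (-1 : F) := by
    rw [← Am]
    apply Nat.card_congr
    apply Equiv.subtypeEquivRight
    intro a
    constructor
    · intro h; linear_combination h
    · intro h; rw [h]; ring
  refine ⟨?_, ?_, ?_⟩
  · have S1 := card_split' (α := Fin 2 → F) (fun a => hn bar a = 0)
    have S2 := card_split (α := Fin 2 → F) (fun a => ¬ hn bar a = 0) (fun a => hn bar a + 1 = 0)
    have S2a : Nat.card {a : Fin 2 → F // ¬ hn bar a = 0 ∧ hn bar a + 1 = 0} =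
        Cfsg.Agent.Helper5.hermCnt q 2 (-1 : F) := by
      rw [← Am']
      apply Nat.card_congr
      apply Equiv.subtypeEquivRight
      intro a
      constructor
      · intro h; exact h.2
      · intro h
        refine ⟨?_, h⟩
        intro h0
        rw [h0, zero_add] at h
        exact one_ne_zero h
    rw [hV, A0, S2, S2a] at S1
    exact S1
  · have S3 := card_split (α := Fin 2 → F) (fun a => hn bar a = 0) (fun a => a = 0)
    have S3a : Nat.card {a : Fin 2 → F // hn bar a = 0 ∧ a = 0} = 1 := by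
      apply card_eq_one_of_iff _ (0 : Fin 2 → F)
      intro a
      constructor
      · intro h; exact h.2
      · intro h; rw [h]; exact ⟨hn_zero bar, rfl⟩
    rw [A0, S3a] at S3
    exact S3
  · have S4 := card_split' (α := Fin 2 → F) (fun a => hn bar a + 1 = 0)
    have S5 := card_split (α := Fin 2 → F) (fun a => ¬ hn bar a + 1 = 0) (fun a => a = 0)
    have S5a : Nat.card {a : Fin 2 → F // ¬ hn bar a + 1 = 0 ∧ a = 0} = 1 := by
      apply card_eq_one_of_iff _ (0 : Fin 2 → F)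
      intro a
      constructor
      · intro h; exact h.2
      · intro h
        rw [h]
        refine ⟨?_, rfl⟩
        rw [hn_zero, zero_add]
        exact one_ne_zero
    rw [hV, Am', S5, S5a] at S4
    exact S4

theorem graph_t0 (hq : Odd q) (hF : Fintype.card F = q ^ 2) (bar : F →+* F)
    (hbar : ∀ x, bar x = x ^ q) :
    Stmt (t0 bar hbar : ↥(Cfsg.SU 3 F q)) (q * (q - 1)) (q * (q - 2) * (q ^ 2 - 1))
      ((q + 1) * (q ^ 2 - 1)) := by
  classical
  have hcardodd : Odd (Fintype.card F) := by rw [hF]; exact hq.pow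
  have h2 : (2 : F) ≠ 0 := two_ne_zero_of_odd_card hcardodd
  have he : nrm bar (e3 : Fin 3 → F) ≠ 0 := by rw [nrm_e3]; exact one_ne_zero
  have ht1 : (t0 bar hbar : ↥(Cfsg.SU 3 F q)) ≠ 1 := by
    rw [← Rs_e3 hF bar hbar he]; exact Rs_ne_one hF bar hbar h2 _ _
  have ht2 : (t0 bar hbar : ↥(Cfsg.SU 3 F q)) * t0 bar hbar = 1 := by
    rw [← Rs_e3 hF bar hbar he]; exact Rs_mul_self hF bar hbar _ _
  -- the three bijections
  have hBnc : Nat.card {x : ↥(Cfsg.SU 3 F q) // (x ≠ 1 ∧ x * x = 1) ∧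
        ¬ Commute (t0 bar hbar) x} =
      Nat.card {a : Fin 2 → F // ¬ hn bar a + 1 = 0 ∧ ¬ a = 0} := by
    symm
    apply Nat.card_congr
    apply Equiv.ofBijective (fun a => ⟨Psi hF bar hbar a.1 a.2.1,
      ⟨Psi_ne_one hF bar hbar h2 _ _, Psi_mul_self hF bar hbar _ _⟩,
      Psi_not_commute hF bar hbar h2 _ _ a.2.2⟩)
    constructor
    · rintro ⟨a, ha⟩ ⟨a', ha'⟩ h
      apply Subtype.ext
      exact Psi_injective hF bar hbar h2 a a' ha.1 ha'.1 (congrArg Subtype.val h)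
    · rintro ⟨x, ⟨hx1, hx2⟩, hxc⟩
      obtain ⟨a, h, ha, rfl⟩ := Psi_surj hF bar hbar h2 x hx1 hx2 hxc
      exact ⟨⟨a, h, ha⟩, rfl⟩
  have hB2 : Nat.card {x : ↥(Cfsg.SU 3 F q) // x ≠ 1 ∧ x * x = 1 ∧
        ¬ Commute (t0 bar hbar) x ∧ ∃ y : ↥(Cfsg.SU 3 F q), y ≠ 1 ∧ y * y = 1 ∧
          Commute (t0 bar hbar) y ∧ Commute y x} =
      Nat.card {a : Fin 2 → F // ¬ hn bar a = 0 ∧ ¬ hn bar a + 1 = 0} := by
    symm
    apply Nat.card_congr
    have hne : ∀ a : Fin 2 → F, ¬ hn bar a = 0 → a ≠ 0 := by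
      intro a h h0
      apply h
      rw [h0, hn_zero]
    apply Equiv.ofBijective (fun a => ⟨Psi hF bar hbar a.1 a.2.2,
      Psi_ne_one hF bar hbar h2 _ _, Psi_mul_self hF bar hbar _ _,
      Psi_not_commute hF bar hbar h2 _ _ (hne a.1 a.2.1),
      exists_common hF bar hbar a.1 a.2.2 a.2.1 h2⟩)
    constructor
    · rintro ⟨a, ha⟩ ⟨a', ha'⟩ h
      apply Subtype.ext
      exact Psi_injective hF bar hbar h2 a a' ha.2 ha'.2 (congrArg Subtype.val h)
    · rintro ⟨x, hx1, hx2, hxc, y, hy1, hy2, hty, hyx⟩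
      obtain ⟨a, h, ha, rfl⟩ := Psi_surj hF bar hbar h2 x hx1 hx2 hxc
      have hna := hn_ne_zero_of_common hF bar hbar h2 a h ha y hy1 hy2 hty hyx
      exact ⟨⟨a, hna, h⟩, rfl⟩
  have hB3 : Nat.card {x : ↥(Cfsg.SU 3 F q) // x ≠ 1 ∧ x * x = 1 ∧
        ¬ Commute (t0 bar hbar) x ∧ ∀ y : ↥(Cfsg.SU 3 F q), y ≠ 1 → y * y = 1 →
          ¬ (Commute (t0 bar hbar) y ∧ Commute y x)} =
      Nat.card {a : Fin 2 → F // hn bar a = 0 ∧ ¬ a = 0} := by
    symm
    apply Nat.card_congr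
    have hone : ∀ a : Fin 2 → F, hn bar a = 0 → hn bar a + 1 ≠ 0 := by
      intro a h
      rw [h, zero_add]
      exact one_ne_zero
    apply Equiv.ofBijective (fun a => ⟨Psi hF bar hbar a.1 (hone a.1 a.2.1),
      Psi_ne_one hF bar hbar h2 _ _, Psi_mul_self hF bar hbar _ _,
      Psi_not_commute hF bar hbar h2 _ _ a.2.2,
      fun y hy1 hy2 hc => hn_ne_zero_of_common hF bar hbar h2 a.1 (hone a.1 a.2.1) a.2.2 y hy1 hy2
        hc.1 hc.2 a.2.1⟩)
    constructor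
    · rintro ⟨a, ha⟩ ⟨a', ha'⟩ h
      apply Subtype.ext
      exact Psi_injective hF bar hbar h2 a a' (hone a ha.1) (hone a' ha'.1) (congrArg Subtype.val h)
    · rintro ⟨x, hx1, hx2, hxc, hall⟩
      obtain ⟨a, h, ha, rfl⟩ := Psi_surj hF bar hbar h2 x hx1 hx2 hxc
      have hna : hn bar a = 0 := by
        by_contra hna
        obtain ⟨y, hy1, hy2, hty, hyx⟩ := exists_common hF bar hbar a h hna h2
        exact hall y hy1 hy2 ⟨hty, hyx⟩
      exact ⟨⟨a, hna, ha⟩, rfl⟩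
  -- involution count and its splitting
  have hI := (su3_involutions hq hF (t0 bar hbar) ht1 ht2).2.1
  have T1 := card_split (α := ↥(Cfsg.SU 3 F q)) (fun x => x ≠ 1 ∧ x * x = 1)
    (fun x => Commute (t0 bar hbar) x)
  have T2 := card_split (α := ↥(Cfsg.SU 3 F q))
    (fun x => (x ≠ 1 ∧ x * x = 1) ∧ Commute (t0 bar hbar) x) (fun x => x = t0 bar hbar)
  have T2a : Nat.card {x : ↥(Cfsg.SU 3 F q) // ((x ≠ 1 ∧ x * x = 1) ∧
      Commute (t0 bar hbar) x) ∧ x = t0 bar hbar} = 1 := by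
    apply card_eq_one_of_iff _ (t0 bar hbar)
    intro x
    constructor
    · intro h; exact h.2
    · intro h
      rw [h]
      exact ⟨⟨⟨ht1, ht2⟩, Commute.refl _⟩, rfl⟩
  have T2b : Nat.card {x : ↥(Cfsg.SU 3 F q) // ((x ≠ 1 ∧ x * x = 1) ∧
      Commute (t0 bar hbar) x) ∧ ¬ x = t0 bar hbar} =
      Nat.card {x : ↥(Cfsg.SU 3 F q) // x ≠ 1 ∧ x * x = 1 ∧ x ≠ t0 bar hbar ∧
        Commute (t0 bar hbar) x} := by
    apply Nat.card_congr
    apply Equiv.subtypeEquivRight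
    intro x
    tauto
  rw [T2, T2a, T2b, hBnc, hI] at T1
  -- numerics
  obtain ⟨C1, C2, C3⟩ := card_coords hq hF bar hbar
  have N0 := hermCnt_two_zero (F := F) hF
  have Nm := hermCnt_two_neg_one (F := F) hF
  have hq1 : 1 < q := Cfsg.Agent.Helper5.herm_q_pos hF
  obtain ⟨k, rfl⟩ : ∃ k, q = k + 3 := by
    obtain ⟨j, hj⟩ := hq
    exact ⟨q - 3, by omega⟩
  have e1 : k + 3 - 1 = k + 2 := by omega
  have e2 : k + 3 - 2 = k + 1 := by omega
  have e3' : (k + 3) ^ 2 - 1 = k ^ 2 + 6 * k + 8 := by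
    apply Nat.sub_eq_of_eq_add
    ring
  have e4 : (k + 3) ^ 2 - (k + 3) + 1 = k ^ 2 + 5 * k + 7 := by
    have : (k + 3) ^ 2 - (k + 3) = k ^ 2 + 5 * k + 6 := by
      apply Nat.sub_eq_of_eq_add
      ring
    rw [this]
  rw [e4] at T1
  refine ⟨?_, ?_, ?_, ?_⟩
  · rw [e1]
    linarith [T1, C1, C2, C3, N0, Nm]
  · rw [hB2, e2, e3']
    linarith [T1, C1, C2, C3, N0, Nm]
  · rw [hB3, e3']
    linarith [T1, C1, C2, C3, N0, Nm]
  · intro x hx1 hx2
    by_cases hc : Commute (t0 bar hbar) x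
    · exact ⟨x, x, hx1, hx2, hx1, hx2, hc, Commute.refl _, Commute.refl _⟩
    · obtain ⟨a, h, ha, rfl⟩ := Psi_surj hF bar hbar h2 x hx1 hx2 hc
      by_cases hna : hn bar a = 0
      · exact exists_path hF bar hbar h2 a h hna
      · obtain ⟨y, hy1, hy2, hty, hyx⟩ := exists_common hF bar hbar a h hna h2
        exact ⟨y, y, hy1, hy2, hy1, hy2, hty, Commute.refl _, hyx⟩

end main

end Cfsg.Agent.Helper37.SU3Graph
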