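import Mathlib
import Cfsg.Agent.Helper84.SU3P.Defs

/-!
(EL) `exists_eL` for helper84's S2289 farm #12539 (helper37): the embedding of `SL₂(K₀)` into the hyperbolic model of
`SU₃`, `[[a,b],[c,d]] ↦ [[a,0,b c₀],[0,1,0],[c/c₀,0,d]]` with `bar c₀ = -c₀`.
-/

set_option autoImplicit false

namespace Cfsg.Agent.Helper37.SU3P

open Matrix Polynomial Cfsg.Agent.Helper84.RU3 Cfsg.Agent.Helper84.SU3P Cfsg.Agent.Helper96.SLPres
  Cfsg.Agent.Helper96.StemSLTwo Cfsg.Agent.Helper96.StPres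

variable {K : Type*} [Field K] (bar : K →+* K)

theorem eLM_one_aux {K₀ : Type*} [Field K₀] (ι : K₀ →+* K) (c₀ : K) :
    eLM ι c₀ (1 : Matrix (Fin 2) (Fin 2) K₀) = 1 := by
  unfold eLM
  ext i j
  fin_cases i <;> fin_cases j <;> simp

theorem eLM_mul_aux {K₀ : Type*} [Field K₀] (ι : K₀ →+* K) {c₀ : K} (hc₀ : c₀ ≠ 0)
    (g h : Matrix (Fin 2) (Fin 2) K₀) : eLM ι c₀ (g * h) = eLM ι c₀ g * eLM ι c₀ h := by
  unfold eLM
  ext i j
  fin_cases i <;> fin_cases j <;>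
    simp [Matrix.mul_apply, Fin.sum_univ_two, Fin.sum_univ_three, map_add, map_mul] <;> field_simp

theorem det_eLM_aux {K₀ : Type*} [Field K₀] (ι : K₀ →+* K) {c₀ : K} (hc₀ : c₀ ≠ 0)
    (g : Matrix (Fin 2) (Fin 2) K₀) (hg : g.det = 1) : (eLM ι c₀ g).det = 1 := by
  rw [Matrix.det_fin_two] at hg
  have h1 : ι (g 0 0) * ι (g 1 1) - ι (g 0 1) * ι (g 1 0) = 1 := by
    rw [← map_mul, ← map_mul, ← map_sub, hg, map_one]
  unfold eLM
  rw [Matrix.det_fin_three]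
  simp
  field_simp
  linear_combination h1

theorem isUn_eLM_aux {K₀ : Type*} [Field K₀] (ι : K₀ →+* K) (hι : ∀ x : K₀, bar (ι x) = ι x)
    {c₀ : K} (hc₀ : c₀ ≠ 0) (hc₀b : bar c₀ = -c₀)
    (g : Matrix (Fin 2) (Fin 2) K₀) (hg : g.det = 1) : IsUn bar (eLM ι c₀ g) := by
  rw [Matrix.det_fin_two] at hg
  have h1 : ι (g 0 0) * ι (g 1 1) - ι (g 0 1) * ι (g 1 0) = 1 := by
    rw [← map_mul, ← map_mul, ← map_sub, hg, map_one]
  unfold IsUn eLM Jm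
  ext i j
  fin_cases i <;> fin_cases j <;>
    simp [Matrix.mul_apply, Fin.sum_univ_three, hι, hc₀b, map_mul, map_div₀] <;> field_simp <;>
    first | ring1 | linear_combination h1

/-- (EL) the embedding of `SL₂(K₀)` -/
theorem exists_eL (hb : ∀ x, bar (bar x) = x) {K₀ : Type*} [Field K₀] (ι : K₀ →+* K)
    (hι : ∀ x : K₀, bar (ι x) = ι x) {c₀ : K} (hc₀ : c₀ ≠ 0) (hc₀b : bar c₀ = -c₀) :
    ∃ eL : SL2 K₀ →* SUJ bar, ∀ g : SL2 K₀, mt bar (eL g) = eLM ι c₀ g.1 := by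
  have _ := hb
  refine ⟨{ toFun := fun g => mk bar (eLM ι c₀ g.1) (det_eLM_aux ι hc₀ g.1 g.2)
              (isUn_eLM_aux bar ι hι hc₀ hc₀b g.1 g.2)
            map_one' := ?_
            map_mul' := ?_ }, fun g => rfl⟩
  · apply ext_mt
    rw [mt_mk, mt_one]
    exact eLM_one_aux ι c₀
  · intro g h
    apply ext_mt
    rw [mt_mul, mt_mk, mt_mk, mt_mk]
    exact eLM_mul_aux ι hc₀ g.1 h.1

end Cfsg.Agent.Helper37.SU3P
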