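import Mathlib
import Cfsg.Agent.Helper84.SU3P.Defs

/-!
(FLD2) `exists_window` for helper84's S2289 farm #12729 (helper37): the data of the window relation
`θ^k = (θ + c)^3`, `θ = bar ζ ^ 2 / ζ = ζ^(2q-1)`.  Every cube `x^3`, `x ≠ 0`, is a power of `θ`
(`x^3 = bar l ^ 2 / l` for `l = x^(2q+1)`), and `θ ≠ 1` unless `q = 2`; so `c = -1` works.
-/

set_option autoImplicit false

namespace Cfsg.Agent.Helper37.SU3P

open Matrix Polynomial Cfsg.Agent.Helper84.RU3 Cfsg.Agent.Helper84.SU3P Cfsg.Agent.Helper96.SLPres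
  Cfsg.Agent.Helper96.StemSLTwo Cfsg.Agent.Helper96.StPres

variable {K : Type*} [Field K] [Fintype K] (bar : K →+* K)

/-- every cube is of the form `bar l ^ 2 / l` -/
theorem cube_eq_aux {q : ℕ} (hK : Fintype.card K = q ^ 2) (hq : ∀ x, bar x = x ^ q) (x : K) (hx : x ≠ 0) :
    bar (x ^ (2 * q + 1)) ^ 2 / x ^ (2 * q + 1) = x ^ 3 := by
  have hl : x ^ (2 * q + 1) ≠ 0 := pow_ne_zero _ hx
  have hfrob : x ^ (q ^ 2) = x := by
    rw [← hK]
    exact FiniteField.pow_card x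
  rw [div_eq_iff hl, hq, ← pow_mul, ← pow_mul, ← pow_add]
  have e1 : (2 * q + 1) * (q * 2) = q ^ 2 * 4 + 2 * q := by ring
  have e2 : 3 + (2 * q + 1) = 4 + 2 * q := by ring
  rw [e1, e2, pow_add, pow_mul, hfrob, pow_add]

/-- `θ ≠ 1` unless `q = 2` -/
theorem theta_ne_one_aux {q : ℕ} (hK : Fintype.card K = q ^ 2) (hq : ∀ x, bar x = x ^ q) (hq2 : q ≠ 2)
    {ζ : K} (hζ : ∀ x : K, x ≠ 0 → ∃ n : ℕ, ζ ^ n = x) : bar ζ ^ 2 / ζ ≠ 1 := by
  classical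
  intro h1
  have hζ0 : ζ ≠ 0 := by
    rintro rfl
    rw [div_zero] at h1
    exact zero_ne_one h1
  have hq2' : 2 ≤ q := by
    have h := Fintype.one_lt_card (α := K)
    rw [hK] at h
    by_contra hlt
    push Not at hlt
    interval_cases q <;> simp at h
  -- `ζ^(2q-1) = 1`
  have h2 : ζ ^ (2 * q - 1) = 1 := by
    rw [div_eq_iff hζ0, one_mul, hq, ← pow_mul] at h1
    have e : q * 2 = (2 * q - 1) + 1 := by omega
    rw [e, pow_succ] at h1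
    exact mul_right_cancel₀ hζ0 (by rw [h1, one_mul])
  -- the order of `ζ`
  let u : Kˣ := Units.mk0 ζ hζ0
  have hu : u ^ (2 * q - 1) = 1 := by
    apply Units.ext
    rw [Units.val_pow_eq_pow_val, Units.val_mk0, h2, Units.val_one]
  have hgen : ∀ x : Kˣ, x ∈ Subgroup.zpowers u := by
    intro x
    obtain ⟨n, hn⟩ := hζ (x : K) x.ne_zero
    rw [Subgroup.mem_zpowers_iff]
    refine ⟨(n : ℤ), ?_⟩
    rw [zpow_natCast]
    apply Units.ext
    rw [Units.val_pow_eq_pow_val, Units.val_mk0, hn]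
  have hord : orderOf u = Nat.card Kˣ := orderOf_eq_card_of_forall_mem_zpowers hgen
  rw [Nat.card_eq_fintype_card, Fintype.card_units, hK] at hord
  have hdvd : q ^ 2 - 1 ∣ 2 * q - 1 := by
    rw [← hord]
    exact orderOf_dvd_of_pow_eq_one hu
  have hle := Nat.le_of_dvd (by omega) hdvd
  have hq3 : 3 ≤ q := by omega
  have : 3 * q ≤ q ^ 2 := by nlinarith
  omega

/-- (FLD2) the data of the window relation `θ^k = (θ + c)^3` -/
theorem exists_window {q : ℕ} (hK : Fintype.card K = q ^ 2) (hq : ∀ x, bar x = x ^ q) (hq2 : q ≠ 2)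
    {ζ : K} (hζ : ∀ x : K, x ≠ 0 → ∃ n : ℕ, ζ ^ n = x) :
    ∃ (k : ℕ) (c : ℤ), (c = 1 ∨ c = -1) ∧ (bar ζ ^ 2 / ζ) ^ k = (bar ζ ^ 2 / ζ + (c : K)) ^ 3 := by
  have hne := theta_ne_one_aux bar hK hq hq2 hζ
  set θ : K := bar ζ ^ 2 / ζ with hθ
  have hx : θ - 1 ≠ 0 := sub_ne_zero.2 hne
  obtain ⟨n, hn⟩ := hζ ((θ - 1) ^ (2 * q + 1)) (pow_ne_zero _ hx)
  refine ⟨n, -1, Or.inr rfl, ?_⟩
  have h1 : θ ^ n = bar (ζ ^ n) ^ 2 / ζ ^ n := by
    rw [hθ, div_pow, ← pow_mul, mul_comm 2 n, pow_mul, ← map_pow]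
  rw [h1, hn, cube_eq_aux bar hK hq _ hx]
  push_cast
  ring

end Cfsg.Agent.Helper37.SU3P
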