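import Cfsg.Agent.Helper6.SUrep3
import Cfsg.Agent.Helper60.SUG1
import Cfsg.Agent.Helper73.SUG2
import Cfsg.Agent.Helper74.SUA3ab
import Cfsg.Agent.Helper12.SUA5a

/-!
# (A5) of helper6's Landazuri–Seitz plan for `SU_n(q)` (S2334/S2335)

If the root group of `v ∈ ⟨u, u'⟩^⊥ ∩ W` acts non-trivially on the fixed points `fixZ u` of the root
group of `u`, then `dim (fixZ u) ≥ q - 1`.
-/

set_option autoImplicit false
set_option linter.unusedSectionVars false
set_option linter.style.haveILetI false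

namespace Cfsg.Agent.Helper37.SUrep

open Matrix Cfsg.Agent.Helper13 Module Cfsg.Agent.Helper6.SUrep

variable {F : Type*} [Field F] [Fintype F] {q n : ℕ}

local notation "⟪" x ", " y "⟫" => Cfsg.hermForm n F q x y

theorem a5_tvW_congr (hF : Fintype.card F = q ^ 2) (W : Submodule F (Fin n → F))
    {p p' : Fin n → F} (h : p = p') (hpW : p ∈ W) (hpp : ⟪p, p⟫ = 0) (hp'W : p' ∈ W)
    (hp'p' : ⟪p', p'⟫ = 0) (c : skewS hF) :
    tvW hF W p hpW hpp c = tvW hF W p' hp'W hp'p' c := by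
  subst h
  rfl

/-- the transvections of orthogonal isotropic vectors commute -/
theorem a5_tvW_comm_of_orth (hF : Fintype.card F = q ^ 2) (W : Submodule F (Fin n → F))
    (u v : Fin n → F) (huW : u ∈ W) (hvW : v ∈ W) (huu : ⟪u, u⟫ = 0) (hvv : ⟪v, v⟫ = 0)
    (huv : ⟪u, v⟫ = 0) (c t : skewS hF) :
    tvW hF W v hvW hvv t * tvW hF W u huW huu c = tvW hF W u huW huu c * tvW hF W v hvW hvv t := by
  have h := conj_tvW hF (tvW hF W v hvW hvv t) u huW huu c
  have hgu : suMat (tvW hF W v hvW hvv t : Cfsg.SU n F q) *ᵥ u = u := by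
    rw [suMat_tvW, unitaryTransvection_mulVec, huv, mul_zero, zero_smul, add_zero]
  rw [a5_tvW_congr hF W hgu _ _ huW huu] at h
  calc tvW hF W v hvW hvv t * tvW hF W u huW huu c
      = tvW hF W v hvW hvv t * tvW hF W u huW huu c * (tvW hF W v hvW hvv t)⁻¹ *
          tvW hF W v hvW hvv t := by group
    _ = tvW hF W u huW huu c * tvW hF W v hvW hvv t := by rw [h]

/-- the transvection of the zero vector is trivial -/
theorem a5_tvW_zero_vec (hF : Fintype.card F = q ^ 2) (W : Submodule F (Fin n → F))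
    (h0W : (0 : Fin n → F) ∈ W) (h00 : ⟪(0 : Fin n → F), 0⟫ = 0) (c : skewS hF) :
    tvW hF W 0 h0W h00 c = 1 := by
  apply suW_ext
  rw [suMat_tvW]
  show Cfsg.unitaryTransvection n q (0 : Fin n → F) c.1 = suMat (1 : Cfsg.SU n F q)
  rw [suMat_one, Cfsg.unitaryTransvection]
  have : Matrix.vecMulVec (0 : Fin n → F) (fun j => ((0 : Fin n → F) j) ^ q) = 0 := by
    ext i j
    simp [Matrix.vecMulVec_apply]
  rw [this, smul_zero, add_zero]

variable {M : Type*} [AddCommGroup M] [Module ℂ M]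

theorem a5_fixZ_congr (hF : Fintype.card F = q ^ 2) (W : Submodule F (Fin n → F))
    (ρ : Representation ℂ ↥(suW q W) M) {p p' : Fin n → F} (h : p = p') (hpW : p ∈ W)
    (hpp : ⟪p, p⟫ = 0) (hp'W : p' ∈ W) (hp'p' : ⟪p', p'⟫ = 0) :
    fixZ hF W ρ p hpW hpp = fixZ hF W ρ p' hp'W hp'p' := by
  subst h
  rfl

/-- an element of `suW q W` scaling `u` preserves `fixZ u` -/
theorem a5_map_fixZ_of_smul (hF : Fintype.card F = q ^ 2) {W : Submodule F (Fin n → F)}
    (ρ : Representation ℂ ↥(suW q W) M) (g : suW q W) (u : Fin n → F) (huW : u ∈ W)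
    (huu : ⟪u, u⟫ = 0) (a : F) (ha : a ≠ 0)
    (hgu : suMat (g : Cfsg.SU n F q) *ᵥ u = a • u) (m : M) (hm : m ∈ fixZ hF W ρ u huW huu) :
    ρ g m ∈ fixZ hF W ρ u huW huu := by
  have h1 := Cfsg.Agent.Helper74.SUrep.map_fixZ hF ρ g u huW huu m hm
  rw [a5_fixZ_congr hF W ρ hgu _ _ (W.smul_mem a huW) (hermForm_smul_self u a huu),
    Cfsg.Agent.Helper74.SUrep.fixZ_smul hF ρ u huW huu a ha] at h1
  exact h1

/-- (A5) -/
theorem le_finrank_fixZ [FiniteDimensional ℂ M] (hF : Fintype.card F = q ^ 2)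
    {W : Submodule F (Fin n → F)} (hW : NonDeg q W) (ρ : Representation ℂ ↥(suW q W) M)
    (u u' : Fin n → F) (huW : u ∈ W) (hu'W : u' ∈ W) (huu : ⟪u, u⟫ = 0) (hu'u' : ⟪u', u'⟫ = 0)
    (huu' : ⟪u, u'⟫ = 1) (v : Fin n → F) (hv : v ∈ hypCompl q W u u') (hvv : ⟪v, v⟫ = 0)
    (c : skewS hF) (m : M) (hm : m ∈ fixZ hF W ρ u huW huu)
    (hne : ρ (tvW hF W v (hypCompl_le W u u' hv) hvv c) m ≠ m) :
    q - 1 ≤ finrank ℂ (fixZ hF W ρ u huW huu) := by
  classical
  have hvW : v ∈ W := hypCompl_le W u u' hv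
  have huv : ⟪u, v⟫ = 0 := hermForm_eq_zero_symm hF hv.2.1
  -- `v ≠ 0`
  have hv0 : v ≠ 0 := by
    rintro rfl
    apply hne
    rw [a5_tvW_zero_vec hF W hvW hvv c, map_one, Module.End.one_apply]
  set M' : Submodule ℂ M := fixZ hF W ρ u huW huu with hM'
  -- the root group of `v` acts on `M'`
  have hinv : ∀ t : skewS hF, ∀ x ∈ M', ρ (tvW hF W v hvW hvv t) x ∈ M' := by
    intro t x hx
    rw [hM', mem_fixZ] at hx ⊢
    intro c'
    rw [← Module.End.mul_apply, ← map_mul, ← a5_tvW_comm_of_orth hF W u v huW hvW huu hvv huv c' t,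
      map_mul, Module.End.mul_apply, hx c']
  let s' : skewS hF → Module.End ℂ M' := fun t => (ρ (tvW hF W v hvW hvv t)).restrict (hinv t)
  have hs'_apply : ∀ (t : skewS hF) (x : M'), ((s' t x : M') : M) = ρ (tvW hF W v hvW hvv t) x :=
    fun t x => rfl
  have hs0 : s' 0 = 1 := by
    apply LinearMap.ext
    intro x
    apply Subtype.ext
    rw [hs'_apply, tvW_zero, map_one]
    rfl
  have hs : ∀ x y, s' (x + y) = s' x * s' y := by
    intro x y
    apply LinearMap.ext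
    intro z
    apply Subtype.ext
    rw [hs'_apply, tvW_add, map_mul]
    rfl
  -- the ranks of the Fourier projections
  have hsum := Cfsg.Agent.Helper60.SUrep.finrank_eq_sum_fpr s' hs0 hs
  -- all non-trivial characters have the same rank
  have hrank : ∀ ψ ψ' : AddChar (skewS hF) ℂ, ψ ≠ 0 → ψ' ≠ 0 →
      finrank ℂ (LinearMap.range (fpr s' ψ)) = finrank ℂ (LinearMap.range (fpr s' ψ')) := by
    intro ψ ψ' hψ hψ'
    obtain ⟨κ, hκ, hκ0, hκψ⟩ := Cfsg.Agent.Helper73.SUrep.exists_fixed_mul_char hF ψ ψ' hψ hψ'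
    obtain ⟨g, a, ha, hgu, hconj⟩ := Cfsg.Agent.Helper12.SUrep.exists_conj_tvW_pair hF hW u u' huW
      hu'W huu hu'u' huu' v hv hv0 hvv κ hκ hκ0
    have hginv : suMat ((g⁻¹ : suW q W) : Cfsg.SU n F q) *ᵥ u = a⁻¹ • u := by
      have h1 := suMat_inv_mulVec (g : Cfsg.SU n F q) u
      rw [hgu, Matrix.mulVec_smul] at h1
      have h2 : ((g⁻¹ : suW q W) : Cfsg.SU n F q) = (g : Cfsg.SU n F q)⁻¹ := rfl
      rw [h2]
      calc suMat (g : Cfsg.SU n F q)⁻¹ *ᵥ u
          = a⁻¹ • (a • (suMat (g : Cfsg.SU n F q)⁻¹ *ᵥ u)) := by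
            rw [smul_smul, inv_mul_cancel₀ ha, one_smul]
        _ = a⁻¹ • u := by rw [h1]
    have hG : ∀ x ∈ M', ρ g x ∈ M' := fun x hx =>
      a5_map_fixZ_of_smul hF ρ g u huW huu a ha hgu x hx
    have hG' : ∀ x ∈ M', ρ g⁻¹ x ∈ M' := fun x hx =>
      a5_map_fixZ_of_smul hF ρ g⁻¹ u huW huu a⁻¹ (inv_ne_zero ha) hginv x hx
    let G : Module.End ℂ M' := (ρ g).restrict hG
    let G' : Module.End ℂ M' := (ρ g⁻¹).restrict hG'
    have hGG' : G * G' = 1 := by
      apply LinearMap.ext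
      intro x
      apply Subtype.ext
      show ρ g (ρ g⁻¹ (x : M)) = x
      rw [← Module.End.mul_apply, ← map_mul, mul_inv_cancel, map_one, Module.End.one_apply]
    have hG'G : G' * G = 1 := by
      apply LinearMap.ext
      intro x
      apply Subtype.ext
      show ρ g⁻¹ (ρ g (x : M)) = x
      rw [← Module.End.mul_apply, ← map_mul, inv_mul_cancel, map_one, Module.End.one_apply]
    have hσ : ∀ x, G * s' x * G' = s' (mulSEquiv hF κ hκ hκ0 x) := by
      intro x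
      apply LinearMap.ext
      intro z
      apply Subtype.ext
      show ρ g (ρ (tvW hF W v hvW hvv x) (ρ g⁻¹ (z : M))) =
        ρ (tvW hF W v hvW hvv (mulSEquiv hF κ hκ hκ0 x)) (z : M)
      rw [← hconj x, map_mul, map_mul]
      rfl
    exact Cfsg.Agent.Helper60.SUrep.finrank_range_fpr_conj s' G G' hGG' hG'G
      (mulSEquiv hF κ hκ hκ0) hσ ψ ψ' hκψ
  -- some non-trivial character has non-zero rank
  have hex : ∃ ψ₀ : AddChar (skewS hF) ℂ, ψ₀ ≠ 0 ∧
      1 ≤ finrank ℂ (LinearMap.range (fpr s' ψ₀)) := by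
    by_contra hcon
    push Not at hcon
    have hzero : ∀ ψ : AddChar (skewS hF) ℂ, ψ ≠ 0 → fpr s' ψ = 0 := by
      intro ψ hψ
      have h1 := hcon ψ hψ
      have h2 : finrank ℂ (LinearMap.range (fpr s' ψ)) = 0 := by omega
      rw [Submodule.finrank_eq_zero] at h2
      exact LinearMap.range_eq_bot.mp h2
    have hone : fpr s' (0 : AddChar (skewS hF) ℂ) = 1 := by
      rw [← Cfsg.Agent.Helper60.SUrep.sum_fpr s' hs0]
      symm
      apply Finset.sum_eq_single
      · intro ψ _ hψ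
        exact hzero ψ hψ
      · intro h
        exact absurd (Finset.mem_univ _) h
    have hmem : (⟨m, hm⟩ : M') ∈ LinearMap.range (fpr s' (0 : AddChar (skewS hF) ℂ)) := by
      rw [hone]
      exact ⟨_, rfl⟩
    rw [Cfsg.Agent.Helper60.SUrep.mem_range_fpr_iff s' hs0 hs] at hmem
    have h1 := hmem c
    rw [AddChar.zero_apply, one_smul] at h1
    apply hne
    have h2 := congrArg Subtype.val h1
    exact h2
  obtain ⟨ψ₀, hψ₀, hr₀⟩ := hex
  -- count
  have hcard : Fintype.card (AddChar (skewS hF) ℂ) = q := by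
    rw [AddChar.card_eq, Cfsg.Agent.Helper73.SUrep.card_skewS hF]
  rw [hsum]
  calc q - 1 = (Finset.univ.erase (0 : AddChar (skewS hF) ℂ)).card := by
        rw [Finset.card_erase_of_mem (Finset.mem_univ _), Finset.card_univ, hcard]
    _ = ∑ _ψ ∈ Finset.univ.erase (0 : AddChar (skewS hF) ℂ), 1 := by
        rw [Finset.sum_const, smul_eq_mul, mul_one]
    _ ≤ ∑ ψ ∈ Finset.univ.erase (0 : AddChar (skewS hF) ℂ),
          finrank ℂ (LinearMap.range (fpr s' ψ)) := by
        apply Finset.sum_le_sum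
        intro ψ hψ
        rw [hrank ψ ψ₀ (Finset.ne_of_mem_erase hψ) hψ₀]
        exact hr₀
    _ ≤ ∑ ψ : AddChar (skewS hF) ℂ, finrank ℂ (LinearMap.range (fpr s' ψ)) :=
        Finset.sum_le_sum_of_subset (Finset.erase_subset _ _)

end Cfsg.Agent.Helper37.SUrep
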