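import Cfsg.Agent.Helper78.Olsson.Defs
import Cfsg.Agent.Helper16.CycloNorm
import Cfsg.Agent.Helper16.CycloAvg
import Cfsg.Agent.Helper16.ContribMajor
import Cfsg.Agent.Helper79.OlssonDIAGabs

/-!
# (NORM) of #8456 for helper79's S4575: the strict trace inequality

Strict version of `Cfsg.Agent.Helper16.sum_ge_totient_mul_pow`.
-/

set_option autoImplicit false
set_option linter.style.haveILetI false
set_option linter.unusedSectionVars false
set_option linter.unusedVariables false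

noncomputable section

namespace Cfsg.Agent.Helper37.Samb

open Cfsg Polynomial
open scoped ComplexConjugate
open Cfsg.Agent.Helper78.Olsson (unitsRange)

open Classical in
/-- the strict trace inequality, with the index set written out -/
theorem sum_gt_totient_mul_pow_aux {p : ℕ} (hp : p.Prime) {M : Ideal AlgInt}
    (hM : IsPModular p M)
    (n h : ℕ) {ι : Type*} (I : Finset ι) (A : ι → ℤ) (μ : ι → ℂ)
    (hμ : ∀ i ∈ I, μ i ^ (p ^ n) = 1)
    (r : ℕ → ℝ)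
    (hr : ∀ γ ∈ (Finset.range (p ^ n)).filter (fun γ => Nat.Coprime (p ^ n) γ),
      ∑ i ∈ I, (A i : ℂ) * μ i ^ γ = (r γ : ℂ))
    (hpos : ∀ γ ∈ (Finset.range (p ^ n)).filter (fun γ => Nat.Coprime (p ^ n) γ), 0 < r γ)
    (hloc : ∀ γ ∈ (Finset.range (p ^ n)).filter (fun γ => Nat.Coprime (p ^ n) γ),
      MemLocalIdeal M ((∑ i ∈ I, (A i : ℂ) * μ i ^ γ) / ((p ^ h : ℕ) : ℂ))) :
    ((p ^ n).totient : ℝ) * ((p ^ h : ℕ) : ℝ) <
      ∑ γ ∈ (Finset.range (p ^ n)).filter (fun γ => Nat.Coprime (p ^ n) γ), r γ := by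
  haveI hMp : M.IsPrime := Cfsg.Agent.Helper16.IsPModular.isPrime hM
  set N := p ^ n with hNdef
  have hN : 0 < N := pow_pos hp.pos n
  set Γ := (Finset.range N).filter (fun γ => Nat.Coprime N γ) with hΓ
  have hΓcard : Γ.card = N.totient := (Nat.totient_eq_card_coprime N).symm
  have hφpos : 0 < N.totient := Nat.totient_pos.mpr hN
  have hζ : IsPrimitiveRoot (Complex.exp (2 * Real.pi * Complex.I / N)) N :=
    Complex.isPrimitiveRoot_exp N hN.ne'
  set ζ := Complex.exp (2 * Real.pi * Complex.I / N) with hζdef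
  haveI : NeZero N := ⟨hN.ne'⟩
  have hk : ∀ i : ι, ∃ k : ℕ, i ∈ I → ζ ^ k = μ i := by
    intro i
    by_cases hi : i ∈ I
    · obtain ⟨k, -, hk⟩ := hζ.eq_pow_of_pow_eq_one (hμ i hi)
      exact ⟨k, fun _ => hk⟩
    · exact ⟨0, fun h => absurd h hi⟩
  choose k hk using hk
  set F : ℤ[X] := ∑ i ∈ I, C (A i) * X ^ (k i) with hF
  have heval : ∀ γ : ℕ, (F.map (Int.castRingHom ℂ)).eval (ζ ^ γ) =
      ∑ i ∈ I, (A i : ℂ) * μ i ^ γ := by
    intro γ
    rw [hF, Polynomial.map_sum, eval_finsetSum]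
    refine Finset.sum_congr rfl (fun i hi => ?_)
    rw [Polynomial.map_mul, Polynomial.map_pow, map_C, map_X, eval_mul, eval_pow, eval_C, eval_X,
      ← pow_mul, mul_comm γ, pow_mul, hk i hi]
    rfl
  obtain ⟨m, hm⟩ := Cfsg.Agent.Helper16.prod_eval_primitive_int hN hζ F
  rw [Finset.prod_congr rfl (fun γ _ => heval γ)] at hm
  have hmr : ((∏ γ ∈ Γ, r γ : ℝ) : ℂ) = (m : ℂ) := by
    rw [← hm, Complex.ofReal_prod]
    exact Finset.prod_congr rfl (fun γ hγ => (hr γ hγ).symm)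
  have hmr' : (∏ γ ∈ Γ, r γ : ℝ) = (m : ℝ) := by
    apply Complex.ofReal_injective
    rw [hmr]
    simp
  have hprodpos : 0 < ∏ γ ∈ Γ, r γ := Finset.prod_pos hpos
  have hmpos : 0 < m := by
    have : (0 : ℝ) < (m : ℝ) := by rw [← hmr']; exact hprodpos
    exact_mod_cast this
  -- divisibility
  have hpd0 : (p ^ (h * N.totient) : ℕ) ≠ 0 := (pow_pos hp.pos _).ne'
  have hΓne : Γ.Nonempty := by
    rw [← Finset.card_pos, hΓcard]
    exact hφpos
  obtain ⟨γ₀, hγ₀⟩ := hΓne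
  have h1 : (m : ℂ) / ((p ^ (h * N.totient) : ℕ) : ℂ) =
      ∏ γ ∈ Γ, (∑ i ∈ I, (A i : ℂ) * μ i ^ γ) / ((p ^ h : ℕ) : ℂ) := by
    rw [Finset.prod_div_distrib, hm, Finset.prod_const, hΓcard]
    push_cast
    rw [pow_mul]
  have hlocm' : MemLocalIdeal M ((m : ℂ) / ((p ^ (h * N.totient) : ℕ) : ℂ)) := by
    rw [h1, ← Finset.mul_prod_erase Γ _ hγ₀]
    apply Cfsg.Agent.Helper16.memLocalIdeal_mul_right (hloc γ₀ hγ₀)
    apply Cfsg.Agent.Helper16.memLocalRing_prod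
    intro γ hγ
    exact Cfsg.Agent.Helper16.memLocalIdeal_memLocalRing (hloc γ (Finset.mem_of_mem_erase hγ))
  have hlocm : MemLocalRing M ((m : ℂ) / ((p ^ (h * N.totient) : ℕ) : ℂ)) :=
    Cfsg.Agent.Helper16.memLocalIdeal_memLocalRing hlocm'
  have hdvd := Cfsg.Agent.S4426.pow_dvd_int_of_memLocalRing_div hM hpd0 hlocm
  rw [hp.factorization_pow, Finsupp.single_eq_same] at hdvd
  obtain ⟨m', hm'⟩ := hdvd
  have hpc0 : (((p ^ (h * N.totient) : ℕ) : ℂ)) ≠ 0 := by exact_mod_cast hpd0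
  have hquot : (m : ℂ) / ((p ^ (h * N.totient) : ℕ) : ℂ) = (m' : ℂ) := by
    rw [hm']
    push_cast
    have hpc : (p : ℂ) ^ (h * N.totient) ≠ 0 := pow_ne_zero _ (by exact_mod_cast hp.ne_zero)
    rw [mul_div_cancel_left₀ _ hpc]
  rw [hquot] at hlocm'
  have hpm' : (p : ℤ) ∣ m' := (Cfsg.Agent.Helper78.memLocalIdeal_intCast_iff hM).1 hlocm'
  have hm'pos : 0 < m' := by
    have h2 : (0 : ℤ) < (p : ℤ) ^ (h * N.totient) := by
      have := pow_pos hp.pos (h * N.totient)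
      exact_mod_cast this
    rw [hm'] at hmpos
    exact (mul_pos_iff_of_pos_left h2).1 hmpos
  have hpm'le : (p : ℤ) ≤ m' := Int.le_of_dvd hm'pos hpm'
  have hmge : ((p ^ (h * N.totient) : ℕ) : ℤ) * (p : ℤ) ≤ m := by
    rw [hm']
    push_cast
    exact mul_le_mul_of_nonneg_left hpm'le (by positivity)
  have hp1 : (1 : ℝ) < (p : ℝ) := by exact_mod_cast hp.one_lt
  have hprodgt : (((p ^ h : ℕ) : ℝ)) ^ N.totient < ∏ γ ∈ Γ, r γ := by
    rw [hmr']
    have h2 : ((((p ^ (h * N.totient) : ℕ) : ℤ) * (p : ℤ) : ℤ) : ℝ) ≤ (m : ℝ) := by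
      exact_mod_cast hmge
    refine lt_of_lt_of_le ?_ h2
    push_cast
    rw [← pow_mul]
    have h3 : (0 : ℝ) < (p : ℝ) ^ (h * N.totient) := by positivity
    nlinarith
  -- AM-GM
  have hamgm := Real.geom_mean_le_arith_mean Γ (fun _ => (1 : ℝ)) r (fun _ _ => zero_le_one)
    (by
      rw [Finset.sum_const, hΓcard, nsmul_eq_mul, mul_one]
      exact_mod_cast hφpos)
    (fun γ hγ => (hpos γ hγ).le)
  simp only [Real.rpow_one, one_mul, Finset.sum_const, hΓcard, nsmul_eq_mul, mul_one] at hamgm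
  have hφR : (0 : ℝ) < (N.totient : ℝ) := by exact_mod_cast hφpos
  have hc0 : (0 : ℝ) ≤ ((p ^ h : ℕ) : ℝ) := by positivity
  have hgt : ((p ^ h : ℕ) : ℝ) < (∏ γ ∈ Γ, r γ) ^ ((N.totient : ℝ))⁻¹ := by
    have h1 : ((p ^ h : ℕ) : ℝ) = ((((p ^ h : ℕ) : ℝ)) ^ N.totient) ^ ((N.totient : ℝ))⁻¹ :=
      (Real.pow_rpow_inv_natCast hc0 hφpos.ne').symm
    rw [h1]
    exact Real.rpow_lt_rpow (by positivity) hprodgt (by positivity)
  have hfin := lt_of_lt_of_le hgt hamgm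
  rw [lt_div_iff₀ hφR] at hfin
  rw [mul_comm]
  exact hfin

/-- (NORM) strict version of `Helper16.sum_ge_totient_mul_pow`: if all the conjugates of the
positive real power form, divided by `p^h`, lie in the local IDEAL, the bound is strict. -/
theorem sum_gt_totient_mul_pow {p : ℕ} (hp : p.Prime) {M : Ideal AlgInt} (hM : IsPModular p M)
    (n h : ℕ) {ι : Type*} (I : Finset ι) (A : ι → ℤ) (μ : ι → ℂ)
    (hμ : ∀ i ∈ I, μ i ^ (p ^ n) = 1) (r : ℕ → ℝ)
    (hr : ∀ γ ∈ unitsRange p n, ∑ i ∈ I, (A i : ℂ) * μ i ^ γ = (r γ : ℂ))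
    (hpos : ∀ γ ∈ unitsRange p n, 0 < r γ)
    (hloc : ∀ γ ∈ unitsRange p n,
      MemLocalIdeal M ((∑ i ∈ I, (A i : ℂ) * μ i ^ γ) / ((p ^ h : ℕ) : ℂ))) :
    ((p ^ n).totient : ℝ) * ((p ^ h : ℕ) : ℝ) < ∑ γ ∈ unitsRange p n, r γ :=
  sum_gt_totient_mul_pow_aux hp hM n h I A μ hμ r hr hpos hloc

end Cfsg.Agent.Helper37.Samb

end
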