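import Mathlib
import Cfsg.Agent.Helper71.SchDefs

/-!
# Piece (A2a) of #5897 (S4394, helper71): fixed points of a Schmidt automorphism

`fixed_iff_center`: for a finite `p`-group `P₀` with an automorphism `φ` of prime order `q ≠ p` all
of whose proper invariant subgroups are fixed pointwise (`SchAut p q φ`), if `P₀` is not abelian then
the fixed points of `φ` are exactly the centre, commutators are central and `p`-th powers are central.

Also exported: `twistSub φ` (the subgroup generated by all `a⁻¹ * φ a`), its `φ`-invariance and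
`twistSub_eq_top`.
-/

set_option autoImplicit false

namespace Cfsg.Agent.Helper37.Sch

open scoped commutatorElement
open Cfsg.Agent.Helper71.Sch

variable {P₀ : Type*} [Group P₀]

/-- The subgroup generated by all `a⁻¹ * φ a`. -/
def twistSub (φ : MulAut P₀) : Subgroup P₀ :=
  Subgroup.closure {g | ∃ a : P₀, g = a⁻¹ * φ a}

theorem twist_mem (φ : MulAut P₀) (a : P₀) : a⁻¹ * φ a ∈ twistSub φ :=
  Subgroup.subset_closure ⟨a, rfl⟩

theorem twistSub_invariant (φ : MulAut P₀) : ∀ g ∈ twistSub φ, φ g ∈ twistSub φ := by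
  intro g hg
  induction hg using Subgroup.closure_induction with
  | mem x hx =>
    obtain ⟨a, rfl⟩ := hx
    have h : φ (a⁻¹ * φ a) = (φ a)⁻¹ * φ (φ a) := by simp
    rw [h]
    exact twist_mem φ (φ a)
  | one => simp [one_mem]
  | mul x y _ _ hx hy => rw [map_mul]; exact mul_mem hx hy
  | inv x _ hx => rw [map_inv]; exact inv_mem hx

theorem pow_apply_of_fixed (φ : MulAut P₀) (a c : P₀) (h1 : φ a = a * c) (h2 : φ c = c) (k : ℕ) :
    (φ ^ k) a = a * c ^ k := by
  induction k with
  | zero => simp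
  | succ k ih =>
    rw [pow_succ', MulAut.mul_apply, ih, map_mul, map_pow, h1, h2, mul_assoc, ← pow_succ']

/-- The elements `a⁻¹ * φ a` generate `P₀`. -/
theorem twistSub_eq_top [Finite P₀] {p q : ℕ} [hp : Fact p.Prime] (hP : IsPGroup p P₀) (φ : MulAut P₀)
    (hφ : SchAut p q φ) : twistSub φ = ⊤ := by
  by_contra h
  have hfix := hφ.min _ h (twistSub_invariant φ)
  apply hφ.ne_one
  ext a
  have h1 : φ a = a * (a⁻¹ * φ a) := by group
  have h2 : φ (a⁻¹ * φ a) = a⁻¹ * φ a := hfix _ (twist_mem φ a)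
  have h3 := pow_apply_of_fixed φ a (a⁻¹ * φ a) h1 h2 q
  rw [hφ.pow_q] at h3
  have h4 : (a⁻¹ * φ a) ^ q = 1 := by
    have : a * 1 = a * (a⁻¹ * φ a) ^ q := by simpa using h3
    exact (mul_left_cancel this).symm
  obtain ⟨k, hk⟩ := hP (a⁻¹ * φ a)
  have hcop : Nat.Coprime q (p ^ k) :=
    Nat.Coprime.pow_right k ((Nat.coprime_primes hφ.q_prime hp.out).mpr hφ.q_ne)
  have h5 := Nat.dvd_gcd (orderOf_dvd_of_pow_eq_one h4) (orderOf_dvd_of_pow_eq_one hk)
  rw [hcop] at h5
  have h6 : a⁻¹ * φ a = 1 := orderOf_eq_one_iff.mp (Nat.dvd_one.mp h5)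
  have : φ a = a := by rw [h1, h6, mul_one]
  simpa using this

/-- An element fixed by `φ` commutes with every `a⁻¹ * φ a` as soon as commutators are fixed. -/
theorem twist_commute_of_fixed (φ : MulAut P₀) (hc : ∀ x y : P₀, φ ⁅x, y⁆ = ⁅x, y⁆) (c : P₀)
    (hfc : φ c = c) (a : P₀) : (a⁻¹ * φ a) * c = c * (a⁻¹ * φ a) := by
  have h := hc a c
  rw [map_commutatorElement, hfc, commutatorElement_def, commutatorElement_def] at h
  -- `φ a * c * (φ a)⁻¹ * c⁻¹ = a * c * a⁻¹ * c⁻¹`
  have h' : φ a * c * (φ a)⁻¹ = a * c * a⁻¹ := mul_right_cancel h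
  calc (a⁻¹ * φ a) * c = a⁻¹ * (φ a * c * (φ a)⁻¹) * φ a := by group
    _ = a⁻¹ * (a * c * a⁻¹) * φ a := by rw [h']
    _ = c * (a⁻¹ * φ a) := by group

theorem center_invariant (φ : MulAut P₀) : ∀ a ∈ Subgroup.center P₀, φ a ∈ Subgroup.center P₀ := by
  intro a ha
  rw [Subgroup.mem_center_iff] at ha ⊢
  intro g
  have h := congrArg φ (ha (φ⁻¹ g))
  simpa using h

theorem commutator_invariant (φ : MulAut P₀) :
    ∀ a ∈ commutator P₀, φ a ∈ commutator P₀ := by
  intro a ha
  have hchar : (commutator P₀).Characteristic := by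
    rw [commutator_def]; infer_instance
  have h := hchar.fixed φ
  have : a ∈ Subgroup.comap φ.toMonoidHom (commutator P₀) := by
    rw [h]; exact ha
  simpa using this

/-- The preimage in `P₀` of the `p`-th powers of the abelianization. -/
def powSub (p : ℕ) (P₀ : Type*) [Group P₀] : Subgroup P₀ :=
  Subgroup.comap (Abelianization.of : P₀ →* Abelianization P₀)
    (powMonoidHom p : Abelianization P₀ →* Abelianization P₀).range

theorem pow_mem_powSub (p : ℕ) (x : P₀) : x ^ p ∈ powSub p P₀ := by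
  rw [powSub, Subgroup.mem_comap, map_pow]
  exact ⟨Abelianization.of x, rfl⟩

theorem powSub_invariant (p : ℕ) (φ : MulAut P₀) : ∀ a ∈ powSub p P₀, φ a ∈ powSub p P₀ := by
  intro a ha
  rw [powSub, Subgroup.mem_comap] at ha ⊢
  obtain ⟨b, hb⟩ := ha
  refine ⟨Abelianization.map φ.toMonoidHom b, ?_⟩
  have h1 : Abelianization.of (φ a) = Abelianization.map φ.toMonoidHom (Abelianization.of a) := by
    rw [Abelianization.map_of]; rfl
  rw [h1, ← hb]
  simp

theorem powSub_ne_top [Finite P₀] {p : ℕ} [Fact p.Prime] (hP : IsPGroup p P₀)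
    (hne : commutator P₀ ≠ ⊤) : powSub p P₀ ≠ ⊤ := by
  intro htop
  -- the `p`-th power map of the abelianization is surjective
  have hsurj : Function.Surjective (powMonoidHom p : Abelianization P₀ →* Abelianization P₀) := by
    intro b
    obtain ⟨a, rfl⟩ := QuotientGroup.mk_surjective b
    have ha : a ∈ powSub p P₀ := by rw [htop]; exact Subgroup.mem_top a
    rw [powSub, Subgroup.mem_comap] at ha
    exact ha
  have hinj : Function.Injective (powMonoidHom p : Abelianization P₀ →* Abelianization P₀) :=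
    Finite.injective_iff_surjective.mpr hsurj
  -- the abelianization is a nontrivial `p`-group
  have hPA : IsPGroup p (Abelianization P₀) := hP.to_quotient _
  obtain ⟨x, hx⟩ : ∃ x : P₀, x ∉ commutator P₀ := by
    by_contra hall
    simp only [not_exists, not_not] at hall
    exact hne ((Subgroup.eq_top_iff' _).mpr hall)
  have hx1 : (Abelianization.of x : Abelianization P₀) ≠ 1 := by
    intro h
    apply hx
    rw [← Abelianization.ker_of]
    exact h
  have hdvd : p ∣ Nat.card (Abelianization P₀) := by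
    rcases hPA.card_eq_or_dvd with h | h
    · exfalso
      have := (Nat.card_eq_one_iff_unique.mp h).1
      exact hx1 (Subsingleton.elim _ _)
    · exact h
  obtain ⟨g, hg⟩ := exists_prime_orderOf_dvd_card' p hdvd
  have hg1 : g ^ p = 1 := by rw [← hg]; exact pow_orderOf_eq_one g
  have : g = 1 := hinj (by simp [hg1])
  rw [this, orderOf_one] at hg
  exact (Fact.out : p.Prime).one_lt.ne hg

theorem fixed_iff_center {P₀ : Type*} [Group P₀] [Finite P₀] {p q : ℕ} [Fact p.Prime]
    (hP : IsPGroup p P₀) (φ : MulAut P₀) (hφ : SchAut p q φ) (hnc : Subgroup.center P₀ ≠ ⊤) :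
    (∀ a : P₀, φ a = a ↔ a ∈ Subgroup.center P₀) ∧
      (∀ x y : P₀, ⁅x, y⁆ ∈ Subgroup.center P₀) ∧ (∀ x : P₀, x ^ p ∈ Subgroup.center P₀) := by
  have : Nontrivial P₀ := by
    by_contra h
    rw [not_nontrivial_iff_subsingleton] at h
    exact hnc (Subsingleton.elim _ _)
  have : Group.IsNilpotent P₀ := hP.isNilpotent
  have hcne : commutator P₀ ≠ ⊤ := (Group.IsSolvable.commutator_lt_top_of_nontrivial P₀).ne
  -- commutators are fixed
  have hc : ∀ x y : P₀, φ ⁅x, y⁆ = ⁅x, y⁆ := by
    intro x y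
    apply hφ.min _ hcne (commutator_invariant φ)
    rw [commutator_def]
    exact Subgroup.commutator_mem_commutator (Subgroup.mem_top x) (Subgroup.mem_top y)
  have htop := twistSub_eq_top hP φ hφ
  -- fixed elements are central
  have hfc : ∀ c : P₀, φ c = c → c ∈ Subgroup.center P₀ := by
    intro c hcfix
    have hle : twistSub φ ≤ Subgroup.centralizer {c} := by
      rw [twistSub, Subgroup.closure_le]
      rintro g ⟨a, rfl⟩
      show a⁻¹ * φ a ∈ Subgroup.centralizer {c}
      rw [Subgroup.mem_centralizer_iff]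
      intro h hh
      rw [Set.mem_singleton_iff] at hh
      subst hh
      exact (twist_commute_of_fixed φ hc h hcfix a).symm
    rw [htop] at hle
    rw [Subgroup.mem_center_iff]
    intro g
    have hg : g ∈ Subgroup.centralizer {c} := hle (Subgroup.mem_top g)
    rw [Subgroup.mem_centralizer_iff] at hg
    exact (hg c rfl).symm
  refine ⟨fun a => ⟨hfc a, fun ha => hφ.min _ hnc (center_invariant φ) a ha⟩, ?_, ?_⟩
  · intro x y
    exact hfc _ (hc x y)
  · intro x
    exact hfc _ (hφ.min _ (powSub_ne_top hP hcne) (powSub_invariant p φ) _ (pow_mem_powSub p x))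

end Cfsg.Agent.Helper37.Sch
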