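import Mathlib
import Cfsg.Agent.Helper8.Sims3Defs

/-!
(P3) `lam_upper` for helper8's Sims farm #12989 (S3385 + S3685; helper37): if `2l ≥ s + 2` then `y (l-1)` commutes
with `y 0, …, y s`, which generate `G`, so it generates a normal subgroup of `G` inside `U y 0 s`: contradiction.
-/

set_option autoImplicit false

namespace Cfsg.Agent.Helper37.Sims3

open Cfsg.Agent.Helper8.Sims3 Pointwise

variable {G : Type*} [Group G]

/-- (P3) -/
theorem lam_upper {s : ℕ} {y : ℤ → G} (h : Tower s y) (hs : 2 ≤ s) {l : ℕ}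
    (hl : IsLam y l) (hl1 : 1 ≤ l) (hls : l < s) : 2 * l ≤ s + 1 := by
  by_contra hcon
  push Not at hcon
  -- `z = y (l - 1)` commutes with `y 0, …, y s`
  have hcomm : ∀ j : ℤ, 0 ≤ j → j ≤ s → Commute (y ((l : ℤ) - 1)) (y j) := by
    intro j hj0 hjs
    rcases le_total j ((l : ℤ) - 1) with hle | hle
    · obtain ⟨d, hd⟩ := Int.eq_ofNat_of_zero_le (sub_nonneg.2 hle)
      have hdl : d < l := by omega
      have h1 := hl.comm j d hdl
      have e : j + (d : ℤ) = (l : ℤ) - 1 := by omega
      rw [e] at h1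
      exact h1.symm
    · obtain ⟨d, hd⟩ := Int.eq_ofNat_of_zero_le (sub_nonneg.2 hle)
      have hdl : d < l := by omega
      have h1 := hl.comm ((l : ℤ) - 1) d hdl
      have e : (l : ℤ) - 1 + (d : ℤ) = j := by omega
      rw [e] at h1
      exact h1
  -- hence it is central
  have hcen : ∀ x : G, x * y ((l : ℤ) - 1) = y ((l : ℤ) - 1) * x := by
    have hle : U y 0 (s + 1) ≤ Subgroup.centralizer {y ((l : ℤ) - 1)} := by
      unfold U
      rw [Subgroup.closure_le]
      rintro x ⟨j, hj, rfl⟩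
      rw [Set.mem_Ico] at hj
      rw [SetLike.mem_coe, Subgroup.mem_centralizer_iff]
      intro z hz
      rw [Set.mem_singleton_iff.1 hz]
      exact (hcomm j hj.1 (by push_cast at hj; omega)).eq
    intro x
    have hx : x ∈ U y 0 (s + 1) := by rw [h.gen 0]; exact Subgroup.mem_top x
    have := (Subgroup.mem_centralizer_iff.1 (hle hx)) _ (Set.mem_singleton _)
    exact this.symm
  -- the cyclic group it generates is normal and lies in `U y 0 s`
  have hnorm : (Subgroup.zpowers (y ((l : ℤ) - 1))).Normal := by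
    constructor
    intro n hn g
    obtain ⟨k, rfl⟩ := Subgroup.mem_zpowers_iff.1 hn
    have hc : Commute g (y ((l : ℤ) - 1)) := hcen g
    have e : g * y ((l : ℤ) - 1) ^ k * g⁻¹ = y ((l : ℤ) - 1) ^ k := by
      rw [(hc.zpow_right k).eq, mul_inv_cancel_right]
    rw [e]
    exact Subgroup.zpow_mem_zpowers _ k
  have hleU : Subgroup.zpowers (y ((l : ℤ) - 1)) ≤ U y 0 s := by
    rw [Subgroup.zpowers_le]
    unfold U
    apply Subgroup.subset_closure
    refine ⟨(l : ℤ) - 1, ?_, rfl⟩
    rw [Set.mem_Ico]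
    constructor
    · omega
    · omega
  have hbot := h.core 0 _ hnorm hleU
  have hz1 : y ((l : ℤ) - 1) = 1 := by
    have : y ((l : ℤ) - 1) ∈ (⊥ : Subgroup G) := by
      rw [← hbot]
      exact Subgroup.mem_zpowers _
    exact Subgroup.mem_bot.1 this
  -- but `y (l - 1) ≠ 1`
  have hcard := h.card_lt ((l : ℤ) - 1) 1 (by omega)
  have hU1 : U y ((l : ℤ) - 1) 1 = ⊥ := by
    unfold U
    rw [Subgroup.closure_eq_bot_iff]
    rintro x ⟨j, hj, rfl⟩
    rw [Set.mem_Ico] at hj
    have : j = (l : ℤ) - 1 := by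
      have := hj.1
      have := hj.2
      push_cast at *
      omega
    rw [this, hz1]
    exact Set.mem_singleton _
  rw [hU1, Subgroup.card_bot] at hcard
  norm_num at hcard

end Cfsg.Agent.Helper37.Sims3
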