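import Mathlib
import Cfsg.Agent.Helper88.SimsD.Defs

/-!
# (DG) of helper88's S2772 farm: a subgroup of `D_{2q}` (`q` prime) containing a reflection and
a nontrivial rotation is everything.
-/

set_option autoImplicit false

namespace Cfsg.Agent.Helper37.SimsD

open Cfsg.Agent.Helper88.SimsD

/-- (DG) a subgroup of `D_{2q}` containing a reflection and a nontrivial rotation is everything. -/
theorem dihedral_eq_top {q : ℕ} (hq : q.Prime) (K : Subgroup (DihedralGroup q)) (i j : ZMod q)
    (hj : j ≠ 0) (hs : DihedralGroup.sr i ∈ K) (hr : DihedralGroup.r j ∈ K) : K = ⊤ := by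
  have : Fact q.Prime := ⟨hq⟩
  -- every rotation lies in `K`
  have hrot : ∀ k : ZMod q, DihedralGroup.r k ∈ K := by
    intro k
    have h1 : DihedralGroup.r j ^ ((j⁻¹ * k).val) ∈ K := K.pow_mem hr _
    rw [DihedralGroup.r_pow, ZMod.natCast_zmod_val] at h1
    have : j * (j⁻¹ * k) = k := by
      rw [← mul_assoc, mul_inv_cancel₀ hj, one_mul]
    rwa [this] at h1
  rw [eq_top_iff]
  rintro (k | k) -
  · exact hrot k
  · have : DihedralGroup.sr k = DihedralGroup.sr i * DihedralGroup.r (k - i) := by
      rw [DihedralGroup.sr_mul_r]; congr 1; ring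
    rw [this]
    exact K.mul_mem hs (hrot _)

end Cfsg.Agent.Helper37.SimsD
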