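import Mathlib
import Cfsg.Agent.Helper88.SimsD.Defs

/-!
# (TR2) of helper88's S2772 farm: the Thompson subgroup `J = ⟨maxAb⟩` commutes with injective maps.
-/

set_option autoImplicit false

namespace Cfsg.Agent.Helper37.SimsD

open Cfsg.Agent.Helper88.SimsD

/-- The abelian subgroups of largest order of `S.map f` are the images of those of `S`. -/
theorem maxAb_map_aux {Γ H : Type*} [Group Γ] [Group H] (f : Γ →* H)
    (hf : Function.Injective f) (S : Subgroup Γ) :
    maxAb (S.map f) = Subgroup.map f '' maxAb S := by
  have hcomm_map : ∀ B : Subgroup Γ, IsMulCommutative B → IsMulCommutative (B.map f) := by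
    intro B hB
    exact Subgroup.map_isMulCommutative B f
  have hcomm_comap : ∀ B : Subgroup H, IsMulCommutative B → IsMulCommutative (B.comap f) := by
    intro B hB
    exact B.comap_injective_isMulCommutative hf
  have hmc : ∀ B : Subgroup H, B ≤ S.map f → (B.comap f).map f = B := by
    intro B hB
    rw [Subgroup.map_comap_eq, inf_eq_right]
    exact hB.trans (Subgroup.map_le_range f S)
  have hcm : ∀ B : Subgroup H, B ≤ S.map f → B.comap f ≤ S := by
    intro B hB
    have := Subgroup.comap_mono (f := f) hB
    rwa [Subgroup.comap_map_eq_self_of_injective hf] at this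
  ext A'
  constructor
  · rintro ⟨hA'S, hA'c, hA'max⟩
    refine ⟨A'.comap f, ⟨hcm A' hA'S, hcomm_comap A' hA'c, ?_⟩, hmc A' hA'S⟩
    intro B hBS hBc
    have h1 := hA'max (B.map f) (Subgroup.map_mono hBS) (hcomm_map B hBc)
    rw [Subgroup.card_map_of_injective hf] at h1
    have h2 : Nat.card A' = Nat.card (A'.comap f) := by
      conv_lhs => rw [← hmc A' hA'S]
      exact Subgroup.card_map_of_injective hf
    omega
  · rintro ⟨A, ⟨hAS, hAc, hAmax⟩, rfl⟩
    refine ⟨Subgroup.map_mono hAS, hcomm_map A hAc, ?_⟩
    intro B hBS hBc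
    have h1 := hAmax (B.comap f) (hcm B hBS) (hcomm_comap B hBc)
    have h2 : Nat.card B = Nat.card (B.comap f) := by
      conv_lhs => rw [← hmc B hBS]
      exact Subgroup.card_map_of_injective hf
    rw [Subgroup.card_map_of_injective hf]
    omega

/-- (TR2) `J` commutes with injective maps. -/
theorem sSup_maxAb_map {Γ H : Type*} [Group Γ] [Group H] (f : Γ →* H)
    (hf : Function.Injective f) (S : Subgroup Γ) :
    sSup (maxAb (S.map f)) = (sSup (maxAb S)).map f := by
  rw [maxAb_map_aux f hf S, sSup_image, (Subgroup.gc_map_comap f).l_sSup]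

end Cfsg.Agent.Helper37.SimsD
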