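import Mathlib
import Cfsg.Agent.Helper37.SpFourG
import Cfsg.Agent.Helper37.OutPslA

/-!
# `Out(PSp_4(2^f))` is cyclic of order `2f`
-/

set_option autoImplicit false
set_option linter.unusedSectionVars false
set_option linter.unusedVariables false
set_option linter.unusedSimpArgs false

namespace Cfsg.Agent.Helper37.SpFour

open Matrix Cfsg.Agent.Helper13 Cfsg.Agent.Helper94.SpRoot Cfsg.Agent.Helper5.AutSp
  Cfsg.Agent.Helper14.AutPSp

variable {F : Type*} [Field F] [Fintype F] [CharP F 2]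

/-- the Frobenius has order `f` in the automorphism group of a field with `2 ^ f` elements -/
theorem orderOf_frob2 {f : ℕ} (hF : Fintype.card F = 2 ^ f) :
    orderOf (frob2 : F ≃+* F) = f := by
  haveI : Fact (Nat.Prime 2) := ⟨Nat.prime_two⟩
  letI := ZMod.algebra F 2
  have hfin : Module.finrank (ZMod 2) F = f := by
    have h1 : Fintype.card F = Fintype.card (ZMod 2) ^ Module.finrank (ZMod 2) F :=
      Module.card_eq_pow_finrank
    rw [hF, ZMod.card] at h1
    exact (Nat.pow_right_injective (le_refl 2) h1).symm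
  have e := Cfsg.Agent.Helper37.OutPsl.ringAutEquivAlgAut F 2
  have h2 : Cfsg.Agent.Helper37.OutPsl.ringAutEquivAlgAut F 2 frob2
      = FiniteField.frobeniusAlgEquivOfAlgebraic (ZMod 2) F := by
    ext x
    show frob2 x = x ^ Fintype.card (ZMod 2)
    rw [frob2_apply, ZMod.card, pow_two]
  rw [← hfin, ← FiniteField.orderOf_frobeniusAlgEquivOfAlgebraic (ZMod 2) F, ← h2]
  exact (MulEquiv.orderOf_eq (Cfsg.Agent.Helper37.OutPsl.ringAutEquivAlgAut F 2) frob2).symm

theorem mk_tauP_pow_two (k : ℕ) :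
    ((QuotientGroup.mk (tauP : MulAut (Cfsg.PSp 2 F)) : Cfsg.Out (Cfsg.PSp 2 F)) ^ (2 * k))
      = QuotientGroup.mk (spField (frob2 ^ k)) := by
  rw [pow_mul, ← QuotientGroup.mk_pow, pow_two, tauP_mul_tauP, ← QuotientGroup.mk_pow, spField_pow]

theorem orderOf_mk_tauP {f : ℕ} (hf : 1 ≤ f) (hF : Fintype.card F = 2 ^ f) :
    orderOf (QuotientGroup.mk (tauP : MulAut (Cfsg.PSp 2 F)) : Cfsg.Out (Cfsg.PSp 2 F)) = 2 * f := by
  have hfr := orderOf_frob2 hF
  have key : ∀ k : ℕ,
      (QuotientGroup.mk (tauP : MulAut (Cfsg.PSp 2 F)) : Cfsg.Out (Cfsg.PSp 2 F)) ^ k = 1 →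
        2 * f ∣ k := by
    intro k hk
    rcases Nat.even_or_odd' k with ⟨j, hj | hj⟩
    · subst hj
      rw [mk_tauP_pow_two, QuotientGroup.eq_one_iff, spField_mem_inn_iff (le_refl 2)] at hk
      have : f ∣ j := by
        rw [← hfr]
        exact orderOf_dvd_of_pow_eq_one hk
      exact Nat.mul_dvd_mul_left 2 this
    · exfalso
      subst hj
      rw [pow_succ, mk_tauP_pow_two, ← QuotientGroup.mk_mul, QuotientGroup.eq_one_iff] at hk
      have h1 : (spField (frob2 ^ j) : MulAut (Cfsg.PSp 2 F)) * tauP ∈ tvSub 2 F :=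
        inn_le_tvSub hk
      haveI : Fact (Nat.Prime 2) := ⟨Nat.prime_two⟩
      have h2 : (spField (frob2 ^ j) : MulAut (Cfsg.PSp 2 F)) ∈ tvSub 2 F :=
        spField_mem_tvSub (p := 2) (le_refl 2) _
      apply tauP_not_mem_tvSub (F := F)
      have := Subgroup.mul_mem _ (Subgroup.inv_mem _ h2) h1
      rwa [inv_mul_cancel_left] at this
  apply Nat.dvd_antisymm
  · apply orderOf_dvd_of_pow_eq_one
    rw [mk_tauP_pow_two, ← hfr, pow_orderOf_eq_one, spField_one]
    rfl
  · exact key _ (pow_orderOf_eq_one _)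

/-- **`Out(PSp_4(2^f))` is cyclic of order `2f`** -/
theorem out_psp_four {f : ℕ} (hf : 1 ≤ f) (hF : Fintype.card F = 2 ^ f) :
    IsCyclic (Cfsg.Out (Cfsg.PSp 2 F)) ∧ Nat.card (Cfsg.Out (Cfsg.PSp 2 F)) = 2 * f := by
  have hcard := card_out_psp_four hf hF
  refine ⟨?_, hcard⟩
  have : Finite (Cfsg.Out (Cfsg.PSp 2 F)) := by
    apply Nat.finite_of_card_ne_zero
    rw [hcard]
    omega
  exact isCyclic_of_orderOf_eq_card _ ((orderOf_mk_tauP hf hF).trans hcard.symm)

end Cfsg.Agent.Helper37.SpFour
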