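import Mathlib
import Cfsg.Agent.Helper37.SpFourH

/-!
# The order of `Aut(PSp_{2m}(q))`
-/

set_option autoImplicit false
set_option linter.unusedSectionVars false
set_option linter.unusedVariables false
set_option linter.unusedSimpArgs false

namespace Cfsg.Agent.Helper37.SpFour

open Matrix Cfsg.Agent.Helper13 Cfsg.Agent.Helper94.SpRoot Cfsg.Agent.Helper5.AutSp
  Cfsg.Agent.Helper14.AutPSp

/-- `|Aut(PSp_{2m}(q))| = gcd(2, q − 1) · f · |PSp_{2m}(q)|`, with an extra factor `2` exactly when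
`(m, p) = (2, 2)` (the exceptional automorphism of `Sp_4(2^f)`) -/
theorem card_aut_psp {F : Type*} [Field F] [Fintype F] (p f : ℕ) [Fact p.Prime] (hf : 1 ≤ f)
    (hF : Fintype.card F = p ^ f) (m : ℕ) (hm : 2 ≤ m) :
    Nat.card (MulAut (Cfsg.PSp m F)) =
      (if m = 2 ∧ p = 2 then 2 else 1) * Nat.gcd 2 (p ^ f - 1) * f * Nat.card (Cfsg.PSp m F) := by
  haveI : CharP F p := charP_of_card_eq_prime_pow hF
  by_cases h : m = 2 ∧ p = 2
  · obtain ⟨rfl, rfl⟩ := h
    rw [if_pos ⟨rfl, rfl⟩, card_aut_psp_four hf hF, gcd_two_pow_sub_one hf]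
  · rw [if_neg h, one_mul]
    have htop : tvSub m F = ⊤ := by
      rw [eq_top_iff]
      intro β _
      exact tvPres_of_aut (p := p) hm (fun h2 hp2 => h ⟨h2, hp2⟩) β
    rw [← card_tvSub hf hF hm, htop, Subgroup.card_top]

end Cfsg.Agent.Helper37.SpFour
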