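import Mathlib
import Cfsg.Agent.Helper19.OpBN.Defs
import Cfsg.Agent.Helper19.OpBN.Pair
import Cfsg.Agent.Helper87.OpBNXLem
import Cfsg.Agent.Helper87.OpBNXOM2

/-!
# (OP) for helper51's S4625, part 1: the upper unitriangular isometries of the plus-type form are
generated by the positive root elements (helper37)

In helper19's matrix model `OG m F` of the orthogonal group of the plus-type form, `Usub m F` (the upper
unitriangular isometries) is the closure of `rootSet m F`, the root elements `x_{ab}(t)`, `a < b`,
`a ≠ rev b`.  Each root element is a commutator in `OG m F` if `3 ≤ m`, and an involution in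
characteristic `2`.
-/

set_option autoImplicit false

namespace Cfsg.Agent.Helper37.SqOP

open Matrix Cfsg Cfsg.Agent.Helper19.OpBN

variable {F : Type*} [Field F] {m : ℕ}

/-- the positive root elements -/
def rootSet (m : ℕ) (F : Type*) [Field F] : Set (OG m F) :=
  {g | ∃ (a b : Fin (2 * m)) (t : F), a < b ∧ a ≠ Fin.rev b ∧ mat g = xMat a b t}

/-- right multiplication by a root element -/
theorem mul_xMat_apply_aux (Y : Matrix (Fin (2 * m)) (Fin (2 * m)) F) (a b : Fin (2 * m))
    (t : F) (i j : Fin (2 * m)) :
    (Y * xMat a b t) i j = Y i j + (if b = j then Y i a * t else 0)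
      - (if Fin.rev a = j then Y i (Fin.rev b) * t else 0) := by
  rw [Matrix.mul_apply]
  simp only [xMat_apply, mul_add, mul_sub, Finset.sum_add_distrib, Finset.sum_sub_distrib]
  congr 1
  · congr 1
    · simp
    · by_cases h : b = j
      · simp [h]
      · simp [h]
  · by_cases h : Fin.rev a = j
    · simp [h]
    · simp [h]

/-- a positive root element is upper unitriangular -/
theorem mem_Usub_of_mat_eq_xMat (g : OG m F) (a b : Fin (2 * m)) (t : F) (hab : a < b)
    (hg : mat g = xMat a b t) : g ∈ Usub m F := by
  rw [mem_Usub_iff]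
  constructor
  · intro i j hji
    rw [hg, xMat_apply]
    have h1 : ¬ i = j := fun h => by rw [h] at hji; exact lt_irrefl _ hji
    have h2 : ¬ (a = i ∧ b = j) := by
      rintro ⟨rfl, rfl⟩
      exact lt_irrefl _ (lt_trans hab hji)
    have h3 : ¬ (Fin.rev b = i ∧ Fin.rev a = j) := by
      rintro ⟨rfl, rfl⟩
      have := Fin.rev_lt_rev.1 hji
      exact lt_irrefl _ (lt_trans hab this)
    rw [if_neg h1, if_neg h2, if_neg h3]
    ring
  · intro i
    rw [hg, xMat_apply]
    have h2 : ¬ (a = i ∧ b = i) := by
      rintro ⟨rfl, h⟩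
      rw [h] at hab
      exact lt_irrefl _ hab
    have h3 : ¬ (Fin.rev b = i ∧ Fin.rev a = i) := by
      rintro ⟨h, h'⟩
      have := Fin.rev_injective (h.trans h'.symm)
      rw [this] at hab
      exact lt_irrefl _ hab
    rw [if_pos rfl, if_neg h2, if_neg h3]
    ring

theorem rootSet_subset_Usub : rootSet m F ⊆ (Usub m F : Set (OG m F)) := by
  rintro g ⟨a, b, t, hab, -, hg⟩
  exact mem_Usub_of_mat_eq_xMat g a b t hab hg

theorem closure_rootSet_le_Usub : Subgroup.closure (rootSet m F) ≤ Usub m F :=
  (Subgroup.closure_le _).2 rootSet_subset_Usub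

/-- the above-diagonal entries in the rows before `k`, and in row `k` before column `c`, vanish -/
def Zrc (k c : ℕ) (g : OG m F) : Prop :=
  ∀ a b : Fin (2 * m), a < b → (a.val < k ∨ (a.val = k ∧ b.val < c)) → mat g a b = 0

/-- a row of the identity matrix in `g` gives a row of the identity matrix in `g⁻¹` -/
theorem inv_row_of_row (g : OG m F) (a : Fin (2 * m))
    (h : ∀ c, mat g a c = if a = c then 1 else 0) (b : Fin (2 * m)) :
    mat g⁻¹ a b = if a = b then 1 else 0 := by
  have h1 := congrFun (congrFun (mul_inv_mat g) a) b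
  rw [Matrix.mul_apply, Finset.sum_eq_single a] at h1
  · rw [h a, if_pos rfl, one_mul] at h1
    rw [h1, Matrix.one_apply]
  · intro c _ hc
    rw [h c, if_neg (fun h' => hc h'.symm), zero_mul]
  · intro hh; exact absurd (Finset.mem_univ _) hh

/-- a row of the identity matrix in `g` gives a column of the identity matrix in `g` -/
theorem col_of_row (g : OG m F) (a : Fin (2 * m))
    (h : ∀ c, mat g a c = if a = c then 1 else 0) (x : Fin (2 * m)) :
    mat g x (Fin.rev a) = if x = Fin.rev a then 1 else 0 := by
  have h1 := inv_row_of_row g a h (Fin.rev x)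
  rw [inv_apply, Fin.rev_rev] at h1
  rw [h1]
  by_cases hx : x = Fin.rev a
  · rw [if_pos hx, if_pos (by rw [hx, Fin.rev_rev])]
  · rw [if_neg hx, if_neg]
    intro h'
    apply hx
    rw [h', Fin.rev_rev]

/-- the step: one more entry -/
theorem exists_step (k c : ℕ) (g : OG m F) (hg : g ∈ Usub m F) (hZ : Zrc k c g) :
    ∃ w ∈ Subgroup.closure (rootSet m F), Zrc k (c + 1) (g * w) := by
  classical
  by_cases hcase : ∃ a b : Fin (2 * m), a.val = k ∧ b.val = c ∧ a < b ∧ mat g a b ≠ 0
  · obtain ⟨a, b, hak, hbc, hab, ht⟩ := hcase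
    obtain ⟨hup, hdiag⟩ := (mem_Usub_iff g).1 hg
    -- the rows before `a` are rows of the identity matrix
    have hrow : ∀ a' : Fin (2 * m), a' < a → ∀ c', mat g a' c' = if a' = c' then 1 else 0 := by
      intro a' ha' c'
      rcases lt_trichotomy a' c' with h | h | h
      · rw [if_neg (ne_of_lt h)]
        exact hZ a' c' h (Or.inl (by rw [← hak]; exact ha'))
      · rw [if_pos h, h, hdiag]
      · rw [if_neg (ne_of_gt h)]
        exact hup a' c' h
    have hcol : ∀ a' : Fin (2 * m), a' < a → ∀ x, mat g x (Fin.rev a') =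
        if x = Fin.rev a' then 1 else 0 := fun a' ha' x => col_of_row g a' (hrow a' ha') x
    -- `b` is before `rev a`
    have hb1 : ¬ Fin.rev a < b := by
      intro h
      have h1 : Fin.rev b < a := by
        have := Fin.rev_lt_rev.2 h
        rwa [Fin.rev_rev] at this
      have h2 := hcol (Fin.rev b) h1 a
      rw [Fin.rev_rev, if_neg (ne_of_lt hab)] at h2
      exact ht h2
    have ham : a.val < m := by
      by_contra hge
      apply hb1
      rw [Fin.lt_def, val_rev]
      rw [Fin.lt_def] at hab
      omega
    have hb2 : b ≠ Fin.rev a := by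
      intro hb
      have h := q_row g a
      rw [Finset.sum_eq_single (⟨a.val, ham⟩ : Fin m)] at h
      · have e1 : lo (⟨a.val, ham⟩ : Fin m) = a := Fin.ext rfl
        have e2 : hi (⟨a.val, ham⟩ : Fin m) = Fin.rev a := by rw [← rev_lo, e1]
        rw [e1, e2, hdiag, one_mul, ← hb] at h
        exact ht h
      · intro i _ hi
        have hne : i.val ≠ a.val := fun h' => hi (Fin.ext h')
        rcases lt_or_gt_of_ne hne with hlt | hgt
        · have : lo i < a := by rw [Fin.lt_def, val_lo]; exact hlt
          rw [hup a (lo i) this, zero_mul]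
        · have h1 : a < lo i := by rw [Fin.lt_def, val_lo]; exact hgt
          have h2 : (lo i).val < c := by
            rw [← hbc, hb, val_rev, val_lo]
            have := i.2
            omega
          rw [hZ a (lo i) h1 (Or.inr ⟨hak, h2⟩), zero_mul]
      · intro hh; exact absurd (Finset.mem_univ _) hh
    have hb3 : b < Fin.rev a := lt_of_le_of_ne (not_lt.1 hb1) hb2
    have hab' : a ≠ Fin.rev b := by
      intro h
      apply hb2
      rw [h, Fin.rev_rev]
    -- the root element
    obtain ⟨x, hx⟩ := exists_of_isOJ (Pair.hX' a b (ne_of_lt hab) hab' (-(mat g a b)))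
    refine ⟨x, Subgroup.subset_closure ⟨a, b, _, hab, hab', hx⟩, ?_⟩
    intro a' b' hab2 hpos
    rw [mat_mul, hx, mul_xMat_apply_aux]
    by_cases hpos' : a'.val < k ∨ (a'.val = k ∧ b'.val < c)
    · -- an earlier position
      rw [hZ a' b' hab2 hpos']
      have h2 : (if b = b' then mat g a' a * -(mat g a b) else 0) = 0 := by
        by_cases hbb : b = b'
        · have ha'a : a' < a := by
            rcases hpos' with h | ⟨h1, h2⟩
            · rw [Fin.lt_def, hak]; exact h
            · exfalso
              rw [← hbb, hbc] at h2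
              exact lt_irrefl _ h2
          rw [if_pos hbb, hrow a' ha'a a, if_neg (ne_of_lt ha'a), zero_mul]
        · rw [if_neg hbb]
      have h3 : (if Fin.rev a = b' then mat g a' (Fin.rev b) * -(mat g a b) else 0) = 0 := by
        by_cases hbb : Fin.rev a = b'
        · have ha'a : a' < a := by
            rcases hpos' with h | ⟨h1, h2⟩
            · rw [Fin.lt_def, hak]; exact h
            · exfalso
              rw [← hbb, ← hbc] at h2
              exact lt_irrefl _ (lt_trans (Fin.lt_def.1 hb3) h2)
          have hne : a' ≠ Fin.rev b := by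
            intro h
            rw [h] at ha'a
            apply hb1
            have := Fin.rev_lt_rev.2 ha'a
            rwa [Fin.rev_rev] at this
          rw [if_pos hbb, hrow a' ha'a (Fin.rev b), if_neg hne, zero_mul]
        · rw [if_neg hbb]
      rw [h2, h3]
      ring
    · -- the position `(a, b)` itself
      have ha' : a' = a := by
        apply Fin.ext
        rcases hpos with h | ⟨h1, h2⟩
        · exact absurd (Or.inl h) hpos'
        · rw [h1, hak]
      have hb' : b' = b := by
        apply Fin.ext
        rcases hpos with h | ⟨h1, h2⟩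
        · exact absurd (Or.inl h) hpos'
        · rw [hbc]
          by_contra hne
          apply hpos'
          exact Or.inr ⟨h1, by omega⟩
      rw [ha', hb', if_pos rfl, if_neg (fun h => hb2 h.symm), hdiag]
      ring
  · refine ⟨1, Subgroup.one_mem _, ?_⟩
    rw [mul_one]
    intro a b hab hpos
    by_cases hpos' : a.val < k ∨ (a.val = k ∧ b.val < c)
    · exact hZ a b hab hpos'
    · by_contra hne
      apply hcase
      refine ⟨a, b, ?_, ?_, hab, hne⟩
      · rcases hpos with h | ⟨h1, h2⟩
        · exact absurd (Or.inl h) hpos'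
        · exact h1
      · rcases hpos with h | ⟨h1, h2⟩
        · exact absurd (Or.inl h) hpos'
        · by_contra hne'
          apply hpos'
          exact Or.inr ⟨h1, by omega⟩

/-- the inner induction: along a row -/
theorem mem_closure_of_Zrc_row (k : ℕ)
    (hnext : ∀ g : OG m F, g ∈ Usub m F → Zrc (k + 1) 0 g → g ∈ Subgroup.closure (rootSet m F))
    (d : ℕ) : ∀ c : ℕ, c + d = 2 * m → ∀ g : OG m F, g ∈ Usub m F → Zrc k c g →
      g ∈ Subgroup.closure (rootSet m F) := by
  induction d with
  | zero =>
    intro c hc g hg hZ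
    apply hnext g hg
    intro a b hab hpos
    apply hZ a b hab
    rcases hpos with h | ⟨h1, h2⟩
    · rcases Nat.lt_succ_iff_lt_or_eq.1 h with h' | h'
      · exact Or.inl h'
      · exact Or.inr ⟨h', by have := b.2; omega⟩
    · exact absurd h2 (Nat.not_lt_zero _)
  | succ d ih =>
    intro c hc g hg hZ
    obtain ⟨w, hw, hZ'⟩ := exists_step k c g hg hZ
    have hgw : g * w ∈ Usub m F := (Usub m F).mul_mem hg (closure_rootSet_le_Usub hw)
    have h1 := ih (c + 1) (by omega) (g * w) hgw hZ'
    have e : g = g * w * w⁻¹ := by group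
    rw [e]
    exact Subgroup.mul_mem _ h1 (Subgroup.inv_mem _ hw)

/-- the outer induction: over the rows -/
theorem mem_closure_of_Zrc (d : ℕ) : ∀ k : ℕ, k + d = 2 * m → ∀ g : OG m F, g ∈ Usub m F →
    Zrc k 0 g → g ∈ Subgroup.closure (rootSet m F) := by
  induction d with
  | zero =>
    intro k hk g hg hZ
    obtain ⟨hup, hdiag⟩ := (mem_Usub_iff g).1 hg
    have : g = 1 := by
      apply mat_injective
      ext a b
      rw [mat_one, Matrix.one_apply]
      rcases lt_trichotomy a b with h | h | h
      · rw [if_neg (ne_of_lt h)]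
        exact hZ a b h (Or.inl (by have := a.2; omega))
      · rw [if_pos h, h, hdiag]
      · rw [if_neg (ne_of_gt h)]
        exact hup a b h
    rw [this]
    exact Subgroup.one_mem _
  | succ d ih =>
    intro k hk g hg hZ
    exact mem_closure_of_Zrc_row k (ih (k + 1) (by omega)) (2 * m) 0 (by omega) g hg hZ

/-- the upper unitriangular isometries are generated by the positive root elements -/
theorem closure_rootSet_eq_Usub : Subgroup.closure (rootSet m F) = Usub m F := by
  apply le_antisymm closure_rootSet_le_Usub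
  intro g hg
  apply mem_closure_of_Zrc (2 * m) 0 (by omega) g hg
  intro a b _ hpos
  rcases hpos with h | ⟨_, h⟩
  · exact absurd h (Nat.not_lt_zero _)
  · exact absurd h (Nat.not_lt_zero _)

/-- `x_{ab}(0) = 1` -/
theorem xMat_zero_aux (a b : Fin (2 * m)) : xMat a b (0 : F) = 1 := by
  unfold xMat
  simp

/-- the positive root elements are involutions in characteristic `2` -/
theorem sq_eq_one_of_mem_rootSet [CharP F 2] (y : OG m F) (hy : y ∈ rootSet m F) : y ^ 2 = 1 := by
  obtain ⟨a, b, t, hab, -, hg⟩ := hy
  apply mat_injective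
  rw [pow_two, mat_mul, hg, Cfsg.Agent.Helper87.OpBN.xMat_mul_xMat (ne_of_lt hab),
    CharTwo.add_self_eq_zero, xMat_zero_aux, mat_one]

/-- the root elements are commutators, if `m ≥ 3` -/
theorem rootSet_subset_commutator (hm : 3 ≤ m) :
    rootSet m F ⊆ ((commutator (OG m F) : Subgroup (OG m F)) : Set (OG m F)) := by
  classical
  rintro g ⟨a, b, t, hab0, hab', ht⟩
  have hab : a ≠ b := ne_of_lt hab0
  -- a third position
  have hex : ∃ c : Fin (2 * m), c ∉ ({a, b, Fin.rev a, Fin.rev b} : Finset (Fin (2 * m))) := by
    by_contra h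
    push Not at h
    have h1 : (Finset.univ : Finset (Fin (2 * m))) ⊆ {a, b, Fin.rev a, Fin.rev b} := fun c _ => h c
    have h2 := Finset.card_le_card h1
    have h3 : ({a, b, Fin.rev a, Fin.rev b} : Finset (Fin (2 * m))).card ≤ 4 := Finset.card_le_four
    rw [Finset.card_univ, Fintype.card_fin] at h2
    omega
  obtain ⟨c, hc⟩ := hex
  simp only [Finset.mem_insert, Finset.mem_singleton, not_or] at hc
  obtain ⟨hca, hcb, hcra, hcrb⟩ := hc
  have hac : a ≠ c := fun h => hca h.symm
  have hac' : a ≠ Fin.rev c := by
    intro h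
    apply hcra
    rw [h, Fin.rev_rev]
  have hcb' : c ≠ Fin.rev b := hcrb
  obtain ⟨x, hx⟩ := exists_of_isOJ (Pair.hX' a c hac hac' t)
  obtain ⟨y, hy⟩ := exists_of_isOJ (Pair.hX' c b hcb hcb' (1 : F))
  obtain ⟨x', hx'⟩ := exists_of_isOJ (Pair.hX' a c hac hac' (-t))
  obtain ⟨y', hy'⟩ := exists_of_isOJ (Pair.hX' c b hcb hcb' (-1 : F))
  have hxx : x⁻¹ = x' := by
    apply inv_eq_of_mul_eq_one_right
    apply mat_injective
    rw [mat_mul, hx, hx', Cfsg.Agent.Helper87.OpBN.xMat_mul_xMat hac, add_neg_cancel, mat_one,
      xMat_zero_aux]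
  have hyy : y⁻¹ = y' := by
    apply inv_eq_of_mul_eq_one_right
    apply mat_injective
    rw [mat_mul, hy, hy', Cfsg.Agent.Helper87.OpBN.xMat_mul_xMat hcb, add_neg_cancel, mat_one,
      xMat_zero_aux]
  have hgc : g = x * y * x⁻¹ * y⁻¹ := by
    apply mat_injective
    rw [hxx, hyy, mat_mul, mat_mul, mat_mul, hx, hy, hx', hy', ht,
      Cfsg.Agent.Helper87.OpBN.xMat_comm_formula hab hac hcb hac' hcb', mul_one]
  have hmem := Subgroup.commutator_mem_commutator (Subgroup.mem_top x) (Subgroup.mem_top y)
  rw [commutatorElement_def] at hmem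
  rw [hgc]
  exact hmem

/-- the upper unitriangular isometries lie in the commutator subgroup, if `m ≥ 3` -/
theorem Usub_le_commutator (hm : 3 ≤ m) : Usub m F ≤ commutator (OG m F) := by
  rw [← closure_rootSet_eq_Usub, Subgroup.closure_le]
  exact rootSet_subset_commutator hm

end Cfsg.Agent.Helper37.SqOP
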