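import Mathlib
import Cfsg.Agent.Helper19.OpBN.Main
import Cfsg.Agent.Helper51.SqComm
import Cfsg.Agent.Helper37.SqOPGen

/-!
# (OP) for helper51's S4625: the Sylow `2`-subgroups of `PΩ⁺_{2m}(q)`, `q` even, `m ≥ 4`
(helper37)

In helper19's matrix model (S2548): `Usub m F` is a Sylow `p`-subgroup of `GG m F = ⟨B, N⟩`, it lies in the
commutator subgroup `Ω` of the isometry group (generated by root elements, which are commutators) and
it is generated by involutions in characteristic `2`.  Transport to the Prelude's form as in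
`Cfsg.Agent.Helper19.OpBN.Asm.main`.
-/

set_option autoImplicit false

namespace Cfsg.Agent.Helper37.SqOP

open Matrix Cfsg Cfsg.Agent.Helper19.OpBN Cfsg.Agent.Helper19.OpBN.Pair
open Cfsg.Agent.Helper19.OpBN.Asm Cfsg.Agent.Helper51.SQ

variable {F : Type*} [Field F] [Fintype F] {m : ℕ}

/-- the order of `UU` is the order of a Sylow `p`-subgroup of `GG` -/
theorem card_sylow_GG (p : ℕ) [Fact p.Prime] [CharP F p] (Q : Sylow p ↥(GG m F)) :
    Nat.card Q = Nat.card (UU m F) := by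
  classical
  have : Finite ↥(GG m F) := inferInstance
  have hUp : IsPGroup p (UU m F) := by
    have h := Cfsg.Agent.Helper47.OpBN.Usub_isPGroup (F := F) (m := m) p
    exact h.of_equiv (Subgroup.subgroupOfEquivOfLe (Usub_le_Bsub.trans Bsub_le_GG)).symm
  have hUn : ∀ b ∈ (PP m F).B, ∀ u ∈ UU m F, b⁻¹ * u * b ∈ UU m F := by
    intro b hb u hu
    exact UU_normal b hb u hu
  have h10 : ∀ g : ↥(GG m F), (∀ u ∈ UU m F, g⁻¹ * u * g ∈ (PP m F).B) → g ∈ (PP m F).B :=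
    fun g hg => mem_B_of_conj (UU m F) hUn XX_subset_UU g hg
  have h11 : ¬ p ∣ ((PP m F).B).index :=
    Cfsg.Agent.Helper55.SpBNP11.not_dvd_index_of_fixed p (UU m F) (PP m F).B UU_le_B hUp h10
  have hBUT : ∀ b ∈ (PP m F).B, ∃ u ∈ UU m F, ∃ t ∈ TT m F, b = u * t := by
    intro b hb
    obtain ⟨u, hu, t, ht, he⟩ :=
      Cfsg.Agent.Helper47.OpBN.exists_Usub_mul_Tsub (b : OG m F) ((mem_PP_B b).1 hb)
    exact ⟨⟨u, Bsub_le_GG (Usub_le_Bsub hu)⟩, Subgroup.mem_subgroupOf.2 hu,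
      ⟨t, Bsub_le_GG (Tsub_le_Bsub ht)⟩, Subgroup.mem_subgroupOf.2 ht, Subtype.ext he⟩
  have hUT : ∀ g : ↥(GG m F), g ∈ UU m F → g ∈ TT m F → g = 1 := by
    intro g hu ht
    exact Subtype.ext (Usub_inf_Tsub (g : OG m F) (Subgroup.mem_subgroupOf.1 hu)
      (Subgroup.mem_subgroupOf.1 ht))
  have hidx : ((TT m F).subgroupOf (PP m F).B).index = Nat.card (UU m F) :=
    Cfsg.Agent.Helper55.SpBNP13.index_subgroupOf_eq_card (UU m F) (TT m F) (PP m F).B
      UU_le_B TT_le_B hBUT hUT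
  have h13 : ∃ k : ℕ, ((TT m F).subgroupOf (PP m F).B).index = p ^ k := by
    obtain ⟨k, hk⟩ := (IsPGroup.iff_card (p := p) (G := UU m F)).mp hUp
    exact ⟨k, by rw [hidx, hk]⟩
  have h12 : ¬ p ∣ Nat.card (TT m F) := by
    have h := Cfsg.Agent.Helper47.OpBN.not_dvd_card_Tsub (F := F) (m := m) p
    have e : Nat.card (TT m F) = Nat.card (Tsub m F) :=
      Nat.card_congr (Subgroup.subgroupOfEquivOfLe (Tsub_le_Bsub.trans Bsub_le_GG)).toEquiv
    rwa [e]
  rw [Cfsg.Agent.Helper55.SpBNP14.card_sylow_of_chain p (TT m F) (PP m F).B TT_le_B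
    h11 h12 h13 Q, hidx]

omit [Fintype F] in
/-- `UU` lies in `Ω`, if `m ≥ 3` -/
theorem UU_le_OmG (hm : 3 ≤ m) : UU m F ≤ OmG m F := by
  intro g hg
  rw [mem_OmG]
  exact Usub_le_commutator hm (Subgroup.mem_subgroupOf.1 hg)

omit [Fintype F] in
/-- the upper unitriangular isometries: squares are products of commutators (characteristic `2`) -/
theorem sqComm_Usub [CharP F 2] : SqComm ↥(Usub m F) :=
  sqComm_of_closure_involutions (Usub m F) (rootSet m F) closure_rootSet_eq_Usub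
    (fun y hy => sq_eq_one_of_mem_rootSet y hy)

/-- the Sylow `2`-subgroups of `Ω` in the matrix model -/
theorem sqComm_sylow_OmG [CharP F 2] (hm : 3 ≤ m) (P : Sylow 2 ↥(OmG m F)) :
    SqComm (P : Subgroup ↥(OmG m F)) := by
  classical
  have : Finite ↥(GG m F) := inferInstance
  obtain ⟨Q⟩ : Nonempty (Sylow 2 ↥(GG m F)) := inferInstance
  have hcard : Nat.card (UU m F) = 2 ^ (Nat.card ↥(GG m F)).factorization 2 := by
    rw [← card_sylow_GG 2 Q, Sylow.card_eq_multiplicity]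
  let P₀ : Sylow 2 ↥(GG m F) := Sylow.ofCard (UU m F) hcard
  have hP₀ : (P₀ : Subgroup ↥(GG m F)) = UU m F := Sylow.coe_ofCard _ _
  have hle : (P₀ : Subgroup ↥(GG m F)) ≤ OmG m F := by rw [hP₀]; exact UU_le_OmG hm
  let P₁ : Sylow 2 ↥(OmG m F) := P₀.subtype hle
  have hP₁ : (P₁ : Subgroup ↥(OmG m F)) = (UU m F).subgroupOf (OmG m F) := by
    rw [Sylow.coe_subtype, hP₀]
  refine sylow_all_of_one P₁ ?_ P
  rw [hP₁]
  have e1 : ↥((UU m F).subgroupOf (OmG m F)) ≃* ↥(UU m F) :=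
    Subgroup.subgroupOfEquivOfLe (UU_le_OmG hm)
  have e2 : ↥(UU m F) ≃* ↥(Usub m F) :=
    Subgroup.subgroupOfEquivOfLe (Usub_le_Bsub.trans Bsub_le_GG)
  exact sqComm_Usub.of_mulEquiv (e1.trans e2).symm

/-- (OP) the Sylow `2`-subgroups of `PΩ⁺_{2m}(F)`, `F` finite of characteristic `2`, `m ≥ 4`: every square
is a product of commutators -/
theorem sq_POmegaPlus {F : Type*} [Field F] [Fintype F] [CharP F 2] (m : ℕ) (hm : 4 ≤ m)
    (P : Sylow 2 (POmega F (quadFormPlus m F))) :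
    SqComm (P : Subgroup (POmega F (quadFormPlus m F))) := by
  obtain ⟨e0⟩ := Cfsg.Agent.Helper47.OpBN.nonempty_mulEquiv_isometry (F := F) m
  have e : ↥(OmG m F) ≃* ↥(Cfsg.Omega F (Cfsg.quadFormPlus m F)) :=
    (Subgroup.subgroupOfEquivOfLe commutator_le_GG).trans (Cfsg.Agent.Helper12.GF.commCongr e0.symm)
  have : Finite ↥(OmG m F) := inferInstance
  have : Finite ↥(Cfsg.Omega F (Cfsg.quadFormPlus m F)) := Finite.of_equiv _ e.toEquiv
  have h1 : ∀ P' : Sylow 2 ↥(Cfsg.Omega F (Cfsg.quadFormPlus m F)),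
      SqComm (P' : Subgroup ↥(Cfsg.Omega F (Cfsg.quadFormPlus m F))) :=
    sylow_all_of_mulEquiv e.symm (fun P' => sqComm_sylow_OmG (by omega) P')
  exact sylow_all_of_surjective
    (QuotientGroup.mk' (Subgroup.center ↥(Cfsg.Omega F (Cfsg.quadFormPlus m F))))
    (QuotientGroup.mk'_surjective _) h1 P

end Cfsg.Agent.Helper37.SqOP
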