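-- (DG2) of helper74's WANTED #5091/#5100 for S4130 (squarefree class sizes): if `G' ≤ P` for a Sylow `r`-subgroup
-- `P` centralised by all `r'`-elements, then `G' ≤ P'` (helper37).
import Mathlib

set_option autoImplicit false

namespace Cfsg.Agent.Helper37.Sqf

open scoped commutatorElement

variable {G : Type*} [Group G]

/-- every element is the product of a power of order dividing `r ^ j` and a power of order prime to `r` -/
lemma exists_parts [Finite G] (r : ℕ) [Fact r.Prime] (g : G) :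
    ∃ a x : G, (∃ j : ℕ, a ^ r ^ j = 1) ∧ (orderOf x).Coprime r ∧ g = a * x := by
  have hr : r.Prime := Fact.out
  have hn : orderOf g ≠ 0 := (orderOf_pos g).ne'
  obtain ⟨j, m, hm, hnm⟩ := Nat.exists_eq_pow_mul_and_not_dvd hn r hr.ne_one
  have hcop : Nat.Coprime (r ^ j) m := Nat.Coprime.pow_left j ((Nat.Prime.coprime_iff_not_dvd hr).2 hm)
  have hbez : ((r ^ j : ℕ) : ℤ) * Nat.gcdA (r ^ j) m + (m : ℤ) * Nat.gcdB (r ^ j) m = 1 := by
    have := Nat.gcd_eq_gcd_ab (r ^ j) m
    rw [hcop.gcd_eq_one] at this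
    exact_mod_cast this.symm
  refine ⟨g ^ ((m : ℤ) * Nat.gcdB (r ^ j) m), g ^ (((r ^ j : ℕ) : ℤ) * Nat.gcdA (r ^ j) m),
    ⟨j, ?_⟩, ?_, ?_⟩
  · rw [← zpow_natCast, ← zpow_mul]
    have : (m : ℤ) * Nat.gcdB (r ^ j) m * ((r ^ j : ℕ) : ℤ) =
        ((orderOf g : ℕ) : ℤ) * Nat.gcdB (r ^ j) m := by
      rw [hnm]; push_cast; ring
    rw [this, zpow_mul, zpow_natCast, pow_orderOf_eq_one, one_zpow]
  · have hxm : (g ^ (((r ^ j : ℕ) : ℤ) * Nat.gcdA (r ^ j) m)) ^ m = 1 := by
      rw [← zpow_natCast, ← zpow_mul]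
      have : ((r ^ j : ℕ) : ℤ) * Nat.gcdA (r ^ j) m * (m : ℤ) =
          ((orderOf g : ℕ) : ℤ) * Nat.gcdA (r ^ j) m := by
        rw [hnm]; push_cast; ring
      rw [this, zpow_mul, zpow_natCast, pow_orderOf_eq_one, one_zpow]
    exact Nat.Coprime.coprime_dvd_left (orderOf_dvd_of_pow_eq_one hxm)
      ((Nat.Prime.coprime_iff_not_dvd hr).2 hm).symm
  · rw [← zpow_add, add_comm, hbez, zpow_one]

theorem commutator_le_of_centralizes [Finite G] (r : ℕ) [Fact r.Prime] (P : Sylow r G)
    (hG' : commutator G ≤ (P : Subgroup G))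
    (hc : ∀ x : G, (orderOf x).Coprime r → ∀ v ∈ (P : Subgroup G), x * v = v * x) :
    commutator G ≤ ⁅(P : Subgroup G), (P : Subgroup G)⁆ := by
  have hr : r.Prime := Fact.out
  have hG'' : ⁅(⊤ : Subgroup G), ⊤⁆ ≤ (P : Subgroup G) := by rw [← commutator_def]; exact hG'
  -- `P` is normal
  have hPn : (P : Subgroup G).Normal := by
    refine ⟨fun p hp g => ?_⟩
    have h1 : ⁅g, p⁆ ∈ (P : Subgroup G) :=
      hG'' (Subgroup.commutator_mem_commutator (Subgroup.mem_top g) (Subgroup.mem_top p))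
    have h2 : g * p * g⁻¹ = ⁅g, p⁆ * p := by rw [commutatorElement_def]; group
    rw [h2]
    exact (P : Subgroup G).mul_mem h1 hp
  letI hsub : Unique (Sylow r G) := Sylow.unique_of_normal P hPn
  -- `r`-elements lie in `P`
  have hmemP : ∀ a : G, (∃ j : ℕ, a ^ r ^ j = 1) → a ∈ (P : Subgroup G) := by
    rintro a ⟨j, hj⟩
    have hpg : IsPGroup r (Subgroup.zpowers a) := by
      obtain ⟨i, -, hi⟩ := (Nat.dvd_prime_pow hr).1 (orderOf_dvd_of_pow_eq_one hj)
      apply IsPGroup.of_card (n := i)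
      rw [Nat.card_zpowers, hi]
    obtain ⟨Q, hQ⟩ := hpg.exists_le_sylow
    rw [Subsingleton.elim Q P] at hQ
    exact hQ (Subgroup.mem_zpowers a)
  -- `r'`-elements commute
  have hcomm : ∀ x y : G, (orderOf x).Coprime r → (orderOf y).Coprime r → x * y = y * x := by
    intro x y hx hy
    set z : G := ⁅x, y⁆ with hz
    have hzP : z ∈ (P : Subgroup G) :=
      hG'' (Subgroup.commutator_mem_commutator (Subgroup.mem_top x) (Subgroup.mem_top y))
    have hxz : x * z = z * x := hc x hx z hzP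
    have hyz : y * z = z * y := hc y hy z hzP
    have hxy : x * y * x⁻¹ = z * y := by rw [hz, commutatorElement_def]; group
    have hpow : ∀ n : ℕ, x ^ n * y * (x ^ n)⁻¹ = z ^ n * y := by
      intro n
      induction n with
      | zero => simp
      | succ n ih =>
        have hxzn : x * z ^ n = z ^ n * x := (Commute.pow_right (show Commute x z from hxz) n).eq
        calc x ^ (n + 1) * y * (x ^ (n + 1))⁻¹ = x * (x ^ n * y * (x ^ n)⁻¹) * x⁻¹ := by
              rw [pow_succ']; group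
          _ = x * (z ^ n * y) * x⁻¹ := by rw [ih]
          _ = (x * z ^ n) * y * x⁻¹ := by group
          _ = z ^ n * (x * y * x⁻¹) := by rw [hxzn]; group
          _ = z ^ (n + 1) * y := by rw [hxy, pow_succ]; group
    have h1 := hpow (orderOf x)
    rw [pow_orderOf_eq_one, one_mul, inv_one, mul_one] at h1
    have hz1 : z ^ orderOf x = 1 := by
      have := congrArg (· * y⁻¹) h1
      simpa using this.symm
    obtain ⟨i, hi⟩ := (IsPGroup.iff_orderOf.1 P.isPGroup') ⟨z, hzP⟩
    rw [Subgroup.orderOf_mk] at hi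
    have hd : orderOf z ∣ orderOf x := orderOf_dvd_of_pow_eq_one hz1
    have hcop : Nat.Coprime (orderOf z) (orderOf x) := by
      rw [hi]
      exact Nat.Coprime.pow_left i hx.symm
    have hone : orderOf z = 1 := Nat.Coprime.eq_one_of_dvd hcop hd
    have hz' : z = 1 := orderOf_eq_one_iff.1 hone
    have : x * y * x⁻¹ = y := by rw [hxy, hz', one_mul]
    calc x * y = (x * y * x⁻¹) * x := by group
      _ = y * x := by rw [this]
  -- the commutator of two arbitrary elements
  rw [commutator_def, Subgroup.commutator_le]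
  intro g _ h _
  obtain ⟨a, x, ha, hx, rfl⟩ := exists_parts r g
  obtain ⟨b, y, hb, hy, rfl⟩ := exists_parts r h
  have haP := hmemP a ha
  have hbP := hmemP b hb
  have hxh : x * (b * y) = (b * y) * x := by
    rw [← mul_assoc, hc x hx b hbP, mul_assoc, hcomm x y hx hy, mul_assoc]
  have hya : y * a = a * y := hc y hy a haP
  have e1 : ⁅a * x, b * y⁆ = ⁅a, b⁆ := by
    rw [commutatorElement_def, commutatorElement_def]
    have h1 : x * (b * y) * x⁻¹ = b * y := by rw [hxh]; group
    have h2 : y * a⁻¹ * y⁻¹ = a⁻¹ := by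
      have : y * a⁻¹ = a⁻¹ * y := by
        have := congrArg (fun t => a⁻¹ * t * a⁻¹) hya
        simpa [mul_assoc] using this.symm
      rw [this]; group
    calc a * x * (b * y) * (a * x)⁻¹ * (b * y)⁻¹
        = a * (x * (b * y) * x⁻¹) * a⁻¹ * (b * y)⁻¹ := by group
      _ = a * (b * y) * a⁻¹ * (b * y)⁻¹ := by rw [h1]
      _ = a * b * (y * a⁻¹ * y⁻¹) * b⁻¹ := by group
      _ = a * b * a⁻¹ * b⁻¹ := by rw [h2]
  rw [e1]
  exact Subgroup.commutator_mem_commutator haP hbP

end Cfsg.Agent.Helper37.Sqf
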