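import Cfsg.Agent.Helper95.SzOrd.Defs

/-!
# helper37: piece (CSQ) of helper95's Suzuki order farm (#11298): square-root counts

`u * u = 1` iff `u = 1` or `u` is an involution (`card_invol`).  For `z ≠ 1` in `Z(Q)`: a square root
`u` of `z` commutes with `z`, hence fixes `a`, is a `2`-element, so lies in `Q \ Z(Q)`; squaring maps
`Q \ Z(Q)` onto `Z(Q) \ {1}` and commutes with conjugation by `K`, which is transitive on `Z(Q) \ {1}`:
all fibres have `(q³ - q)/(q - 1) = q (q + 1)` elements.
-/

set_option autoImplicit false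
set_option linter.unusedSectionVars false

namespace Cfsg.Agent.Helper37.SzOrd

open Cfsg MulAction Cfsg.Agent.Helper95.SzOrd

theorem natCard_subtype_eq_aux {α : Type*} [Fintype α] (p : α → Prop) [DecidablePred p] :
    Nat.card {x // p x} = (Finset.univ.filter p).card := by
  rw [Nat.card_eq_fintype_card, Fintype.card_subtype]

variable {G Ω : Type*} [Group G] [Fintype G] [MulAction G Ω] [Fintype Ω]
variable {a b : Ω} {Q : Subgroup G} {q n : ℕ}

/-- (CSQ) Square roots. -/
theorem CSQ (F : ZTFacts a b Q q n) (hN : Nat.card Q = q ^ 3) :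
    Nat.card {u : G // u * u = 1} = 1 + (q - 1) * (q ^ 3 + 1) ∧
    ∀ z ∈ Zs Q, z ≠ 1 → Nat.card {u : G // u * u = z} = q * (q + 1) := by
  classical
  constructor
  · -- `u * u = 1` iff `u = 1` or `u` is an involution
    have h1 := F.card_invol
    rw [hN, natCard_subtype_eq_aux] at h1
    rw [natCard_subtype_eq_aux]
    have hset : Finset.univ.filter (fun u : G => u * u = 1) =
        insert 1 (Finset.univ.filter (fun t : G => orderOf t = 2)) := by
      ext u
      simp only [Finset.mem_filter, Finset.mem_univ, true_and, Finset.mem_insert]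
      rw [orderOf_eq_prime_iff, pow_two]
      by_cases hu : u = 1
      · simp [hu]
      · simp [hu]
    rw [hset, Finset.card_insert_of_notMem, h1, add_comm]
    simp
  · intro z hz hz1
    have hzQ : z ∈ Q := (mem_Zs.mp hz).1
    -- a square root of an involution of `Z(Q)` lies in `Q \ Z(Q)`
    have key : ∀ w ∈ Zs Q, w ≠ 1 → ∀ u : G, u * u = w → u ∈ Q ∧ u ∉ Zs Q := by
      intro w hw hw1 u hu
      have hwQ : w ∈ Q := (mem_Zs.mp hw).1
      have hww : w * w = 1 := ((F.invol_Q w hwQ).mpr ⟨hw1, hw⟩).2
      have hcomm : w * u = u * w := by rw [← hu, mul_assoc]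
      have hwa : w • a = a := mem_stabilizer_iff.mp (F.zt.Qle hwQ)
      have hua : u • a = a := by
        apply F.Q_fix w hwQ hw1
        rw [← mul_smul, hcomm, mul_smul, hwa]
      have hu4 : u ^ (2 ^ 2) = 1 := by
        calc u ^ (2 ^ 2) = (u * u) * (u * u) := by
              rw [show (2 : ℕ) ^ 2 = 2 + 2 by norm_num, pow_add, pow_two]
          _ = 1 := by rw [hu, hww]
      have huQ : u ∈ Q := F.two_elt_mem u hua ⟨2, hu4⟩
      refine ⟨huQ, fun huZ => ?_⟩
      by_cases hu1 : u = 1
      · apply hw1; rw [← hu, hu1, mul_one]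
      · apply hw1; rw [← hu]
        exact ((F.invol_Q u huQ).mpr ⟨hu1, huZ⟩).2
    -- the finsets
    set S : Finset G := Finset.univ.filter (fun u : G => u ∈ Q ∧ u ∉ Zs Q) with hS
    set T : Finset G := Finset.univ.filter (fun w : G => w ∈ Zs Q ∧ w ≠ 1) with hT
    set N : ℕ := (Finset.univ.filter (fun u : G => u * u = z)).card with hNdef
    have hmaps : ∀ u ∈ S, u * u ∈ T := by
      intro u hu
      rw [hS, Finset.mem_filter] at hu
      rw [hT, Finset.mem_filter]
      refine ⟨Finset.mem_univ _, F.sq_mem u hu.2.1, fun h1 => ?_⟩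
      have hu1 : u ≠ 1 := by
        rintro rfl
        exact hu.2.2 (Subgroup.one_mem _)
      exact hu.2.2 ((F.invol_Q u hu.2.1).mp ⟨hu1, h1⟩).2
    have hfib : ∀ w ∈ T, (S.filter (fun u => u * u = w)).card = N := by
      intro w hw
      rw [hT, Finset.mem_filter] at hw
      obtain ⟨-, hwZ, hw1⟩ := hw
      have e1 : S.filter (fun u => u * u = w) = Finset.univ.filter (fun u : G => u * u = w) := by
        ext u
        simp only [hS, Finset.mem_filter, Finset.mem_univ, true_and]
        constructor
        · exact fun h => h.2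
        · exact fun h => ⟨key w hwZ hw1 u h, h⟩
      rw [e1, hNdef]
      obtain ⟨k, -, hk⟩ := F.K_trans w hwZ z hz hw1 hz1
      refine Finset.card_bij (fun u _ => k * u * k⁻¹) ?_ ?_ ?_
      · intro u hu
        simp only [Finset.mem_filter, Finset.mem_univ, true_and] at hu ⊢
        rw [← hk, ← hu]; group
      · intro u _ v _ huv
        simpa using huv
      · intro v hv
        simp only [Finset.mem_filter, Finset.mem_univ, true_and] at hv
        refine ⟨k⁻¹ * v * k, ?_, by group⟩
        simp only [Finset.mem_filter, Finset.mem_univ, true_and]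
        have : w = k⁻¹ * z * k := by rw [← hk]; group
        rw [this, ← hv]; group
    have hsum : S.card = T.card * N := by
      rw [Finset.card_eq_sum_card_fiberwise hmaps, Finset.sum_congr rfl hfib, Finset.sum_const,
        smul_eq_mul]
    -- the cardinalities of `S` and `T`
    have hcQ : (Finset.univ.filter (fun u : G => u ∈ Q)).card = q ^ 3 := by
      rw [← hN]; exact (natCard_subtype_eq_aux (fun u : G => u ∈ Q)).symm
    have hcZ : (Finset.univ.filter (fun u : G => u ∈ Zs Q)).card = q := by
      have := F.card_Zs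
      rw [← this]; exact (natCard_subtype_eq_aux (fun u : G => u ∈ Zs Q)).symm
    have hZQ : Finset.univ.filter (fun u : G => u ∈ Zs Q) ⊆ Finset.univ.filter (fun u : G => u ∈ Q) := by
      intro u hu
      simp only [Finset.mem_filter, Finset.mem_univ, true_and] at hu ⊢
      exact (mem_Zs.mp hu).1
    have hScard : S.card = q ^ 3 - q := by
      have : S = Finset.univ.filter (fun u : G => u ∈ Q) \ Finset.univ.filter (fun u : G => u ∈ Zs Q) := by
        ext u
        simp only [hS, Finset.mem_filter, Finset.mem_univ, true_and, Finset.mem_sdiff]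
      rw [this, Finset.card_sdiff_of_subset hZQ, hcQ, hcZ]
    have hTcard : T.card = q - 1 := by
      have : T = (Finset.univ.filter (fun u : G => u ∈ Zs Q)).erase 1 := by
        ext u
        simp only [hT, Finset.mem_filter, Finset.mem_univ, true_and, Finset.mem_erase]
        tauto
      rw [this, Finset.card_erase_of_mem, hcZ]
      simp only [Finset.mem_filter, Finset.mem_univ, true_and]
      exact Subgroup.one_mem _
    rw [natCard_subtype_eq_aux, ← hNdef]
    rw [hScard, hTcard] at hsum
    -- arithmetic
    have hq2 : 2 ≤ q := by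
      rw [F.hq]
      calc 2 = 2 ^ 1 := by norm_num
        _ ≤ 2 ^ n := Nat.pow_le_pow_right (by norm_num) (by have := F.hn; omega)
    obtain ⟨m, rfl⟩ : ∃ m, q = m + 2 := ⟨q - 2, by omega⟩
    have h3 : (m + 2) ^ 3 - (m + 2) = (m + 2 - 1) * ((m + 2) * (m + 2 + 1)) := by
      have : m + 2 - 1 = m + 1 := by omega
      rw [this]
      apply Nat.sub_eq_of_eq_add
      ring
    rw [h3] at hsum
    exact (Nat.eq_of_mul_eq_mul_left (by omega) hsum).symm

end Cfsg.Agent.Helper37.SzOrd
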