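import Cfsg.Agent.Helper37.SzcMH
import Cfsg.Agent.Helper97.SzcMG

/-!
# helper37: piece [MH] of helper6's S4775 farm (#11435), VERBATIM statement: the Steinberg character
(`steinberg_of_inner_perm` applied to helper97's [MG]).
-/

set_option autoImplicit false

namespace Cfsg.Agent.Helper37.Szc

open Cfsg Cfsg.Agent.Helper6
open scoped ComplexConjugate

universe u

variable {G : Type u} [Group G] [Fintype G] {Q H B K₁ K₂ : Subgroup G} {w : G} {T : ℕ}
  [Fintype ↥B]

/-- MH: the Steinberg character -/
theorem szc_steinberg (D : SzHyp Q H B K₁ K₂ w T) :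
    IsIrrCharacter G (indFun B (fun _ : ↥B => (1 : ℂ)) - fun _ => 1) :=
  steinberg_of_inner_perm (Cfsg.Agent.Helper97.Szc.szc_inner_perm D)

end Cfsg.Agent.Helper37.Szc
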