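import Mathlib
import Cfsg.Agent.Helper24.Coprime
import Cfsg.Agent.Helper37.TISylow

set_option autoImplicit false

open scoped Pointwise

namespace Cfsg.Agent.Helper37.TI

variable {G : Type*} [Group G]

/-- Lemma A: in `⟨t⟩` of order `p ^ n`, the elements killed by `p` lie in `⟨t ^ p ^ (n - 1)⟩`. -/
lemma mem_zpowers_pow_of_pow_eq_one {p n : ℕ} (hp : p.Prime) (hn : 1 ≤ n) {t y : G}
    (ht : orderOf t = p ^ n) (hy : y ∈ Subgroup.zpowers t) (hyp : y ^ p = 1) :
    y ∈ Subgroup.zpowers (t ^ p ^ (n - 1)) := by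
  have hfin : IsOfFinOrder t := by
    rw [← orderOf_pos_iff, ht]; exact pow_pos hp.pos n
  obtain ⟨i, rfl⟩ := (Submonoid.mem_powers_iff _ _).1 (hfin.mem_powers_iff_mem_zpowers.2 hy)
  rw [← pow_mul, ← orderOf_dvd_iff_pow_eq_one, ht] at hyp
  have hdvd : p ^ (n - 1) ∣ i := by
    have h1 : p ^ n = p ^ (n - 1) * p := by rw [← pow_succ, Nat.sub_add_cancel hn]
    rw [h1] at hyp
    exact Nat.dvd_of_mul_dvd_mul_right hp.pos hyp
  obtain ⟨c, rfl⟩ := hdvd
  rw [pow_mul]
  exact Subgroup.pow_mem _ (Subgroup.mem_zpowers _) c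

/-- Lemma B: in a group of prime order `⟨u⟩`, every nontrivial element generates. -/
lemma mem_zpowers_of_prime_order {p : ℕ} (hp : p.Prime) {u w : G} (hu : orderOf u = p)
    (hw : w ∈ Subgroup.zpowers u) (hw1 : w ≠ 1) : u ∈ Subgroup.zpowers w := by
  have hle : Subgroup.zpowers w ≤ Subgroup.zpowers u := by
    rw [Subgroup.zpowers_le]; exact hw
  have hcu : Nat.card (Subgroup.zpowers u) = p := by rw [Nat.card_zpowers, hu]
  have : Finite (Subgroup.zpowers u) := Nat.finite_of_card_ne_zero (by rw [hcu]; exact hp.ne_zero)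
  have hcw : Nat.card (Subgroup.zpowers w) = p := by
    have hd : Nat.card (Subgroup.zpowers w) ∣ p := hcu ▸ Subgroup.card_dvd_of_le hle
    rcases (Nat.dvd_prime hp).1 hd with h | h
    · exfalso
      rw [Nat.card_zpowers, orderOf_eq_one_iff] at h
      exact hw1 h
    · exact h
  have := Subgroup.eq_of_le_of_card_ge hle (by rw [hcu, hcw])
  rw [this]
  exact Subgroup.mem_zpowers u

/-- in a cyclic `p`-group, every element of order `p` lies in every nontrivial cyclic subgroup. -/
lemma mem_zpowers_of_cyclic_pgroup [Finite G] {p : ℕ} [Fact p.Prime] {P : Subgroup G}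
    (hP : IsPGroup p P) (hcyc : IsCyclic P) {v x : G} (hv : v ∈ P) (hvp : orderOf v = p)
    (hx : x ∈ P) (hx1 : x ≠ 1) : v ∈ Subgroup.zpowers x := by
  have hp : p.Prime := Fact.out
  obtain ⟨⟨t, htP⟩, ht⟩ := hcyc.exists_generator
  have hmemt : ∀ y ∈ P, y ∈ Subgroup.zpowers t := by
    intro y hy
    obtain ⟨k, hk⟩ := Subgroup.mem_zpowers_iff.1 (ht ⟨y, hy⟩)
    refine Subgroup.mem_zpowers_iff.2 ⟨k, ?_⟩
    have := congrArg Subtype.val hk
    simpa using this
  obtain ⟨n, hn⟩ := (IsPGroup.iff_orderOf.1 hP) ⟨t, htP⟩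
  rw [Subgroup.orderOf_mk] at hn
  have hn1 : 1 ≤ n := by
    rcases Nat.eq_zero_or_pos n with h | h
    · exfalso
      rw [h, pow_zero, orderOf_eq_one_iff] at hn
      have := hmemt x hx
      rw [hn, Subgroup.zpowers_one_eq_bot, Subgroup.mem_bot] at this
      exact hx1 this
    · exact h
  set u := t ^ p ^ (n - 1) with hu
  have hou : orderOf u = p := by
    rw [hu, orderOf_pow' _ (pow_ne_zero _ hp.ne_zero), hn, Nat.gcd_eq_right (pow_dvd_pow p (Nat.sub_le n 1))]
    have : p ^ n = p ^ (n - 1) * p := by rw [← pow_succ, Nat.sub_add_cancel hn1]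
    rw [this, Nat.mul_div_cancel_left _ (pow_pos hp.pos _)]
  -- v ∈ ⟨u⟩
  have hvu : v ∈ Subgroup.zpowers u :=
    mem_zpowers_pow_of_pow_eq_one hp hn1 hn (hmemt v hv) (by rw [← hvp]; exact pow_orderOf_eq_one v)
  -- w = x ^ p ^ (b - 1) ∈ ⟨u⟩, w ≠ 1
  obtain ⟨b, hb⟩ := (IsPGroup.iff_orderOf.1 hP) ⟨x, hx⟩
  rw [Subgroup.orderOf_mk] at hb
  have hb1 : 1 ≤ b := by
    rcases Nat.eq_zero_or_pos b with h | h
    · exfalso
      rw [h, pow_zero, orderOf_eq_one_iff] at hb
      exact hx1 hb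
    · exact h
  set w := x ^ p ^ (b - 1) with hw
  have hwp : w ^ p = 1 := by
    rw [hw, ← pow_mul, ← pow_succ, Nat.sub_add_cancel hb1, ← hb, pow_orderOf_eq_one]
  have hw1 : w ≠ 1 := by
    rw [hw]
    apply pow_ne_one_of_lt_orderOf (pow_ne_zero _ hp.ne_zero)
    rw [hb]
    exact Nat.pow_lt_pow_right hp.one_lt (by omega)
  have hwP : w ∈ P := Subgroup.pow_mem _ hx _
  have hwu : w ∈ Subgroup.zpowers u :=
    mem_zpowers_pow_of_pow_eq_one hp hn1 hn (hmemt w hwP) hwp
  have huw : u ∈ Subgroup.zpowers w := mem_zpowers_of_prime_order hp hou hwu hw1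
  have hle1 : Subgroup.zpowers u ≤ Subgroup.zpowers w := by
    rw [Subgroup.zpowers_le]; exact huw
  have hle2 : Subgroup.zpowers w ≤ Subgroup.zpowers x := by
    rw [Subgroup.zpowers_le]; exact Subgroup.pow_mem _ (Subgroup.mem_zpowers x) _
  exact hle2 (hle1 hvu)


lemma comm_of_cyclic {P : Subgroup G} (hcyc : IsCyclic P) :
    ∀ a ∈ P, ∀ b ∈ P, a * b = b * a := by
  intro a ha b hb
  have h := (IsCyclic.isMulCommutative (α := P)).is_comm.comm ⟨a, ha⟩ ⟨b, hb⟩
  exact congrArg Subtype.val h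

/-- S3985, `←`: weakly self-centralizing abelian Sylow subgroups are TI. -/
theorem tie_of_centralizer_eq [Finite G] {p : ℕ} [Fact p.Prime] (P : Sylow p G)
    (hab : ∀ a ∈ (P : Subgroup G), ∀ b ∈ (P : Subgroup G), a * b = b * a)
    (h : ∀ x : G, x ∈ (P : Subgroup G) → x ≠ 1 →
      Subgroup.centralizer ({x} : Set G) = Subgroup.centralizer ((P : Subgroup G) : Set G)) :
    TIe (P : Subgroup G) := by
  intro g x hx hx1 hgx
  have hx1' : g * x * g⁻¹ ≠ 1 := by
    intro h'
    apply hx1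
    have : x = g⁻¹ * (g * x * g⁻¹) * g := by group
    rw [this, h']; group
  have hC := h _ hgx hx1'
  have hconj : ∀ y ∈ (P : Subgroup G), g * y * g⁻¹ ∈
      Subgroup.centralizer ((P : Subgroup G) : Set G) := by
    intro y hy
    rw [← hC, Subgroup.mem_centralizer_singleton_iff]
    have := hab x hx y hy
    calc g * y * g⁻¹ * (g * x * g⁻¹) = g * (y * x) * g⁻¹ := by group
      _ = g * (x * y) * g⁻¹ := by rw [this]
      _ = g * x * g⁻¹ * (g * y * g⁻¹) := by group
  set Pg : Subgroup G := (P : Subgroup G).map (MulAut.conj g).toMonoidHom with hPg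
  have hPgC : Pg ≤ Subgroup.centralizer ((P : Subgroup G) : Set G) := by
    rintro _ ⟨y, hy, rfl⟩
    exact hconj y hy
  have hPgN : Pg ≤ Subgroup.normalizer ((P : Subgroup G) : Set G) :=
    hPgC.trans (Subgroup.centralizer_le_normalizer _)
  have hpg : IsPGroup p (Pg ⊔ (P : Subgroup G) : Subgroup G) :=
    IsPGroup.to_sup_of_normal_right' (P.isPGroup'.map _) P.isPGroup' hPgN
  have hmax := P.is_maximal' hpg le_sup_right
  apply mem_normalizer_of_conj_le
  intro y hy
  have : g * y * g⁻¹ ∈ Pg ⊔ (P : Subgroup G) :=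
    (le_sup_left : Pg ≤ Pg ⊔ (P : Subgroup G)) ⟨y, hy, rfl⟩
  rw [hmax] at this
  exact this


/-- S3985, `→`: a cyclic TI Sylow subgroup is weakly self-centralizing. -/
theorem centralizer_eq_of_tie [Finite G] {p : ℕ} [Fact p.Prime] (P : Sylow p G)
    (hcyc : IsCyclic (P : Subgroup G)) (hTI : TIe (P : Subgroup G))
    (x : G) (hx : x ∈ (P : Subgroup G)) (hx1 : x ≠ 1) :
    Subgroup.centralizer ({x} : Set G) = Subgroup.centralizer ((P : Subgroup G) : Set G) := by
  have hp : p.Prime := Fact.out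
  have hab := comm_of_cyclic hcyc
  apply le_antisymm
  · intro g hg
    rw [Subgroup.mem_centralizer_singleton_iff] at hg
    -- g ∈ N(P)
    have hgN : g ∈ Subgroup.normalizer ((P : Subgroup G) : Set G) := by
      apply hTI g x hx hx1
      have : g * x * g⁻¹ = x := by rw [hg]; group
      rw [this]; exact hx
    have hpowN : ∀ i : ℕ, g ^ i ∈ Subgroup.normalizer ((P : Subgroup G) : Set G) :=
      fun i => Subgroup.pow_mem _ hgN i
    have hpowx : ∀ i : ℕ, g ^ i * x = x * g ^ i := fun i => (Commute.pow_left hg i).eq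
    obtain ⟨a, m, hm, ho⟩ := Nat.exists_eq_pow_mul_and_not_dvd (orderOf_pos g).ne' p hp.ne_one
    -- the p-part k = g ^ m lies in P
    have hk : g ^ m ∈ (P : Subgroup G) := by
      have hkp : IsPGroup p (Subgroup.zpowers (g ^ m)) := by
        rintro ⟨z, hz⟩
        obtain ⟨i, rfl⟩ := Subgroup.mem_zpowers_iff.1 hz
        refine ⟨a, Subtype.ext ?_⟩
        simp only [Subgroup.coe_pow, Subgroup.coe_one]
        rw [← zpow_natCast, ← zpow_mul, mul_comm, zpow_mul, zpow_natCast, ← pow_mul, mul_comm m,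
          ← ho, pow_orderOf_eq_one, one_zpow]
      have hkN : Subgroup.zpowers (g ^ m) ≤ Subgroup.normalizer ((P : Subgroup G) : Set G) := by
        rw [Subgroup.zpowers_le]; exact hpowN m
      have hsup : IsPGroup p (Subgroup.zpowers (g ^ m) ⊔ (P : Subgroup G) : Subgroup G) :=
        IsPGroup.to_sup_of_normal_right' hkp P.isPGroup' hkN
      have hmax := P.is_maximal' hsup le_sup_right
      have : g ^ m ∈ Subgroup.zpowers (g ^ m) ⊔ (P : Subgroup G) :=
        (le_sup_left : Subgroup.zpowers (g ^ m) ≤ _) (Subgroup.mem_zpowers _)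
      rw [hmax] at this
      exact this
    -- the p'-part h = g ^ (p ^ a) centralizes P
    have hh : ∀ v ∈ (P : Subgroup G), g ^ (p ^ a) * v = v * g ^ (p ^ a) := by
      apply Cfsg.Agent.Helper24.commute_of_commute_prime_order hab (hpowN _)
      · obtain ⟨n, hn⟩ := IsPGroup.iff_card.1 P.isPGroup'
        rw [hn]
        apply Nat.Coprime.pow_right
        have hdvd : orderOf (g ^ (p ^ a)) ∣ m := by
          apply orderOf_dvd_of_pow_eq_one
          rw [← pow_mul, ← ho, pow_orderOf_eq_one]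
        exact Nat.Coprime.coprime_dvd_left hdvd ((Nat.Prime.coprime_iff_not_dvd hp).2 hm).symm
      · intro v hv hvprime
        have hvp : orderOf v = p := by
          obtain ⟨n, hn⟩ := (IsPGroup.iff_orderOf.1 P.isPGroup') ⟨v, hv⟩
          rw [Subgroup.orderOf_mk] at hn
          rw [hn] at hvprime
          have hn0 : n ≠ 0 := by
            rintro rfl
            rw [pow_zero] at hvprime
            exact Nat.not_prime_one hvprime
          rcases Nat.Prime.eq_one_or_self_of_dvd hvprime p (dvd_pow_self p hn0) with h | h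
          · exact absurd h hp.ne_one
          · rw [hn]; exact h.symm
        have hvx := mem_zpowers_of_cyclic_pgroup P.isPGroup' hcyc hv hvp hx hx1
        obtain ⟨i, rfl⟩ := Subgroup.mem_zpowers_iff.1 hvx
        exact (Commute.zpow_right (hpowx _) i).eq
    rw [Subgroup.mem_centralizer_iff]
    intro y hy
    -- g = h ^ u * k ^ v
    have hcop : Nat.Coprime (p ^ a) m := Nat.Coprime.pow_left _ ((Nat.Prime.coprime_iff_not_dvd hp).2 hm)
    have hbez := Nat.gcd_eq_gcd_ab (p ^ a) m
    rw [hcop] at hbez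
    have hg' : g = (g ^ (p ^ a)) ^ (Nat.gcdA (p ^ a) m) * (g ^ m) ^ (Nat.gcdB (p ^ a) m) := by
      rw [← zpow_natCast, ← zpow_natCast, ← zpow_mul, ← zpow_mul, ← zpow_add, ← hbez]
      simp
    have c1 : Commute (g ^ (p ^ a)) y := hh y hy
    have c2 : Commute (g ^ m) y := hab _ hk y hy
    have c3 : Commute g y := by
      rw [hg']
      exact (c1.zpow_left _).mul_left (c2.zpow_left _)
    exact c3.eq.symm
  · exact Subgroup.centralizer_le (Set.singleton_subset_iff.2 hx)

end Cfsg.Agent.Helper37.TI
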