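import Mathlib
import Cfsg.Agent.Helper99.UNdDefs
import Cfsg.Agent.Helper13.UMax1
import Cfsg.Agent.Helper37.USubR0

/-!
# (G1) of helper99's S5954 project: a unitary matrix fixing a nondegenerate `m`-space is unitarily
conjugate to a block matrix with unitary blocks (helper37)
-/

set_option autoImplicit false

namespace Cfsg.Agent.Helper37.UNdG1

open Matrix Cfsg
open Cfsg.Agent.Helper99.UNd Cfsg.Agent.Helper13 Cfsg.Agent.Helper37.Lang
open Cfsg.Agent.Helper37.USubR0

variable {F : Type*} [Field F]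

/-- the standard hermitian form is hermitian for the Frobenius -/
theorem isHerm_hermForm [Fintype F] {q : ℕ} (hF : Fintype.card F = q ^ 2) (n : ℕ) :
    IsHerm (frobEquiv q hF) (Cfsg.hermForm n F q) where
  add_left := hermForm_add_left
  add_right := hermForm_add_right hF
  smul_left := hermForm_smul_left
  smul_right c u v := by rw [hermForm_smul_right, frobEquiv_apply]
  herm u v := by rw [frobEquiv_apply, hermForm_conj hF]

/-- the form on combinations of an orthonormal family -/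
theorem herm_sum_sum [Fintype F] {q : ℕ} (hF : Fintype.card F = q ^ 2) {n d : ℕ}
    (e : Fin d → Fin n → F)
    (he : ∀ i j, Cfsg.hermForm n F q (e i) (e j) = if i = j then 1 else 0)
    (x y : Fin d → F) :
    Cfsg.hermForm n F q (∑ j, x j • e j) (∑ j, y j • e j) = Cfsg.hermForm d F q x y := by
  rw [IsHerm_sum_left (isHerm_hermForm hF n)]
  show _ = ∑ i, x i * (y i) ^ q
  refine Finset.sum_congr rfl fun i _ => ?_
  rw [IsHerm_sum_right (isHerm_hermForm hF n), Finset.sum_eq_single i]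
  · rw [he i i, if_pos rfl, mul_one]
    rfl
  · intro j _ hji
    rw [he i j, if_neg (Ne.symm hji), mul_zero]
  · intro hi
    exact absurd (Finset.mem_univ i) hi

/-- coefficients with respect to an orthonormal family -/
theorem herm_sum_left_single [Fintype F] {q : ℕ} (hF : Fintype.card F = q ^ 2) {n d : ℕ}
    (e : Fin d → Fin n → F)
    (he : ∀ i j, Cfsg.hermForm n F q (e i) (e j) = if i = j then 1 else 0)
    (x : Fin d → F) (l : Fin d) :
    Cfsg.hermForm n F q (∑ j, x j • e j) (e l) = x l := by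
  rw [IsHerm_sum_left (isHerm_hermForm hF n), Finset.sum_eq_single l]
  · rw [he l l, if_pos rfl, mul_one]
  · intro j _ hjl
    rw [he j l, if_neg hjl, mul_zero]
  · intro h
    exact absurd (Finset.mem_univ l) h

/-- the matrix of a unitary map on an invariant orthonormal family is unitary -/
theorem isUM_of_orthonormal [Fintype F] {q : ℕ} (hF : Fintype.card F = q ^ 2) {n d : ℕ}
    (e : Fin d → Fin n → F)
    (he : ∀ i j, Cfsg.hermForm n F q (e i) (e j) = if i = j then 1 else 0)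
    (A : Matrix (Fin n) (Fin n) F) (hA : IsUM n q A) (M : Matrix (Fin d) (Fin d) F)
    (hAe : ∀ j, A *ᵥ e j = ∑ i, M i j • e i) : IsUM d q M := by
  have key : ∀ x : Fin d → F, A *ᵥ (∑ j, x j • e j) = ∑ i, (M *ᵥ x) i • e i := by
    intro x
    have h1 : A *ᵥ (∑ j, x j • e j) = ∑ j, A *ᵥ (x j • e j) :=
      map_sum (Matrix.mulVecLin A) _ _
    rw [h1]
    simp_rw [Matrix.mulVec_smul, hAe, Finset.smul_sum, smul_smul]
    rw [Finset.sum_comm]
    refine Finset.sum_congr rfl fun i _ => ?_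
    rw [← Finset.sum_smul]
    congr 1
    simp only [Matrix.mulVec, dotProduct]
    exact Finset.sum_congr rfl fun j _ => mul_comm _ _
  intro x y
  rw [← herm_sum_sum hF e he (M *ᵥ x) (M *ᵥ y), ← key, ← key, hA, herm_sum_sum hF e he]

/-- entries of `blk` -/
theorem blk_apply {a b n : ℕ} (h : a + b = n) (B₁ : Matrix (Fin a) (Fin a) F)
    (B₂ : Matrix (Fin b) (Fin b) F) (s t : Fin a ⊕ Fin b) :
    blk h B₁ B₂ ((finSumFinEquiv.trans (finCongr h)) s) ((finSumFinEquiv.trans (finCongr h)) t) =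
      Matrix.fromBlocks B₁ 0 0 B₂ s t := by
  unfold blk
  rw [Matrix.reindex_apply, Matrix.submatrix_apply, Equiv.symm_apply_apply,
    Equiv.symm_apply_apply]

/-- (G1) -/
theorem exists_blk_of_fixesNd [Fintype F] {q : ℕ} (hF : Fintype.card F = q ^ 2) {n m k : ℕ}
    (hmk : m + k = n) (A : Matrix (Fin n) (Fin n) F) (hA : IsUM n q A) (hfix : FixesNd n q m A) :
    ∃ (g : Matrix (Fin n) (Fin n) F) (B₁ : Matrix (Fin m) (Fin m) F)
      (B₂ : Matrix (Fin k) (Fin k) F),
      IsUM n q g ∧ IsUM m q B₁ ∧ IsUM k q B₂ ∧ A * g = g * blk hmk B₁ B₂ := by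
  classical
  obtain ⟨W, hWm, hWnd, hWA⟩ := hfix
  have hB := isHerm_hermForm hF n
  have hσ2 : ∀ x, frobEquiv q hF (frobEquiv q hF x) = x := fun x => frob_frob hF x
  have hσ1 : frobEquiv q hF ≠ 1 := frobEquiv_ne_one q hF
  -- global nondegeneracy
  have hnd0 : ∀ u : Fin n → F, (∀ x, Cfsg.hermForm n F q u x = 0) → u = 0 := by
    intro u hu
    funext i
    have := hu (Pi.single i 1)
    rwa [hermForm_single_right hF] at this
  have hsymm : ∀ u v : Fin n → F, Cfsg.hermForm n F q u v = 0 → Cfsg.hermForm n F q v u = 0 := by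
    intro u v h
    rw [← hB.herm u v, h, map_zero]
  -- `A` is injective
  have hAinj : Function.Injective (Matrix.toLin' A) := by
    rw [injective_iff_map_eq_zero]
    intro u hu
    rw [Matrix.toLin'_apply] at hu
    apply hnd0
    intro x
    rw [← hA u x, hu, hB.zero_left]
  have hWeq : W.map (Matrix.toLin' A) = W := by
    apply Submodule.eq_of_le_of_finrank_eq hWA
    exact (Submodule.equivMapOfInjective _ hAinj W).finrank_eq.symm
  -- the orthogonal complement
  obtain ⟨P, hPdef⟩ : ∃ P : Submodule F (Fin n → F), P = perpSub q W := ⟨_, rfl⟩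
  have hPmem : ∀ v, v ∈ P ↔ ∀ y ∈ W, Cfsg.hermForm n F q v y = 0 := by
    intro v; rw [hPdef]; exact mem_perpSub W v
  have hPk : Module.finrank F P = k := by
    have := finrank_perpSub hF W
    rw [← hPdef] at this
    omega
  have hPA : ∀ v ∈ P, A *ᵥ v ∈ P := by
    intro v hv
    rw [hPmem] at hv ⊢
    intro y hy
    rw [← hWeq] at hy
    obtain ⟨y', hy', rfl⟩ := hy
    rw [Matrix.toLin'_apply, hA]
    exact hv y' hy'
  have hdisj : W ⊓ P = ⊥ := by
    rw [Submodule.eq_bot_iff]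
    rintro u ⟨huW, huP⟩
    by_contra hu0
    obtain ⟨v, hvW, hv⟩ := hWnd u huW hu0
    exact hv ((hPmem u).mp huP v hvW)
  have hsup : W ⊔ P = ⊤ := by
    apply Submodule.eq_top_of_finrank_eq
    have h1 := Submodule.finrank_sup_add_finrank_inf_eq W P
    rw [hdisj, finrank_bot, add_zero, hWm, hPk] at h1
    rw [h1, Module.finrank_fin_fun]
    exact hmk
  have hPnd : ∀ u ∈ P, u ≠ 0 → ∃ v ∈ P, Cfsg.hermForm n F q u v ≠ 0 := by
    intro u hu hu0
    by_contra hcon
    push Not at hcon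
    apply hu0
    apply hnd0
    intro x
    have hx : x ∈ W ⊔ P := by rw [hsup]; trivial
    obtain ⟨w, hw, p', hp', rfl⟩ := Submodule.mem_sup.mp hx
    rw [hB.add_right, (hPmem u).mp hu w hw, hcon p' hp', add_zero]
  -- orthonormal families
  obtain ⟨e, heW, he⟩ := exists_orthonormal hσ2 hσ1 hB m W hWm hWnd
  obtain ⟨f, hfP, hf⟩ := exists_orthonormal hσ2 hσ1 hB k P hPk hPnd
  have hfe : ∀ i j, Cfsg.hermForm n F q (f j) (e i) = 0 :=
    fun i j => (hPmem (f j)).mp (hfP j) (e i) (heW i)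
  have hef : ∀ i j, Cfsg.hermForm n F q (e i) (f j) = 0 := fun i j => hsymm _ _ (hfe i j)
  obtain ⟨ε, hε⟩ : ∃ ε : Fin m ⊕ Fin k ≃ Fin n, ε = finSumFinEquiv.trans (finCongr hmk) :=
    ⟨_, rfl⟩
  obtain ⟨c, hc⟩ : ∃ c : Fin m ⊕ Fin k → (Fin n → F), c = Sum.elim e f := ⟨_, rfl⟩
  have hcc : ∀ s t, Cfsg.hermForm n F q (c s) (c t) = if s = t then 1 else 0 := by
    rintro (i | i) (j | j)
    · simp only [hc, Sum.elim_inl, he, Sum.inl.injEq]
    · simp [hc, hef]
    · simp [hc, hfe]
    · simp only [hc, Sum.elim_inr, hf, Sum.inr.injEq]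
  obtain ⟨c', hc'⟩ : ∃ c' : Fin n → (Fin n → F), c' = fun j => c (ε.symm j) := ⟨_, rfl⟩
  have hc'ε : ∀ s, c' (ε s) = c s := by
    intro s; rw [hc']; simp
  have hc'c' : ∀ j l, Cfsg.hermForm n F q (c' j) (c' l) = if j = l then 1 else 0 := by
    intro j l
    rw [hc']
    show Cfsg.hermForm n F q (c (ε.symm j)) (c (ε.symm l)) = _
    rw [hcc]
    simp only [ε.symm.injective.eq_iff]
  obtain ⟨g, hg⟩ : ∃ g : Matrix (Fin n) (Fin n) F, g = Matrix.of (fun i j => c' j i) := ⟨_, rfl⟩
  have hgmul : ∀ x : Fin n → F, g *ᵥ x = ∑ j, x j • c' j := by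
    intro x
    funext i
    simp only [Matrix.mulVec, dotProduct, hg, Matrix.of_apply, Finset.sum_apply, Pi.smul_apply,
      smul_eq_mul]
    exact Finset.sum_congr rfl fun j _ => mul_comm _ _
  have hgU : IsUM n q g := by
    intro x y
    rw [hgmul, hgmul, herm_sum_sum hF c' hc'c']
  have hginj : Function.Injective g.mulVec := by
    intro x y hxy
    have hxy' : g *ᵥ x = g *ᵥ y := hxy
    funext l
    have h1 := hgU x (Pi.single l 1)
    have h2 := hgU y (Pi.single l 1)
    rw [hermForm_single_right hF] at h1 h2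
    rw [← h1, ← h2, hxy']
  have hgunit : IsUnit g := Matrix.mulVec_injective_iff_isUnit.mp hginj
  have hgsurj : ∀ v : Fin n → F, ∃ x : Fin n → F, g *ᵥ x = v := by
    obtain ⟨u, hu⟩ := hgunit
    intro v
    refine ⟨((u⁻¹ : (Matrix (Fin n) (Fin n) F)ˣ) : Matrix (Fin n) (Fin n) F) *ᵥ v, ?_⟩
    rw [← hu, Matrix.mulVec_mulVec, ← Units.val_mul, mul_inv_cancel, Units.val_one,
      Matrix.one_mulVec]
  -- expansion in the orthonormal basis
  have hexp : ∀ v : Fin n → F, v = ∑ s, Cfsg.hermForm n F q v (c s) • c s := by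
    intro v
    obtain ⟨x, rfl⟩ := hgsurj v
    rw [hgmul]
    have h1 : ∀ s, Cfsg.hermForm n F q (∑ j, x j • c' j) (c s) = x (ε s) := by
      intro s
      have := herm_sum_left_single hF c' hc'c' x (ε s)
      rwa [hc'ε] at this
    simp_rw [h1]
    rw [← Equiv.sum_comp ε]
    refine Finset.sum_congr rfl fun s _ => ?_
    rw [hc'ε]
  have hexpW : ∀ v ∈ W, v = ∑ i, Cfsg.hermForm n F q v (e i) • e i := by
    intro v hv
    have h := hexp v
    rw [Fintype.sum_sum_type] at h
    have h0 : ∀ l, Cfsg.hermForm n F q v (f l) = 0 :=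
      fun l => hsymm _ _ ((hPmem (f l)).mp (hfP l) v hv)
    simp only [hc, Sum.elim_inl, Sum.elim_inr, h0, zero_smul, Finset.sum_const_zero,
      add_zero] at h
    exact h
  have hexpP : ∀ v ∈ P, v = ∑ l, Cfsg.hermForm n F q v (f l) • f l := by
    intro v hv
    have h := hexp v
    rw [Fintype.sum_sum_type] at h
    have h0 : ∀ i, Cfsg.hermForm n F q v (e i) = 0 :=
      fun i => (hPmem v).mp hv (e i) (heW i)
    simp only [hc, Sum.elim_inl, Sum.elim_inr, h0, zero_smul, Finset.sum_const_zero,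
      zero_add] at h
    exact h
  -- the blocks
  obtain ⟨B₁, hB₁⟩ : ∃ B₁ : Matrix (Fin m) (Fin m) F,
      B₁ = Matrix.of (fun i j => Cfsg.hermForm n F q (A *ᵥ e j) (e i)) := ⟨_, rfl⟩
  obtain ⟨B₂, hB₂⟩ : ∃ B₂ : Matrix (Fin k) (Fin k) F,
      B₂ = Matrix.of (fun i j => Cfsg.hermForm n F q (A *ᵥ f j) (f i)) := ⟨_, rfl⟩
  have hAe : ∀ j, A *ᵥ e j = ∑ i, B₁ i j • e i := by
    intro j
    have hmem : A *ᵥ e j ∈ W :=
      hWA (Submodule.mem_map.mpr ⟨e j, heW j, Matrix.toLin'_apply A (e j)⟩)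
    have := hexpW _ hmem
    rw [hB₁]
    exact this
  have hAf : ∀ j, A *ᵥ f j = ∑ i, B₂ i j • f i := by
    intro j
    have := hexpP _ (hPA _ (hfP j))
    rw [hB₂]
    exact this
  refine ⟨g, B₁, B₂, hgU, isUM_of_orthonormal hF e he A hA B₁ hAe,
    isUM_of_orthonormal hF f hf A hA B₂ hAf, ?_⟩
  ext i j
  obtain ⟨t, rfl⟩ := ε.surjective j
  have hL : (A * g) i (ε t) = (A *ᵥ c t) i := by
    simp only [Matrix.mul_apply, hg, Matrix.of_apply, hc'ε, Matrix.mulVec, dotProduct]
  have hR : (g * blk hmk B₁ B₂) i (ε t) = ∑ s, c s i * Matrix.fromBlocks B₁ 0 0 B₂ s t := by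
    rw [Matrix.mul_apply, ← Equiv.sum_comp ε]
    refine Finset.sum_congr rfl fun s _ => ?_
    rw [hg, Matrix.of_apply, hc'ε]
    congr 1
    rw [hε]
    exact blk_apply hmk B₁ B₂ s t
  rw [hL, hR, Fintype.sum_sum_type]
  cases t with
  | inl j' =>
    simp only [hc, Sum.elim_inl, Sum.elim_inr, Matrix.fromBlocks_apply₁₁,
      Matrix.fromBlocks_apply₂₁, Matrix.zero_apply, mul_zero, Finset.sum_const_zero, add_zero]
    rw [hAe j']
    simp only [Finset.sum_apply, Pi.smul_apply, smul_eq_mul]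
    exact Finset.sum_congr rfl fun _ _ => mul_comm _ _
  | inr j' =>
    simp only [hc, Sum.elim_inl, Sum.elim_inr, Matrix.fromBlocks_apply₁₂,
      Matrix.fromBlocks_apply₂₂, Matrix.zero_apply, mul_zero, Finset.sum_const_zero, zero_add]
    rw [hAf j']
    simp only [Finset.sum_apply, Pi.smul_apply, smul_eq_mul]
    exact Finset.sum_congr rfl fun _ _ => mul_comm _ _

end Cfsg.Agent.Helper37.UNdG1
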