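import Mathlib
import Cfsg.Agent.Helper38.VL.Defs

/-!
# (RED) of helper38's S3777 farm (Vaughan-Lee): a minimal subgroup with the same derived
subgroup is critical.
-/

set_option autoImplicit false

namespace Cfsg.Agent.Helper37.VL

open Subgroup Cfsg.Agent.Helper38.VL

universe u

/-- (RED) a minimal subgroup with the same derived subgroup is critical. -/
theorem exists_critical_subgroup {G : Type*} [Group G] [Finite G] :
    ∃ H : Subgroup G, (commutator H).map H.subtype = commutator G ∧ Critical H := by
  classical
  let S : Set (Subgroup G) := {H | (commutator H).map H.subtype = commutator G}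
  have htop : (⊤ : Subgroup G) ∈ S := by
    show (commutator (⊤ : Subgroup G)).map (⊤ : Subgroup G).subtype = commutator G
    rw [Subgroup.map_subtype_commutator, commutator_def]
  obtain ⟨H, hHS, hmin⟩ := wellFounded_lt.has_min S ⟨⊤, htop⟩
  refine ⟨H, hHS, ?_⟩
  intro K hK hKc
  -- `K' = K.map H.subtype` is a strictly smaller member of `S`
  have hK'le : K.map H.subtype ≤ H := Subgroup.map_subtype_le K
  have hK'ne : K.map H.subtype ≠ H := by
    intro h
    apply hK
    rw [eq_top_iff]
    intro x _
    have hx : (x : G) ∈ K.map H.subtype := by rw [h]; exact x.2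
    obtain ⟨y, hy, hyx⟩ := Subgroup.mem_map.mp hx
    have : y = x := Subtype.ext hyx
    rwa [← this]
  have hK'S : K.map H.subtype ∈ S := by
    show (commutator (K.map H.subtype)).map (K.map H.subtype).subtype = commutator G
    rw [Subgroup.map_subtype_commutator]
    -- `⁅K', K'⁆ = map ⁅K, K⁆`
    rw [← Subgroup.map_commutator]
    -- `⁅K, K⁆ = commutator ↥H`
    have h1 : ⁅K, K⁆ = commutator H := by
      rw [← Subgroup.map_subtype_commutator K]; exact hKc
    rw [h1]
    exact hHS
  exact hmin _ hK'S (lt_of_le_of_ne hK'le hK'ne)

end Cfsg.Agent.Helper37.VL
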