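import Mathlib
import Cfsg.Agent.Helper86.WEDefs

/-!
# Piece (H) of WANTED #5473 (helper86, S5271): the forward direction

If `F` is the inner fusion system of the `p`-group `S` of order at least `p ^ 2`, then a subgroup
`D` of index `p` works: every subgroup of that order is normal in `S`, hence strongly closed, and
every normalizer system is inner.
-/

set_option autoImplicit false

namespace Cfsg.Agent.Helper37.WE

open Cfsg Cfsg.FusionSystem Cfsg.Agent.Helper86.WE

variable {Ω : Type*} [Group Ω] {S : Subgroup Ω}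

/-- a subgroup of `S` normalized by `S` is strongly closed in the inner system. -/
theorem stronglyClosed_of_normalized (F : FusionSystem S)
    (hin : ∀ P : Subgroup Ω, F.Hom P = (innerFusionSystem S).Hom P) {Q : Subgroup Ω} (hQS : Q ≤ S)
    (hn : ∀ g ∈ S, ∀ x ∈ Q, g * x * g⁻¹ ∈ Q) : F.StronglyClosed Q := by
  refine ⟨hQS, fun R hRQ φ hφ x => ?_⟩
  rw [hin R] at hφ
  obtain ⟨-, g, hg, h⟩ := hφ
  rw [h x]
  exact hn g hg x (hRQ x.2)

/-- a subgroup of index `p` of a `p`-group is normalized by it. -/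
theorem conj_mem_of_card_mul [Finite S] {p : ℕ} [Fact p.Prime] {n : ℕ} (hn : n ≠ 0)
    (hScard : Nat.card S = p ^ n) {Q : Subgroup Ω} (hQS : Q ≤ S) (hQ : Nat.card Q * p = Nat.card S) :
    ∀ g ∈ S, ∀ x ∈ Q, g * x * g⁻¹ ∈ Q := by
  have hp : p.Prime := Fact.out
  have hidx : (Q.subgroupOf S).index = (Nat.card S).minFac := by
    rw [hScard, Nat.pow_minFac hn, hp.minFac_eq]
    have h1 : Nat.card (Q.subgroupOf S) * (Q.subgroupOf S).index = Nat.card S :=
      Subgroup.card_mul_index _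
    have h2 : Nat.card (Q.subgroupOf S) = Nat.card Q :=
      Nat.card_congr (Subgroup.subgroupOfEquivOfLe hQS).toEquiv
    rw [h2, ← hQ] at h1
    haveI : Finite Q :=
      Finite.of_injective (Subgroup.inclusion hQS) (Subgroup.inclusion_injective hQS)
    have hpos : 0 < Nat.card Q := Nat.card_pos
    exact Nat.eq_of_mul_eq_mul_left hpos h1
  have hnorm : (Q.subgroupOf S).Normal := Subgroup.normal_of_index_eq_minFac_card hidx
  intro g hg x hx
  have h3 : (⟨g, hg⟩ : S) * ⟨x, hQS hx⟩ * (⟨g, hg⟩ : S)⁻¹ ∈ Q.subgroupOf S :=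
    hnorm.conj_mem ⟨x, hQS hx⟩ (Subgroup.mem_subgroupOf.mpr hx) ⟨g, hg⟩
  exact Subgroup.mem_subgroupOf.mp h3

/-- every normalizer system of the inner system is inner. -/
theorem normalizerSystem_inner (F : FusionSystem S)
    (hin : ∀ P : Subgroup Ω, F.Hom P = (innerFusionSystem S).Hom P) (H : Subgroup Ω) (hHS : H ≤ S)
    (N : FusionSystem (normalizerIn S H)) (hN : F.IsNormalizerSystem H N) (P : Subgroup Ω) :
    N.Hom P = (innerFusionSystem (normalizerIn S H)).Hom P := by
  rw [hN P]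
  ext φ
  constructor
  · rintro ⟨-, hPN, -, ψ, hψ, hext, hmap⟩
    rw [hin (P ⊔ H)] at hψ
    obtain ⟨-, g, hg, hψg⟩ := hψ
    have hgH : g ∈ Subgroup.normalizer (H : Set Ω) := by
      rw [Subgroup.mem_normalizer_iff]
      intro h
      constructor
      · intro hh
        have h1 : ψ ⟨h, (le_sup_right : H ≤ P ⊔ H) hh⟩ ∈ (H.subgroupOf (P ⊔ H)).map ψ :=
          Subgroup.mem_map_of_mem ψ (Subgroup.mem_subgroupOf.mpr hh)
        rw [hmap, hψg] at h1
        exact h1
      · intro hh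
        rw [← hmap] at hh
        obtain ⟨y, hy, hyeq⟩ := Subgroup.mem_map.mp hh
        rw [hψg] at hyeq
        have h2 : (y : Ω) = h := mul_left_cancel (mul_right_cancel hyeq)
        rw [← h2]
        exact Subgroup.mem_subgroupOf.mp hy
    refine ⟨hPN, g, ⟨hg, hgH⟩, fun x => ?_⟩
    rw [← hext x, hψg]
    rfl
  · rintro ⟨hPN, g, hg, hφg⟩
    have hPS : P ≤ S := le_trans hPN inf_le_left
    refine ⟨?_, hPN, ?_, conjHom (P ⊔ H) g, ?_, ?_, ?_⟩
    · rw [hin P]
      exact ⟨hPS, g, hg.1, hφg⟩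
    · intro x
      rw [hφg x]
      exact Subgroup.mul_mem _ (Subgroup.mul_mem _ hg (hPN x.2)) (Subgroup.inv_mem _ hg)
    · rw [hin (P ⊔ H)]
      exact ⟨sup_le hPS hHS, g, hg.1, fun x => rfl⟩
    · intro x
      rw [hφg x]
      rfl
    · ext y
      constructor
      · intro hy
        obtain ⟨z, hz, rfl⟩ := Subgroup.mem_map.mp hy
        exact (Subgroup.mem_normalizer_iff.mp hg.2 _).mp (Subgroup.mem_subgroupOf.mp hz)
      · intro hy
        have h1 : g⁻¹ * y * g⁻¹⁻¹ ∈ H :=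
          (Subgroup.mem_normalizer_iff.mp (Subgroup.inv_mem _ hg.2) _).mp hy
        refine Subgroup.mem_map.mpr ⟨⟨g⁻¹ * y * g⁻¹⁻¹, (le_sup_right : H ≤ P ⊔ H) h1⟩,
          Subgroup.mem_subgroupOf.mpr h1, ?_⟩
        show g * (g⁻¹ * y * g⁻¹⁻¹) * g⁻¹ = y
        group

theorem forward [Finite S] (p : ℕ) [Fact p.Prime] (hS : IsPGroup p S) (F : FusionSystem S)
    (hcard : p ^ 2 ≤ Nat.card S)
    (hin : ∀ P : Subgroup Ω, F.Hom P = (innerFusionSystem S).Hom P) :
    ∃ D : Subgroup Ω, ⊥ < D ∧ D < S ∧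
      (∀ Q : Subgroup Ω, Q ≤ S → Nat.card ↥Q = Nat.card ↥D →
        ∃ P : Subgroup Ω, F.StronglyClosed P ∧ F.StronglyClosed (Q ⊔ P) ∧
          F.StronglyClosed (Q ⊓ P)) ∧
      (∀ H : Subgroup Ω, F.IsFullyNormalized H → Nat.card ↥H = Nat.card ↥D →
        ∀ N : Cfsg.FusionSystem (Cfsg.FusionSystem.normalizerIn S H), F.IsNormalizerSystem H N →
          ∀ P : Subgroup Ω,
            N.Hom P = (Cfsg.innerFusionSystem (Cfsg.FusionSystem.normalizerIn S H)).Hom P) := by
  have hp : p.Prime := Fact.out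
  obtain ⟨n, hn⟩ := (IsPGroup.iff_card).mp hS
  have hn2 : 2 ≤ n := by
    by_contra h
    have h1 : n ≤ 1 := by omega
    have h2 : p ^ n ≤ p ^ 1 := Nat.pow_le_pow_right hp.pos h1
    have h3 : p ^ 1 < p ^ 2 := Nat.pow_lt_pow_right hp.one_lt (by norm_num)
    omega
  obtain ⟨K, hK⟩ := Sylow.exists_subgroup_card_pow_prime (G := ↥S) p (n := n - 1)
    (by rw [hn]; exact pow_dvd_pow p (by omega))
  have hDcard : Nat.card (K.map S.subtype) = p ^ (n - 1) := by
    rw [Subgroup.card_map_of_injective S.subtype_injective, hK]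
  have hDS : K.map S.subtype ≤ S := Subgroup.map_subtype_le K
  have hmul : p ^ (n - 1) * p = Nat.card S := by
    rw [hn, ← pow_succ]
    congr 1
    omega
  refine ⟨K.map S.subtype, ?_, ?_, ?_, ?_⟩
  · rw [bot_lt_iff_ne_bot]
    intro h0
    rw [h0, Subgroup.card_bot] at hDcard
    have h1 : 1 < p ^ (n - 1) := Nat.one_lt_pow (by omega) hp.one_lt
    omega
  · refine lt_of_le_of_ne hDS fun h0 => ?_
    rw [h0, hn] at hDcard
    have h1 : p ^ (n - 1) < p ^ n := Nat.pow_lt_pow_right hp.one_lt (by omega)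
    omega
  · intro Q hQS hQcard
    have hsc : F.StronglyClosed Q :=
      stronglyClosed_of_normalized F hin hQS
        (conj_mem_of_card_mul (p := p) (n := n) (by omega) hn hQS
          (by rw [hQcard, hDcard]; exact hmul))
    refine ⟨Q, hsc, ?_, ?_⟩
    · rw [sup_idem]; exact hsc
    · rw [inf_idem]; exact hsc
  · intro H hH _ N hN P
    exact normalizerSystem_inner F hin H hH.1 N hN P

end Cfsg.Agent.Helper37.WE
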