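import Cfsg.Agent.Helper39.X648.Defs

/-!
# helper37: piece (A13) of helper39's S3366 farm (#11031): normal form in `R`

`R` of order 27, `Z ≤ R` central of order 3 containing all commutators of `R`; `r1, r2 ∈ R` with
`[r1, r2] ≠ 1`.  The set `{r1 ^ a * r2 ^ b * z}` is stable under left multiplication by `r1`, `r2` and `Z`,
so it contains `W = ⟨r1, r2, Z⟩`; `W` is a non-abelian subgroup of `R`, so `|W| ∉ {1, 3, 9}` and `W = R`.
-/

set_option autoImplicit false
set_option linter.unusedSectionVars false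

open Cfsg.Agent.Helper39.X648

namespace Cfsg.Agent.Helper37.X648

section
variable {X : Type*} [Group X] [Finite X]

/-- the abstract core of (A13) -/
theorem normal_form_core_aux (R Z : Subgroup X) (r1 r2 : X)
    (cardR : Nat.card R = 27) (cardZ : Nat.card Z = 3) (Z_le : Z ≤ R)
    (Zcen : ∀ z ∈ Z, ∀ g : X, g * z = z * g)
    (exp3 : ∀ r ∈ R, r ^ 3 = 1)
    (comm_mem : ∀ r ∈ R, ∀ s ∈ R, r * s * r⁻¹ * s⁻¹ ∈ Z)
    (hr1 : r1 ∈ R) (hr2 : r2 ∈ R) (hc1 : cm r1 r2 ≠ 1) :
    ∀ r ∈ R, ∃ a b : ℕ, ∃ z ∈ Z, r = r1 ^ a * r2 ^ b * z := by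
  classical
  -- the set of normal forms
  set S : Set X := {x | ∃ a b : ℕ, ∃ z ∈ Z, x = r1 ^ a * r2 ^ b * z} with hS
  have hS1 : (1 : X) ∈ S := ⟨0, 0, 1, Z.one_mem, by simp⟩
  have step1 : ∀ y ∈ S, r1 * y ∈ S := by
    rintro y ⟨a, b, z, hz, rfl⟩
    refine ⟨a + 1, b, z, hz, ?_⟩
    rw [pow_succ']
    simp only [mul_assoc]
  have step2 : ∀ y ∈ S, r2 * y ∈ S := by
    rintro y ⟨a, b, z, hz, rfl⟩
    set w : X := r1 ^ a with hw
    have hwR : w ∈ R := R.pow_mem hr1 a
    set za : X := (w * r2)⁻¹ * (r2 * w) with hza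
    have hzaZ : za ∈ Z := by
      have := comm_mem r2⁻¹ (R.inv_mem hr2) w⁻¹ (R.inv_mem hwR)
      have e : r2⁻¹ * w⁻¹ * r2⁻¹⁻¹ * w⁻¹⁻¹ = za := by
        rw [hza]; group
      rw [e] at this
      exact this
    have hzc : ∀ g : X, g * za = za * g := Zcen za hzaZ
    have hwz : w * r2 * za = r2 * w := by
      rw [hza]; group
    refine ⟨a, b + 1, za * z, Z.mul_mem hzaZ hz, ?_⟩
    calc r2 * (w * r2 ^ b * z) = (w * r2 * za) * r2 ^ b * z := by
          rw [hwz]; simp only [mul_assoc]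
      _ = w * r2 * (za * r2 ^ b) * z := by simp only [mul_assoc]
      _ = w * r2 * (r2 ^ b * za) * z := by rw [hzc (r2 ^ b)]
      _ = w * r2 ^ (b + 1) * (za * z) := by rw [pow_succ']; simp only [mul_assoc]
  have stepz : ∀ z' ∈ Z, ∀ y ∈ S, z' * y ∈ S := by
    rintro z' hz' y ⟨a, b, z, hz, rfl⟩
    refine ⟨a, b, z' * z, Z.mul_mem hz' hz, ?_⟩
    have h1 : z' * (r1 ^ a * r2 ^ b * z) = (r1 ^ a * r2 ^ b * z) * z' :=
      (Zcen z' hz' _).symm
    rw [h1, Zcen z hz z']
    simp only [mul_assoc]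
  -- inverses
  have inv1 : r1⁻¹ = r1 * r1 := by
    have := exp3 r1 hr1
    rw [pow_succ, pow_two] at this
    exact inv_eq_of_mul_eq_one_left this
  have inv2 : r2⁻¹ = r2 * r2 := by
    have := exp3 r2 hr2
    rw [pow_succ, pow_two] at this
    exact inv_eq_of_mul_eq_one_left this
  -- the subgroup generated
  set W : Subgroup X := Subgroup.closure ({r1, r2} ∪ (Z : Set X)) with hW
  have hWS : ∀ x ∈ W, x ∈ S := by
    intro x hx
    induction hx using Subgroup.closure_induction_left with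
    | one => exact hS1
    | mul_left x hx y hy ih =>
      rcases hx with (hx | hx) | hx
      · rw [hx]; exact step1 y ih
      · rw [Set.mem_singleton_iff] at hx
        rw [hx]; exact step2 y ih
      · exact stepz x hx y ih
    | inv_mul_cancel x hx y hy ih =>
      rcases hx with (hx | hx) | hx
      · rw [hx, inv1, mul_assoc]; exact step1 _ (step1 y ih)
      · rw [Set.mem_singleton_iff] at hx
        rw [hx, inv2, mul_assoc]; exact step2 _ (step2 y ih)
      · exact stepz x⁻¹ (Z.inv_mem hx) y ih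
  have hWR : W ≤ R := by
    rw [hW, Subgroup.closure_le]
    rintro x ((hx | hx) | hx)
    · rw [hx]; exact hr1
    · rw [Set.mem_singleton_iff] at hx
      rw [hx]; exact hr2
    · exact Z_le hx
  have hZW : Z ≤ W := fun z hz => Subgroup.subset_closure (Or.inr hz)
  have h1W : r1 ∈ W := Subgroup.subset_closure (Or.inl (Or.inl rfl))
  have h2W : r2 ∈ W := Subgroup.subset_closure (Or.inl (Or.inr rfl))
  -- `r1` and `r2` do not commute
  have hnc : r1 * r2 ≠ r2 * r1 := by
    intro h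
    apply hc1
    unfold cm
    rw [h]; group
  -- the order of `W`
  have hd1 : Nat.card W ∣ 27 := cardR ▸ Subgroup.card_dvd_of_le hWR
  have hd2 : 3 ∣ Nat.card W := cardZ ▸ Subgroup.card_dvd_of_le hZW
  have h27 : (27 : ℕ) = 3 ^ 3 := by norm_num
  rw [h27] at hd1
  obtain ⟨k, hk, hkW⟩ := (Nat.dvd_prime_pow Nat.prime_three).mp hd1
  have hWeq : W = R := by
    interval_cases k
    · rw [hkW] at hd2; norm_num at hd2
    · exfalso
      have hZeq : Z = W := Subgroup.eq_of_le_of_card_ge hZW (by rw [hkW, cardZ]; norm_num)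
      apply hnc
      have : r1 ∈ Z := hZeq ▸ h1W
      exact (Zcen r1 this r2).symm
    · exfalso
      have : Fact (Nat.Prime 3) := ⟨Nat.prime_three⟩
      have hcomm := (IsPGroup.isMulCommutative_of_card_eq_prime_sq (p := 3) hkW).is_comm.comm
      apply hnc
      have := hcomm ⟨r1, h1W⟩ ⟨r2, h2W⟩
      exact congrArg Subtype.val this
    · exact Subgroup.eq_of_le_of_card_ge hWR (by rw [hkW, cardR]; norm_num)
  intro r hr
  exact hWS r (hWeq ▸ hr)

variable {R Z : Subgroup X} {u : X} {t : X} {Q : Subgroup X} {i r1 : X}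

/-- (A13) normal form in `R` -/
theorem QSetup.normal_form (h : QSetup R Z u t Q) (hg : Gens R Z t Q i r1) :
    ∀ r ∈ R, ∃ a b : ℕ, ∃ z ∈ Z, r = r1 ^ a * (i * r1 * i⁻¹) ^ b * z :=
  normal_form_core_aux R Z r1 (i * r1 * i⁻¹) h.setup.base.cardR h.setup.base.cardZ
    h.setup.base.Z_le h.setup.Zcen h.setup.base.exp3 h.setup.base.comm_mem hg.r1_mem.1
    hg.r2_mem.1 hg.c_ne

end

end Cfsg.Agent.Helper37.X648
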