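import Cfsg.Agent.Helper39.X648.Defs

/-!
# helper37: piece (A16) of helper39's S3366 farm (#11031): normalising `d`

`d` commutes with `t` and `r1`, `d ∉ R`, `d ^ 3 = 1`.  With `r2 = i r1 i⁻¹`, `c = [r1, r2]`:
`d r2 d⁻¹ = r1 ^ a r2 ^ b z` by the normal form; `[r1, d r2 d⁻¹] = d c d⁻¹ = c` and
`[r1, r1 ^ a r2 ^ b z] = c ^ b`, so `b ≡ 1 (mod 3)`.  `a ≡ 0` makes `d` centralise `R` (impossible),
`a ≡ 1` forces `z = c` (both `r1 r2 c` and `d r2 d⁻¹` are inverted by `t`), and for `a ≡ 2` one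
replaces `d` by `d * d`.
-/

set_option autoImplicit false
set_option linter.unusedSectionVars false

open Cfsg.Agent.Helper39.X648

namespace Cfsg.Agent.Helper37.X648

section
variable {X : Type*} [Group X]

/-- `[r1, r1 ^ a r2 ^ b z] = c ^ b` when `c = [r1, r2]` and `z` are central -/
theorem cm_normal_form_aux (r1 r2 z : X) (a b : ℕ)
    (hcc : ∀ g : X, g * cm r1 r2 = cm r1 r2 * g) (hzc : ∀ g : X, g * z = z * g) :
    cm r1 (r1 ^ a * r2 ^ b * z) = cm r1 r2 ^ b := by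
  set c := cm r1 r2 with hc
  have e1 : r1 * r2 * r1⁻¹ = c * r2 := by
    rw [hc]; unfold cm; group
  have hcb : ∀ (n : ℕ) (g : X), g * c ^ n = c ^ n * g := by
    intro n g
    induction n with
    | zero => simp
    | succ n ih => rw [pow_succ, ← mul_assoc, ih, mul_assoc, hcc g, mul_assoc]
  have e2 : ∀ n : ℕ, r1 * r2 ^ n * r1⁻¹ = c ^ n * r2 ^ n := by
    intro n
    induction n with
    | zero => simp
    | succ n ih =>
      calc r1 * r2 ^ (n + 1) * r1⁻¹ = (r1 * r2 ^ n * r1⁻¹) * (r1 * r2 * r1⁻¹) := by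
            rw [pow_succ]; group
        _ = c ^ n * r2 ^ n * (c * r2) := by rw [ih, e1]
        _ = c ^ n * (r2 ^ n * c) * r2 := by simp only [mul_assoc]
        _ = c ^ n * (c * r2 ^ n) * r2 := by rw [hcc (r2 ^ n)]
        _ = c ^ (n + 1) * r2 ^ (n + 1) := by rw [pow_succ, pow_succ]; simp only [mul_assoc]
  have e3 : r1 * (r1 ^ a * r2 ^ b * z) * r1⁻¹ = c ^ b * (r1 ^ a * r2 ^ b * z) := by
    calc r1 * (r1 ^ a * r2 ^ b * z) * r1⁻¹ = r1 * r1 ^ a * r2 ^ b * (z * r1⁻¹) := by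
          simp only [mul_assoc]
      _ = r1 ^ a * r1 * r2 ^ b * (r1⁻¹ * z) := by
          rw [← pow_succ', pow_succ, hzc r1⁻¹]
      _ = r1 ^ a * (r1 * r2 ^ b * r1⁻¹) * z := by simp only [mul_assoc]
      _ = r1 ^ a * (c ^ b * r2 ^ b) * z := by rw [e2]
      _ = (r1 ^ a * c ^ b) * r2 ^ b * z := by simp only [mul_assoc]
      _ = (c ^ b * r1 ^ a) * r2 ^ b * z := by rw [hcb b (r1 ^ a)]
      _ = c ^ b * (r1 ^ a * r2 ^ b * z) := by simp only [mul_assoc]
  show r1 * (r1 ^ a * r2 ^ b * z) * r1⁻¹ * (r1 ^ a * r2 ^ b * z)⁻¹ = c ^ b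
  rw [e3, mul_assoc, mul_inv_cancel, mul_one]

variable [Finite X] {R Z : Subgroup X} {u : X} {t : X} {Q : Subgroup X} {i r1 : X}

/-- (A16) normalising `d` -/
theorem QSetup.exists_d (h : QSetup R Z u t Q) (hg : Gens R Z t Q i r1)
    (hnf : ∀ r ∈ R, ∃ a b : ℕ, ∃ z ∈ Z, r = r1 ^ a * (i * r1 * i⁻¹) ^ b * z)
    (hd0 : ∃ d : X, d * t = t * d ∧ d * r1 = r1 * d ∧ d ∉ R ∧ d ^ 3 = 1) :
    ∃ d : X, d * t = t * d ∧ d * r1 = r1 * d ∧ d ∉ R ∧ d ^ 3 = 1 ∧
      d * (i * r1 * i⁻¹) * d⁻¹ = r1 * (i * r1 * i⁻¹) * cm r1 (i * r1 * i⁻¹) := by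
  set r2 : X := i * r1 * i⁻¹ with hr2
  set c : X := cm r1 r2 with hc
  have hS := h.setup
  have hB := hS.base
  have hr1R : r1 ∈ R := hg.r1_mem.1
  have hr2R : r2 ∈ R := hg.r2_mem.1
  have hr2I : r2 ∈ Inv R t := hg.r2_mem
  have hcZ : c ∈ Z := hg.c_mem
  have hc1 : c ≠ 1 := hg.c_ne
  have hcc : ∀ g : X, g * c = c * g := hS.Zcen c hcZ
  have hc3 : c ^ 3 = 1 := hB.exp3 c (hB.Z_le hcZ)
  have hr13 : r1 ^ 3 = 1 := hB.exp3 r1 hr1R
  have hr23 : r2 ^ 3 = 1 := hB.exp3 r2 hr2R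
  have hnormR := hB.normR
  -- conjugates of `r2` by elements commuting with `t` are inverted by `t`
  have hInv : ∀ d : X, d * t = t * d → d * r2 * d⁻¹ ∈ Inv R t := by
    intro d hdt
    refine ⟨hnormR.conj_mem r2 hr2R d, ?_⟩
    have ht'' : d⁻¹ * t⁻¹ = t⁻¹ * d⁻¹ := by
      rw [← mul_inv_rev, ← mul_inv_rev, hdt]
    calc t * (d * r2 * d⁻¹) * t⁻¹ = (t * d) * r2 * (d⁻¹ * t⁻¹) := by simp only [mul_assoc]
      _ = (d * t) * r2 * (t⁻¹ * d⁻¹) := by rw [← hdt, ht'']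
      _ = d * (t * r2 * t⁻¹) * d⁻¹ := by simp only [mul_assoc]
      _ = d * r2⁻¹ * d⁻¹ := by rw [hr2I.2]
      _ = (d * r2 * d⁻¹)⁻¹ := by group
  -- the shape of `d r2 d⁻¹`
  have key : ∀ d : X, d * r1 = r1 * d →
      ∃ a : ℕ, a < 3 ∧ ∃ z ∈ Z, d * r2 * d⁻¹ = r1 ^ a * r2 * z := by
    intro d hd1
    obtain ⟨a, b, z, hz, hs⟩ := hnf (d * r2 * d⁻¹) (hnormR.conj_mem r2 hr2R d)
    have hzc : ∀ g : X, g * z = z * g := hS.Zcen z hz
    have h1 : cm r1 (d * r2 * d⁻¹) = c := by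
      have e : d * cm r1 r2 * d⁻¹ = cm (d * r1 * d⁻¹) (d * r2 * d⁻¹) := by
        unfold cm; group
      have e' : d * r1 * d⁻¹ = r1 := by rw [hd1]; group
      rw [e'] at e
      rw [← e, ← hc, hcc d]; group
    rw [hs, cm_normal_form_aux r1 r2 z a b hcc hzc, ← hc] at h1
    -- `c ^ b = c`
    have hb : b % 3 = 1 := by
      have h2 : c ^ (b % 3) = c := by rw [← pow_eq_pow_mod b hc3]; exact h1
      have hlt : b % 3 < 3 := Nat.mod_lt _ (by norm_num)
      generalize b % 3 = b' at h2 hlt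
      interval_cases b'
      · exfalso; apply hc1; rw [← h2, pow_zero]
      · rfl
      · exfalso; apply hc1
        rw [pow_two] at h2
        exact mul_left_cancel (a := c) (by rw [h2, mul_one])
    refine ⟨a % 3, Nat.mod_lt _ (by norm_num), z, hz, ?_⟩
    rw [hs, pow_eq_pow_mod a hr13, pow_eq_pow_mod b hr23, hb, pow_one]
  -- `a = 1` forces `z = c`
  have fin1 : ∀ d : X, d * t = t * d → ∀ z ∈ Z, d * r2 * d⁻¹ = r1 * r2 * z → z = c := by
    intro d hdt z hz hs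
    have h1 : r1 * r2 * c * (c⁻¹ * z) ∈ Inv R t := by
      have : r1 * r2 * c * (c⁻¹ * z) = d * r2 * d⁻¹ := by rw [hs]; group
      rw [this]; exact hInv d hdt
    have := hS.rep2 (r1 * r2 * c) hg.r12_mem (c⁻¹ * z) (Z.mul_mem (Z.inv_mem hcZ) hz) h1
    calc z = c * (c⁻¹ * z) := by group
      _ = c := by rw [this, mul_one]
  -- `a = 0` is impossible
  have fin0 : ∀ d : X, d * t = t * d → d * r1 = r1 * d → d ∉ R →
      ∀ z ∈ Z, d * r2 * d⁻¹ = r2 * z → False := by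
    intro d hdt hd1 hdR z hz hs
    have h1 : r2 * z ∈ Inv R t := by rw [← hs]; exact hInv d hdt
    have hz1 : z = 1 := hS.rep2 r2 hr2I z hz h1
    rw [hz1, mul_one] at hs
    have hd2 : d * r2 = r2 * d := by
      calc d * r2 = d * r2 * d⁻¹ * d := by group
        _ = r2 * d := by rw [hs]
    apply hdR
    apply hB.Z_le
    apply hS.CR
    intro r hr
    obtain ⟨a, b, z', hz', rfl⟩ := hnf r hr
    have c1 : Commute d (r1 ^ a) := (show Commute d r1 from hd1).pow_right a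
    have c2 : Commute d (r2 ^ b) := (show Commute d r2 from hd2).pow_right b
    have c3 : Commute d z' := hS.Zcen z' hz' d
    exact ((c1.mul_right c2).mul_right c3).eq
  obtain ⟨d, hdt, hd1, hdR, hd3⟩ := hd0
  obtain ⟨a, ha, z, hz, hs⟩ := key d hd1
  interval_cases a
  · exfalso
    rw [pow_zero, one_mul] at hs
    exact fin0 d hdt hd1 hdR z hz hs
  · rw [pow_one] at hs
    have hzc := fin1 d hdt z hz hs
    rw [hzc] at hs
    exact ⟨d, hdt, hd1, hdR, hd3, hs⟩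
  · -- replace `d` by `d * d`
    have hzc' : ∀ g : X, g * z = z * g := hS.Zcen z hz
    have hdt' : d * d * t = t * (d * d) := by
      rw [mul_assoc, hdt, ← mul_assoc, hdt, mul_assoc]
    have hd1' : d * d * r1 = r1 * (d * d) := by
      rw [mul_assoc, hd1, ← mul_assoc, hd1, mul_assoc]
    have hdinv : d * d = d⁻¹ := by
      have : d * d * d = 1 := by rw [← pow_two, ← pow_succ]; exact hd3
      exact (inv_eq_of_mul_eq_one_left this).symm
    have hdR' : d * d ∉ R := by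
      rw [hdinv]
      intro hmem
      exact hdR (by simpa using R.inv_mem hmem)
    have hd3' : (d * d) ^ 3 = 1 := by
      rw [← pow_two, ← pow_mul, mul_comm, pow_mul, hd3, one_pow]
    have hs' : d * d * r2 * (d * d)⁻¹ = r1 * r2 * (z * z) := by
      have hd1i : d * r1 ^ 2 * d⁻¹ = r1 ^ 2 := by
        have := (show Commute d r1 from hd1).pow_right 2
        rw [this.eq]; group
      have hzi : d * z * d⁻¹ = z := by rw [hzc' d]; group
      calc d * d * r2 * (d * d)⁻¹ = d * (d * r2 * d⁻¹) * d⁻¹ := by group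
        _ = d * (r1 ^ 2 * r2 * z) * d⁻¹ := by rw [hs]
        _ = (d * r1 ^ 2 * d⁻¹) * (d * r2 * d⁻¹) * (d * z * d⁻¹) := by group
        _ = r1 ^ 2 * (r1 ^ 2 * r2 * z) * z := by rw [hd1i, hs, hzi]
        _ = r1 ^ 3 * r1 * r2 * (z * z) := by
            rw [pow_succ r1 2]; simp only [pow_two, mul_assoc]
        _ = r1 * r2 * (z * z) := by rw [hr13, one_mul]
    have hzz := fin1 (d * d) hdt' (z * z) (Z.mul_mem hz hz) hs'
    rw [hzz] at hs'
    exact ⟨d * d, hdt', hd1', hdR', hd3', hs'⟩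

end

end Cfsg.Agent.Helper37.X648
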