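import Cfsg.Agent.Helper85.XDefs
import Cfsg.Agent.Helper85.KLMain
import Cfsg.Agent.Helper37.KLG
set_option autoImplicit false

/-!
# S5141 (helper85), piece (XD5): the key lemma `extCond_of_goodExt_resAut`

Core form: the pieces (S1) `hom_sup_centralizer`, (S2) `extCond_one/mul/inv`, `extCond_of_mem_autInducedBy`,
(XA) `range_of_goodExt` and (XD4) `exists_pow_mem_Bset` of the skeleton enter as the hypotheses bundled in `Deps5`, with
exactly the types of the skeleton statements.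
-/

namespace Cfsg.Agent.Helper37.XT

open Cfsg Cfsg.FusionSystem Cfsg.Agent.Helper87 Cfsg.Agent.Helper85 Cfsg.Agent.Helper85.KL Cfsg.Agent.Helper85.XT
  Cfsg.Agent.Helper37.KL

variable {Ω : Type*} [Group Ω] {S T : Subgroup Ω}

/-- The hypotheses (S1), (S2), (XA), (XD4) used by (XD5), bundled. -/
structure Deps5 (p : ℕ) (F : FusionSystem S) (T : Subgroup Ω) : Prop where
  hom_sup_centralizer : ∀ (ψ : ↥(T ⊔ centralizerIn S T) →* Ω) (_ : ψ ∈ F.Hom (T ⊔ centralizerIn S T)),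
    ψ.range = T ⊔ centralizerIn S T ∧
      (∀ x : ↥(T ⊔ centralizerIn S T), (x : Ω) ∈ T → ψ x ∈ T) ∧
      (∀ x : ↥(T ⊔ centralizerIn S T), (x : Ω) ∈ centralizerIn S T → ψ x ∈ centralizerIn S T)
  extCond_one : ExtCond F T (1 : MulAut T)
  extCond_mul : ∀ {α β : MulAut T} (_ : ExtCond F T α) (_ : ExtCond F T β), ExtCond F T (α * β)
  extCond_inv : ∀ {α : MulAut T} (_ : ExtCond F T α), ExtCond F T α⁻¹
  extCond_of_mem_autInducedBy : ∀ {α : MulAut T} (_ : α ∈ autInducedBy T T), ExtCond F T α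
  range_of_goodExt : ∀ {P : Subgroup Ω} (_ : TCentric F T P) (φ : P →* Ω)
    (ψ : ↥(P ⊔ centralizerIn S T) →* Ω) (_ : ψ ∈ F.Hom (P ⊔ centralizerIn S T))
    (_ : ∀ x : P, ψ (Subgroup.inclusion le_sup_left x) = φ x)
    (_ : ∀ c : ↥(P ⊔ centralizerIn S T), (c : Ω) ∈ centralizerIn S T → (c : Ω)⁻¹ * ψ c ∈ T),
    ψ.range = φ.range ⊔ centralizerIn S T
  exists_pow_mem_Bset : ∀ {P : Subgroup Ω} (_ : TCentric F T P) (β : MulAut ↥(T ⊔ centralizerIn S T))
    (_ : β ∈ Aset F T P), ∃ k : ℕ, β ^ p ^ k ∈ Bset F T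

/-- The automorphisms of `T` satisfying the extension condition, as a subgroup. -/
def extCondSubgroup {p : ℕ} {F : FusionSystem S} (d : Deps5 p F T) : Subgroup (MulAut T) where
  carrier := {α | ExtCond F T α}
  mul_mem' := fun ha hb => d.extCond_mul ha hb
  one_mem' := d.extCond_one
  inv_mem' := fun ha => d.extCond_inv ha

theorem mem_extCondSubgroup {p : ℕ} {F : FusionSystem S} (d : Deps5 p F T) (α : MulAut T) :
    α ∈ extCondSubgroup d ↔ ExtCond F T α := Iff.rfl

/-- A strongly closed subgroup is normalized by `S`. -/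
theorem conj_mem_of_stronglyClosed (F : FusionSystem S) (hT : F.StronglyClosed T) {g t : Ω} (hg : g ∈ S)
    (ht : t ∈ T) : g * t * g⁻¹ ∈ T :=
  hT.2 T le_rfl (conjHom T g) (F.conj_mem hT.1 hg) ⟨t, ht⟩

/-- The only `F`-conjugate of a strongly closed subgroup `T` is `T` itself. -/
theorem eq_of_isConj_stronglyClosed [Finite S] (F : FusionSystem S) (hT : F.StronglyClosed T) {Q : Subgroup Ω}
    (h : F.IsConj T Q) : Q = T := by
  have : Finite T := Finite.of_injective (Subgroup.inclusion hT.1) (Subgroup.inclusion_injective hT.1)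
  obtain ⟨φ, hφ, rfl⟩ := h
  have hle : φ.range ≤ T := by
    rintro _ ⟨x, rfl⟩
    exact hT.2 T le_rfl φ hφ x
  have hcard : Nat.card φ.range = Nat.card T :=
    (Nat.card_congr (MonoidHom.ofInjective (F.injective_of_mem hφ)).toEquiv).symm
  exact Subgroup.eq_of_le_of_card_ge hle (by rw [hcard])

/-- Step 1: an automorphism of `T` in `Aut_F(T)` extends to an automorphism of `T C_S(T)` in `F`. -/
theorem exists_extension_aut [Finite S] (p : ℕ) (F : FusionSystem S) (hF : F.IsSaturated p)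
    (hT : F.StronglyClosed T) (d : Deps5 p F T) (α : MulAut T) (hα : α ∈ F.autGroup T) :
    ∃ β₀ ∈ F.autGroup (T ⊔ centralizerIn S T),
      ∀ x : T, ((β₀ (Subgroup.inclusion le_sup_left x) : ↥(T ⊔ centralizerIn S T)) : Ω) = ((α x : T) : Ω) := by
  have hTS : T ≤ S := hT.1
  have hUS : T ⊔ centralizerIn S T ≤ S := sup_le hTS inf_le_left
  have hφ₀ : T.subtype.comp α.toMonoidHom ∈ F.Hom T := (mem_autGroup_iff F hTS α).mp hα
  have hrange : (T.subtype.comp α.toMonoidHom).range = T := by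
    ext y
    constructor
    · rintro ⟨x, rfl⟩
      exact (α x).2
    · intro hy
      exact ⟨α.symm ⟨y, hy⟩, by simp⟩
  obtain ⟨Q, hQc, -, hQr⟩ := hF T hTS
  obtain rfl : Q = T := eq_of_isConj_stronglyClosed F hT hQc
  obtain ⟨ψ, hψ, hψx⟩ := hQr.2 Q _ hφ₀ hrange
  have hle : Q ⊔ centralizerIn S Q ≤ extender S Q (Q.subtype.comp α.toMonoidHom) := by
    apply sup_le (le_extender_of_mem F hφ₀)
    intro c hc
    rw [mem_extender_iff]
    have hcS : c ∈ S := (Subgroup.mem_inf.mp hc).1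
    have hcC : c ∈ Subgroup.centralizer (Q : Set Ω) := (Subgroup.mem_inf.mp hc).2
    refine ⟨hcS, Subgroup.centralizer_le_normalizer _ hcC, 1, S.one_mem, fun x hx => ?_⟩
    have e : (⟨c * (x : Ω) * c⁻¹, hx⟩ : Q) = x := by
      apply Subtype.ext
      show c * (x : Ω) * c⁻¹ = x
      rw [← (Subgroup.mem_centralizer_iff.mp hcC) x x.2, mul_inv_cancel_right]
    rw [e]
    simp
  have hψU := Cfsg.Agent.Helper87.restrict_mem F hψ hle
  have hrU := (d.hom_sup_centralizer _ hψU).1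
  refine ⟨isoOfRange F hψU hrU, (mem_autGroup_iff F hUS _).mpr (isIso_isoOfRange F hψU hrU), fun x => ?_⟩
  rw [isoOfRange_apply]
  exact hψx (x : Ω) x.2 (hle (Subgroup.mem_sup_left x.2))

/-- A subgroup of `A ⊔ B` containing (the copies of) `A` and `B` is everything. -/
theorem forall_mem_of_sup {A B : Subgroup Ω} (W : Subgroup ↥(A ⊔ B))
    (hA : ∀ a (ha : a ∈ A), (⟨a, Subgroup.mem_sup_left ha⟩ : ↥(A ⊔ B)) ∈ W)
    (hB : ∀ b (hb : b ∈ B), (⟨b, Subgroup.mem_sup_right hb⟩ : ↥(A ⊔ B)) ∈ W) : ∀ z : ↥(A ⊔ B), z ∈ W := by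
  have h : A ⊔ B ≤ W.map (A ⊔ B).subtype :=
    sup_le (fun a ha => ⟨⟨a, Subgroup.mem_sup_left ha⟩, hA a ha, rfl⟩)
      (fun b hb => ⟨⟨b, Subgroup.mem_sup_right hb⟩, hB b hb, rfl⟩)
  intro z
  obtain ⟨w, hw, hwz⟩ := h z.2
  have e : w = z := Subtype.ext hwz
  rw [← e]
  exact hw

/-- Step 2: the extension `β₀` of `α` lies in `𝔄_P` when `α|_P` has a good extension. -/
theorem mem_Aset_of_goodExt [Finite S] (p : ℕ) (F : FusionSystem S) (hT : F.StronglyClosed T)
    (d : Deps5 p F T) {P : Subgroup Ω} (hPT : P ≤ T) (hP : TCentric F T P) (α : MulAut T)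
    (hαP : GoodExt F T (resAut hPT α)) (β₀ : MulAut ↥(T ⊔ centralizerIn S T))
    (hβ₀ : β₀ ∈ F.autGroup (T ⊔ centralizerIn S T))
    (hβ₀α : ∀ x : T, ((β₀ (Subgroup.inclusion le_sup_left x) : ↥(T ⊔ centralizerIn S T)) : Ω) =
      ((α x : T) : Ω)) : β₀ ∈ Aset F T P := by
  have hTS : T ≤ S := hT.1
  have hUS : T ⊔ centralizerIn S T ≤ S := sup_le hTS inf_le_left
  have hPU : P ⊔ centralizerIn S T ≤ T ⊔ centralizerIn S T := sup_le_sup_right hPT _
  have hPpS : P ⊔ centralizerIn S T ≤ S := hPU.trans hUS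
  have : Finite ↥(P ⊔ centralizerIn S T) :=
    Finite.of_injective (Subgroup.inclusion hPpS) (Subgroup.inclusion_injective hPpS)
  obtain ⟨αh, hαh, hαhP, hαhC⟩ := hαP
  have hrange := d.range_of_goodExt hP (resAut hPT α) αh hαh hαhP hαhC
  have hβ₀F : (T ⊔ centralizerIn S T).subtype.comp β₀.toMonoidHom ∈ F.Hom (T ⊔ centralizerIn S T) :=
    (mem_autGroup_iff F hUS β₀).mp hβ₀
  obtain ⟨-, -, hβC⟩ := d.hom_sup_centralizer _ hβ₀F
  -- the restriction of `β₀` to `P C_S(T)`
  have hbF := Cfsg.Agent.Helper87.restrict_mem F hβ₀F hPU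
  have hbval : ∀ z : ↥(P ⊔ centralizerIn S T),
      (((T ⊔ centralizerIn S T).subtype.comp β₀.toMonoidHom).comp (Subgroup.inclusion hPU)) z =
        ((β₀ (Subgroup.inclusion hPU z) : ↥(T ⊔ centralizerIn S T)) : Ω) := fun _ => rfl
  -- on `P` it agrees with `αh`
  have hbP : ∀ (z : ↥(P ⊔ centralizerIn S T)), (z : Ω) ∈ P →
      ((β₀ (Subgroup.inclusion hPU z) : ↥(T ⊔ centralizerIn S T)) : Ω) = αh z := by
    intro z hz
    have e1 : Subgroup.inclusion hPU z = Subgroup.inclusion le_sup_left (⟨(z : Ω), hPT hz⟩ : T) :=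
      Subtype.ext rfl
    have e2 : z = Subgroup.inclusion le_sup_left (⟨(z : Ω), hz⟩ : P) := Subtype.ext rfl
    rw [e1, hβ₀α]
    conv_rhs => rw [e2, hαhP]
    rfl
  -- the image of the restriction lies in the image of `αh`
  have hble : (((T ⊔ centralizerIn S T).subtype.comp β₀.toMonoidHom).comp (Subgroup.inclusion hPU)).range ≤
      αh.range := by
    rw [hrange]
    rintro _ ⟨z, rfl⟩
    refine forall_mem_of_sup (Subgroup.comap
      (((T ⊔ centralizerIn S T).subtype.comp β₀.toMonoidHom).comp (Subgroup.inclusion hPU))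
      ((resAut hPT α).range ⊔ centralizerIn S T)) ?_ ?_ z
    · intro a ha
      rw [Subgroup.mem_comap, hbval, hbP _ ha]
      apply Subgroup.mem_sup_left
      have e2 : (⟨a, Subgroup.mem_sup_left ha⟩ : ↥(P ⊔ centralizerIn S T)) =
          Subgroup.inclusion le_sup_left (⟨a, ha⟩ : P) := Subtype.ext rfl
      rw [e2, hαhP]
      exact ⟨_, rfl⟩
    · intro c hc
      rw [Subgroup.mem_comap, hbval]
      apply Subgroup.mem_sup_right
      exact hβC _ hc
  have hinjb := F.injective_of_mem hbF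
  have hinjα := F.injective_of_mem hαh
  have : Finite ↥αh.range := Finite.of_equiv _ (MonoidHom.ofInjective hinjα).toEquiv
  have hbr : (((T ⊔ centralizerIn S T).subtype.comp β₀.toMonoidHom).comp (Subgroup.inclusion hPU)).range =
      αh.range := by
    apply Subgroup.eq_of_le_of_card_ge hble
    rw [← Nat.card_congr (MonoidHom.ofInjective hinjα).toEquiv,
      ← Nat.card_congr (MonoidHom.ofInjective hinjb).toEquiv]
  -- the claim `z⁻¹ αh(z) ∈ T`
  have hclaim : ∀ z : ↥(P ⊔ centralizerIn S T), (z : Ω)⁻¹ * αh z ∈ T := by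
    let W : Subgroup ↥(P ⊔ centralizerIn S T) :=
      { carrier := {z | (z : Ω)⁻¹ * αh z ∈ T}
        one_mem' := by simp [T.one_mem]
        mul_mem' := by
          intro z w hz hw
          have hwS : ((w : Ω))⁻¹ ∈ S := S.inv_mem (hPpS w.2)
          have h1 := conj_mem_of_stronglyClosed F hT hwS hz
          have e : ((z * w : ↥(P ⊔ centralizerIn S T)) : Ω)⁻¹ * αh (z * w) =
              ((w : Ω)⁻¹ * ((z : Ω)⁻¹ * αh z) * ((w : Ω)⁻¹)⁻¹) * ((w : Ω)⁻¹ * αh w) := by
            rw [map_mul, Subgroup.coe_mul]; group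
          show ((z * w : ↥(P ⊔ centralizerIn S T)) : Ω)⁻¹ * αh (z * w) ∈ T
          rw [e]
          exact T.mul_mem h1 hw
        inv_mem' := by
          intro z hz
          have hzS : (z : Ω) ∈ S := hPpS z.2
          have h1 := conj_mem_of_stronglyClosed F hT hzS (T.inv_mem hz)
          have e : ((z⁻¹ : ↥(P ⊔ centralizerIn S T)) : Ω)⁻¹ * αh z⁻¹ =
              (z : Ω) * ((z : Ω)⁻¹ * αh z)⁻¹ * (z : Ω)⁻¹ := by
            rw [map_inv, Subgroup.coe_inv]; group
          show ((z⁻¹ : ↥(P ⊔ centralizerIn S T)) : Ω)⁻¹ * αh z⁻¹ ∈ T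
          rw [e]
          exact h1 }
    refine forall_mem_of_sup W ?_ ?_
    · intro a ha
      show a⁻¹ * αh ⟨a, _⟩ ∈ T
      have e2 : (⟨a, Subgroup.mem_sup_left ha⟩ : ↥(P ⊔ centralizerIn S T)) =
          Subgroup.inclusion le_sup_left (⟨a, ha⟩ : P) := Subtype.ext rfl
      rw [e2, hαhP, resAut_apply]
      exact T.mul_mem (T.inv_mem (hPT ha)) (α _).2
    · intro c hc
      exact hαhC _ hc
  -- the automorphism `δ`
  have hδiso : IsIso F ((isoOfRange F hbF hbr).trans (isoOfRange F hαh rfl).symm) :=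
    IsIso.trans (isIso_isoOfRange F hbF hbr) (IsIso.symm (isIso_isoOfRange F hαh rfl))
  have hδ : ∀ z : ↥(P ⊔ centralizerIn S T),
      αh (((isoOfRange F hbF hbr).trans (isoOfRange F hαh rfl).symm) z) =
        ((β₀ (Subgroup.inclusion hPU z) : ↥(T ⊔ centralizerIn S T)) : Ω) := by
    intro z
    rw [← isoOfRange_apply F hαh rfl, MulEquiv.trans_apply, MulEquiv.apply_symm_apply, isoOfRange_apply]
    rfl
  refine ⟨hβ₀, (isoOfRange F hbF hbr).trans (isoOfRange F hαh rfl).symm,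
    (mem_autGroup_iff F hPpS _).mpr hδiso, ?_, ?_⟩
  · intro z hz
    apply hinjα
    rw [hδ, hbP z hz]
  · intro c hc
    have h1 := hclaim (((isoOfRange F hbF hbr).trans (isoOfRange F hαh rfl).symm)
      ⟨(c : Ω), (le_sup_right : centralizerIn S T ≤ P ⊔ centralizerIn S T) hc⟩)
    rw [hδ] at h1
    have e1 : Subgroup.inclusion hPU
        ⟨(c : Ω), (le_sup_right : centralizerIn S T ≤ P ⊔ centralizerIn S T) hc⟩ = c := Subtype.ext rfl
    rw [e1] at h1
    have h2 := T.inv_mem h1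
    rw [mul_inv_rev, inv_inv] at h2
    exact h2

/-- Powers of an extension of `α` extend the powers of `α`. -/
theorem pow_extends (α : MulAut T) (β₀ : MulAut ↥(T ⊔ centralizerIn S T))
    (hβ₀α : ∀ x : T, ((β₀ (Subgroup.inclusion le_sup_left x) : ↥(T ⊔ centralizerIn S T)) : Ω) =
      ((α x : T) : Ω)) (j : ℕ) (x : T) :
    (((β₀ ^ j) (Subgroup.inclusion le_sup_left x) : ↥(T ⊔ centralizerIn S T)) : Ω) = (((α ^ j) x : T) : Ω) := by
  induction j with
  | zero => rfl
  | succ j ih =>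
    rw [pow_succ', pow_succ', MulAut.mul_apply, MulAut.mul_apply]
    have e : (β₀ ^ j) (Subgroup.inclusion le_sup_left x) =
        Subgroup.inclusion le_sup_left ((α ^ j) x) := Subtype.ext ih
    rw [e, hβ₀α]

/-- Piece (XD5), with the pieces (S1), (S2), (XA), (XD4) as the bundled hypotheses `d`. -/
theorem extCond_of_goodExt_resAut_of [Finite S] (p : ℕ) [Fact p.Prime] (F : FusionSystem S)
    (hF : F.IsSaturated p) (E : FusionSystem T) (hE : E.IsWeaklyNormalIn F p) (d : Deps5 p F T)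
    {P : Subgroup Ω} (hPT : P ≤ T) (hPc : E.IsCentric P) (α : MulAut T) (hαE : α ∈ E.autGroup T)
    (hαP : GoodExt F T (resAut hPT α)) : ExtCond F T α := by
  have hT : F.StronglyClosed T := hE.2.2.2.1
  have hTS : T ≤ S := hT.1
  have hUS : T ⊔ centralizerIn S T ≤ S := sup_le hTS inf_le_left
  have : Finite T := Finite.of_injective (Subgroup.inclusion hTS) (Subgroup.inclusion_injective hTS)
  have hαF : α ∈ F.autGroup T := autGroup_le_of_isSubsystemOf F E hE.2.2.1 le_rfl hαE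
  have hPcent : TCentric F T P := tCentric_of_isCentric F E hE.2.2 hPT hPc
  obtain ⟨β₀, hβ₀, hβ₀α⟩ := exists_extension_aut p F hF hT d α hαF
  have hA := mem_Aset_of_goodExt p F hT d hPT hPcent α hαP β₀ hβ₀ hβ₀α
  obtain ⟨k, κ, hκ, μ, hμ, hκμ⟩ := d.exists_pow_mem_Bset hPcent β₀ hA
  -- the extension condition for `α ^ p ^ k`
  have h1 : α ^ p ^ k ∈ extCondSubgroup d := by
    have hμF : (T ⊔ centralizerIn S T).subtype.comp μ.toMonoidHom ∈ F.Hom (T ⊔ centralizerIn S T) :=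
      (mem_autGroup_iff F hUS μ).mp hμ.1
    obtain ⟨-, hμT, hμC⟩ := d.hom_sup_centralizer _ hμF
    refine ⟨μ, hμ.1, ?_, ?_⟩
    · intro x
      have h2 := pow_extends α β₀ hβ₀α (p ^ k) x
      rw [hκμ, MulAut.mul_apply] at h2
      have h3 : ((μ (Subgroup.inclusion le_sup_left x) : ↥(T ⊔ centralizerIn S T)) : Ω) ∈ T :=
        hμT (Subgroup.inclusion le_sup_left x) x.2
      rw [hκ.2 _ h3] at h2
      exact h2
    · intro c hc
      refine Subgroup.mem_inf.mpr ⟨hμ.2 c hc, ?_⟩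
      have hcC : (c : Ω) ∈ Subgroup.centralizer (T : Set Ω) := (Subgroup.mem_inf.mp hc).2
      have hμcC : ((μ c : ↥(T ⊔ centralizerIn S T)) : Ω) ∈ Subgroup.centralizer (T : Set Ω) :=
        (Subgroup.mem_inf.mp (hμC c hc)).2
      exact Subgroup.mul_mem _ (Subgroup.inv_mem _ hcC) hμcC
  -- the extension condition for a `p'`-power of `α`
  obtain ⟨Q, hQc, ⟨_, R, hR⟩, _⟩ := hE.1 T le_rfl
  obtain rfl : Q = T := eq_of_isConj_top E hQc
  have : (R : Subgroup (E.autGroup Q)).Normal := by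
    rw [hR]
    exact (autInducedBy_self_normal Q).subgroupOf _
  have hidx : ¬ p ∣ (R : Subgroup (E.autGroup Q)).index := R.not_dvd_index
  have hm := Subgroup.pow_index_mem (R : Subgroup (E.autGroup Q)) ⟨α, hαE⟩
  have hm2 : (⟨α, hαE⟩ : E.autGroup Q) ^ (R : Subgroup (E.autGroup Q)).index ∈
      (autInducedBy Q Q).subgroupOf (E.autGroup Q) := by
    rw [← hR]
    exact hm
  rw [Subgroup.mem_subgroupOf] at hm2
  have h2 : α ^ (R : Subgroup (E.autGroup Q)).index ∈ extCondSubgroup d :=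
    d.extCond_of_mem_autInducedBy (by simpa using hm2)
  have hcop : Nat.Coprime (R : Subgroup (E.autGroup Q)).index (p ^ k) :=
    Nat.Coprime.pow_right k ((Nat.Prime.coprime_iff_not_dvd (Fact.out : p.Prime)).mpr hidx).symm
  exact mem_of_pow_mem_of_coprime (extCondSubgroup d) α hcop h2 h1

end Cfsg.Agent.Helper37.XT
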